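import Mathlib
import Groth.Agent.Lib.Helper6.DerivedAdj0

/-!
# Right derived functors via terminal costructured arrows / K-injective resolutions (helper32)
(dual of `KProjDerived`)
-/

set_option autoImplicit false

universe w v u
open CategoryTheory CategoryTheory.Limits

namespace Groth.Agent.Lib.Helper32.KInjDerived

section General

variable {C D H H' : Type*} [Category C] [Category D] [Category H] [Category H']

/-- Any functor preserves colimits of diagrams whose shape has a terminal object. -/
lemma preservesColimit_of_isTerminal {J : Type*} [Category J] {X : J} (hX : IsTerminal X)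
    (K : J ⥤ H) (G : H ⥤ H') : PreservesColimit K G :=
  preservesColimit_of_preserves_colimit_cocone (colimitOfDiagramTerminal hX K)
    (IsColimit.ofIsoColimit (colimitOfDiagramTerminal hX (K ⋙ G)) (Cocone.ext (Iso.refl _) (by
      intro j
      simp)))

/-- Every costructured arrow category `CostructuredArrow L Y` has a terminal object. -/
def HasTerminalArrows (L : C ⥤ D) : Prop :=
  ∀ Y : D, ∃ (X : CostructuredArrow L Y), Nonempty (IsTerminal X)

variable {L : C ⥤ D}

lemma hasTerminalArrows_of_resolutions (W : MorphismProperty C) [L.IsLocalization W]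
    (h : ∀ X : C, ∃ (X₀ : C) (w : X ⟶ X₀), W w ∧
      Nonempty (IsTerminal (CostructuredArrow.mk (𝟙 (L.obj X₀))))) : HasTerminalArrows L := by
  intro Y
  have := Localization.essSurj L W
  obtain ⟨X₀, w, hw, ⟨hX₀⟩⟩ := h (L.objPreimage Y)
  have := Localization.inverts L W w hw
  let e : L.obj X₀ ≅ Y := (asIso (L.map w)).symm ≪≫ L.objObjPreimageIso Y
  let E : CostructuredArrow L (L.obj X₀) ≌ CostructuredArrow L Y := CostructuredArrow.mapIso e
  exact ⟨E.functor.obj _, ⟨IsTerminal.isTerminalObj E.functor _ hX₀⟩⟩

variable (hL : HasTerminalArrows L)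
include hL

lemma hasPointwiseLeftKanExtension (F : C ⥤ H) : L.HasPointwiseLeftKanExtension F := by
  intro Y
  obtain ⟨X, ⟨hX⟩⟩ := hL Y
  exact ⟨_, colimitOfDiagramTerminal hX _⟩

lemma preservesLeftKanExtension (F : C ⥤ H) (G : H ⥤ H') : G.PreservesLeftKanExtension F L := by
  have := hasPointwiseLeftKanExtension hL F
  have : G.PreservesPointwiseLeftKanExtension F L := by
    intro Y
    obtain ⟨X, ⟨hX⟩⟩ := hL Y
    have := preservesColimit_of_isTerminal hX (CostructuredArrow.proj L Y ⋙ F) G
    infer_instance
  infer_instance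

/-- Absoluteness of right derived functors in the presence of terminal costructured arrows. -/
lemma isRightDerivedFunctor_comp (W : MorphismProperty C) [L.IsLocalization W] {F : C ⥤ H}
    (RF : D ⥤ H) (α : F ⟶ L ⋙ RF) [RF.IsRightDerivedFunctor α W] (G : H ⥤ H') :
    (RF ⋙ G).IsRightDerivedFunctor (Functor.whiskerRight α G ≫ (Functor.associator _ _ _).hom) W := by
  have := preservesLeftKanExtension hL F G
  have := Functor.IsRightDerivedFunctor.isLeftKanExtension RF α W
  exact ⟨Functor.PreservesLeftKanExtension.preserves RF α⟩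

lemma isIso_app_of_isTerminal (W : MorphismProperty C) [L.IsLocalization W] {F : C ⥤ H}
    (RF : D ⥤ H) (α : F ⟶ L ⋙ RF) [RF.IsRightDerivedFunctor α W] (X₀ : C)
    (hX₀ : IsTerminal (CostructuredArrow.mk (𝟙 (L.obj X₀)))) : IsIso (α.app X₀) := by
  have := hasPointwiseLeftKanExtension hL F
  have := Functor.IsRightDerivedFunctor.isLeftKanExtension RF α W
  have hc := Functor.isPointwiseLeftKanExtensionOfIsLeftKanExtension RF α (L.obj X₀)
  have h := IsColimit.isIso_ι_app_of_isTerminal hc _ hX₀
  simp only [Functor.LeftExtension.coconeAt_ι_app,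
    Functor.LeftExtension.mk_hom, CostructuredArrow.mk_hom_eq_self,
    CostructuredArrow.mk_left, CategoryTheory.Functor.map_id] at h
  have h2 : α.app X₀ = α.app X₀ ≫
      𝟙 ((StructuredArrow.right (Functor.LeftExtension.mk RF α)).obj (L.obj X₀)) :=
    (Category.comp_id _).symm
  rw [h2]
  exact h

end General


section DerivedCategory

variable {A : Type u} [Category.{v} A] [Abelian A] [HasDerivedCategory.{w} A]

/-- For a K-injective complex `I`, `(I, 𝟙)` is terminal in the costructured arrows over `Qh.obj I`. -/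
noncomputable def isTerminalMkId (I : CochainComplex A ℤ) [I.IsKInjective] :
    IsTerminal (CostructuredArrow.mk (S := (DerivedCategory.Qh (C := A)))
      (𝟙 (DerivedCategory.Qh.obj ((HomotopyCategory.quotient A (ComplexShape.up ℤ)).obj I)))) := by
  refine IsTerminal.ofUniqueHom (fun X => ?_) (fun X m => ?_)
  · exact CostructuredArrow.homMk
      ((CochainComplex.IsKInjective.Qh_map_bijective X.left I).surjective X.hom).choose
      (by
        have := ((CochainComplex.IsKInjective.Qh_map_bijective X.left I).surjective X.hom).choose_spec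
        simpa using this)
  · ext
    apply (CochainComplex.IsKInjective.Qh_map_bijective X.left I).injective
    have h1 := ((CochainComplex.IsKInjective.Qh_map_bijective X.left I).surjective X.hom).choose_spec
    have h2 := CostructuredArrow.w m
    simp only [CostructuredArrow.homMk_left]
    rw [h1]
    simpa using h2

variable (A) in
/-- Every complex has a K-injective resolution. -/
def HasKInjRes : Prop :=
  ∀ K : CochainComplex A ℤ, ∃ (I : CochainComplex A ℤ) (f : K ⟶ I), I.IsKInjective ∧ QuasiIso f

lemma hasTerminalArrows_Qh (h : HasKInjRes A) :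
    HasTerminalArrows (DerivedCategory.Qh (C := A)) := by
  apply hasTerminalArrows_of_resolutions (HomotopyCategory.quasiIso A (ComplexShape.up ℤ))
  intro X
  obtain ⟨K, rfl⟩ := HomotopyCategory.quotient_obj_surjective X
  obtain ⟨I, f, hI, hf⟩ := h K
  exact ⟨_, (HomotopyCategory.quotient A (ComplexShape.up ℤ)).map f,
    by rwa [HomotopyCategory.quotient_map_mem_quasiIso_iff], ⟨isTerminalMkId I⟩⟩

end DerivedCategory

section Transfer

variable {B : Type u} [Category.{v} B] [Abelian B] [HasDerivedCategory.{w} B]
  {H : Type*} [Category H]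
  (T : HomotopyCategory B (ComplexShape.up ℤ) ⥤ H) (RG : DerivedCategory B ⥤ H)
  (α : HomotopyCategory.quotient B (ComplexShape.up ℤ) ⋙ T ⟶ DerivedCategory.Q ⋙ RG)

/-- the natural transformation at the level of the homotopy category -/
noncomputable def βh : T ⟶ DerivedCategory.Qh ⋙ RG :=
  Localization.liftNatTrans (HomotopyCategory.quotient B (ComplexShape.up ℤ))
    (HomologicalComplex.homotopyEquivalences B (ComplexShape.up ℤ))
    (HomotopyCategory.quotient _ _ ⋙ T)
    (HomotopyCategory.quotient _ _ ⋙ (DerivedCategory.Qh ⋙ RG)) T (DerivedCategory.Qh ⋙ RG)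
    (α ≫ Functor.whiskerRight (DerivedCategory.quotientCompQhIso B).inv RG ≫
      (Functor.associator _ _ _).hom)

lemma βh_app (X : CochainComplex B ℤ) :
    (βh T RG α).app ((HomotopyCategory.quotient B (ComplexShape.up ℤ)).obj X) =
      α.app X ≫ RG.map ((DerivedCategory.quotientCompQhIso B).inv.app X) := by
  rw [βh, Localization.liftNatTrans_app]
  simp [Localization.Lifting.iso]

variable [RG.IsRightDerivedFunctor α (HomologicalComplex.quasiIso B (ComplexShape.up ℤ))]

/-- the descent used for the universal property -/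
noncomputable def descAux (y : DerivedCategory.Qh.LeftExtension T) : RG ⟶ y.right :=
  RG.rightDerivedDesc α (HomologicalComplex.quasiIso B (ComplexShape.up ℤ)) y.right
    (Functor.whiskerLeft (HomotopyCategory.quotient B (ComplexShape.up ℤ)) y.hom ≫
      (Functor.associator _ _ _).inv ≫
      Functor.whiskerRight (DerivedCategory.quotientCompQhIso B).hom y.right)

lemma descAux_fac (y : DerivedCategory.Qh.LeftExtension T) (X : CochainComplex B ℤ) :
    α.app X ≫ (descAux T RG α y).app (DerivedCategory.Q.obj X) =
      y.hom.app ((HomotopyCategory.quotient B (ComplexShape.up ℤ)).obj X) ≫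
        y.right.map ((DerivedCategory.quotientCompQhIso B).hom.app X) := by
  rw [descAux, Functor.rightDerived_fac_app]
  simp

instance isRightDerivedFunctor_βh :
    RG.IsRightDerivedFunctor (βh T RG α) (HomotopyCategory.quasiIso B (ComplexShape.up ℤ)) := by
  rw [Functor.isRightDerivedFunctor_iff_isLeftKanExtension]
  refine ⟨⟨IsInitial.ofUniqueHom (fun y => StructuredArrow.homMk (descAux T RG α y) ?_)
    (fun y m => ?_)⟩⟩
  · ext Y
    obtain ⟨X, rfl⟩ := HomotopyCategory.quotient_obj_surjective Y
    have h1 := descAux_fac T RG α y X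
    have h2 : RG.map ((DerivedCategory.quotientCompQhIso B).inv.app X) ≫
        (descAux T RG α y).app (DerivedCategory.Qh.obj
          ((HomotopyCategory.quotient B (ComplexShape.up ℤ)).obj X)) =
        (descAux T RG α y).app (DerivedCategory.Q.obj X) ≫
          y.right.map ((DerivedCategory.quotientCompQhIso B).inv.app X) :=
      (descAux T RG α y).naturality ((DerivedCategory.quotientCompQhIso B).inv.app X)
    change (βh T RG α).app ((HomotopyCategory.quotient B (ComplexShape.up ℤ)).obj X) ≫
      (descAux T RG α y).app (DerivedCategory.Qh.obj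
        ((HomotopyCategory.quotient B (ComplexShape.up ℤ)).obj X)) =
      y.hom.app ((HomotopyCategory.quotient B (ComplexShape.up ℤ)).obj X)
    rw [βh_app, Category.assoc, h2, reassoc_of% h1, ← Functor.map_comp, Iso.hom_inv_id_app]
    exact (congrArg (fun t => y.hom.app ((HomotopyCategory.quotient B (ComplexShape.up ℤ)).obj X) ≫ t)
      (y.right.map_id _)).trans (Category.comp_id _)
  · apply StructuredArrow.ext
    apply RG.rightDerived_ext α (HomologicalComplex.quasiIso B (ComplexShape.up ℤ))
    ext X
    have h1 := descAux_fac T RG α y X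
    have h3 : (βh T RG α).app ((HomotopyCategory.quotient B (ComplexShape.up ℤ)).obj X) ≫
        m.right.app (DerivedCategory.Qh.obj
          ((HomotopyCategory.quotient B (ComplexShape.up ℤ)).obj X)) =
        y.hom.app ((HomotopyCategory.quotient B (ComplexShape.up ℤ)).obj X) :=
      congr_app m.w ((HomotopyCategory.quotient B (ComplexShape.up ℤ)).obj X)
    have h2 : RG.map ((DerivedCategory.quotientCompQhIso B).inv.app X) ≫
        m.right.app (DerivedCategory.Qh.obj
          ((HomotopyCategory.quotient B (ComplexShape.up ℤ)).obj X)) =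
        m.right.app (DerivedCategory.Q.obj X) ≫
          y.right.map ((DerivedCategory.quotientCompQhIso B).inv.app X) :=
      m.right.naturality ((DerivedCategory.quotientCompQhIso B).inv.app X)
    rw [βh_app, Category.assoc, h2] at h3
    change α.app X ≫ m.right.app (DerivedCategory.Q.obj X) =
      α.app X ≫ (descAux T RG α y).app (DerivedCategory.Q.obj X)
    rw [h1, ← h3]
    have h4 : y.right.map ((DerivedCategory.quotientCompQhIso B).inv.app X) ≫
        y.right.map ((DerivedCategory.quotientCompQhIso B).hom.app X) = 𝟙 _ := by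
      rw [← Functor.map_comp, Iso.inv_hom_id_app]
      exact y.right.map_id _
    have h5 : m.right.app (DerivedCategory.Q.obj X) =
        (m.right.app (DerivedCategory.Q.obj X) ≫
          y.right.map ((DerivedCategory.quotientCompQhIso B).inv.app X)) ≫
          y.right.map ((DerivedCategory.quotientCompQhIso B).hom.app X) := by
      rw [Category.assoc, h4, Category.comp_id]
    exact (congrArg (fun t => α.app X ≫ t) h5).trans (Category.assoc _ _ _).symm

end Transfer

section Adjunction

variable {A B : Type u} [Category.{v} A] [Category.{v} B] [Abelian A] [Abelian B]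
  [HasDerivedCategory.{w} A] [HasDerivedCategory.{w} B]
  {F₀ : A ⥤ B} {G₀ : B ⥤ A} (adj : F₀ ⊣ G₀) [F₀.Additive] [G₀.Additive]
  [PreservesFiniteLimits F₀] [PreservesFiniteColimits F₀]

/-- If `B` has K-injective resolutions, `F₀ ⊣ G₀` with `F₀` exact, then `F₀.mapDerivedCategory`
is left adjoint to any total right derived functor `RG` of `G₀` (at the level of the homotopy
category). -/
noncomputable def derivedAdjunctionh (hB : HasKInjRes B)
    (RG : DerivedCategory B ⥤ DerivedCategory A)
    (β : G₀.mapHomotopyCategory (ComplexShape.up ℤ) ⋙ DerivedCategory.Qh ⟶ DerivedCategory.Qh ⋙ RG)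
    [RG.IsRightDerivedFunctor β (HomotopyCategory.quasiIso B (ComplexShape.up ℤ))] :
    F₀.mapDerivedCategory ⊣ RG := by
  let e₁ : DerivedCategory.Qh ⋙ F₀.mapDerivedCategory ≅
      F₀.mapHomotopyCategory (ComplexShape.up ℤ) ⋙ DerivedCategory.Qh :=
    F₀.mapDerivedCategoryFactorsh
  have i1 : F₀.mapDerivedCategory.IsLeftDerivedFunctor e₁.hom
      (HomotopyCategory.quasiIso A (ComplexShape.up ℤ)) :=
    Functor.isLeftDerivedFunctor_of_inverts _ _ e₁
  have i2 : (RG ⋙ F₀.mapDerivedCategory).IsRightDerivedFunctor
      (Functor.whiskerRight β F₀.mapDerivedCategory ≫ (Functor.associator _ _ _).hom)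
      (HomotopyCategory.quasiIso B (ComplexShape.up ℤ)) :=
    isRightDerivedFunctor_comp (hasTerminalArrows_Qh hB) _ RG β _
  let e' : DerivedCategory.Qh ⋙ (F₀.mapDerivedCategory ⋙ RG) ≅
      (F₀.mapHomotopyCategory (ComplexShape.up ℤ) ⋙ DerivedCategory.Qh) ⋙ RG :=
    (Functor.associator _ _ _).symm ≪≫ Functor.isoWhiskerRight e₁ RG
  have i3 : (F₀.mapDerivedCategory ⋙ RG).IsLeftDerivedFunctor
      ((Functor.associator _ _ _).inv ≫ Functor.whiskerRight e₁.hom RG)
      (HomotopyCategory.quasiIso A (ComplexShape.up ℤ)) :=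
    Functor.isLeftDerivedFunctor_of_inverts _ _ e'
  exact (Groth.Agent.Lib.Helper6.DerivedAdj.adjHomotopyCategory adj (ComplexShape.up ℤ)).derived
    (HomotopyCategory.quasiIso A (ComplexShape.up ℤ))
    (HomotopyCategory.quasiIso B (ComplexShape.up ℤ)) e₁.hom β

/-- Version with the right derived functor given at the level of cochain complexes. -/
noncomputable def derivedAdjunction (hB : HasKInjRes B)
    (RG : DerivedCategory B ⥤ DerivedCategory A)
    (α : G₀.mapHomologicalComplex (ComplexShape.up ℤ) ⋙ DerivedCategory.Q ⟶ DerivedCategory.Q ⋙ RG)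
    [RG.IsRightDerivedFunctor α (HomologicalComplex.quasiIso B (ComplexShape.up ℤ))] :
    F₀.mapDerivedCategory ⊣ RG := by
  let e : HomotopyCategory.quotient B (ComplexShape.up ℤ) ⋙
      (G₀.mapHomotopyCategory (ComplexShape.up ℤ) ⋙ DerivedCategory.Qh) ≅
      G₀.mapHomologicalComplex (ComplexShape.up ℤ) ⋙ DerivedCategory.Q :=
    (Functor.associator _ _ _).symm ≪≫
      Functor.isoWhiskerRight (G₀.mapHomotopyCategoryFactors (ComplexShape.up ℤ)) _ ≪≫
      Functor.associator _ _ _ ≪≫
      Functor.isoWhiskerLeft _ (DerivedCategory.quotientCompQhIso A)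
  let α' : HomotopyCategory.quotient B (ComplexShape.up ℤ) ⋙
      (G₀.mapHomotopyCategory (ComplexShape.up ℤ) ⋙ DerivedCategory.Qh) ⟶ DerivedCategory.Q ⋙ RG :=
    e.hom ≫ α
  have : RG.IsRightDerivedFunctor α' (HomologicalComplex.quasiIso B (ComplexShape.up ℤ)) := by
    rw [Functor.isRightDerivedFunctor_iff_isLeftKanExtension]
    have := Functor.IsRightDerivedFunctor.isLeftKanExtension RG α
      (HomologicalComplex.quasiIso B (ComplexShape.up ℤ))
    exact (Functor.isLeftKanExtension_iff_of_iso₂ α α' e.symm (Iso.refl _)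
      (by ext X; simp [α'])).1 this
  exact derivedAdjunctionh adj hB RG
    (βh (G₀.mapHomotopyCategory (ComplexShape.up ℤ) ⋙ DerivedCategory.Qh) RG α')

end Adjunction

section AdjunctionGen

universe w₁ w₂ v₁ v₂ u₁ u₂

variable {A : Type u₁} {B : Type u₂} [Category.{v₁} A] [Category.{v₂} B] [Abelian A] [Abelian B]
  [HasDerivedCategory.{w₁} A] [HasDerivedCategory.{w₂} B]
  {F₀ : A ⥤ B} {G₀ : B ⥤ A} (adj : F₀ ⊣ G₀) [F₀.Additive] [G₀.Additive]
  [PreservesFiniteLimits F₀] [PreservesFiniteColimits F₀]

/-- Universe-general version of `derivedAdjunctionh`, together with the characterisation of the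
counit. -/
theorem exists_derivedAdjunctionh (hB : HasKInjRes B)
    (RG : DerivedCategory B ⥤ DerivedCategory A)
    (β : G₀.mapHomotopyCategory (ComplexShape.up ℤ) ⋙ DerivedCategory.Qh ⟶ DerivedCategory.Qh ⋙ RG)
    [RG.IsRightDerivedFunctor β (HomotopyCategory.quasiIso B (ComplexShape.up ℤ))] :
    ∃ (adj' : F₀.mapDerivedCategory ⊣ RG), ∀ (X : HomotopyCategory B (ComplexShape.up ℤ)),
      F₀.mapDerivedCategory.map (β.app X) ≫ adj'.counit.app (DerivedCategory.Qh.obj X) =
        F₀.mapDerivedCategoryFactorsh.hom.app ((G₀.mapHomotopyCategory (ComplexShape.up ℤ)).obj X) ≫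
          DerivedCategory.Qh.map ((Groth.Agent.Lib.Helper6.DerivedAdj.adjHomotopyCategory adj
            (ComplexShape.up ℤ)).counit.app X) := by
  let e₁ : DerivedCategory.Qh ⋙ F₀.mapDerivedCategory ≅
      F₀.mapHomotopyCategory (ComplexShape.up ℤ) ⋙ DerivedCategory.Qh :=
    F₀.mapDerivedCategoryFactorsh
  have i1 : F₀.mapDerivedCategory.IsLeftDerivedFunctor e₁.hom
      (HomotopyCategory.quasiIso A (ComplexShape.up ℤ)) :=
    Functor.isLeftDerivedFunctor_of_inverts _ _ e₁
  have i2 : (RG ⋙ F₀.mapDerivedCategory).IsRightDerivedFunctor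
      (Functor.whiskerRight β F₀.mapDerivedCategory ≫ (Functor.associator _ _ _).hom)
      (HomotopyCategory.quasiIso B (ComplexShape.up ℤ)) :=
    isRightDerivedFunctor_comp (hasTerminalArrows_Qh hB) _ RG β _
  let e' : DerivedCategory.Qh ⋙ (F₀.mapDerivedCategory ⋙ RG) ≅
      (F₀.mapHomotopyCategory (ComplexShape.up ℤ) ⋙ DerivedCategory.Qh) ⋙ RG :=
    (Functor.associator _ _ _).symm ≪≫ Functor.isoWhiskerRight e₁ RG
  have i3 : (F₀.mapDerivedCategory ⋙ RG).IsLeftDerivedFunctor
      ((Functor.associator _ _ _).inv ≫ Functor.whiskerRight e₁.hom RG)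
      (HomotopyCategory.quasiIso A (ComplexShape.up ℤ)) :=
    Functor.isLeftDerivedFunctor_of_inverts _ _ e'
  refine ⟨(Groth.Agent.Lib.Helper6.DerivedAdj.adjHomotopyCategory adj (ComplexShape.up ℤ)).derived
    (HomotopyCategory.quasiIso A (ComplexShape.up ℤ))
    (HomotopyCategory.quasiIso B (ComplexShape.up ℤ)) e₁.hom β, fun X => ?_⟩
  exact Adjunction.derivedε_fac_app
    (Groth.Agent.Lib.Helper6.DerivedAdj.adjHomotopyCategory adj (ComplexShape.up ℤ))
    (HomotopyCategory.quasiIso B (ComplexShape.up ℤ)) e₁.hom β X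

/-- If moreover the counit of `F₀ ⊣ G₀` is an isomorphism (i.e. `G₀` is fully faithful), then so
is the counit of the derived adjunction. -/
theorem isIso_counit_of_isIso_counit (hB : HasKInjRes B)
    (RG : DerivedCategory B ⥤ DerivedCategory A)
    (β : G₀.mapHomotopyCategory (ComplexShape.up ℤ) ⋙ DerivedCategory.Qh ⟶ DerivedCategory.Qh ⋙ RG)
    [RG.IsRightDerivedFunctor β (HomotopyCategory.quasiIso B (ComplexShape.up ℤ))]
    (adj' : F₀.mapDerivedCategory ⊣ RG)
    (hadj' : ∀ (X : HomotopyCategory B (ComplexShape.up ℤ)),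
      F₀.mapDerivedCategory.map (β.app X) ≫ adj'.counit.app (DerivedCategory.Qh.obj X) =
        F₀.mapDerivedCategoryFactorsh.hom.app ((G₀.mapHomotopyCategory (ComplexShape.up ℤ)).obj X) ≫
          DerivedCategory.Qh.map ((Groth.Agent.Lib.Helper6.DerivedAdj.adjHomotopyCategory adj
            (ComplexShape.up ℤ)).counit.app X))
    [IsIso adj.counit] : IsIso adj'.counit := by
  have key : ∀ (I : CochainComplex B ℤ) [I.IsKInjective],
      IsIso (adj'.counit.app (DerivedCategory.Qh.obj
        ((HomotopyCategory.quotient B (ComplexShape.up ℤ)).obj I))) := by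
    intro I _
    have h1 : IsIso (β.app ((HomotopyCategory.quotient B (ComplexShape.up ℤ)).obj I)) :=
      isIso_app_of_isTerminal (hasTerminalArrows_Qh hB)
        (HomotopyCategory.quasiIso B (ComplexShape.up ℤ)) RG β _ (isTerminalMkId I)
    have h2 : IsIso ((Groth.Agent.Lib.Helper6.DerivedAdj.counitC adj (ComplexShape.up ℤ)).app I) := by
      have : ∀ n, IsIso (((Groth.Agent.Lib.Helper6.DerivedAdj.counitC adj
          (ComplexShape.up ℤ)).app I).f n) := by
        intro n
        change IsIso (adj.counit.app (I.X n))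
        infer_instance
      exact HomologicalComplex.Hom.isIso_of_components _
    have h3 : IsIso ((Groth.Agent.Lib.Helper6.DerivedAdj.adjHomotopyCategory adj
        (ComplexShape.up ℤ)).counit.app ((HomotopyCategory.quotient B (ComplexShape.up ℤ)).obj I)) := by
      change IsIso ((HomotopyCategory.quotient B (ComplexShape.up ℤ)).map
        ((Groth.Agent.Lib.Helper6.DerivedAdj.counitC adj (ComplexShape.up ℤ)).app I))
      infer_instance
    have h4 := hadj' ((HomotopyCategory.quotient B (ComplexShape.up ℤ)).obj I)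
    have h5 : IsIso (F₀.mapDerivedCategory.map
        (β.app ((HomotopyCategory.quotient B (ComplexShape.up ℤ)).obj I)) ≫
        adj'.counit.app (DerivedCategory.Qh.obj
          ((HomotopyCategory.quotient B (ComplexShape.up ℤ)).obj I))) := by
      rw [h4]
      infer_instance
    exact IsIso.of_isIso_comp_left (F₀.mapDerivedCategory.map
        (β.app ((HomotopyCategory.quotient B (ComplexShape.up ℤ)).obj I))) _
  have : ∀ Y : DerivedCategory B, IsIso (adj'.counit.app Y) := by
    intro Y
    obtain ⟨K, ⟨e⟩⟩ : ∃ K : CochainComplex B ℤ, Nonempty (DerivedCategory.Q.obj K ≅ Y) :=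
      ⟨_, ⟨DerivedCategory.Q.objObjPreimageIso Y⟩⟩
    obtain ⟨I, f, hI, hf⟩ := hB K
    have : IsIso (DerivedCategory.Q.map f) := by
      rw [DerivedCategory.isIso_Q_map_iff_quasiIso]
      exact hf
    let e' : DerivedCategory.Qh.obj ((HomotopyCategory.quotient B (ComplexShape.up ℤ)).obj I) ≅ Y :=
      (DerivedCategory.quotientCompQhIso B).app I ≪≫ (asIso (DerivedCategory.Q.map f)).symm ≪≫ e
    have := key I
    exact (NatTrans.isIso_app_iff_of_iso adj'.counit e').1 this
  exact NatIso.isIso_of_isIso_app _

end AdjunctionGen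

end Groth.Agent.Lib.Helper32.KInjDerived
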