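import Mathlib.Algebra.Homology.HomotopyCategory.MappingCocone
import Mathlib.Algebra.Homology.HomotopyCategory.Pretriangulated
import Mathlib.Algebra.Homology.HomologySequenceLemmas
import Mathlib.Algebra.Homology.Refinements
import Mathlib.Algebra.Homology.HomologicalComplexAbelian

set_option autoImplicit false
universe v u
open CategoryTheory CategoryTheory.Limits CochainComplex HomComplex

namespace Groth.Agent.Lib.Helper32.CoconeSES

variable {A : Type u} [Category.{v} A] [Abelian A]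

section

variable {K L : CochainComplex A ℤ} (φ : K ⟶ L)

lemma to_ext {T : A} {p : ℤ} (q : ℤ) (hpq : p + -1 = q) (f g : T ⟶ (mappingCocone φ).X p)
    (h₁ : f ≫ (mappingCocone.fst φ).f p = g ≫ (mappingCocone.fst φ).f p)
    (h₂ : f ≫ (mappingCocone.snd φ).v p q hpq = g ≫ (mappingCocone.snd φ).v p q hpq) :
    f = g := by
  rw [← cancel_mono (𝟙 _), ← mappingCocone.id_X φ p q hpq]
  simp [reassoc_of% h₁, reassoc_of% h₂]

lemma from_ext {T : A} {p : ℤ} (q : ℤ) (hpq : p + -1 = q) (f g : (mappingCocone φ).X p ⟶ T)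
    (h₁ : (mappingCocone.inl φ).v p p (add_zero p) ≫ f =
      (mappingCocone.inl φ).v p p (add_zero p) ≫ g)
    (h₂ : (mappingCocone.inr φ).1.v q p (by lia) ≫ f =
      (mappingCocone.inr φ).1.v q p (by lia) ≫ g) :
    f = g := by
  rw [← cancel_epi (𝟙 _), ← mappingCocone.id_X φ p q hpq]
  simp [h₁, h₂]

lemma hom_ext {T : CochainComplex A ℤ} (f g : T ⟶ mappingCocone φ)
    (h₁ : f ≫ mappingCocone.fst φ = g ≫ mappingCocone.fst φ)
    (h₂ : (Cochain.ofHom f).comp (mappingCocone.snd φ) (zero_add _) =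
      (Cochain.ofHom g).comp (mappingCocone.snd φ) (zero_add _)) : f = g := by
  ext p
  apply to_ext φ (p + -1) rfl
  · exact congr_arg (fun k => k.f p) h₁
  · have := Cochain.congr_v h₂ p (p + -1) rfl
    simpa using this

lemma δ_snd : δ (-1) 0 (mappingCocone.snd φ) +
    Cochain.ofHom (mappingCocone.fst φ ≫ φ) = 0 := by
  have h := Cochain.δ_leftShift (mappingCone.snd φ) (-1) (-1) 0 (zero_add _) 1 (by lia)
  rw [mappingCone.δ_snd] at h
  have h' : δ (-1) 0 (mappingCocone.snd φ) = _ := h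
  rw [h']
  ext p
  simp [mappingCocone.fst, Cochain.leftShift_comp_zero_cochain]
  erw [Cochain.comp_zero_cochain_v, Preadditive.neg_comp, Cochain.ofHom_v]
  apply add_neg_cancel

end

section SES

variable {M C Q : CochainComplex A ℤ} (c : M ⟶ C) (π : C ⟶ Q) (w : c ≫ π = 0)

/-- The canonical map `M ⟶ mappingCocone π` when `c ≫ π = 0`. -/
noncomputable def liftSES : M ⟶ mappingCocone π :=
  mappingCocone.lift π c 0 (by simp [w])

@[reassoc (attr := simp)]
lemma liftSES_fst : liftSES c π w ≫ mappingCocone.fst π = c := by simp [liftSES]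

@[reassoc (attr := simp)]
lemma liftSES_f_fst_f (n : ℤ) :
    (liftSES c π w).f n ≫ (mappingCocone.fst π).f n = c.f n := by simp [liftSES]

@[reassoc (attr := simp)]
lemma liftSES_f_snd_v (p q : ℤ) (hpq : p + -1 = q) :
    (liftSES c π w).f p ≫ (mappingCocone.snd π).v p q hpq = 0 := by simp [liftSES]

/-- The projection `mappingCocone π ⟶ mappingCocone (𝟙 Q)`. -/
noncomputable def toCoconeId : mappingCocone π ⟶ mappingCocone (𝟙 Q) :=
  mappingCocone.lift (𝟙 Q) (mappingCocone.fst π ≫ π) (mappingCocone.snd π)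
    (by simpa using δ_snd π)

@[reassoc (attr := simp)]
lemma toCoconeId_f_fst_f (n : ℤ) :
    (toCoconeId π).f n ≫ (mappingCocone.fst (𝟙 Q)).f n =
      (mappingCocone.fst π).f n ≫ π.f n := by simp [toCoconeId]

@[reassoc (attr := simp)]
lemma toCoconeId_f_snd_v (p q : ℤ) (hpq : p + -1 = q) :
    (toCoconeId π).f p ≫ (mappingCocone.snd (𝟙 Q)).v p q hpq =
      (mappingCocone.snd π).v p q hpq := by simp [toCoconeId]

@[reassoc (attr := simp)]
lemma liftSES_toCoconeId : liftSES c π w ≫ toCoconeId π = 0 := by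
  ext n
  apply to_ext _ (n + -1) rfl
  · have := congr_arg (fun k => k.f n) w
    simpa using this
  · simp

lemma inl_v_toCoconeId_f (n : ℤ) :
    (mappingCocone.inl π).v n n (add_zero n) ≫ (toCoconeId π).f n =
      π.f n ≫ (mappingCocone.inl (𝟙 Q)).v n n (add_zero n) := by
  apply to_ext _ (n + -1) rfl
  · simp
  · simp

lemma inr_v_toCoconeId_f (p q : ℤ) (hpq : p + 1 = q) :
    (mappingCocone.inr π).1.v p q hpq ≫ (toCoconeId π).f q =
      (mappingCocone.inr (𝟙 Q)).1.v p q hpq := by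
  apply to_ext _ p (by lia)
  · simp
  · simp

instance mono_liftSES_f [∀ n, Mono (c.f n)] (n : ℤ) : Mono ((liftSES c π w).f n) :=
  mono_of_mono_fac (liftSES_f_fst_f c π w n)

instance epi_toCoconeId_f [∀ n, Epi (π.f n)] (n : ℤ) : Epi ((toCoconeId π).f n) := by
  constructor
  intro T g h e
  apply from_ext _ (n + -1) rfl
  · rw [← cancel_epi (π.f n)]
    have := (mappingCocone.inl π).v n n (add_zero n) ≫= e
    simpa only [← Category.assoc, inl_v_toCoconeId_f] using this
  · have := (mappingCocone.inr π).1.v (n + -1) n (by lia) ≫= e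
    simpa only [← Category.assoc, inr_v_toCoconeId_f] using this

lemma shortExact_liftSES (hS : (ShortComplex.mk c π w).ShortExact) :
    (ShortComplex.mk (liftSES c π w) (toCoconeId π) (liftSES_toCoconeId c π w)).ShortExact := by
  have hS' := (HomologicalComplex.shortExact_iff_degreewise_shortExact _).1 hS
  have : ∀ n, Mono (c.f n) := fun n => (hS' n).mono_f
  have : ∀ n, Epi (π.f n) := fun n => (hS' n).epi_g
  apply HomologicalComplex.shortExact_of_degreewise_shortExact
  intro n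
  refine { exact := ?_, mono_f := ?_, epi_g := ?_ }
  · rw [ShortComplex.exact_iff_exact_up_to_refinements]
    intro T x hx
    change T ⟶ (mappingCocone π).X n at x
    replace hx : x ≫ (toCoconeId π).f n = 0 := hx
    have h1 : (x ≫ (mappingCocone.fst π).f n) ≫ π.f n = 0 := by
      have := hx =≫ (mappingCocone.fst (𝟙 Q)).f n
      simpa using this
    obtain ⟨T', p, hp, y, hy⟩ := (hS' n).exact.exact_up_to_refinements
      (x ≫ (mappingCocone.fst π).f n) h1
    change T' ⟶ M.X n at y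
    replace hy : p ≫ x ≫ (mappingCocone.fst π).f n = y ≫ c.f n := hy
    refine ⟨T', p, hp, y, ?_⟩
    change p ≫ x = y ≫ (liftSES c π w).f n
    apply to_ext π (n + -1) rfl
    · simpa using hy
    · have := hx =≫ (mappingCocone.snd (𝟙 Q)).v n (n + -1) rfl
      simp only [Category.assoc, toCoconeId_f_snd_v, zero_comp] at this
      simp [this]
  · exact mono_liftSES_f c π w n
  · exact epi_toCoconeId_f π n

/-- The mapping cocone of an identity is contractible. -/
noncomputable def homotopyCoconeId (Q : CochainComplex A ℤ) :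
    Homotopy (𝟙 (mappingCocone (𝟙 Q))) 0 :=
  (Homotopy.ofEq (by simp [mappingCocone])).trans
    (((mappingCone.homotopyToZeroOfId Q).shift (-1)).trans
      (Homotopy.ofEq (Functor.map_zero _ _ _)))

lemma acyclic_of_homotopy {K : CochainComplex A ℤ} (h : Homotopy (𝟙 K) 0) : K.Acyclic := by
  intro n
  rw [HomologicalComplex.exactAt_iff_isZero_homology, IsZero.iff_id_eq_zero,
    ← HomologicalComplex.homologyMap_id, h.homologyMap_eq, HomologicalComplex.homologyMap_zero]

lemma acyclic_coconeId (Q : CochainComplex A ℤ) : (mappingCocone (𝟙 Q)).Acyclic :=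
  acyclic_of_homotopy (homotopyCoconeId Q)

lemma quasiIso_f_of_acyclic_X₃ {S : ShortComplex (CochainComplex A ℤ)} (hS : S.ShortExact)
    (h : S.X₃.Acyclic) : QuasiIso S.f := by
  rw [quasiIso_iff]
  intro i
  rw [quasiIsoAt_iff_isIso_homologyMap]
  have hz : ∀ k, IsZero (S.X₃.homology k) := fun k =>
    (HomologicalComplex.exactAt_iff_isZero_homology _ _).1 (h k)
  have : Mono (HomologicalComplex.homologyMap S.f i) :=
    (hS.homology_exact₁ (i - 1) i (by simp)).mono_g ((hz _).eq_of_src _ _)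
  have : Epi (HomologicalComplex.homologyMap S.f i) :=
    (hS.homology_exact₂ i).epi_f ((hz _).eq_of_tgt _ _)
  exact isIso_of_mono_of_epi _

/-- For a short exact sequence of complexes `0 ⟶ M ⟶ C ⟶ Q ⟶ 0`, the canonical map
`M ⟶ mappingCocone π` is a quasi-isomorphism. -/
lemma quasiIso_liftSES (hS : (ShortComplex.mk c π w).ShortExact) :
    QuasiIso (liftSES c π w) :=
  quasiIso_f_of_acyclic_X₃ (shortExact_liftSES c π w hS) (acyclic_coconeId Q)

end SES

section map

variable {C₁ Q₁ C₂ Q₂ C₃ Q₃ : CochainComplex A ℤ} (π₁ : C₁ ⟶ Q₁) (π₂ : C₂ ⟶ Q₂) (π₃ : C₃ ⟶ Q₃)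
  (a : C₁ ⟶ C₂) (b : Q₁ ⟶ Q₂) (comm : π₁ ≫ b = a ≫ π₂)

lemma δ_snd' : δ (-1) 0 (mappingCocone.snd π₁) =
    -Cochain.ofHom (mappingCocone.fst π₁ ≫ π₁) :=
  eq_neg_of_add_eq_zero_left (δ_snd π₁)

/-- The morphism `mappingCocone π₁ ⟶ mappingCocone π₂` induced by a commutative square. -/
noncomputable def coconeMap : mappingCocone π₁ ⟶ mappingCocone π₂ :=
  mappingCocone.lift π₂ (mappingCocone.fst π₁ ≫ a)
    ((mappingCocone.snd π₁).comp (Cochain.ofHom b) (add_zero _)) (by
      rw [δ_comp_ofHom, δ_snd', Cochain.neg_comp, ← Cochain.ofHom_comp, Category.assoc, comm,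
        Category.assoc, neg_add_cancel])

@[reassoc (attr := simp)]
lemma coconeMap_f_fst_f (n : ℤ) :
    (coconeMap π₁ π₂ a b comm).f n ≫ (mappingCocone.fst π₂).f n =
      (mappingCocone.fst π₁).f n ≫ a.f n := by simp [coconeMap]

@[reassoc (attr := simp)]
lemma coconeMap_fst :
    coconeMap π₁ π₂ a b comm ≫ mappingCocone.fst π₂ = mappingCocone.fst π₁ ≫ a := by
  simp [coconeMap]

@[reassoc (attr := simp)]
lemma coconeMap_f_snd_v (p q : ℤ) (hpq : p + -1 = q) :
    (coconeMap π₁ π₂ a b comm).f p ≫ (mappingCocone.snd π₂).v p q hpq =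
      (mappingCocone.snd π₁).v p q hpq ≫ b.f q := by simp [coconeMap]

lemma coconeMap_id : coconeMap π₁ π₁ (𝟙 _) (𝟙 _) (by simp) = 𝟙 _ := by
  ext n
  apply to_ext π₁ (n + -1) rfl <;> simp

lemma coconeMap_comp (a' : C₂ ⟶ C₃) (b' : Q₂ ⟶ Q₃) (comm' : π₂ ≫ b' = a' ≫ π₃) :
    coconeMap π₁ π₃ (a ≫ a') (b ≫ b') (by rw [reassoc_of% comm, comm', Category.assoc]) =
      coconeMap π₁ π₂ a b comm ≫ coconeMap π₂ π₃ a' b' comm' := by
  ext n
  apply to_ext π₃ (n + -1) rfl <;> simp

lemma liftSES_coconeMap {M₁ M₂ : CochainComplex A ℤ} (c₁ : M₁ ⟶ C₁) (c₂ : M₂ ⟶ C₂)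
    (w₁ : c₁ ≫ π₁ = 0) (w₂ : c₂ ≫ π₂ = 0) (f : M₁ ⟶ M₂) (hf : c₁ ≫ a = f ≫ c₂) :
    liftSES c₁ π₁ w₁ ≫ coconeMap π₁ π₂ a b comm = f ≫ liftSES c₂ π₂ w₂ := by
  ext n
  apply to_ext π₂ (n + -1) rfl
  · have := congr_arg (fun k => k.f n) hf
    simpa using this
  · simp

end map

section fac

variable {M C Q : CochainComplex A ℤ} (c : M ⟶ C) (π : C ⟶ Q) (w : c ≫ π = 0)

lemma liftSES_f_eq (n : ℤ) :
    (liftSES c π w).f n = c.f n ≫ (mappingCocone.inl π).v n n (add_zero n) := by
  apply to_ext π (n + -1) rfl <;> simp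

instance mono_inl_v (n : ℤ) : Mono ((mappingCocone.inl π).v n n (add_zero n)) :=
  mono_of_mono_fac (mappingCocone.inl_v_fst_f π n)

end fac

end Groth.Agent.Lib.Helper32.CoconeSES
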