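import Mathlib
import Groth.Agent.Lib.Helper32.CoconeSES

/-!
# Lifting properties and K-injectivity (helper32)

* `hasLift` : a commutative square of cochain complexes with degreewise liftings has a lifting if the
  cokernel of the left map is acyclic and the kernel of the right map is K-injective.
* `exists_extension` : K-injective with injective terms ⇒ extension along monos with acyclic cokernel.
* `acyclic_double_id`, `doubleMap`: disks.
* `injective_X_of_extension`, `isKInjective_of_extension`: converse.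
-/

set_option autoImplicit false
universe v u
open CategoryTheory CategoryTheory.Limits CochainComplex HomComplex ZeroObject

namespace Groth.Agent.Lib.Helper32.KInjLift

variable {C : Type u} [Category.{v} C] [Abelian C]

theorem hasLift {A B X Y : CochainComplex C ℤ}
    {t : A ⟶ X} {i : A ⟶ B} {p : X ⟶ Y} {b : B ⟶ Y} (sq : CommSq t i p b)
    (hsq : ∀ n, (sq.map (HomologicalComplex.eval _ _ n)).LiftStruct)
    {Q : CochainComplex C ℤ} {π : B ⟶ Q} {hπ : i ≫ π = 0}
    (hQ : IsColimit (CokernelCofork.ofπ _ hπ))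
    {K : CochainComplex C ℤ} {ι : K ⟶ X} {hι : ι ≫ p = 0}
    (hK : IsLimit (KernelFork.ofι _ hι)) [K.IsKInjective] (hQa : Q.Acyclic) : sq.HasLift := by
  obtain ⟨α, hα⟩ := IsKInjective.eq_δ_of_cocycle (Lifting.cocycle₁ sq hsq hQ hK) hQa 0 (by simp)
  exact Lifting.hasLift sq hsq hQ hK α hα

/-- extension along a short exact sequence with acyclic cokernel into a K-injective complex
with injective terms -/
theorem exists_extension (I : CochainComplex C ℤ) [I.IsKInjective] [∀ n, Injective (I.X n)]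
    (S : ShortComplex (CochainComplex C ℤ)) (hS : S.ShortExact) (h3 : S.X₃.Acyclic)
    (φ : S.X₁ ⟶ I) : ∃ ψ : S.X₂ ⟶ I, S.f ≫ ψ = φ := by
  have := hS.mono_f
  have sq : CommSq φ S.f (0 : I ⟶ 0) (0 : S.X₂ ⟶ 0) := ⟨by simp⟩
  have hsq : ∀ n, (sq.map (HomologicalComplex.eval _ _ n)).LiftStruct := fun n =>
    { l := (Injective.factorThru (φ.f n) (S.f.f n) : S.X₂.X n ⟶ I.X n)
      fac_left := Injective.comp_factorThru (φ.f n) (S.f.f n)
      fac_right := by
        change _ ≫ (0 : I ⟶ 0).f n = (0 : S.X₂ ⟶ 0).f n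
        simp }
  have hK : IsLimit (KernelFork.ofι (𝟙 I) (show 𝟙 I ≫ (0 : I ⟶ 0) = 0 by simp)) :=
    KernelFork.IsLimit.ofId _ rfl
  have := hasLift sq hsq hS.gIsCokernel hK h3
  exact ⟨sq.lift, sq.fac_left⟩


section Disk

open HomologicalComplex

lemma rel (n : ℤ) : (ComplexShape.up ℤ).Rel n (n + 1) := rfl
lemma ne_succ (n : ℤ) : n ≠ n + 1 := by lia

/-- the disk complex with `X` in degrees `n` and `n+1` (identity differential) -/
noncomputable abbrev disk (X : C) (n : ℤ) : CochainComplex C ℤ := double (𝟙 X) (rel n)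

noncomputable abbrev diskX₀ (X : C) (n : ℤ) : (disk X n).X n ≅ X := doubleXIso₀ (𝟙 X) (rel n)
noncomputable abbrev diskX₁ (X : C) (n : ℤ) : (disk X n).X (n + 1) ≅ X :=
  doubleXIso₁ (𝟙 X) (rel n) (ne_succ n)

lemma disk_d (X : C) (n : ℤ) :
    (disk X n).d n (n + 1) = (diskX₀ X n).hom ≫ (diskX₁ X n).inv := by
  rw [double_d _ _ (ne_succ n), Category.id_comp]

instance (X : C) (n : ℤ) : IsIso ((disk X n).d n (n + 1)) := by
  rw [disk_d]; infer_instance

lemma isZero_disk_X (X : C) (n k : ℤ) (h₀ : k ≠ n) (h₁ : k ≠ n + 1) : IsZero ((disk X n).X k) :=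
  isZero_double_X _ _ k h₀ h₁

lemma acyclic_disk (X : C) (n : ℤ) : (disk X n).Acyclic := by
  intro k
  by_cases h₀ : k = n
  · subst h₀
    rw [exactAt_iff' _ (k - 1) k (k + 1) (by simp) (by simp)]
    have : Mono ((disk X k).sc' (k - 1) k (k + 1)).g := by
      change Mono ((disk X k).d k (k + 1)); infer_instance
    exact ShortComplex.exact_of_f_is_kernel _
      (KernelFork.IsLimit.ofMonoOfIsZero _ this
        (isZero_disk_X X k (k - 1) (by lia) (by lia)))
  · by_cases h₁ : k = n + 1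
    · subst h₁
      rw [exactAt_iff' _ n (n + 1) (n + 1 + 1) (by simp) (by simp)]
      have : Epi ((disk X n).sc' n (n + 1) (n + 1 + 1)).f := by
        change Epi ((disk X n).d n (n + 1)); infer_instance
      exact ShortComplex.exact_of_g_is_cokernel _
        (CokernelCofork.IsColimit.ofEpiOfIsZero _ this
          (isZero_disk_X X n (n + 1 + 1) (by lia) (by lia)))
    · exact ExactAt.of_isZero (isZero_disk_X X n k h₀ h₁)

/-- maps out of the disk -/
noncomputable def diskDesc {X : C} {n : ℤ} {K : CochainComplex C ℤ} (x : X ⟶ K.X n) :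
    disk X n ⟶ K :=
  mkHomFromDouble (rel n) (ne_succ n) x (x ≫ K.d n (n + 1)) (by simp) (by simp)

@[simp, reassoc]
lemma diskDesc_f₀ {X : C} {n : ℤ} {K : CochainComplex C ℤ} (x : X ⟶ K.X n) :
    (diskDesc x).f n = (diskX₀ X n).hom ≫ x := by
  simp [diskDesc]

@[simp, reassoc]
lemma diskDesc_f₁ {X : C} {n : ℤ} {K : CochainComplex C ℤ} (x : X ⟶ K.X n) :
    (diskDesc x).f (n + 1) = (diskX₁ X n).hom ≫ x ≫ K.d n (n + 1) := by
  simp [diskDesc]

lemma disk_hom_ext {X : C} {n : ℤ} {K : CochainComplex C ℤ} {φ φ' : disk X n ⟶ K}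
    (h : φ.f n = φ'.f n) : φ = φ' := by
  apply from_double_hom_ext h
  have h1 := φ.comm n (n + 1)
  have h2 := φ'.comm n (n + 1)
  rw [← cancel_epi ((disk X n).d n (n + 1)), ← h1, ← h2, h]

lemma diskDesc_comp {X : C} {n : ℤ} {K L : CochainComplex C ℤ} (x : X ⟶ K.X n) (ψ : K ⟶ L) :
    diskDesc x ≫ ψ = diskDesc (x ≫ ψ.f n) := by
  apply disk_hom_ext
  simp

lemma eq_diskDesc {X : C} {n : ℤ} {K : CochainComplex C ℤ} (φ : disk X n ⟶ K) :
    φ = diskDesc ((diskX₀ X n).inv ≫ φ.f n) := by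
  apply disk_hom_ext
  simp

/-- functoriality of disks -/
noncomputable def diskMap {X Y : C} (u : X ⟶ Y) (n : ℤ) : disk X n ⟶ disk Y n :=
  diskDesc (u ≫ (diskX₀ Y n).inv)

lemma diskMap_comp_diskDesc {X Y : C} (u : X ⟶ Y) (n : ℤ) {K : CochainComplex C ℤ}
    (y : Y ⟶ K.X n) : diskMap u n ≫ diskDesc y = diskDesc (u ≫ y) := by
  rw [diskMap, diskDesc_comp]
  simp

instance mono_diskMap {X Y : C} (u : X ⟶ Y) [Mono u] (n : ℤ) : Mono (diskMap u n) := by
  have : ∀ k, Mono ((diskMap u n).f k) := by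
    intro k
    by_cases h₀ : k = n
    · subst h₀
      rw [diskMap, diskDesc_f₀]
      infer_instance
    · by_cases h₁ : k = n + 1
      · subst h₁
        rw [diskMap, diskDesc_f₁]
        infer_instance
      · exact (isZero_disk_X X n k h₀ h₁).mono _
  exact HomologicalComplex.mono_of_mono_f _ this

end Disk

section Converse

variable (I : CochainComplex C ℤ)
  (hI : ∀ (S : ShortComplex (CochainComplex C ℤ)), S.ShortExact → S.X₃.Acyclic →
        ∀ φ : S.X₁ ⟶ I, ∃ ψ : S.X₂ ⟶ I, S.f ≫ ψ = φ)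

include hI

/-- reformulation: extension along monos which are quasi-isomorphisms -/
lemma exists_extension_of_mono_quasiIso {A B : CochainComplex C ℤ} (i : A ⟶ B) [Mono i]
    [QuasiIso i] (φ : A ⟶ I) : ∃ ψ : B ⟶ I, i ≫ ψ = φ := by
  have hS : (ShortComplex.mk i (cokernel.π i) (cokernel.condition i)).ShortExact :=
    { exact := ShortComplex.exact_cokernel i }
  exact hI _ hS (hS.acyclic_X₃ (by dsimp; infer_instance)) φ

lemma injective_X_of_extension (n : ℤ) : Injective (I.X n) := by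
  refine ⟨fun {X Y} g u _ => ?_⟩
  have hq : QuasiIso (diskMap u n) := by
    rw [quasiIso_iff]
    intro k
    rw [quasiIsoAt_iff_exactAt _ _ (acyclic_disk X n k)]
    exact acyclic_disk Y n k
  obtain ⟨ψ, hψ⟩ := exists_extension_of_mono_quasiIso I hI (diskMap u n) (diskDesc g)
  refine ⟨(diskX₀ Y n).inv ≫ ψ.f n, ?_⟩
  have h1 := eq_diskDesc ψ
  rw [h1, diskMap_comp_diskDesc] at hψ
  have h2 := congr_arg (fun φ => (diskX₀ X n).inv ≫ φ.f n) hψ
  simpa using h2

lemma isKInjective_of_extension : I.IsKInjective := by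
  refine ⟨fun {K} f hK => ?_⟩
  have hcone : (mappingCone (𝟙 K)).Acyclic :=
    CoconeSES.acyclic_of_homotopy (mappingCone.homotopyToZeroOfId K)
  have hm : Mono (mappingCone.inr (𝟙 K)) := by
    have : ∀ k, Mono ((mappingCone.inr (𝟙 K)).f k) := fun k =>
      mono_of_mono_fac (mappingCone.inr_f_snd_v (𝟙 K) k)
    exact HomologicalComplex.mono_of_mono_f _ this
  have hq : QuasiIso (mappingCone.inr (𝟙 K)) := by
    rw [quasiIso_iff]
    intro k
    rw [quasiIsoAt_iff_exactAt _ _ (hK k)]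
    exact hcone k
  obtain ⟨ψ, hψ⟩ := exists_extension_of_mono_quasiIso I hI (mappingCone.inr (𝟙 K)) f
  refine ⟨(Cochain.equivHomotopy f 0).symm
    ⟨(mappingCone.inl (𝟙 K)).comp (Cochain.ofHom ψ) (add_zero _), ?_⟩⟩
  rw [δ_comp_ofHom, mappingCone.δ_inl, Cochain.ofHom_comp, Cochain.ofHom_zero, add_zero,
    ← Cochain.ofHom_comp, ← Cochain.ofHom_comp, Category.id_comp, hψ]

end Converse

end Groth.Agent.Lib.Helper32.KInjLift
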