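import Mathlib
import Groth.Agent.Lib.Helper32.KInjLift

/-!
# A generating family of trivial cofibrations of complexes in a Grothendieck abelian category (helper32)
-/

set_option autoImplicit false
universe w v u
open CategoryTheory CategoryTheory.Limits

namespace Groth.Agent.Lib.Helper32.KInjGen

open Groth.Agent.Lib.Helper32.KInjLift

attribute [local instance] IsFiltered.isConnected

section AB5

variable {A : Type u} [Category.{v} A] [Abelian A]
  {J : Type w} [SmallCategory J] [IsFiltered J] [HasColimitsOfShape J A] [HasExactColimitsOfShape J A]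
  [HasCoproductsOfShape J A]

set_option backward.defeqAttrib.useBackward true in
set_option backward.isDefEq.respectTransparency false in
/-- AB5: a generalized element of a filtered colimit comes, after refinement, from the stages. -/
lemma exists_cover {F : J ⥤ A} {c : Cocone F} (hc : IsColimit c) {W : A} (x : W ⟶ c.pt) :
    ∃ (P : J → A) (a : ∀ k, P k ⟶ F.obj k) (b : ∀ k, P k ⟶ W),
      (∀ k, a k ≫ c.ι.app k = b k ≫ x) ∧ Epi (Sigma.desc b) := by
  let T := pullback c.ι ((Functor.const J).map x)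
  let f : colimit T ⟶ W := colimit.desc _ (Cocone.mk W
    { app j := (pullback.snd c.ι ((Functor.const _).map x)).app j })
  have hf : ∀ j, colimit.ι T j ≫ f = (pullback.snd c.ι ((Functor.const J).map x)).app j :=
    fun j => colimit.ι_desc _ _
  have hiso : IsIso f := by
    refine ((MorphismProperty.isomorphisms A).arrow_mk_iso_iff ?_).1
      (MorphismProperty.of_isPullback
        ((IsPullback.of_hasPullback c.ι ((Functor.const _).map x)).map colim) ?_)
    · refine Arrow.isoMk (Iso.refl _)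
        (IsColimit.coconePointUniqueUpToIso (colimit.isColimit _) (isColimitConstCocone J W)) ?_
      dsimp
      ext j
      rw [Category.id_comp, ι_colimMap_assoc, colimit.comp_coconePointUniqueUpToIso_hom,
        constCocone_ι, NatTrans.id_app, Category.comp_id]
      apply hf
    · refine ((MorphismProperty.isomorphisms A).arrow_mk_iso_iff ?_).2
        ((inferInstance : IsIso (𝟙 c.pt)))
      exact Arrow.isoMk (IsColimit.coconePointUniqueUpToIso (colimit.isColimit F) hc)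
        (IsColimit.coconePointUniqueUpToIso (colimit.isColimit _)
          (isColimitConstCocone J c.pt))
  refine ⟨fun k => T.obj k, fun k => (pullback.fst c.ι ((Functor.const J).map x)).app k,
    fun k => (pullback.snd c.ι ((Functor.const J).map x)).app k, fun k => ?_, ?_⟩
  · have := NatTrans.congr_app (pullback.condition (f := c.ι) (g := (Functor.const J).map x)) k
    simpa using this
  · apply Preadditive.epi_of_cancel_zero
    intro Q q hq
    have h1 : ∀ k, colimit.ι T k ≫ f ≫ q = 0 := by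
      intro k
      have := Sigma.ι _ k ≫= hq
      rw [Sigma.ι_desc_assoc, comp_zero] at this
      rw [← Category.assoc, hf]
      exact this
    have h2 : f ≫ q = 0 := by
      apply colimit.hom_ext
      intro k
      rw [h1, comp_zero]
    rwa [← cancel_epi f, comp_zero]

end AB5


section Bdy

variable {A : Type u} [Category.{v} A] [Abelian A]

/-- cycles of `C` coming from `E` are boundaries of elements coming from `E`, up to refinements -/
def BdyProp {E C : CochainComplex A ℤ} (g : E ⟶ C) : Prop :=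
  ∀ (m n p : ℤ) (_ : m + 1 = n) (_ : n + 1 = p) ⦃W : A⦄ (x : W ⟶ E.X n),
    x ≫ g.f n ≫ C.d n p = 0 →
    ∃ (W' : A) (r : W' ⟶ W) (_ : Epi r) (y : W' ⟶ E.X m),
      r ≫ x ≫ g.f n = y ≫ g.f m ≫ C.d m n

lemma acyclic_cokernel_of_bdyProp {Z E C : CochainComplex A ℤ} (j : Z ⟶ E) (g : E ⟶ C)
    (w : j ≫ g = 0) (hex : (ShortComplex.mk j g w).Exact) (h : BdyProp g) :
    (cokernel j).Acyclic := by
  intro n
  have hmono : Mono (cokernel.desc j g w) := (ShortComplex.exact_iff_mono_cokernel_desc _).1 hex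
  have hmono' : ∀ k, Mono ((cokernel.desc j g w).f k) := fun k => inferInstance
  have hepi : ∀ k, Epi ((cokernel.π j).f k) := fun k => inferInstance
  have hfac : ∀ k, (cokernel.π j).f k ≫ (cokernel.desc j g w).f k = g.f k := fun k => by
    rw [← HomologicalComplex.comp_f, cokernel.π_desc]
  rw [HomologicalComplex.exactAt_iff' _ (n - 1) n (n + 1) (by simp) (by simp),
    ShortComplex.exact_iff_exact_up_to_refinements]
  intro W xb hxb
  change W ⟶ (cokernel j).X n at xb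
  change xb ≫ (cokernel j).d n (n + 1) = 0 at hxb
  obtain ⟨W₁, r₁, hr₁, x, hx⟩ := surjective_up_to_refinements_of_epi ((cokernel.π j).f n) xb
  have hx0 : x ≫ g.f n ≫ C.d n (n + 1) = 0 := by
    have h0 : x ≫ (cokernel.π j).f n ≫ (cokernel j).d n (n + 1) = 0 := by
      rw [← Category.assoc, ← hx, Category.assoc, hxb, comp_zero]
    rw [← hfac n, Category.assoc, HomologicalComplex.Hom.comm, reassoc_of% h0, zero_comp]
  obtain ⟨W₂, r₂, hr₂, y, hy⟩ := h (n - 1) n (n + 1) (by lia) rfl x hx0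
  refine ⟨W₂, r₂ ≫ r₁, inferInstance, y ≫ (cokernel.π j).f (n - 1), ?_⟩
  change (r₂ ≫ r₁) ≫ xb = (y ≫ (cokernel.π j).f (n - 1)) ≫ (cokernel j).d (n - 1) n
  rw [← cancel_mono ((cokernel.desc j g w).f n)]
  simp only [Category.assoc]
  rw [← HomologicalComplex.Hom.comm, reassoc_of% (hfac (n - 1)), ← hy, reassoc_of% hx, hfac]

end Bdy


section Step

variable {A : Type u} [Category.{v} A] [Abelian A] [IsGrothendieckAbelian.{v} A] (G : A)

/-- index type for the disks added at one step -/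
def Idx (E : CochainComplex A ℤ) : Type v := Σ m : ℤ, (G ⟶ E.X (m + 1)) × (G ⟶ G)

/-- the complex of disks added at one step -/
noncomputable def Φ (E : CochainComplex A ℤ) : CochainComplex A ℤ :=
  ∐ (fun j : Idx G E => disk G j.1)

variable {G} {E Y C : CochainComplex A ℤ} (f : E ⟶ Y) (π : Y ⟶ C)

/-- validity of an index -/
def Valid (j : Idx G E) : Prop :=
  ∃ y : G ⟶ Y.X j.1, y ≫ Y.d j.1 (j.1 + 1) ≫ π.f (j.1 + 1) =
    j.2.2 ≫ j.2.1 ≫ f.f (j.1 + 1) ≫ π.f (j.1 + 1)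

open Classical in
noncomputable def elt (j : Idx G E) : G ⟶ Y.X j.1 :=
  if h : Valid f π j then h.choose else 0

open Classical in
noncomputable def elt' (j : Idx G E) : G ⟶ E.X (j.1 + 1) :=
  if Valid f π j then j.2.2 ≫ j.2.1 else 0

lemma elt_spec (j : Idx G E) :
    elt f π j ≫ Y.d j.1 (j.1 + 1) ≫ π.f (j.1 + 1) = elt' f π j ≫ f.f (j.1 + 1) ≫ π.f (j.1 + 1) := by
  by_cases h : Valid f π j
  · rw [elt, elt', dif_pos h, if_pos h, Category.assoc]
    exact h.choose_spec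
  · rw [elt, elt', dif_neg h, if_neg h, zero_comp, zero_comp]

lemma elt_spec' (m : ℤ) (j' : (G ⟶ E.X (m + 1)) × (G ⟶ G)) :
    elt f π (⟨m, j'⟩ : Idx G E) ≫ Y.d m (m + 1) ≫ π.f (m + 1) =
      elt' f π (⟨m, j'⟩ : Idx G E) ≫ f.f (m + 1) ≫ π.f (m + 1) :=
  elt_spec f π ⟨m, j'⟩

lemma elt'_of_valid (j : Idx G E) (h : Valid f π j) : elt' f π j = j.2.2 ≫ j.2.1 := by
  rw [elt', if_pos h]

/-- the map from the added disks -/
noncomputable def step : Φ G E ⟶ Y := Limits.Sigma.desc (fun j => diskDesc (elt f π j))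

variable (G) in
/-- inclusion of the degree `m` generators -/
noncomputable def κ (E : CochainComplex A ℤ) (m : ℤ) :
    (∐ fun _ : (G ⟶ E.X (m + 1)) × (G ⟶ G) => G) ⟶ (Φ G E).X m :=
  Limits.Sigma.desc (fun j' => (diskX₀ G m).inv ≫
    (Limits.Sigma.ι (fun j : Idx G E => disk G j.1) ⟨m, j'⟩).f m)

lemma κ_step (m : ℤ) :
    κ G E m ≫ (step f π).f m = Limits.Sigma.desc (fun j' => elt f π ⟨m, j'⟩) := by
  apply Limits.Sigma.hom_ext
  intro j'
  rw [κ, Limits.Sigma.ι_desc_assoc, Limits.Sigma.ι_desc, Category.assoc]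
  have h1 : (Limits.Sigma.ι (fun j : Idx G E => disk G j.1) ⟨m, j'⟩) ≫ step f π =
      diskDesc (elt f π ⟨m, j'⟩) := Limits.Sigma.ι_desc _ _
  have h2 := congr_arg (fun φ => φ.f m) h1
  calc (diskX₀ G m).inv ≫ (Limits.Sigma.ι (fun j : Idx G E => disk G j.1) ⟨m, j'⟩).f m ≫
        (step f π).f m
      = (diskX₀ G m).inv ≫ (diskDesc (elt f π ⟨m, j'⟩)).f m := by rw [← h2]; rfl
    _ = elt f π ⟨m, j'⟩ := by rw [diskDesc_f₀, Iso.inv_hom_id_assoc]

lemma bdy_step (hG : IsSeparator G) (hC : C.Acyclic) [∀ n, Epi (π.f n)] (m : ℤ) {W : A}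
    (x : W ⟶ E.X (m + 1))
    (hx : x ≫ f.f (m + 1) ≫ π.f (m + 1) ≫ C.d (m + 1) (m + 1 + 1) = 0) :
    ∃ (W' : A) (r : W' ⟶ W) (_ : Epi r) (y : W' ⟶ (Φ G E).X m),
      r ≫ x ≫ f.f (m + 1) ≫ π.f (m + 1) =
        y ≫ (step f π).f m ≫ Y.d m (m + 1) ≫ π.f (m + 1) := by
  let u : E.X (m + 1) ⟶ C.X (m + 1 + 1) := f.f (m + 1) ≫ π.f (m + 1) ≫ C.d (m + 1) (m + 1 + 1)
  have h0 : ∀ j' : (G ⟶ E.X (m + 1)) × (G ⟶ G), elt' f π ⟨m, j'⟩ ≫ u = 0 := by
    intro j'
    have h := elt_spec' f π m j' =≫ C.d (m + 1) (m + 1 + 1)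
    simp only [Category.assoc] at h
    change elt' f π (⟨m, j'⟩ : Idx G E) ≫ f.f (m + 1) ≫ π.f (m + 1) ≫ C.d (m + 1) (m + 1 + 1) = 0
    rw [← h]
    simp
  let m' : ∀ j' : (G ⟶ E.X (m + 1)) × (G ⟶ G), G ⟶ kernel u :=
    fun j' => kernel.lift u (elt' f π ⟨m, j'⟩) (h0 j')
  let σ : (∐ fun _ : (G ⟶ E.X (m + 1)) × (G ⟶ G) => G) ⟶ kernel u := Limits.Sigma.desc m'
  have hσ : Epi σ := by
    apply Preadditive.epi_of_cancel_zero
    intro Q q hq
    refine (isSeparator_def G).1 hG _ _ (fun z => ?_)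
    rw [comp_zero]
    have hx₂ : (z ≫ kernel.ι u ≫ f.f (m + 1) ≫ π.f (m + 1)) ≫
        (C.sc' m (m + 1) (m + 1 + 1)).g = 0 := by
      change (z ≫ kernel.ι u ≫ f.f (m + 1) ≫ π.f (m + 1)) ≫ C.d (m + 1) (m + 1 + 1) = 0
      simp only [Category.assoc]
      have := kernel.condition u
      change kernel.ι u ≫ f.f (m + 1) ≫ π.f (m + 1) ≫ C.d (m + 1) (m + 1 + 1) = 0 at this
      rw [this, comp_zero]
    obtain ⟨W₁, r₁, hr₁, x₁, hx₁⟩ :=
      ((C.exactAt_iff' m (m + 1) (m + 1 + 1) (by simp) (by simp)).1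
        (hC (m + 1))).exact_up_to_refinements _ hx₂
    change W₁ ⟶ C.X m at x₁
    change r₁ ≫ z ≫ kernel.ι u ≫ f.f (m + 1) ≫ π.f (m + 1) = x₁ ≫ C.d m (m + 1) at hx₁
    obtain ⟨W₂, r₂, hr₂, y₂, hy₂⟩ := surjective_up_to_refinements_of_epi (π.f m) x₁
    have hkey : y₂ ≫ Y.d m (m + 1) ≫ π.f (m + 1) =
        (r₂ ≫ r₁) ≫ (z ≫ kernel.ι u) ≫ f.f (m + 1) ≫ π.f (m + 1) := by
      rw [← π.comm, ← Category.assoc, ← hy₂, Category.assoc, ← hx₁]
      simp only [Category.assoc]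
    have hz : (r₂ ≫ r₁) ≫ z ≫ q = 0 := by
      refine (isSeparator_def G).1 hG _ _ (fun a => ?_)
      rw [comp_zero]
      have hv : Valid f π (⟨m, (z ≫ kernel.ι u, a ≫ r₂ ≫ r₁)⟩ : Idx G E) :=
        ⟨a ≫ y₂, by
          change (a ≫ y₂) ≫ Y.d m (m + 1) ≫ π.f (m + 1) =
            (a ≫ r₂ ≫ r₁) ≫ (z ≫ kernel.ι u) ≫ f.f (m + 1) ≫ π.f (m + 1)
          rw [Category.assoc, hkey]
          simp only [Category.assoc]⟩
      have hm' : m' (z ≫ kernel.ι u, a ≫ r₂ ≫ r₁) = a ≫ (r₂ ≫ r₁) ≫ z := by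
        rw [← cancel_mono (kernel.ι u)]
        rw [kernel.lift_ι, elt'_of_valid f π _ hv]
        simp only [Category.assoc]
      have := Limits.Sigma.ι _ (z ≫ kernel.ι u, a ≫ r₂ ≫ r₁) ≫= hq
      rw [comp_zero, Limits.Sigma.ι_desc_assoc, hm'] at this
      simpa only [Category.assoc] using this
    have : Epi (r₂ ≫ r₁) := epi_comp _ _
    rwa [← cancel_epi (r₂ ≫ r₁), comp_zero]
  let x' : W ⟶ kernel u := kernel.lift u x hx
  refine ⟨pullback x' σ, pullback.fst x' σ, inferInstance, pullback.snd x' σ ≫ κ G E m, ?_⟩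
  have h1 : Limits.Sigma.desc (fun j' : (G ⟶ E.X (m + 1)) × (G ⟶ G) => elt f π ⟨m, j'⟩) ≫
      Y.d m (m + 1) ≫ π.f (m + 1) = σ ≫ kernel.ι u ≫ f.f (m + 1) ≫ π.f (m + 1) := by
    apply Limits.Sigma.hom_ext
    intro j'
    rw [Limits.Sigma.ι_desc_assoc, Limits.Sigma.ι_desc_assoc, kernel.lift_ι_assoc]
    exact elt_spec' f π m j'
  rw [Category.assoc, ← Category.assoc (κ G E m), κ_step, h1, ← Category.assoc (pullback.snd x' σ),
    ← pullback.condition, Category.assoc, kernel.lift_ι_assoc]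

end Step


section Seq

variable {A : Type u} [Category.{v} A] [Abelian A] [IsGrothendieckAbelian.{v} A]

instance hasExactColimitsOfShape_nat : HasExactColimitsOfShape ℕ A := by
  have : HasFilteredColimitsOfSize.{0, 0} A := hasFilteredColimitsOfSize_of_univLE.{0, 0, v, v}
  have := AB5OfSize_of_univLE.{0, 0, v, v} A
  infer_instance

variable (G : A) (E₀ : CochainComplex A ℤ)

/-- the stages -/
noncomputable def Eseq : ℕ → CochainComplex A ℤ
  | 0 => E₀
  | k + 1 => Eseq k ⊞ Φ G (Eseq k)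

noncomputable def inlE (k : ℕ) : Eseq G E₀ k ⟶ Eseq G E₀ (k + 1) := biprod.inl
noncomputable def inrE (k : ℕ) : Φ G (Eseq G E₀ k) ⟶ Eseq G E₀ (k + 1) := biprod.inr

noncomputable def Echain : ℕ ⥤ CochainComplex A ℤ :=
  Functor.ofSequence (inlE G E₀)

/-- the fixed complex -/
noncomputable def Eω : CochainComplex A ℤ := colimit (Echain G E₀)

noncomputable def ιω (k : ℕ) : Eseq G E₀ k ⟶ Eω G E₀ := colimit.ι (Echain G E₀) k

lemma Echain_map_succ (k : ℕ) :
    (Echain G E₀).map (homOfLE (Nat.le_add_right k 1)) = inlE G E₀ k :=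
  Functor.ofSequence_map_homOfLE_succ _ k

lemma inl_ιω (k : ℕ) : inlE G E₀ k ≫ ιω G E₀ (k + 1) = ιω G E₀ k := by
  have := colimit.w (Echain G E₀) (homOfLE (Nat.le_add_right k 1))
  rw [Echain_map_succ] at this
  exact this

variable {G E₀} {Y C : CochainComplex A ℤ} (f₀ : E₀ ⟶ Y) (π : Y ⟶ C)

noncomputable def fseq : ∀ k, Eseq G E₀ k ⟶ Y
  | 0 => f₀
  | k + 1 => biprod.desc (fseq k) (step (fseq k) π)

lemma inlE_fseq (k : ℕ) : inlE G E₀ k ≫ fseq f₀ π (k + 1) = fseq f₀ π k :=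
  biprod.inl_desc _ _

lemma inrE_fseq (k : ℕ) : inrE G E₀ k ≫ fseq f₀ π (k + 1) = step (fseq f₀ π k) π :=
  biprod.inr_desc _ _

noncomputable def fω : Eω G E₀ ⟶ Y :=
  colimit.desc (Echain G E₀) (Cocone.mk Y (NatTrans.ofSequence (fun k => fseq f₀ π k) (by
    intro k
    rw [Echain_map_succ]
    exact (inlE_fseq f₀ π k).trans (Category.comp_id _).symm)))

lemma ιω_fω (k : ℕ) : ιω G E₀ k ≫ fω f₀ π = fseq f₀ π k :=
  (colimit.ι_desc _ _).trans rfl

lemma bdyProp_fω (hG : IsSeparator G) (hC : C.Acyclic) [∀ n, Epi (π.f n)] :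
    BdyProp (fω (G := G) f₀ π ≫ π) := by
  intro m n p hmn hnp W x hx
  subst hmn hnp
  let c := (HomologicalComplex.eval A (ComplexShape.up ℤ) (m + 1)).mapCocone
    (colimit.cocone (Echain G E₀))
  have hc : IsColimit c := isColimitOfPreserves _ (colimit.isColimit _)
  obtain ⟨P, (a : ∀ k, P k ⟶ (Eseq G E₀ k).X (m + 1)), b,
    (hab' : ∀ k, a k ≫ (ιω G E₀ k).f (m + 1) = b k ≫ x), hb⟩ := exists_cover hc x
  have hfac : ∀ k, (ιω G E₀ k).f (m + 1) ≫ (fω f₀ π ≫ π).f (m + 1) =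
      (fseq f₀ π k).f (m + 1) ≫ π.f (m + 1) := fun k => by
    rw [← HomologicalComplex.comp_f, ← Category.assoc, ιω_fω, HomologicalComplex.comp_f]
  have hcyc : ∀ k, a k ≫ (fseq f₀ π k).f (m + 1) ≫
      π.f (m + 1) ≫ C.d (m + 1) (m + 1 + 1) = 0 := by
    intro k
    rw [← Category.assoc ((fseq f₀ π k).f (m + 1)), ← hfac, Category.assoc, reassoc_of% (hab' k),
      hx, comp_zero]
  choose W' r hr y hy using fun k => bdy_step (fseq f₀ π k) π hG hC m (a k) (hcyc k)
  refine ⟨∐ W', Limits.Sigma.desc (fun k => r k ≫ b k), ?_,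
    Limits.Sigma.desc (fun k => y k ≫
      (inrE G E₀ k).f m ≫ (ιω G E₀ (k + 1)).f m), ?_⟩
  · apply Preadditive.epi_of_cancel_zero
    intro Q q hq
    have h1 : Limits.Sigma.desc b ≫ q = 0 := by
      apply Limits.Sigma.hom_ext
      intro k
      have := Limits.Sigma.ι _ k ≫= hq
      rw [Limits.Sigma.ι_desc_assoc, comp_zero, Category.assoc] at this
      rw [Limits.Sigma.ι_desc_assoc, comp_zero, ← cancel_epi (r k), this, comp_zero]
    rwa [← cancel_epi (Limits.Sigma.desc b), comp_zero]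
  · apply Limits.Sigma.hom_ext
    intro k
    rw [Limits.Sigma.ι_desc_assoc, Limits.Sigma.ι_desc_assoc]
    have h2' : inrE G E₀ k ≫ ιω G E₀ (k + 1) ≫
        fω f₀ π ≫ π = step (fseq f₀ π k) π ≫ π := by
      rw [← Category.assoc (ιω G E₀ (k + 1)), ιω_fω, ← Category.assoc, inrE_fseq]
    have h2 : (inrE G E₀ k).f m ≫ (ιω G E₀ (k + 1)).f m ≫
        (fω f₀ π ≫ π).f m = (step (fseq f₀ π k) π).f m ≫ π.f m :=
      congr_arg (fun φ => φ.f m) h2'
    simp only [Category.assoc]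
    rw [← reassoc_of% (hab' k), hfac, hy k, reassoc_of% h2, π.comm]

end Seq

end Groth.Agent.Lib.Helper32.KInjGen
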