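import Mathlib
import Groth.Agent.Lib.Helper32.KInjGen

/-!
# Trivial cofibrations of complexes in a Grothendieck abelian category are generated by a set (helper32)
-/

set_option autoImplicit false
universe v u
open CategoryTheory CategoryTheory.Limits

namespace Groth.Agent.Lib.Helper32.KInjTriv

open Groth.Agent.Lib.Helper32.KInjLift Groth.Agent.Lib.Helper32.KInjGen

variable {A : Type u} [Category.{v} A] [Abelian A] [IsGrothendieckAbelian.{v} A]

lemma acyclic_of_iso {K L : CochainComplex A ℤ} (e : K ≅ L) (h : K.Acyclic) : L.Acyclic := by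
  intro n
  rw [HomologicalComplex.exactAt_iff_isZero_homology]
  exact IsZero.of_iso ((HomologicalComplex.exactAt_iff_isZero_homology _ _).1 (h n))
    ((HomologicalComplex.homologyFunctor _ _ n).mapIso e.symm)

variable (A) in
/-- the fixed complex -/
noncomputable def E : CochainComplex A ℤ := Eω (separator A) (separator (CochainComplex A ℤ))

variable (A) in
/-- the generating trivial cofibrations -/
def genTriv : MorphismProperty (CochainComplex A ℤ) :=
  MorphismProperty.ofHoms
    (fun Z : {Z : Subobject (E A) // (cokernel Z.arrow).Acyclic} => Z.1.arrow)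

variable (A) in
/-- trivial cofibrations -/
def triv : MorphismProperty (CochainComplex A ℤ) := fun _ _ f => Mono f ∧ QuasiIso f

lemma quasiIso_of_mono_of_acyclic_cokernel {X Y : CochainComplex A ℤ} (i : X ⟶ Y) [Mono i]
    (h : (cokernel i).Acyclic) : QuasiIso i := by
  have hS : (ShortComplex.mk i (cokernel.π i) (cokernel.condition i)).ShortExact :=
    { exact := ShortComplex.exact_cokernel i }
  exact CoconeSES.quasiIso_f_of_acyclic_X₃ hS h

lemma acyclic_cokernel_of_mono_of_quasiIso {X Y : CochainComplex A ℤ} (i : X ⟶ Y) [Mono i]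
    [QuasiIso i] : (cokernel i).Acyclic := by
  have hS : (ShortComplex.mk i (cokernel.π i) (cokernel.condition i)).ShortExact :=
    { exact := ShortComplex.exact_cokernel i }
  exact hS.acyclic_X₃ (by dsimp; infer_instance)

lemma genTriv_le_triv : genTriv A ≤ triv A := by
  rintro _ _ _ ⟨Z⟩
  exact ⟨inferInstance, quasiIso_of_mono_of_acyclic_cokernel _ Z.2⟩

set_option backward.isDefEq.respectTransparency false in
lemma exists_pushouts {X Y : CochainComplex A ℤ} (p : X ⟶ Y) [Mono p] [QuasiIso p]
    (hp : ¬ IsIso p) :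
    ∃ (X' : CochainComplex A ℤ) (i : X ⟶ X') (p' : X' ⟶ Y) (_ : (genTriv A).pushouts i)
      (_ : ¬ IsIso i) (_ : Mono p') (_ : QuasiIso p'), i ≫ p' = p := by
  have hG := isSeparator_separator (CochainComplex A ℤ)
  rw [hG.isDetector.isIso_iff_of_mono] at hp
  simp only [ObjectProperty.singleton_iff, Function.Surjective, Functor.flip_obj_map, forall_eq',
    not_forall, not_exists] at hp
  obtain ⟨f₀, hf₀⟩ := hp
  let π := cokernel.π p
  have hC : (cokernel p).Acyclic := acyclic_cokernel_of_mono_of_quasiIso p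
  have hπ : ∀ n, Epi (π.f n) := fun n => inferInstance
  let f : E A ⟶ Y := fω f₀ π
  have hbdy : BdyProp (f ≫ π) := bdyProp_fω f₀ π (isSeparator_separator A) hC
  let j := pullback.snd p f
  have w : j ≫ f ≫ π = 0 := by
    rw [← pullback.condition_assoc, cokernel.condition, comp_zero]
  have hker : IsLimit (KernelFork.ofι j w) :=
    KernelFork.IsLimit.ofι' j w (fun {W} x hx => by
      have hlim := Abelian.monoIsKernelOfCokernel _ (cokernelIsCokernel p)
      have hx' : (x ≫ f) ≫ cokernel.π p = 0 := by rw [Category.assoc]; exact hx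
      obtain ⟨l, hl⟩ := KernelFork.IsLimit.lift' hlim (x ≫ f) hx'
      exact ⟨pullback.lift l x hl, pullback.lift_snd _ _ _⟩)
  have hex : (ShortComplex.mk j (f ≫ π) w).Exact := ShortComplex.exact_of_f_is_kernel _ hker
  have hacyc : (cokernel j).Acyclic := acyclic_cokernel_of_bdyProp j (f ≫ π) w hex hbdy
  have sq : IsPushout (pullback.fst p f) j (pushout.inl _ _) (pushout.inr _ _) :=
    IsPushout.of_hasPushout (pullback.fst p f) j
  let i : X ⟶ pushout (pullback.fst p f) j := pushout.inl _ _
  let p' : pushout (pullback.fst p f) j ⟶ Y := pushout.desc p f pullback.condition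
  have hip : i ≫ p' = p := pushout.inl_desc _ _ _
  have hmp' : Mono p' :=
    sq.mono_of_isPullback_of_mono (IsPullback.of_hasPullback p f) _ (by simp [p']) (by simp [p'])
  have hmi : Mono i := mono_of_mono_fac hip
  have hci : (cokernel i).Acyclic := by
    have := isIso_cokernel_map_of_isPushout sq.flip
    exact acyclic_of_iso (asIso (cokernel.map _ _ _ _ sq.flip.w)) hacyc
  have hqi : QuasiIso i := quasiIso_of_mono_of_acyclic_cokernel i hci
  have hqp' : QuasiIso p' := by
    have : QuasiIso (i ≫ p') := by rw [hip]; infer_instance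
    exact quasiIso_of_comp_left i p'
  have hZ : (cokernel (Subobject.mk j).arrow).Acyclic := by
    have e : (Subobject.mk j).arrow = (Subobject.underlyingIso j).hom ≫ j := by simp
    rw [e]
    exact acyclic_of_iso (cokernelEpiComp _ _).symm hacyc
  have hgen : genTriv A (Subobject.mk j).arrow :=
    MorphismProperty.ofHoms.mk
      (f := fun Z : {Z : Subobject (E A) // (cokernel Z.arrow).Acyclic} => Z.1.arrow)
      ⟨Subobject.mk j, hZ⟩
  have sq' : IsPushout ((Subobject.underlyingIso j).hom ≫ pullback.fst p f) (Subobject.mk j).arrow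
      i (pushout.inr _ _) :=
    sq.of_iso ((Subobject.underlyingIso j).symm) (Iso.refl _) (Iso.refl _)
      (Iso.refl _) (by simp) (by simp [j]) (by simp [i]) (by simp)
  refine ⟨_, i, p', ⟨_, _, _, _, _, hgen, sq'⟩, ?_, hmp', hqp', hip⟩
  intro hi
  refine hf₀ (ιω _ _ 0 ≫ pushout.inr _ _ ≫ inv i) ?_
  change (ιω _ _ 0 ≫ pushout.inr _ _ ≫ inv i) ≫ p = f₀
  have h1 : inv i ≫ p = p' := by rw [IsIso.inv_comp_eq, hip]
  have h2 : pushout.inr (pullback.fst p f) j ≫ p' = f := pushout.inr_desc _ _ _
  simp only [Category.assoc, h1, h2]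
  exact ιω_fω f₀ π 0


section Rel

/-- relative acyclicity, in terms of refinements -/
def Rel {S Y : CochainComplex A ℤ} (s : S ⟶ Y) : Prop :=
  ∀ (m n p : ℤ) (_ : m + 1 = n) (_ : n + 1 = p) ⦃W : A⦄ (x : W ⟶ Y.X n) (t : W ⟶ S.X p),
    x ≫ Y.d n p = t ≫ s.f p →
    ∃ (W' : A) (r : W' ⟶ W) (_ : Epi r) (y : W' ⟶ Y.X m) (u : W' ⟶ S.X n),
      r ≫ x = y ≫ Y.d m n + u ≫ s.f n

lemma exists_lift_of_mono {S Y : CochainComplex A ℤ} (s : S ⟶ Y) [Mono s] (k : ℤ) {W : A}
    (a : W ⟶ Y.X k) (ha : a ≫ (cokernel.π s).f k = 0) : ∃ u : W ⟶ S.X k, u ≫ s.f k = a := by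
  have hS : (ShortComplex.mk s (cokernel.π s) (cokernel.condition s)).ShortExact :=
    { exact := ShortComplex.exact_cokernel s }
  have hSk := hS.map_of_exact (HomologicalComplex.eval A (ComplexShape.up ℤ) k)
  have := hSk.mono_f
  exact ⟨hSk.exact.lift a ha, hSk.exact.lift_f a ha⟩

lemma rel_of_quasiIso {S Y : CochainComplex A ℤ} (s : S ⟶ Y) [Mono s] [QuasiIso s] : Rel s := by
  intro m n p hmn hnp W x t hxt
  subst hmn hnp
  have hC := acyclic_cokernel_of_mono_of_quasiIso s
  let g := cokernel.π s
  have hg : ∀ k, s.f k ≫ g.f k = 0 := fun k => by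
    rw [← HomologicalComplex.comp_f, cokernel.condition, HomologicalComplex.zero_f]
  have hx : (x ≫ g.f (m + 1)) ≫ ((cokernel s).sc' m (m + 1) (m + 1 + 1)).g = 0 := by
    change (x ≫ g.f (m + 1)) ≫ (cokernel s).d (m + 1) (m + 1 + 1) = 0
    rw [Category.assoc, g.comm, reassoc_of% hxt, hg, comp_zero]
  obtain ⟨W₁, r₁, hr₁, c, hc⟩ :=
    (((cokernel s).exactAt_iff' m (m + 1) (m + 1 + 1) (by simp) (by simp)).1
      (hC (m + 1))).exact_up_to_refinements _ hx
  change W₁ ⟶ (cokernel s).X m at c
  change r₁ ≫ x ≫ g.f (m + 1) = c ≫ (cokernel s).d m (m + 1) at hc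
  obtain ⟨W₂, r₂, hr₂, y, hy⟩ := surjective_up_to_refinements_of_epi (g.f m) c
  have h0 : ((r₂ ≫ r₁) ≫ x - y ≫ Y.d m (m + 1)) ≫ g.f (m + 1) = 0 := by
    rw [Preadditive.sub_comp, Category.assoc, Category.assoc, hc, Category.assoc, ← g.comm,
      ← reassoc_of% hy, sub_self]
  obtain ⟨u, hu⟩ := exists_lift_of_mono s (m + 1) _ h0
  exact ⟨W₂, r₂ ≫ r₁, inferInstance, y, u, by rw [hu]; abel⟩

lemma quasiIso_of_rel {S Y : CochainComplex A ℤ} (s : S ⟶ Y) [Mono s] (h : Rel s) :
    QuasiIso s := by
  apply quasiIso_of_mono_of_acyclic_cokernel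
  let g := cokernel.π s
  have hg : ∀ k, s.f k ≫ g.f k = 0 := fun k => by
    rw [← HomologicalComplex.comp_f, cokernel.condition, HomologicalComplex.zero_f]
  refine acyclic_cokernel_of_bdyProp s g (cokernel.condition s) (ShortComplex.exact_cokernel s) ?_
  intro m n p hmn hnp W x hx
  have hx' : (x ≫ Y.d n p) ≫ g.f p = 0 := by
    rw [Category.assoc, ← g.comm]; exact hx
  obtain ⟨t, ht⟩ := exists_lift_of_mono s p _ hx'
  obtain ⟨W', r, hr, y, u, hyu⟩ := h m n p hmn hnp x t ht.symm
  refine ⟨W', r, hr, y, ?_⟩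
  rw [← Category.assoc, hyu, Preadditive.add_comp, Category.assoc, Category.assoc, hg, comp_zero,
    add_zero, ← g.comm]

end Rel


section Sup

lemma epi_sigma_desc_comp {J : Type v} {P P' : J → A} {W : A} (b : ∀ k, P k ⟶ W)
    (r : ∀ k, P' k ⟶ P k) [∀ k, Epi (r k)] [Epi (Limits.Sigma.desc b)] :
    Epi (Limits.Sigma.desc (fun k => r k ≫ b k)) := by
  apply Preadditive.epi_of_cancel_zero
  intro Q q hq
  have h1 : Limits.Sigma.desc b ≫ q = 0 := by
    apply Limits.Sigma.hom_ext
    intro k
    have := Limits.Sigma.ι _ k ≫= hq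
    rw [Limits.Sigma.ι_desc_assoc, comp_zero, Category.assoc] at this
    rw [Limits.Sigma.ι_desc_assoc, comp_zero, ← cancel_epi (r k), this, comp_zero]
  rwa [← cancel_epi (Limits.Sigma.desc b), comp_zero]

variable {Y : CochainComplex A ℤ} {J : Type v} [SmallCategory J] [IsFiltered J]
  (F : J ⥤ MonoOver Y)

set_option backward.isDefEq.respectTransparency false in
lemma quasiIso_arrow_of_iSup (hF : ∀ j, QuasiIso (F.obj j).obj.hom) (T : Subobject Y)
    (hT : T = ⨆ j, Subobject.mk (F.obj j).obj.hom) : QuasiIso T.arrow := by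
  have hle : ∀ j, Subobject.mk (F.obj j).obj.hom ≤ T := fun j => by
    rw [hT]
    exact le_iSup (fun j => Subobject.mk (F.obj j).obj.hom) j
  let ι : ∀ j, (F.obj j).obj.left ⟶ (T : CochainComplex A ℤ) :=
    fun j => Subobject.ofMkLE _ T (hle j)
  have hι : ∀ j, ι j ≫ T.arrow = (F.obj j).obj.hom := fun j => Subobject.ofMkLE_arrow _
  let c : Cocone (F ⋙ MonoOver.forget Y) :=
    { pt := Over.mk T.arrow
      ι :=
        { app := fun j => Over.homMk (ι j) (hι j)
          naturality := fun j j' φ => by
            apply Over.OverMorphism.ext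
            change (F.map φ).hom.left ≫ ι j' = ι j ≫ 𝟙 _
            rw [← cancel_mono T.arrow, Category.assoc, hι, Category.comp_id, hι]
            exact MonoOver.w (F.map φ) } }
  haveI : Mono c.pt.hom := inferInstanceAs (Mono T.arrow)
  have hc := IsGrothendieckAbelian.isColimitMapCoconeOfSubobjectMkEqISup F c
    (by simpa [c] using hT)
  apply quasiIso_of_rel
  intro m n p hmn hnp W x t hxt
  have hcp := isColimitOfPreserves (HomologicalComplex.eval A (ComplexShape.up ℤ) p) hc
  obtain ⟨P, (a : ∀ k, P k ⟶ ((F.obj k).obj.left).X p), b,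
    (hab : ∀ k, a k ≫ (ι k).f p = b k ≫ t), hb⟩ := exists_cover hcp t
  have hrel : ∀ k, Rel (F.obj k).obj.hom := fun k => by
    haveI := hF k
    haveI : Mono (F.obj k).obj.hom := (F.obj k).property
    exact rel_of_quasiIso _
  have hk : ∀ k, (b k ≫ x) ≫ Y.d n p = a k ≫ ((F.obj k).obj.hom).f p := by
    intro k
    rw [Category.assoc, hxt, ← reassoc_of% (hab k), ← HomologicalComplex.comp_f, hι]
  choose W' r hr y u hyu using fun k => hrel k m n p hmn hnp (b k ≫ x) (a k) (hk k)
  refine ⟨∐ W', Limits.Sigma.desc (fun k => r k ≫ b k), epi_sigma_desc_comp b r,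
    Limits.Sigma.desc y, Limits.Sigma.desc (fun k => u k ≫ (ι k).f n), ?_⟩
  apply Limits.Sigma.hom_ext
  intro k
  rw [Limits.Sigma.ι_desc_assoc, Preadditive.comp_add, Limits.Sigma.ι_desc_assoc,
    Limits.Sigma.ι_desc_assoc, Category.assoc, hyu, Category.assoc, ← HomologicalComplex.comp_f, hι]

end Sup


section Transfinite

variable {Y : CochainComplex A ℤ}

lemma quasiIso_mk_arrow_iff {X : CochainComplex A ℤ} (f : X ⟶ Y) [Mono f] :
    QuasiIso (Subobject.mk f).arrow ↔ QuasiIso f := by
  have e : (Subobject.mk f).arrow = (Subobject.underlyingIso f).hom ≫ f := by simp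
  rw [e]
  exact quasiIso_iff_comp_left _ _

set_option backward.defeqAttrib.useBackward true in
lemma exists_larger_subobject (S : Subobject Y) (hS : S ≠ ⊤) (hq : QuasiIso S.arrow) :
    ∃ (S' : Subobject Y) (h : S < S'),
      (genTriv A).pushouts (Subobject.ofLE S S' h.le) ∧ QuasiIso S'.arrow := by
  induction S using Subobject.ind with | _ f
  have hf : QuasiIso f := (quasiIso_mk_arrow_iff f).1 hq
  obtain ⟨X', i, p', hi, hi', hp', hqp', fac⟩ := exists_pushouts f
    (by simpa only [Subobject.isIso_iff_mk_eq_top] using hS)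
  refine ⟨Subobject.mk p', Subobject.mk_lt_mk_of_comm i fac hi',
    (MorphismProperty.arrow_mk_iso_iff _ ?_).2 hi, (quasiIso_mk_arrow_iff p').2 hqp'⟩
  refine Arrow.isoMk (Subobject.underlyingIso f) (Subobject.underlyingIso p') ?_
  dsimp
  simp only [← cancel_mono p', Category.assoc, fac,
    Subobject.underlyingIso_hom_comp_eq_mk, Subobject.ofLE_arrow]

open scoped Classical in
/-- a larger subobject, obtained by a pushout of a generating trivial cofibration -/
noncomputable def larger (S : Subobject Y) : Subobject Y :=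
  if h : S ≠ ⊤ ∧ QuasiIso S.arrow then (exists_larger_subobject S h.1 h.2).choose else ⊤

@[simp]
lemma larger_top : larger (⊤ : Subobject Y) = ⊤ := dif_neg (by simp)

lemma lt_larger (S : Subobject Y) (hS : S ≠ ⊤) : S < larger S := by
  by_cases hq : QuasiIso S.arrow
  · rw [larger, dif_pos ⟨hS, hq⟩]
    exact (exists_larger_subobject S hS hq).choose_spec.choose
  · rw [larger, dif_neg (by tauto)]
    exact lt_top_iff_ne_top.2 hS

lemma le_larger (S : Subobject Y) : S ≤ larger S := by
  by_cases hS : S = ⊤
  · subst hS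
    simp
  · exact (lt_larger S hS).le

lemma quasiIso_top_arrow : QuasiIso (⊤ : Subobject Y).arrow := by
  have := (Subobject.isIso_arrow_iff_eq_top (⊤ : Subobject Y)).2 rfl
  infer_instance

lemma quasiIso_larger (S : Subobject Y) (hq : QuasiIso S.arrow) : QuasiIso (larger S).arrow := by
  by_cases hS : S = ⊤
  · subst hS
    rw [larger_top]
    exact quasiIso_top_arrow
  · rw [larger, dif_pos ⟨hS, hq⟩]
    exact (exists_larger_subobject S hS hq).choose_spec.choose_spec.2

lemma isomorphisms_le_pushouts_genTriv :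
    MorphismProperty.isomorphisms (CochainComplex A ℤ) ≤ (genTriv A).pushouts :=
  MorphismProperty.isomorphisms_le_pushouts _ (fun _ => by
    have hiso : IsIso (⊤ : Subobject (E A)).arrow :=
      (Subobject.isIso_arrow_iff_eq_top _).2 rfl
    have hz : (cokernel (⊤ : Subobject (E A)).arrow).Acyclic :=
      acyclic_cokernel_of_mono_of_quasiIso _
    exact ⟨_, _, _, MorphismProperty.ofHoms.mk
      (f := fun Z : {Z : Subobject (E A) // (cokernel Z.arrow).Acyclic} => Z.1.arrow) ⟨⊤, hz⟩,
      0, hiso⟩)

set_option backward.defeqAttrib.useBackward true in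
set_option backward.isDefEq.respectTransparency false in
lemma pushouts_ofLE_le_larger (S : Subobject Y) (hq : QuasiIso S.arrow) :
    (genTriv A).pushouts (Subobject.ofLE _ _ (le_larger S)) := by
  by_cases hS : S = ⊤
  · subst hS
    have := (Subobject.isIso_arrow_iff_eq_top (larger (⊤ : Subobject Y))).2 (by simp)
    exact (MorphismProperty.arrow_mk_iso_iff _
      (Arrow.isoMk (asIso (Subobject.arrow _)) (asIso (Subobject.arrow _)) (by simp))).2
        (isomorphisms_le_pushouts_genTriv (𝟙 Y)
          (MorphismProperty.isomorphisms.infer_property _))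
  · refine (MorphismProperty.arrow_mk_iso_iff _ ?_).1
      (exists_larger_subobject S hS hq).choose_spec.choose_spec.1
    exact Arrow.isoMk (Iso.refl _)
      (Subobject.isoOfEq _ _ ((by simp [larger, dif_pos (⟨hS, hq⟩ : S ≠ ⊤ ∧ QuasiIso S.arrow)])))

lemma top_mem_range (A₀ : Subobject Y) {J : Type v} [LinearOrder J] [OrderBot J] [SuccOrder J]
    [WellFoundedLT J] (hJ : HasCardinalLT (Subobject Y) (Cardinal.mk J)) :
    ∃ (j : J), transfiniteIterate larger j A₀ = ⊤ :=
  top_mem_range_transfiniteIterate larger A₀ lt_larger (by simp)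
    (fun h ↦ by simpa [hasCardinalLT_iff_cardinal_mk_lt] using hJ.of_injective _ h)

lemma exists_ordinal (A₀ : Subobject Y) :
    ∃ (o : Ordinal.{v}) (j : o.ToType), transfiniteIterate larger j A₀ = ⊤ := by
  let κ := Order.succ (Cardinal.mk (Shrink.{v} (Subobject Y)))
  have : Nonempty κ.ord.ToType := by simp [κ]
  have := WellFoundedLT.toOrderBot κ.ord.ToType
  exact ⟨κ.ord, top_mem_range A₀ (lt_of_lt_of_le (Order.lt_succ _) (by simp [κ]))⟩

section

variable (A₀ : Subobject Y) (J : Type v) [LinearOrder J] [OrderBot J] [SuccOrder J]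
  [WellFoundedLT J]

/-- the functor `J ⥤ MonoOver Y` given by the transfinite iteration -/
@[simps]
noncomputable def functorToMonoOver : J ⥤ MonoOver Y where
  obj j := MonoOver.mk (transfiniteIterate larger j A₀).arrow
  map {j j'} f := MonoOver.homMk (Subobject.ofLE _ _
      (monotone_transfiniteIterate _ _ le_larger (leOfHom f)))

/-- The functor `J ⥤ C` induced by `functorToMonoOver`. -/
noncomputable abbrev functor : J ⥤ CochainComplex A ℤ :=
  functorToMonoOver A₀ J ⋙ MonoOver.forget _ ⋙ Over.forget _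

set_option backward.defeqAttrib.useBackward true in
instance : (functor A₀ J).IsWellOrderContinuous where
  nonempty_isColimit m hm := ⟨by
    have := hm.nonempty_Iio.to_subtype
    let c := (Set.principalSegIio m).cocone (functorToMonoOver A₀ J ⋙ MonoOver.forget _)
    have : Mono c.pt.hom := by dsimp [c]; infer_instance
    apply IsGrothendieckAbelian.isColimitMapCoconeOfSubobjectMkEqISup
      ((Set.principalSegIio m).monotone.functor ⋙ functorToMonoOver A₀ J) c
    dsimp [c]
    simp only [Subobject.mk_arrow]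
    exact transfiniteIterate_limit larger A₀ m hm⟩

variable {J} in
set_option backward.defeqAttrib.useBackward true in
lemma quasiIso_iterate (h₀ : QuasiIso A₀.arrow) (j : J) :
    QuasiIso (transfiniteIterate larger j A₀).arrow := by
  induction j using SuccOrder.limitRecOn with
  | isMin k hk =>
    obtain rfl := hk.eq_bot
    rwa [transfiniteIterate_bot]
  | succ k hk ih =>
    rw [transfiniteIterate_succ _ _ _ hk]
    exact quasiIso_larger _ ih
  | isSuccLimit m hm ih =>
    have := hm.nonempty_Iio.to_subtype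
    refine quasiIso_arrow_of_iSup
      ((Set.principalSegIio m).monotone.functor ⋙ functorToMonoOver A₀ J) ?_ _ ?_
    · rintro ⟨k, hk⟩
      exact ih k hk
    · rw [transfiniteIterate_limit larger A₀ m hm]
      refine congr_arg iSup (funext ?_)
      rintro ⟨k, hk⟩
      exact (Subobject.mk_arrow _).symm

set_option backward.isDefEq.respectTransparency.types false in
set_option backward.defeqAttrib.useBackward true in
variable {J} in
/-- the map from the bottom is a transfinite composition of pushouts of generating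
trivial cofibrations -/
noncomputable def transfiniteCompositionOfShapeMapFromBot (h₀ : QuasiIso A₀.arrow) (j : J) :
    (genTriv A).pushouts.TransfiniteCompositionOfShape (Set.Iic j)
    ((functor A₀ J).map (homOfLE bot_le : ⊥ ⟶ j)) where
  F := (Set.initialSegIic j).monotone.functor ⋙ functor A₀ J
  isoBot := Iso.refl _
  incl :=
    { app k := (functor A₀ J).map (homOfLE k.2)
      naturality k k' h := by simp [MonoOver.forget] }
  isColimit := colimitOfDiagramTerminal isTerminalTop _
  map_mem k hk := by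
    dsimp [MonoOver.forget]
    convert!
      pushouts_ofLE_le_larger (transfiniteIterate larger k.1 A₀)
        (quasiIso_iterate A₀ h₀ k.1) using 2
    all_goals
      rw [Set.Iic.succ_eq_of_not_isMax hk,
        transfiniteIterate_succ _ _ _ (Set.not_isMax_coe _ hk)]

end

variable {X : CochainComplex A ℤ} {f : X ⟶ Y} [Mono f]

set_option backward.defeqAttrib.useBackward true in
set_option backward.isDefEq.respectTransparency false in
noncomputable def transfiniteCompositionOfShapeOfEqTop (hf : QuasiIso f)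
    {J : Type v} [LinearOrder J] [OrderBot J] [SuccOrder J] [WellFoundedLT J] {j : J}
    (hj : transfiniteIterate larger j (Subobject.mk f) = ⊤) :
    (genTriv A).pushouts.TransfiniteCompositionOfShape (Set.Iic j) f := by
  let t := transfiniteIterate larger j (Subobject.mk f)
  have := (Subobject.isIso_arrow_iff_eq_top t).2 hj
  apply (transfiniteCompositionOfShapeMapFromBot (Subobject.mk f)
    ((quasiIso_mk_arrow_iff f).2 hf) j).ofArrowIso
  refine Arrow.isoMk ((Subobject.isoOfEq _ _ (transfiniteIterate_bot _ _) ≪≫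
    Subobject.underlyingIso f)) (asIso t.arrow) ?_
  dsimp [MonoOver.forget]
  rw [Category.assoc, Subobject.underlyingIso_hom_comp_eq_mk, Subobject.ofLE_arrow,
    Subobject.ofLE_arrow]

variable (f)

lemma exists_transfiniteCompositionOfShape (hf : QuasiIso f) :
    ∃ (J : Type v) (_ : LinearOrder J) (_ : OrderBot J) (_ : SuccOrder J)
        (_ : WellFoundedLT J),
    Nonempty ((genTriv A).pushouts.TransfiniteCompositionOfShape J f) := by
  obtain ⟨o, j, hj⟩ := exists_ordinal (Subobject.mk f)
  have : Nonempty o.ToType := ⟨j⟩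
  have : OrderBot o.ToType := WellFoundedLT.toOrderBot _
  exact ⟨_, _, _, _, _, ⟨transfiniteCompositionOfShapeOfEqTop hf hj⟩⟩

end Transfinite

open MorphismProperty in
lemma genTriv_rlp : (genTriv A).rlp = (triv A).rlp := by
  apply le_antisymm
  · intro X Y p hp K L i hi
    obtain ⟨hi1, hi2⟩ := hi
    obtain ⟨J, _, _, _, _, ⟨h⟩⟩ := exists_transfiniteCompositionOfShape i hi2
    exact transfiniteCompositionsOfShape_le_llp_rlp _ _ _ h.mem _ (by simpa)
  · exact antitone_rlp genTriv_le_triv

end Groth.Agent.Lib.Helper32.KInjTriv
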