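import Mathlib
import Groth.Agent.Lib.Helper32.KInjTriv

/-!
# K-injective resolutions in Grothendieck abelian categories (helper32)
-/

set_option autoImplicit false
universe v u
open CategoryTheory CategoryTheory.Limits CochainComplex

namespace Groth.Agent.Lib.Helper32.KInjRes

open Groth.Agent.Lib.Helper32.KInjLift Groth.Agent.Lib.Helper32.KInjGen
  Groth.Agent.Lib.Helper32.KInjTriv

section Fibration

variable {C : Type u} [Category.{v} C] [Abelian C]

/-- lifting of monos which are quasi-isos against degreewise epis with injective kernels,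
bounded below source of the fibration -/
lemma hasLiftingProperty_of_fibration {K L X Y : CochainComplex C ℤ} (i : K ⟶ L) (p : X ⟶ Y)
    [Mono i] [QuasiIso i] (hp : degreewiseEpiWithInjectiveKernel p) (d : ℤ) [X.IsStrictlyGE d] :
    HasLiftingProperty i p where
  sq_hasLift {t b} sq := by
    have sq' (n : ℤ) : CommSq (t.f n) (i.f n) (p.f n) (b.f n) :=
      (sq.map (HomologicalComplex.eval _ _ n))
    have (n : ℤ) : (sq' n).HasLift := by
      have := (hp n).hasLiftingProperty (i.f n)
      infer_instance
    have (n : ℤ) : Injective ((kernel p).X n) :=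
      Injective.of_iso
        (asIso (kernelComparison p (HomologicalComplex.eval _ _ n))).symm (hp n).2
    have : (kernel p).IsKInjective := by
      have : (kernel p).IsStrictlyGE d := by
        rw [isStrictlyGE_iff]
        intro i hi
        rw [IsZero.iff_id_eq_zero, ← cancel_mono ((kernel.ι p).f i)]
        apply (X.isZero_of_isStrictlyGE d i).eq_of_tgt
      exact isKInjective_of_injective _ d
    have hS : (ShortComplex.mk _ _ (cokernel.condition i)).ShortExact :=
      { exact := ShortComplex.exact_cokernel i }
    exact KInjLift.hasLift sq (fun n ↦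
        { l := (sq' n).lift
          fac_left := (sq' n).fac_left
          fac_right := (sq' n).fac_right })
      (cokernelIsCokernel i) (kernelIsKernel p) (hπ := by simp) (hι := by simp)
      (hS.acyclic_X₃ (by dsimp; infer_instance))

open HomologicalComplex in
/-- the projection from the disk to the sphere -/
noncomputable def diskToSingle (J : C) (n : ℤ) :
    disk J n ⟶ (single C (ComplexShape.up ℤ) n).obj J :=
  diskDesc (singleObjXSelf (ComplexShape.up ℤ) n J).inv

open HomologicalComplex in
lemma diskToSingle_fibration (J : C) [Injective J] (n : ℤ) :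
    degreewiseEpiWithInjectiveKernel (diskToSingle J n) := by
  intro m
  by_cases hm : m = n
  · subst hm
    have : IsIso ((diskToSingle J m).f m) := by
      rw [diskToSingle, diskDesc_f₀]; infer_instance
    exact Abelian.epiWithInjectiveKernel_of_iso _
  · rw [Abelian.epiWithInjectiveKernel_iff_of_isZero _ (isZero_single_obj_X _ _ _ _ hm)]
    by_cases hm' : m = n + 1
    · subst hm'
      exact Injective.of_iso (diskX₁ J n).symm inferInstance
    · exact (isZero_disk_X J n m hm hm').injective

instance (J : C) (n : ℤ) : (disk J n).IsStrictlyGE n := by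
  rw [isStrictlyGE_iff]
  intro i hi
  exact isZero_disk_X J n i (by lia) (by lia)

/-- test of exactness with injective objects -/
lemma exactAt_of_injective_test [EnoughInjectives C] (K : CochainComplex C ℤ) (n : ℤ)
    (h : ∀ (J : C) [Injective J] (c : K.X n ⟶ J), K.d (n - 1) n ≫ c = 0 →
      ∃ h : K.X (n + 1) ⟶ J, K.d n (n + 1) ≫ h = c) : K.ExactAt n := by
  rw [K.exactAt_iff' (n - 1) n (n + 1) (by simp) (by simp),
    ShortComplex.exact_iff_mono_cokernel_desc]
  let S := K.sc' (n - 1) n (n + 1)
  obtain ⟨h', hh'⟩ := h (Injective.under (cokernel S.f)) (cokernel.π S.f ≫ Injective.ι _)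
    (by
      change S.f ≫ cokernel.π S.f ≫ _ = 0
      rw [cokernel.condition_assoc, zero_comp])
  have : cokernel.desc S.f S.g S.zero ≫ h' = Injective.ι _ := by
    rw [← cancel_epi (cokernel.π S.f), cokernel.π_desc_assoc]
    exact hh'
  exact mono_of_mono_fac this

end Fibration


section Main

variable {A : Type u} [Category.{v} A] [Abelian A] [IsGrothendieckAbelian.{v} A]

open MorphismProperty

instance : MorphismProperty.IsSmall.{v} (genTriv A) := by
  dsimp [genTriv]
  infer_instance

lemma genTriv_le_monomorphisms : genTriv A ≤ monomorphisms (CochainComplex A ℤ) := by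
  rintro _ _ _ ⟨Z⟩
  exact inferInstanceAs (Mono _)

instance : HasSmallObjectArgument.{v} (genTriv A) := by
  obtain ⟨κ, hκ', hκ⟩ := HasCardinalLT.exists_regular_cardinal.{v} (Subobject (KInjTriv.E A))
  have : Fact κ.IsRegular := ⟨hκ'⟩
  have : Nonempty κ.ord.ToType := by simpa using hκ'.ne_zero
  have := WellFoundedLT.toOrderBot κ.ord.ToType
  exact ⟨κ, inferInstance, inferInstance,
    { preservesColimit {K L X Y} i hi f hf := by
        let hf' : (monomorphisms (CochainComplex A ℤ)).TransfiniteCompositionOfShape
            κ.ord.ToType f :=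
          { toTransfiniteCompositionOfShape := hf.toTransfiniteCompositionOfShape
            map_mem j hj := by
              have := (hf.attachCells j hj).pushouts_coproducts
              simp only [ofHoms_homFamily] at this
              refine (?_ : _ ≤ monomorphisms (CochainComplex A ℤ)) _ this
              simp only [pushouts_le_iff, coproducts_le_iff]
              exact genTriv_le_monomorphisms }
        have (j j' : κ.ord.ToType) (φ : j ⟶ j') : Mono (hf'.F.map φ) := hf'.mem_map φ
        apply IsGrothendieckAbelian.preservesColimit_coyoneda_obj_of_mono (Y := hf'.F) (κ := κ)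
        obtain ⟨S⟩ := hi
        exact Subobject.hasCardinalLT_of_mono hκ S.1.arrow }⟩

open ZeroObject HomologicalComplex in
theorem exists_kInjective_resolution (M : CochainComplex A ℤ) :
    ∃ (I : CochainComplex A ℤ) (f : M ⟶ I), I.IsKInjective ∧ QuasiIso f ∧ (∀ n, Mono (f.f n)) ∧
      ∀ n, Injective (I.X n) := by
  let fac := (functorialFactorizationData (genTriv A).rlp.llp (genTriv A).rlp).factorizationData
    (0 : M ⟶ 0)
  have hp : (triv A).rlp fac.p := by rw [← genTriv_rlp]; exact fac.hp
  have hi : (triv A).rlp.llp fac.i := by rw [← genTriv_rlp]; exact fac.hi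
  have hext : ∀ (S : ShortComplex (CochainComplex A ℤ)), S.ShortExact → S.X₃.Acyclic →
      ∀ φ : S.X₁ ⟶ fac.Z, ∃ ψ : S.X₂ ⟶ fac.Z, S.f ≫ ψ = φ := by
    intro S hS h3 φ
    have := hS.mono_f
    have hq : QuasiIso S.f := CoconeSES.quasiIso_f_of_acyclic_X₃ hS h3
    have hl : HasLiftingProperty S.f fac.p := hp _ ⟨inferInstance, hq⟩
    have sq : CommSq φ S.f fac.p 0 := ⟨(isZero_zero _).eq_of_tgt _ _⟩
    exact ⟨sq.lift, sq.fac_left⟩
  have hmono : Mono fac.i := by
    have h1 : (genTriv A).rlp.llp ≤ (monomorphisms _).rlp.llp :=
      antitone_llp (antitone_rlp genTriv_le_monomorphisms)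
    rw [IsGrothendieckAbelian.llp_rlp_monomorphisms (isSeparator_separator _)] at h1
    exact h1 _ fac.hi
  have hacyc : (cokernel fac.i).Acyclic := by
    intro n
    apply exactAt_of_injective_test
    intro J _ c hc
    let ĉ : cokernel fac.i ⟶ (single A (ComplexShape.up ℤ) n).obj J :=
      mkHomToSingle c (fun i hi => by
        obtain rfl : i = n - 1 := by simp at hi; lia
        exact hc)
    let q := diskToSingle J n
    have hq : (triv A).rlp q := fun _ _ i hi => by
      obtain ⟨h1, h2⟩ := hi
      exact hasLiftingProperty_of_fibration i q (diskToSingle_fibration J n) n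
    have hl : HasLiftingProperty fac.i q := hi _ hq
    have sq : CommSq (0 : M ⟶ disk J n) fac.i q (cokernel.π fac.i ≫ ĉ) :=
      ⟨by rw [zero_comp, cokernel.condition_assoc, zero_comp]⟩
    let lb : cokernel fac.i ⟶ disk J n := cokernel.desc fac.i sq.lift sq.fac_left
    have hlb : lb ≫ q = ĉ := by
      rw [← cancel_epi (cokernel.π fac.i), cokernel.π_desc_assoc]
      exact sq.fac_right
    refine ⟨lb.f (n + 1) ≫ (diskX₁ J n).hom, ?_⟩
    have e1 := lb.comm n (n + 1)
    rw [disk_d] at e1
    have e2 : lb.f n ≫ q.f n = ĉ.f n := congr_arg (fun φ => φ.f n) hlb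
    have e3 : lb.f n ≫ (diskX₀ J n).hom = c := by
      rw [← cancel_mono (singleObjXSelf (ComplexShape.up ℤ) n J).inv, Category.assoc]
      have : q.f n = (diskX₀ J n).hom ≫ (singleObjXSelf (ComplexShape.up ℤ) n J).inv :=
        diskDesc_f₀ _
      rw [← this, e2]
      exact mkHomToSingle_f _ _
    rw [← Category.assoc, ← e1, Category.assoc, Category.assoc, Iso.inv_hom_id, Category.comp_id, e3]
  refine ⟨fac.Z, fac.i, isKInjective_of_extension _ hext,
    quasiIso_of_mono_of_acyclic_cokernel _ hacyc, fun n => inferInstance,
    fun n => injective_X_of_extension _ hext n⟩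

end Main

end Groth.Agent.Lib.Helper32.KInjRes
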