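import Mathlib
import Groth.Prelude.Def_CxOX
import Groth.Agent.S0484
import Groth.Agent.S0481
import Groth.Agent.Lib.Helper30.ExtZero
import Groth.Agent.Lib.Helper32.KInjDerived
import Groth.Agent.Lib.Helper32.KInjRes

/-!
# K-injective complexes of O_X-modules and restriction to opens (helper32)

* `hasKInjRes X`: every complex of `O_X`-modules has a K-injective resolution.
* `preservesFiniteLimits_extZero`: extension by zero along an open immersion `U.ι` is exact.
* `isKInjective_restrict`: restriction to an open subscheme preserves K-injective complexes.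
* `pushforwardRestrictIso`: `(f_* M)|_V ≅ (f|_V)_* (M|_{f⁻¹ V})` (copied from helper14's `ParaFCover`).
-/

set_option autoImplicit false
universe u
open CategoryTheory CategoryTheory.Limits AlgebraicGeometry TopologicalSpace Opposite

namespace Groth.Agent.Lib.Helper32.OpenKInj

noncomputable instance isGrothendieckAbelian_modules (X : Scheme.{u}) :
    IsGrothendieckAbelian.{u} X.Modules :=
  Groth.Agent.S0484.result (Opens.grothendieckTopology X) X.ringCatSheaf

theorem hasKInjRes (X : Scheme.{u}) :
    Groth.Agent.Lib.Helper32.KInjDerived.HasKInjRes X.Modules := by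
  intro K
  obtain ⟨I, f, h1, h2, _⟩ := Groth.Agent.Lib.Helper32.KInjRes.exists_kInjective_resolution K
  exact ⟨I, f, h1, h2⟩

theorem preservesFiniteLimits_extZero {X : Scheme.{u}} (U : X.Opens) :
    PreservesFiniteLimits (CxOX.extZero U.ι) := by
  have h1 : PreservesFiniteLimits (ModSite.extZero X.sheaf U) :=
    Groth.Agent.Lib.Helper30.ExtZero.pullback_preservesFiniteLimits (ModSite.ringSh X.sheaf) U
  have h0 : PreservesFiniteLimits (Scheme.Modules.overEquiv U).inverse := inferInstance
  have h2 : PreservesFiniteLimits
      ((Scheme.Modules.overEquiv U).inverse ⋙ ModSite.extZero X.sheaf U) :=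
    @comp_preservesFiniteLimits _ _ _ _ _ _ _ _ h0 h1
  exact @preservesFiniteLimits_of_natIso _ _ _ _ _ _ (CxOX.extZeroIsoSite U).symm h2

theorem isKInjective_restrict {X : Scheme.{u}} (U : X.Opens) (I : CochainComplex X.Modules ℤ)
    (hI : I.IsKInjective) :
    CochainComplex.IsKInjective
      (((Scheme.Modules.restrictFunctor U.ι).mapHomologicalComplex (ComplexShape.up ℤ)).obj I) := by
  have := preservesFiniteLimits_extZero U
  exact Groth.Agent.S0481.result (Scheme.Modules.restrictFunctor U.ι) (CxOX.extZero U.ι)
    (CxOX.extZeroAdj U.ι) I hI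

section BaseChange

open Scheme.Modules

variable {Z' Z : Scheme.{u}} (j : Z' ⟶ Z) (N : Z.Opens)

/-- the natural iso of functors on opens -/
noncomputable def opensIso :
    Opens.map (j ∣_ N).base ⋙ (j ⁻¹ᵁ N).ι.opensFunctor ≅
      N.ι.opensFunctor ⋙ Opens.map j.base :=
  NatIso.ofComponents (fun O => eqToIso (image_morphismRestrict_preimage j N O)) (fun _ => rfl)

set_option backward.isDefEq.respectTransparency.types false in
set_option backward.defeqAttrib.useBackward true in
/-- Direct image commutes with restriction to an open of the base. -/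
noncomputable def pushforwardRestrictIso :
    pushforward j ⋙ restrictFunctor N.ι ≅
      restrictFunctor (j ⁻¹ᵁ N).ι ⋙ pushforward (j ∣_ N) :=
  letI := CategoryTheory.Functor.isContinuous_comp.{u} N.ι.opensFunctor (Opens.map j.base)
    (Opens.grothendieckTopology (N : Scheme.{u})) (Opens.grothendieckTopology Z)
    (Opens.grothendieckTopology Z')
  letI := CategoryTheory.Functor.isContinuous_comp.{u} (Opens.map (j ∣_ N).base)
    (j ⁻¹ᵁ N).ι.opensFunctor
    (Opens.grothendieckTopology (N : Scheme.{u}))
    (Opens.grothendieckTopology ((j ⁻¹ᵁ N : Z'.Opens) : Scheme.{u}))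
    (Opens.grothendieckTopology Z')
  (SheafOfModules.pushforwardComp _ _) ≪≫
    SheafOfModules.pushforwardCongr₂ _ (opensIso j N) (by
      ext O x
      have key : (N.ι.appIso O.unop).inv ≫ j.app (N.ι ''ᵁ O.unop) ≫
          Z'.presheaf.map (eqToHom (image_morphismRestrict_preimage j N O.unop)).op =
          (j ∣_ N).app O.unop ≫ ((j ⁻¹ᵁ N).ι.appIso ((j ∣_ N) ⁻¹ᵁ O.unop)).inv := by
        rw [morphismRestrict_app, Scheme.Opens.ι_appIso, Scheme.Opens.ι_appIso]
        erw [Category.id_comp]
      exact congr($key x)) ≪≫
    (SheafOfModules.pushforwardComp _ _).symm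

end BaseChange

end Groth.Agent.Lib.Helper32.OpenKInj
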