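import Mathlib

/-!
# Coproducts in `D(A)` for `A` with exact coproducts (helper32)

`A` abelian, `J` a type with `HasColimitsOfShape (Discrete J) A` and
`HasExactColimitsOfShape (Discrete J) A` (AB4 for `J`).
* `sigmaCx X` : termwise coproduct of a family of complexes, `sigmaι`, `sigmaDesc`, `sigmaMap`.
* `quasiIso_sigmaMap` : a coproduct of quasi-isomorphisms is a quasi-isomorphism.
* `homotopy_zero_of_sigmaι_comp` : null-homotopies glue.
* `isColimitCofanQ` : `Q (sigmaCx X)` is the coproduct of the `Q (X j)` in `D(A)`.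
* `hasCoproductsOfShape_derivedCategory`, `hasCoproducts_derivedCategory`.
-/

set_option autoImplicit false

universe w w' v u
open CategoryTheory CategoryTheory.Limits CochainComplex HomComplex

namespace Groth.Agent.Lib.Helper32.DCoprod

section Sigma

variable {A : Type u} [Category.{v} A] [Abelian A] {J : Type w'}
  [HasColimitsOfShape (Discrete J) A]

/-- The termwise coproduct of a family of complexes. -/
noncomputable def sigmaCx (X : J → CochainComplex A ℤ) : CochainComplex A ℤ where
  X q := ∐ (fun j => (X j).X q)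
  d p q := Limits.Sigma.map (fun j => (X j).d p q)
  shape p q h := by
    apply Limits.Sigma.hom_ext
    intro j
    simp [(X j).shape p q h]
  d_comp_d' p q r _ _ := by
    apply Limits.Sigma.hom_ext
    intro j
    simp

variable (X : J → CochainComplex A ℤ)

/-- The inclusions. -/
noncomputable def sigmaι (j : J) : X j ⟶ sigmaCx X where
  f q := Limits.Sigma.ι (fun j => (X j).X q) j
  comm' p q _ := by simp [sigmaCx]

variable {X}

/-- The descent map. -/
noncomputable def sigmaDesc {W : CochainComplex A ℤ} (g : ∀ j, X j ⟶ W) : sigmaCx X ⟶ W where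
  f q := Limits.Sigma.desc (fun j => (g j).f q)
  comm' p q _ := by
    apply Limits.Sigma.hom_ext
    intro j
    simp [sigmaCx]

@[reassoc (attr := simp)]
lemma ι_sigmaDesc {W : CochainComplex A ℤ} (g : ∀ j, X j ⟶ W) (j : J) :
    sigmaι X j ≫ sigmaDesc g = g j := by
  ext q
  exact Limits.Sigma.ι_desc _ _

lemma sigma_hom_ext {W : CochainComplex A ℤ} (a b : sigmaCx X ⟶ W)
    (h : ∀ j, sigmaι X j ≫ a = sigmaι X j ≫ b) : a = b := by
  ext q
  apply Limits.Sigma.hom_ext
  intro j
  exact congrArg (fun t => t.f q) (h j)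

/-- Termwise descent. -/
noncomputable def descX {W : A} (q : ℤ) (g : ∀ j, (X j).X q ⟶ W) : (sigmaCx X).X q ⟶ W :=
  Limits.Sigma.desc g

@[reassoc (attr := simp)]
lemma ι_descX {W : A} (q : ℤ) (g : ∀ j, (X j).X q ⟶ W) (j : J) :
    (sigmaι X j).f q ≫ descX q g = g j :=
  Limits.Sigma.ι_desc _ _

lemma hom_ext_X {W : A} (q : ℤ) (a b : (sigmaCx X).X q ⟶ W)
    (h : ∀ j, (sigmaι X j).f q ≫ a = (sigmaι X j).f q ≫ b) : a = b :=
  Limits.Sigma.hom_ext _ _ h

/-- The map induced on coproducts. -/
noncomputable def sigmaMap {X' : J → CochainComplex A ℤ} (s : ∀ j, X' j ⟶ X j) :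
    sigmaCx X' ⟶ sigmaCx X :=
  sigmaDesc (fun j => s j ≫ sigmaι X j)

@[reassoc (attr := simp)]
lemma ι_sigmaMap {X' : J → CochainComplex A ℤ} (s : ∀ j, X' j ⟶ X j) (j : J) :
    sigmaι X' j ≫ sigmaMap s = s j ≫ sigmaι X j :=
  ι_sigmaDesc _ _

lemma cochain_ext_sigma {L : CochainComplex A ℤ} {m : ℤ}
    (z₁ z₂ : Cochain (sigmaCx X) L m)
    (h : ∀ j, (Cochain.ofHom (sigmaι X j)).comp z₁ (zero_add m) =
      (Cochain.ofHom (sigmaι X j)).comp z₂ (zero_add m)) : z₁ = z₂ := by
  ext p q hpq
  apply hom_ext_X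
  intro j
  have := Cochain.congr_v (h j) p q hpq
  simpa only [Cochain.zero_cochain_comp_v, Cochain.ofHom_v] using this

lemma homotopy_zero_of_sigmaι_comp {L : CochainComplex A ℤ} (w : sigmaCx X ⟶ L)
    (h : ∀ j, Nonempty (Homotopy (sigmaι X j ≫ w) 0)) : Nonempty (Homotopy w 0) := by
  have h' : ∀ j, ∃ z : Cochain (X j) L (-1), δ (-1) 0 z = Cochain.ofHom (sigmaι X j ≫ w) := by
    intro j
    obtain ⟨z, hz⟩ := Cochain.equivHomotopy _ _ (h j).some
    exact ⟨z, by simpa using hz.symm⟩
  choose hn hhn using h'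
  let H : Cochain (sigmaCx X) L (-1) :=
    Cochain.mk (fun p q hpq => descX p (fun j => (hn j).v p q hpq))
  have hH : ∀ j, (Cochain.ofHom (sigmaι X j)).comp H (zero_add _) = hn j := by
    intro j
    ext p q hpq
    simp only [Cochain.zero_cochain_comp_v, Cochain.ofHom_v, H, Cochain.mk_v, ι_descX]
  have hδ : δ (-1) 0 H = Cochain.ofHom w := by
    apply cochain_ext_sigma
    intro j
    rw [← δ_ofHom_comp, hH, hhn, ← Cochain.ofHom_comp]
  exact ⟨(Cochain.equivHomotopy w 0).symm ⟨H, by simp [hδ]⟩⟩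

lemma quotient_map_eq_of_sigmaι_comp {L : CochainComplex A ℤ} (u v : sigmaCx X ⟶ L)
    (h : ∀ j, (HomotopyCategory.quotient A (ComplexShape.up ℤ)).map (sigmaι X j ≫ u) =
      (HomotopyCategory.quotient A (ComplexShape.up ℤ)).map (sigmaι X j ≫ v)) :
    (HomotopyCategory.quotient A (ComplexShape.up ℤ)).map u =
      (HomotopyCategory.quotient A (ComplexShape.up ℤ)).map v := by
  have h0 : ∀ j, Nonempty (Homotopy (sigmaι X j ≫ (u - v)) 0) := by
    intro j
    have : (HomotopyCategory.quotient A (ComplexShape.up ℤ)).map (sigmaι X j ≫ (u - v)) =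
        (HomotopyCategory.quotient A (ComplexShape.up ℤ)).map 0 := by
      rw [Preadditive.comp_sub, Functor.map_sub, h j, sub_self, Functor.map_zero]
    exact ⟨HomotopyCategory.homotopyOfEq _ _ this⟩
  obtain ⟨H⟩ := homotopy_zero_of_sigmaι_comp (u - v) h0
  have := HomotopyCategory.eq_of_homotopy _ _ H
  rw [Functor.map_sub, Functor.map_zero, sub_eq_zero] at this
  exact this

end Sigma

section Exact

variable {A : Type u} [Category.{v} A] [Abelian A] {J : Type w'}

/-- A family of complexes as a complex in the functor category. -/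
def famCx (X : J → CochainComplex A ℤ) : CochainComplex (Discrete J ⥤ A) ℤ where
  X q := Discrete.functor (fun j => (X j).X q)
  d p q := Discrete.natTrans (fun j => (X j.as).d p q)
  shape p q h := by
    ext ⟨j⟩
    simp [(X j).shape p q h]
  d_comp_d' p q r _ _ := by
    ext ⟨j⟩
    simp

/-- A family of morphisms of complexes as a morphism in the functor category. -/
def famMap {X' X : J → CochainComplex A ℤ} (s : ∀ j, X' j ⟶ X j) : famCx X' ⟶ famCx X where
  f q := Discrete.natTrans (fun j => (s j.as).f q)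
  comm' p q _ := by
    ext ⟨j⟩
    simp [famCx]

lemma shortComplex_quasiIso_of_app {S₁ S₂ : ShortComplex (Discrete J ⥤ A)} (φ : S₁ ⟶ S₂)
    (h : ∀ j : J, ShortComplex.QuasiIso
      (((evaluation (Discrete J) A).obj ⟨j⟩).mapShortComplex.map φ)) :
    ShortComplex.QuasiIso φ := by
  rw [ShortComplex.quasiIso_iff]
  apply (config := { allowSynthFailures := true }) NatIso.isIso_of_isIso_app
  rintro ⟨j⟩
  have hj := h j
  rw [ShortComplex.quasiIso_iff] at hj
  have nat := ShortComplex.mapHomologyIso_hom_naturality φ ((evaluation (Discrete J) A).obj ⟨j⟩)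
  have h1 : IsIso ((S₁.mapHomologyIso ((evaluation (Discrete J) A).obj ⟨j⟩)).hom ≫
      ((evaluation (Discrete J) A).obj ⟨j⟩).map (ShortComplex.homologyMap φ)) := by
    rw [← nat]
    exact @IsIso.comp_isIso _ _ _ _ _ _ _ hj inferInstance
  exact IsIso.of_isIso_comp_left (S₁.mapHomologyIso ((evaluation (Discrete J) A).obj ⟨j⟩)).hom
    (((evaluation (Discrete J) A).obj ⟨j⟩).map (ShortComplex.homologyMap φ))

lemma quasiIso_famMap {X' X : J → CochainComplex A ℤ} (s : ∀ j, X' j ⟶ X j)
    [∀ j, QuasiIso (s j)] : QuasiIso (famMap s) := by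
  rw [quasiIso_iff]
  intro q
  rw [quasiIsoAt_iff]
  apply shortComplex_quasiIso_of_app
  intro j
  have hq : QuasiIsoAt (s j) q := inferInstance
  rw [quasiIsoAt_iff] at hq
  exact hq

section

variable [HasColimitsOfShape (Discrete J) A] [HasExactColimitsOfShape (Discrete J) A]

attribute [local instance] preservesBinaryBiproducts_of_preservesBinaryCoproducts in
instance additive_colim : (colim (J := Discrete J) (C := A)).Additive :=
  Functor.additive_of_preservesBinaryBiproducts _

lemma sigmaMap_eq {X' X : J → CochainComplex A ℤ} (s : ∀ j, X' j ⟶ X j) :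
    sigmaMap s = ((colim (J := Discrete J) (C := A)).mapHomologicalComplex
      (ComplexShape.up ℤ)).map (famMap s) := by
  ext q
  apply Limits.Sigma.hom_ext
  intro j
  have h1 : (sigmaι X' j).f q ≫ (sigmaMap s).f q = (s j).f q ≫ (sigmaι X j).f q := by
    rw [← HomologicalComplex.comp_f, ι_sigmaMap, HomologicalComplex.comp_f]
  refine h1.trans ?_
  exact (ι_colimMap (Discrete.natTrans (fun j => (s j.as).f q) :
    Discrete.functor (fun j => (X' j).X q) ⟶ Discrete.functor (fun j => (X j).X q)) ⟨j⟩).symm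

/-- A coproduct of quasi-isomorphisms is a quasi-isomorphism (AB4). -/
lemma quasiIso_sigmaMap {X' X : J → CochainComplex A ℤ} (s : ∀ j, X' j ⟶ X j)
    [∀ j, QuasiIso (s j)] : QuasiIso (sigmaMap s) := by
  have := quasiIso_famMap s
  rw [sigmaMap_eq]
  haveI : (colim (J := Discrete J) (C := A)).IsLeftAdjoint := ⟨_, ⟨colimConstAdj⟩⟩
  haveI : PreservesFiniteColimits (colim (J := Discrete J) (C := A)) := inferInstance
  haveI : PreservesFiniteLimits (colim (J := Discrete J) (C := A)) := inferInstance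
  haveI : (colim (J := Discrete J) (C := A)).PreservesHomology := inferInstance
  exact HomologicalComplex.quasiIso_map_of_preservesHomology (famMap s)
    (colim (J := Discrete J) (C := A))

end

end Exact

section Derived

variable {A : Type u} [Category.{v} A] [Abelian A] [HasDerivedCategory.{w} A]

open DerivedCategory

/-- If `Q.map f = 0` then `f` becomes null-homotopic after precomposition with a
quasi-isomorphism. -/
lemma exists_quasiIso_comp_homotopy_zero {K L : CochainComplex A ℤ} (f : K ⟶ L)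
    (hf : Q.map f = 0) :
    ∃ (K' : CochainComplex A ℤ) (s : K' ⟶ K), QuasiIso s ∧ Nonempty (Homotopy (s ≫ f) 0) := by
  have h1 : Qh.map ((HomotopyCategory.quotient A (ComplexShape.up ℤ)).map f) =
      Qh.map (0 : (HomotopyCategory.quotient A (ComplexShape.up ℤ)).obj K ⟶ _) := by
    rw [Functor.map_zero]
    have := (quotientCompQhIso A).hom.naturality f
    dsimp at this
    rw [← cancel_mono ((quotientCompQhIso A).hom.app L), this, hf, comp_zero, zero_comp]
  rw [MorphismProperty.map_eq_iff_precomp Qh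
    (HomotopyCategory.quasiIso A (ComplexShape.up ℤ))] at h1
  obtain ⟨Z, s, hs, fac⟩ := h1
  obtain ⟨K', rfl⟩ := HomotopyCategory.quotient_obj_surjective Z
  obtain ⟨s, rfl⟩ := (HomotopyCategory.quotient _ _).map_surjective s
  rw [HomotopyCategory.quotient_map_mem_quasiIso_iff] at hs
  refine ⟨K', s, hs, ⟨HomotopyCategory.homotopyOfEq _ _ ?_⟩⟩
  rw [Functor.map_comp, fac, comp_zero, Functor.map_zero]

variable {J : Type w'} [HasColimitsOfShape (Discrete J) A]
  [HasExactColimitsOfShape (Discrete J) A]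

lemma exists_desc (X : J → CochainComplex A ℤ) (Y : CochainComplex A ℤ)
    (φ : ∀ j, Q.obj (X j) ⟶ Q.obj Y) :
    ∃ ψ : Q.obj (sigmaCx X) ⟶ Q.obj Y, ∀ j, Q.map (sigmaι X j) ≫ ψ = φ j := by
  choose X' s hs g hg using fun j => right_fac (φ j)
  haveI : ∀ j, QuasiIso (s j) := fun j => (isIso_Q_map_iff_quasiIso A _).1 (hs j)
  haveI : IsIso (Q.map (sigmaMap s)) := (isIso_Q_map_iff_quasiIso A _).2 (quasiIso_sigmaMap s)
  refine ⟨inv (Q.map (sigmaMap s)) ≫ Q.map (sigmaDesc g), fun j => ?_⟩
  haveI := hs j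
  rw [hg j, ← cancel_epi (Q.map (s j)), IsIso.hom_inv_id_assoc, ← Functor.map_comp_assoc,
    ← ι_sigmaMap, Functor.map_comp_assoc, IsIso.hom_inv_id_assoc, ← Functor.map_comp,
    ι_sigmaDesc]

lemma eq_zero_of_ι_comp (X : J → CochainComplex A ℤ) (Y : CochainComplex A ℤ)
    (χ : Q.obj (sigmaCx X) ⟶ Q.obj Y) (h : ∀ j, Q.map (sigmaι X j) ≫ χ = 0) : χ = 0 := by
  obtain ⟨Y', g, t, ht, rfl⟩ := left_fac χ
  have h0 : ∀ j, Q.map (sigmaι X j ≫ g) = 0 := by
    intro j
    have := h j
    rw [← Category.assoc, ← Functor.map_comp] at this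
    rw [← cancel_mono (inv (Q.map t)), this, zero_comp]
  choose X' s hs hh using fun j => exists_quasiIso_comp_homotopy_zero _ (h0 j)
  haveI : ∀ j, QuasiIso (s j) := hs
  haveI : IsIso (Q.map (sigmaMap s)) := (isIso_Q_map_iff_quasiIso A _).2 (quasiIso_sigmaMap s)
  have h1 : Nonempty (Homotopy (sigmaMap s ≫ g) 0) := by
    apply homotopy_zero_of_sigmaι_comp
    intro j
    rw [ι_sigmaMap_assoc]
    exact hh j
  have h2 : Q.map (sigmaMap s ≫ g) = 0 := by
    rw [Q_map_eq_of_homotopy A h1.some, Functor.map_zero]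
  rw [Functor.map_comp] at h2
  have h3 : Q.map g = 0 := by
    rw [← cancel_epi (Q.map (sigmaMap s)), h2, comp_zero]
  rw [h3, zero_comp]

/-- The coproduct cofan in `D(A)`. -/
noncomputable def cofanQ (X : J → CochainComplex A ℤ) : Cofan (fun j => Q.obj (X j)) :=
  Cofan.mk (Q.obj (sigmaCx X)) (fun j => Q.map (sigmaι X j))

lemma existsUnique_desc (X : J → CochainComplex A ℤ) (T : DerivedCategory A)
    (φ : ∀ j, Q.obj (X j) ⟶ T) :
    ∃! ψ : Q.obj (sigmaCx X) ⟶ T, ∀ j, Q.map (sigmaι X j) ≫ ψ = φ j := by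
  obtain ⟨Y, ⟨e⟩⟩ : ∃ Y : CochainComplex A ℤ, Nonempty (Q.obj Y ≅ T) :=
    ⟨_, ⟨Q.objObjPreimageIso T⟩⟩
  obtain ⟨ψ, hψ⟩ := exists_desc X Y (fun j => φ j ≫ e.inv)
  refine ⟨ψ ≫ e.hom, fun j => ?_, fun m hm => ?_⟩
  · rw [← Category.assoc, hψ, Category.assoc, Iso.inv_hom_id, Category.comp_id]
  · have h0 : (m - ψ ≫ e.hom) ≫ e.inv = 0 := by
      apply eq_zero_of_ι_comp X Y
      intro j
      rw [Preadditive.sub_comp, Preadditive.comp_sub, ← Category.assoc, hm, Category.assoc,
        Iso.hom_inv_id, Category.comp_id, hψ, sub_self]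
    have h1 : m - ψ ≫ e.hom = 0 := by
      rw [← cancel_mono e.inv, h0, zero_comp]
    exact sub_eq_zero.1 h1

/-- `Q (∐ X)` is the coproduct of the `Q (X j)` in `D(A)`. -/
noncomputable def isColimitCofanQ (X : J → CochainComplex A ℤ) : IsColimit (cofanQ X) :=
  Cofan.IsColimit.mk _ (fun s => (existsUnique_desc X s.pt s.inj).choose)
    (fun s j => (existsUnique_desc X s.pt s.inj).choose_spec.1 j)
    (fun s m hm => (existsUnique_desc X s.pt s.inj).choose_spec.2 m hm)

theorem hasCoproduct_derivedCategory (K : J → DerivedCategory A) : HasCoproduct K := by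
  have : HasColimit (Discrete.functor (fun j => Q.obj (Q.objPreimage (K j)))) :=
    ⟨⟨_, isColimitCofanQ (fun j => Q.objPreimage (K j))⟩⟩
  exact hasColimit_of_iso (G := Discrete.functor K)
    (F := Discrete.functor (fun j => Q.obj (Q.objPreimage (K j))))
    (Discrete.natIso (fun ⟨j⟩ => (Q.objObjPreimageIso (K j)).symm))

theorem hasCoproductsOfShape_derivedCategory : HasCoproductsOfShape J (DerivedCategory A) := by
  constructor
  intro F
  have : HasColimit (Discrete.functor (F.obj ∘ Discrete.mk)) :=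
    hasCoproduct_derivedCategory (fun j => F.obj ⟨j⟩)
  exact hasColimit_of_iso (Discrete.natIsoFunctor (F := F))

end Derived

end Groth.Agent.Lib.Helper32.DCoprod
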