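import Mathlib.Algebra.Homology.DerivedCategory.RightDerivedFunctorPlus
import Mathlib.Algebra.Homology.DerivedCategory.HomologySequence

/-! Tools around `Functor.rightDerivedFunctorPlus` (helper32):
* `RDPlus.isIso_unit_app_iff`: the unit at a bounded below complex `K` is an iso iff `F` preserves
  a quasi-isomorphism from `K` to a bounded below complex of injectives;
* `Adapted.acyclic_map`: `F` preserves acyclicity of bounded below acyclic complexes with terms in an
  adapted class;
* `ConeAcyclic.quasiIso_iff_acyclic_mappingCone`;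
* `Retract.quasiIso_map_of_comp`. -/

set_option autoImplicit false
universe w w' v v' u u'
open CategoryTheory CategoryTheory.Limits

namespace Groth.Agent.Lib.Helper32.RDPlus

variable {A : Type u} [Category.{v} A] [Abelian A] [HasDerivedCategory.{w} A] [EnoughInjectives A]
    {B : Type u'} [Category.{v'} B] [Abelian B] [HasDerivedCategory.{w'} B]
    (F : A ⥤ B) [F.Additive]

/-- `IsIso (Qh.map g)` in `D⁺` iff `g` is a quasi-isomorphism. -/
lemma isIso_plusQh_map_iff {X Y : HomotopyCategory.Plus B} (g : X ⟶ Y) :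
    IsIso (DerivedCategory.Plus.Qh.map g) ↔ HomotopyCategory.Plus.quasiIso B g := by
  rw [HomotopyCategory.Plus.quasiIso_iff, ← DerivedCategory.isIso_Qh_map_iff,
    ← isIso_iff_of_reflects_iso _ (DerivedCategory.Plus.ι (C := B))]
  rfl

/-- The unit of `R⁺F` at a bounded below complex `K` is an isomorphism iff `F` preserves
the quasi-isomorphism from `K` to a bounded below complex of injectives. -/
theorem isIso_unit_app_iff (K L : CochainComplex.Plus A) [∀ n, Injective (L.obj.X n)]
    (i : K ⟶ L) [hi : QuasiIso i.hom] :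
    IsIso (F.rightDerivedFunctorPlusUnit.app ((HomotopyCategory.Plus.quotient A).obj K)) ↔
      QuasiIso ((F.mapHomologicalComplex (ComplexShape.up ℤ)).map i.hom) := by
  let η := F.rightDerivedFunctorPlusUnit
  let qi := (HomotopyCategory.Plus.quotient A).map i
  have hnat := η.naturality qi
  have h1 : IsIso (η.app ((HomotopyCategory.Plus.quotient A).obj L)) := inferInstance
  have h2 : IsIso (DerivedCategory.Plus.Qh.map qi) := by
    rw [isIso_plusQh_map_iff, HomotopyCategory.Plus.quasiIso_iff]
    change HomotopyCategory.quasiIso A _ ((HomotopyCategory.quotient A _).map i.hom)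
    rw [HomotopyCategory.quotient_map_mem_quasiIso_iff]
    exact hi
  have h3 : IsIso ((DerivedCategory.Plus.Qh ⋙ F.rightDerivedFunctorPlus).map qi) := by
    dsimp only [Functor.comp_map]
    infer_instance
  have h4 : IsIso (η.app ((HomotopyCategory.Plus.quotient A).obj K)) ↔
      IsIso ((F.mapHomotopyCategoryPlus ⋙ DerivedCategory.Plus.Qh).map qi) := by
    constructor
    · intro h
      have : IsIso ((F.mapHomotopyCategoryPlus ⋙ DerivedCategory.Plus.Qh).map qi ≫
          η.app ((HomotopyCategory.Plus.quotient A).obj L)) := by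
        rw [hnat]; infer_instance
      exact IsIso.of_isIso_comp_right _ (η.app ((HomotopyCategory.Plus.quotient A).obj L))
    · intro h
      have : IsIso (η.app ((HomotopyCategory.Plus.quotient A).obj K) ≫
          (DerivedCategory.Plus.Qh ⋙ F.rightDerivedFunctorPlus).map qi) := by
        rw [← hnat]; infer_instance
      exact IsIso.of_isIso_comp_right _ ((DerivedCategory.Plus.Qh ⋙ F.rightDerivedFunctorPlus).map qi)
  rw [h4]
  dsimp only [Functor.comp_map]
  rw [isIso_plusQh_map_iff, HomotopyCategory.Plus.quasiIso_iff]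
  change HomotopyCategory.quasiIso B _ ((HomotopyCategory.quotient B _).map
    ((F.mapHomologicalComplex (ComplexShape.up ℤ)).map i.hom)) ↔ _
  rw [HomotopyCategory.quotient_map_mem_quasiIso_iff]
  rfl

end Groth.Agent.Lib.Helper32.RDPlus

namespace Groth.Agent.Lib.Helper32.Adapted

variable {A : Type u} [Category.{v} A] [Abelian A]
    {B : Type u'} [Category.{v'} B] [Abelian B]

section
variable (N : CochainComplex A ℤ)

/-- the canonical map `N^i ⟶ ker (d^j)` -/
noncomputable def pc (i j k : ℤ) : N.X i ⟶ kernel (N.d j k) :=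
  kernel.lift _ (N.d i j) (N.d_comp_d i j k)

@[reassoc (attr := simp)]
lemma pc_ι (i j k : ℤ) : pc N i j k ≫ kernel.ι (N.d j k) = N.d i j := kernel.lift_ι _ _ _

@[reassoc (attr := simp)]
lemma ι_pc (i j k : ℤ) : kernel.ι (N.d i j) ≫ pc N i j k = 0 := by
  rw [← cancel_mono (kernel.ι (N.d j k)), Category.assoc, pc_ι, kernel.condition, zero_comp]

@[reassoc (attr := simp)]
lemma d_pc (i j k l : ℤ) : N.d i j ≫ pc N j k l = 0 := by
  rw [← cancel_mono (kernel.ι (N.d k l)), Category.assoc, pc_ι, N.d_comp_d, zero_comp]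

/-- the short complex `ker d^i ⟶ N^i ⟶ ker d^j` -/
noncomputable abbrev sesc (i j k : ℤ) : ShortComplex A :=
  ShortComplex.mk (kernel.ι (N.d i j)) (pc N i j k) (ι_pc N i j k)

lemma sesc_shortExact (i j k : ℤ) (hex : (N.sc' i j k).Exact) : (sesc N i j k).ShortExact := by
  have hepi : Epi (pc N i j k) := (ShortComplex.exact_iff_epi_kernel_lift _).1 hex
  refine { exact := ?_, mono_f := (inferInstance : Mono (kernel.ι (N.d i j))), epi_g := hepi }
  refine ShortComplex.exact_of_f_is_kernel _ ?_
  have key : ∀ {W : A} (g : W ⟶ N.X i), g ≫ pc N i j k = 0 → g ≫ N.d i j = 0 := by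
    intro W g hg
    rw [← pc_ι N i j k, reassoc_of% hg, zero_comp]
  refine KernelFork.IsLimit.ofι _ _ (fun {W} g hg => kernel.lift _ g (key g hg)) ?_ ?_
  · intro W g hg
    exact kernel.lift_ι _ _ _
  · intro W g hg m hm
    rw [← cancel_mono (kernel.ι (N.d i j))]
    exact hm.trans (kernel.lift_ι _ _ _).symm
end

variable (F : A ⥤ B) [F.Additive] (I : ObjectProperty A)
    (h2 : ∀ S : ShortComplex A, S.ShortExact → I S.X₁ → I S.X₂ → I S.X₃ ∧ (S.map F).ShortExact)

include h2 in
lemma prop_kernel (N : CochainComplex A ℤ) (a : ℤ) [N.IsStrictlyGE a] (hN : N.Acyclic)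
    (hI : ∀ k, I (N.X k)) (hZ : ∀ Z : A, IsZero Z → I Z) (i j : ℤ) (hij : i + 1 = j) :
    I (kernel (N.d i j)) := by
  subst hij
  have hex (n : ℤ) : (N.sc' n (n + 1) (n + 1 + 1)).Exact :=
    (N.exactAt_iff' n (n + 1) (n + 1 + 1) (by simp) (by simp)).1 (hN (n + 1))
  have main : ∀ i : ℤ, a - 1 ≤ i → I (kernel (N.d i (i + 1))) := by
    intro i hai
    induction i, hai using Int.leInduction with
    | base =>
      exact hZ _ (IsZero.of_mono (kernel.ι _) (N.isZero_of_isStrictlyGE a (a - 1) (by lia)))
    | succ n hn ih =>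
      exact (h2 _ (sesc_shortExact N n (n + 1) (n + 1 + 1) (hex n)) ih (hI n)).1
  by_cases hi : i < a
  · exact hZ _ (IsZero.of_mono (kernel.ι _) (N.isZero_of_isStrictlyGE a i hi))
  · exact main i (by lia)

include h2 in
/-- `F` preserves acyclicity of bounded below acyclic complexes with terms in an adapted class. -/
theorem acyclic_map (N : CochainComplex A ℤ) (a : ℤ) [N.IsStrictlyGE a] (hN : N.Acyclic)
    (hI : ∀ k, I (N.X k)) (hZ : ∀ Z : A, IsZero Z → I Z) :
    ((F.mapHomologicalComplex (ComplexShape.up ℤ)).obj N).Acyclic := by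
  intro j
  have hex (i j k : ℤ) (hij : i + 1 = j) (hjk : j + 1 = k) : (N.sc' i j k).Exact :=
    (N.exactAt_iff' i j k (by simp; lia) (by simp; lia)).1 (hN j)
  have hses (i j k : ℤ) (hij : i + 1 = j) (hjk : j + 1 = k) : ((sesc N i j k).map F).ShortExact :=
    (h2 _ (sesc_shortExact N i j k (hex i j k hij hjk))
      (prop_kernel F I h2 N a hN hI hZ i j hij) (hI i)).2
  rw [HomologicalComplex.exactAt_iff' _ (j - 1) j (j + 1) (by simp) (by simp)]
  generalize hi' : j - 1 = i
  have hi : i + 1 = j := by lia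
  generalize hk : j + 1 = k
  generalize hl : k + 1 = l
  generalize hm : l + 1 = m
  have h1 := hses i j k hi hk
  have h2' := hses j k l hk hl
  have h3 := hses k l m hl hm
  have hepi : Epi (F.map (pc N i j k)) := h1.epi_g
  have hmono : Mono (F.map (kernel.ι (N.d k l))) := h3.mono_f
  let T : ShortComplex B := ShortComplex.mk (F.map (N.d i j)) (F.map (N.d j k))
    (by rw [← F.map_comp, N.d_comp_d, F.map_zero])
  let T' : ShortComplex B := ShortComplex.mk (F.map (N.d i j)) (F.map (pc N j k l))
    (by rw [← F.map_comp, d_pc, F.map_zero])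
  let U : ShortComplex B := (sesc N j k l).map F
  let φ₁ : T' ⟶ U :=
    { τ₁ := F.map (pc N i j k)
      τ₂ := 𝟙 _
      τ₃ := 𝟙 _
      comm₁₂ := by
        change F.map (pc N i j k) ≫ F.map (kernel.ι (N.d j k)) = F.map (N.d i j) ≫ 𝟙 _
        rw [← F.map_comp, pc_ι, Category.comp_id]
      comm₂₃ := by
        change 𝟙 _ ≫ F.map (pc N j k l) = F.map (pc N j k l) ≫ 𝟙 _
        rw [Category.comp_id, Category.id_comp] }
  let φ₂ : T' ⟶ T :=
    { τ₁ := 𝟙 _
      τ₂ := 𝟙 _
      τ₃ := F.map (kernel.ι (N.d k l))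
      comm₁₂ := by
        change 𝟙 _ ≫ F.map (N.d i j) = F.map (N.d i j) ≫ 𝟙 _
        rw [Category.comp_id, Category.id_comp]
      comm₂₃ := by
        change 𝟙 _ ≫ F.map (N.d j k) = F.map (pc N j k l) ≫ F.map (kernel.ι (N.d k l))
        rw [← F.map_comp, pc_ι, Category.id_comp] }
  have hU : U.Exact := h2'.exact
  have hT' : T'.Exact := by
    haveI : Epi φ₁.τ₁ := hepi
    haveI : IsIso φ₁.τ₂ := (inferInstance : IsIso (𝟙 _))
    haveI : Mono φ₁.τ₃ := (inferInstance : Mono (𝟙 _))
    exact (ShortComplex.exact_iff_of_epi_of_isIso_of_mono φ₁).2 hU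
  have hT : T.Exact := by
    haveI : Epi φ₂.τ₁ := (inferInstance : Epi (𝟙 _))
    haveI : IsIso φ₂.τ₂ := (inferInstance : IsIso (𝟙 _))
    haveI : Mono φ₂.τ₃ := hmono
    exact (ShortComplex.exact_iff_of_epi_of_isIso_of_mono φ₂).1 hT'
  exact hT

end Groth.Agent.Lib.Helper32.Adapted

namespace Groth.Agent.Lib.Helper32.ConeAcyclic

variable {A : Type u} [Category.{v} A] [Abelian A]
    {B : Type u'} [Category.{v'} B] [Abelian B]

open CochainComplex

lemma quasiIso_iff_acyclic_mappingCone {K L : CochainComplex A ℤ} (g : K ⟶ L) :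
    QuasiIso g ↔ (mappingCone g).Acyclic := by
  have h := (HomotopyCategory.subcategoryAcyclic A).trW_iff_of_distinguished _
    (HomotopyCategory.mappingCone_triangleh_distinguished g)
  rw [← HomotopyCategory.quasiIso_eq_trW_subcategoryAcyclic] at h
  have h' : HomotopyCategory.quasiIso A (ComplexShape.up ℤ)
      ((HomotopyCategory.quotient A (ComplexShape.up ℤ)).map g) ↔
      HomotopyCategory.subcategoryAcyclic A
        ((HomotopyCategory.quotient A (ComplexShape.up ℤ)).obj (mappingCone g)) := h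
  rw [HomotopyCategory.quotient_map_mem_quasiIso_iff,
    HomotopyCategory.quotient_obj_mem_subcategoryAcyclic_iff_acyclic] at h'
  exact h'

lemma quasiIso_map_iff_acyclic_map_mappingCone (F : A ⥤ B) [F.Additive]
    {K L : CochainComplex A ℤ} (g : K ⟶ L) :
    QuasiIso ((F.mapHomologicalComplex (ComplexShape.up ℤ)).map g) ↔
      ((F.mapHomologicalComplex (ComplexShape.up ℤ)).obj (mappingCone g)).Acyclic := by
  rw [quasiIso_iff_acyclic_mappingCone]
  have e := mappingCone.mapHomologicalComplexIso g F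
  constructor
  · intro h j
    exact (h j).of_iso e.symm
  · intro h j
    exact (h j).of_iso e

end Groth.Agent.Lib.Helper32.ConeAcyclic

namespace Groth.Agent.Lib.Helper32.Retract

variable {A : Type u} [Category.{v} A] [Abelian A] [HasDerivedCategory.{w} A]
    {B : Type u'} [Category.{v'} B] [Abelian B] [HasDerivedCategory.{w'} B]

lemma quasiIso_iff_isIso_Qh_quotient_map {K L : CochainComplex B ℤ} (f : K ⟶ L) :
    QuasiIso f ↔ IsIso (DerivedCategory.Qh.map ((HomotopyCategory.quotient B (ComplexShape.up ℤ)).map f)) := by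
  rw [DerivedCategory.isIso_Qh_map_iff, HomotopyCategory.quotient_map_mem_quasiIso_iff]
  rfl

/-- a quasi-isomorphism out of a K-injective complex has a retraction in the homotopy category -/
lemma exists_retraction {L J : CochainComplex A ℤ} [L.IsKInjective] (j : L ⟶ J) [hj : QuasiIso j] :
    ∃ r : (HomotopyCategory.quotient A (ComplexShape.up ℤ)).obj J ⟶
      (HomotopyCategory.quotient A (ComplexShape.up ℤ)).obj L,
      (HomotopyCategory.quotient A (ComplexShape.up ℤ)).map j ≫ r = 𝟙 _ := by
  have h1 : IsIso (DerivedCategory.Qh.map ((HomotopyCategory.quotient A (ComplexShape.up ℤ)).map j)) :=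
    (quasiIso_iff_isIso_Qh_quotient_map j).1 hj
  obtain ⟨r, hr⟩ := (CochainComplex.IsKInjective.Qh_map_bijective
    ((HomotopyCategory.quotient A (ComplexShape.up ℤ)).obj J) L).surjective
    (inv (DerivedCategory.Qh.map ((HomotopyCategory.quotient A (ComplexShape.up ℤ)).map j)))
  refine ⟨r, (CochainComplex.IsKInjective.Qh_map_bijective _ L).injective ?_⟩
  rw [Functor.map_comp, hr, IsIso.hom_inv_id, CategoryTheory.Functor.map_id]

lemma quasiIso_map_of_comp (F : A ⥤ B) [F.Additive] {K L J : CochainComplex A ℤ} [L.IsKInjective]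
    (i : K ⟶ L) (j : L ⟶ J) [QuasiIso j]
    (h : QuasiIso ((F.mapHomologicalComplex (ComplexShape.up ℤ)).map (i ≫ j))) :
    QuasiIso ((F.mapHomologicalComplex (ComplexShape.up ℤ)).map i) := by
  obtain ⟨r, hr⟩ := exists_retraction j
  rw [quasiIso_iff_isIso_Qh_quotient_map] at h ⊢
  let G := F.mapHomotopyCategory (ComplexShape.up ℤ) ⋙ DerivedCategory.Qh
  let q := HomotopyCategory.quotient A (ComplexShape.up ℤ)
  have h' : IsIso (G.map (q.map i) ≫ G.map (q.map j)) := by
    rw [← G.map_comp, ← q.map_comp]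
    exact h
  have hb : G.map (q.map j) ≫ G.map r = 𝟙 _ := by
    rw [← G.map_comp, hr, G.map_id]
  -- b := G.map (q.map j) is a split mono and (a ≫ b) is an iso, so b is an iso
  have hb' : IsIso (G.map (q.map j)) := by
    refine ⟨G.map r, hb, ?_⟩
    have h2 : inv (G.map (q.map i) ≫ G.map (q.map j)) ≫ G.map (q.map i) ≫ G.map (q.map j) = 𝟙 _ :=
      IsIso.inv_hom_id _
    calc G.map r ≫ G.map (q.map j)
        = (inv (G.map (q.map i) ≫ G.map (q.map j)) ≫ G.map (q.map i) ≫ G.map (q.map j)) ≫
            G.map r ≫ G.map (q.map j) := by rw [h2, Category.id_comp]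
      _ = inv (G.map (q.map i) ≫ G.map (q.map j)) ≫ G.map (q.map i) ≫
            (G.map (q.map j) ≫ G.map r) ≫ G.map (q.map j) := by simp only [Category.assoc]
      _ = 𝟙 _ := by rw [hb, Category.id_comp, h2]
  exact IsIso.of_isIso_comp_right (G.map (q.map i)) (G.map (q.map j))

end Groth.Agent.Lib.Helper32.Retract
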