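import Mathlib
import Groth.Agent.Lib.Helper32.KInjDerived

/-!
# Way-out arguments for natural transformations between triangulated functors (helper32)
-/

set_option autoImplicit false

universe w₁ w₂ v₁ v₂ u₁ u₂
open CategoryTheory CategoryTheory.Limits CategoryTheory.Pretriangulated

namespace Groth.Agent.Lib.Helper32.WayOut

open DerivedCategory

section General

variable {A : Type u₁} [Category.{v₁} A] [Abelian A] [HasDerivedCategory.{w₁} A]
  {B : Type u₂} [Category.{v₂} B] [Abelian B] [HasDerivedCategory.{w₂} B]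
  (T₁ T₂ : DerivedCategory A ⥤ DerivedCategory B) [T₁.CommShift ℤ] [T₂.CommShift ℤ]
  [T₁.IsTriangulated] [T₂.IsTriangulated] (η : T₁ ⟶ T₂) [NatTrans.CommShift η ℤ]

set_option backward.defeqAttrib.useBackward true in
/-- The morphism of triangles induced by a natural transformation commuting with shifts. -/
noncomputable def triHom (Δ : Triangle (DerivedCategory A)) : T₁.mapTriangle.obj Δ ⟶ T₂.mapTriangle.obj Δ :=
  Triangle.homMk _ _ (η.app _) (η.app _) (η.app _) (by simp) (by simp) (by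
    dsimp
    simp only [Category.assoc, NatTrans.shift_app_comm η (1 : ℤ) Δ.obj₁,
      NatTrans.naturality_assoc])

include η in
lemma isIso₂ (Δ : Triangle (DerivedCategory A)) (hΔ : Δ ∈ distTriang _)
    (h₁ : IsIso (η.app Δ.obj₁)) (h₃ : IsIso (η.app Δ.obj₃)) : IsIso (η.app Δ.obj₂) :=
  isIso₂_of_isIso₁₃ (triHom T₁ T₂ η Δ) (T₁.map_distinguished _ hΔ) (T₂.map_distinguished _ hΔ)
    h₁ h₃

omit [T₁.CommShift ℤ] [T₂.CommShift ℤ] [T₁.IsTriangulated] [T₂.IsTriangulated]
  [NatTrans.CommShift η ℤ] in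
lemma isIso_of_iso {X Y : DerivedCategory A} (e : X ≅ Y) (h : IsIso (η.app X)) :
    IsIso (η.app Y) := by
  have : η.app Y = T₁.map e.inv ≫ η.app X ≫ T₂.map e.hom := by
    rw [← η.naturality, ← T₁.map_comp_assoc, e.inv_hom_id, T₁.map_id, Category.id_comp]
  rw [this]
  infer_instance

lemma isIso_of_isZero {X : DerivedCategory A} (hX : IsZero X) : IsIso (η.app X) :=
  ⟨⟨0, (T₁.map_isZero hX).eq_of_src _ _, (T₂.map_isZero hX).eq_of_src _ _⟩⟩

lemma isIso_shift (X : DerivedCategory A) (n : ℤ) (h : IsIso (η.app X)) :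
    IsIso (η.app (X⟦n⟧)) := by
  have h1 := NatTrans.shift_app_comm η n X
  have : η.app (X⟦n⟧) = (T₁.commShiftIso n).hom.app X ≫ (η.app X)⟦n⟧' ≫
      (T₂.commShiftIso n).inv.app X := by
    rw [← Category.assoc, h1, Category.assoc, Iso.hom_inv_id_app]
    exact (Category.comp_id _).symm
  rw [this]
  infer_instance

lemma isIso_single (M : A) (q : ℤ) (h : IsIso (η.app ((singleFunctor A 0).obj M))) :
    IsIso (η.app ((singleFunctor A q).obj M)) :=
  isIso_of_iso T₁ T₂ η (((singleFunctors A).shiftIso (-q) q 0 (by omega)).app M)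
    (isIso_shift T₁ T₂ η _ (-q) h)

end General


section Homology

variable {A : Type u₁} [Category.{v₁} A] [Abelian A] [HasDerivedCategory.{w₁} A]

lemma isIso_homologyMap_mor₁ (Δ : Triangle (DerivedCategory A)) (hΔ : Δ ∈ distTriang _)
    (b q : ℤ) (hq : q < b) (h₃ : Δ.obj₃.IsGE b) :
    IsIso ((homologyFunctor A q).map Δ.mor₁) := by
  haveI : Mono ((homologyFunctor A q).map Δ.mor₁) :=
    (HomologySequence.mono_homologyMap_mor₁_iff Δ hΔ (q - 1) q (by omega)).2
      (IsZero.eq_of_src (isZero_of_isGE Δ.obj₃ b (q - 1) (by omega)) _ _)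
  haveI : Epi ((homologyFunctor A q).map Δ.mor₁) :=
    (HomologySequence.epi_homologyMap_mor₁_iff Δ hΔ q).2
      (IsZero.eq_of_tgt (isZero_of_isGE Δ.obj₃ b q hq) _ _)
  exact isIso_of_mono_of_epi _

lemma isIso_homologyMap_mor₂ (Δ : Triangle (DerivedCategory A)) (hΔ : Δ ∈ distTriang _)
    (a q : ℤ) (hq : a < q) (h₁ : Δ.obj₁.IsLE a) :
    IsIso ((homologyFunctor A q).map Δ.mor₂) := by
  haveI : Mono ((homologyFunctor A q).map Δ.mor₂) :=
    (HomologySequence.mono_homologyMap_mor₂_iff Δ hΔ q).2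
      (IsZero.eq_of_src (isZero_of_isLE Δ.obj₁ a q hq) _ _)
  haveI : Epi ((homologyFunctor A q).map Δ.mor₂) :=
    (HomologySequence.epi_homologyMap_mor₂_iff Δ hΔ q (q + 1) rfl).2
      (IsZero.eq_of_tgt (isZero_of_isLE Δ.obj₁ a (q + 1) (by omega)) _ _)
  exact isIso_of_mono_of_epi _

end Homology

section Main

open DerivedCategory.TStructure

variable {A : Type u₁} [Category.{v₁} A] [Abelian A] [HasDerivedCategory.{w₁} A]
  {B : Type u₂} [Category.{v₂} B] [Abelian B] [HasDerivedCategory.{w₂} B]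
  (T₁ T₂ : DerivedCategory A ⥤ DerivedCategory B) [T₁.CommShift ℤ] [T₂.CommShift ℤ]
  [T₁.IsTriangulated] [T₂.IsTriangulated] (η : T₁ ⟶ T₂) [NatTrans.CommShift η ℤ]

theorem isIso_of_bounded (k : ℕ) : ∀ (a : ℤ) (Z : DerivedCategory A), Z.IsGE a →
    Z.IsLE (a + k - 1) →
    (∀ (q : ℤ) (M : A), Nonempty (M ≅ (homologyFunctor A q).obj Z) →
      IsIso (η.app ((singleFunctor A q).obj M))) →
    IsIso (η.app Z) := by
  induction k with
  | zero =>
    intro a Z hGE hLE _
    exact isIso_of_isZero T₁ T₂ η (t.isZero Z (a + ((0 : ℕ) : ℤ) - 1) a (by simp))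
  | succ k ih =>
    intro a Z hGE hLE hZ
    have hLE' : Z.IsLE (a + k) := by
      have : a + ((k + 1 : ℕ) : ℤ) - 1 = a + k := by push_cast; ring
      rwa [this] at hLE
    let Δ := (t.triangleLEGE (a + k - 1) (a + k) (by omega)).obj Z
    have hΔ : Δ ∈ distTriang _ := t.triangleLEGE_distinguished (a + k - 1) (a + k) (by omega) Z
    haveI := hGE
    haveI := hLE'
    have hΔ₁LE : Δ.obj₁.IsLE (a + k - 1) := by
      change ((t.truncLE (a + k - 1)).obj Z).IsLE (a + k - 1)
      infer_instance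
    have hΔ₃GE : Δ.obj₃.IsGE (a + k) := by
      change ((t.truncGE (a + k)).obj Z).IsGE (a + k)
      infer_instance
    have hΔ₁GE : Δ.obj₁.IsGE a := by
      change ((t.truncLE (a + k - 1)).obj Z).IsGE a
      infer_instance
    have h₁ : IsIso (η.app Δ.obj₁) := by
      refine ih a Δ.obj₁ hΔ₁GE hΔ₁LE ?_
      rintro q M ⟨e⟩
      by_cases hq : q < a + k
      · haveI := isIso_homologyMap_mor₁ Δ hΔ (a + k) q hq hΔ₃GE
        exact hZ q M ⟨e ≪≫ @asIso _ _ _ _ ((homologyFunctor A q).map Δ.mor₁) this⟩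
      · have : IsZero M := (isZero_of_isLE Δ.obj₁ (a + k - 1) q (by omega)).of_iso e
        exact isIso_of_isZero T₁ T₂ η ((singleFunctor A q).map_isZero this)
    have h₃ : IsIso (η.app Δ.obj₃) := by
      haveI : Δ.obj₃.IsLE (a + k) := by
        change ((t.truncGE (a + k)).obj Z).IsLE (a + k)
        infer_instance
      obtain ⟨Y, ⟨e⟩⟩ := exists_iso_singleFunctor_obj_of_isGE_of_isLE Δ.obj₃ (a + k)
      haveI := isIso_homologyMap_mor₂ Δ hΔ (a + k - 1) (a + k) (by omega) hΔ₁LE
      have eY : Y ≅ (homologyFunctor A (a + k)).obj Z :=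
        ((singleFunctorCompHomologyFunctorIso A (a + k)).app Y).symm ≪≫
          (homologyFunctor A (a + k)).mapIso e.symm ≪≫
          (asIso ((homologyFunctor A (a + k)).map Δ.mor₂)).symm
      exact isIso_of_iso T₁ T₂ η e.symm (hZ (a + k) Y ⟨eY⟩)
    exact isIso₂ T₁ T₂ η Δ hΔ h₁ h₃

/-- **Way-out lemma** (bounded below version): a natural transformation between triangulated
functors `D(A) ⥤ D(B)` which are both left t-exact, and which is an isomorphism on the
cohomology objects of a bounded below object `X`, is an isomorphism on `X`. -/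
theorem isIso_app_of_wayOut
    (h₁ : ∀ (Z : DerivedCategory A) (n : ℤ), Z.IsGE n → (T₁.obj Z).IsGE n)
    (h₂ : ∀ (Z : DerivedCategory A) (n : ℤ), Z.IsGE n → (T₂.obj Z).IsGE n)
    (X : DerivedCategory A) (n₀ : ℤ) (hX : X.IsGE n₀)
    (h : ∀ q : ℤ, IsIso (η.app ((singleFunctor A 0).obj ((homologyFunctor A q).obj X)))) :
    IsIso (η.app X) := by
  rw [DerivedCategory.isIso_iff]
  intro i
  let Δ := (t.triangleLEGE i (i + 1) rfl).obj X
  have hΔ : Δ ∈ distTriang _ := t.triangleLEGE_distinguished i (i + 1) rfl X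
  haveI := hX
  have hΔ₁LE : Δ.obj₁.IsLE i := by
    change ((t.truncLE i).obj X).IsLE i
    infer_instance
  have hΔ₃GE : Δ.obj₃.IsGE (i + 1) := by
    change ((t.truncGE (i + 1)).obj X).IsGE (i + 1)
    infer_instance
  have hΔ₁GE : Δ.obj₁.IsGE n₀ := by
    change ((t.truncLE i).obj X).IsGE n₀
    infer_instance
  have hb : IsIso (η.app Δ.obj₁) := by
    by_cases hi : n₀ ≤ i
    · have hk : n₀ + ((i - n₀ + 1).toNat : ℤ) - 1 = i := by
        rw [Int.toNat_of_nonneg (by omega)]
        ring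
      refine isIso_of_bounded T₁ T₂ η (i - n₀ + 1).toNat n₀ Δ.obj₁ hΔ₁GE (by rwa [hk]) ?_
      rintro q M ⟨e⟩
      by_cases hq : q < i + 1
      · have := isIso_homologyMap_mor₁ Δ hΔ (i + 1) q hq hΔ₃GE
        have e' : M ≅ (homologyFunctor A q).obj X :=
          e ≪≫ @asIso _ _ _ _ ((homologyFunctor A q).map Δ.mor₁) this
        exact isIso_of_iso T₁ T₂ η ((singleFunctor A q).mapIso e'.symm)
          (isIso_single T₁ T₂ η _ q (h q))
      · have : IsZero M := (isZero_of_isLE Δ.obj₁ i q (by omega)).of_iso e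
        exact isIso_of_isZero T₁ T₂ η ((singleFunctor A q).map_isZero this)
    · haveI : X.IsGE (i + 1) := t.isGE_of_ge X (i + 1) n₀ (by omega)
      exact isIso_of_isZero T₁ T₂ η (t.isZero_truncLE_obj_of_isGE i (i + 1) rfl X)
  have key : ∀ (T : DerivedCategory A ⥤ DerivedCategory B) [T.CommShift ℤ] [T.IsTriangulated],
      (∀ (Z : DerivedCategory A) (n : ℤ), Z.IsGE n → (T.obj Z).IsGE n) →
      IsIso ((homologyFunctor B i).map (T.map Δ.mor₁)) := by
    intro T _ _ hT
    exact isIso_homologyMap_mor₁ (T.mapTriangle.obj Δ) (T.map_distinguished _ hΔ) (i + 1) i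
      (by omega) (hT Δ.obj₃ (i + 1) hΔ₃GE)
  have k₁ := key T₁ h₁
  have k₂ := key T₂ h₂
  have nat : (homologyFunctor B i).map (T₁.map Δ.mor₁) ≫ (homologyFunctor B i).map (η.app X) =
      (homologyFunctor B i).map (η.app Δ.obj₁) ≫ (homologyFunctor B i).map (T₂.map Δ.mor₁) := by
    rw [← Functor.map_comp, ← Functor.map_comp]
    congr 1
    exact η.naturality Δ.mor₁
  have hc : IsIso ((homologyFunctor B i).map (T₁.map Δ.mor₁) ≫
      (homologyFunctor B i).map (η.app X)) := by
    rw [nat]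
    haveI : IsIso ((homologyFunctor B i).map (η.app Δ.obj₁)) := Functor.map_isIso _ _
    exact @IsIso.comp_isIso _ _ _ _ _ _ _ this k₂
  exact @IsIso.of_isIso_comp_left _ _ _ _ _ ((homologyFunctor B i).map (T₁.map Δ.mor₁)) _ k₁ hc

end Main

section TExact

open DerivedCategory.TStructure Groth.Agent.Lib.Helper32.KInjDerived

variable {A : Type u₁} [Category.{v₁} A] [Abelian A] [HasDerivedCategory.{w₁} A]
  {B : Type u₂} [Category.{v₂} B] [Abelian B] [HasDerivedCategory.{w₂} B]

/-- An exact functor induces a left t-exact functor on derived categories. -/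
lemma isGE_mapDerivedCategory (F : A ⥤ B) [F.Additive] [PreservesFiniteLimits F]
    [PreservesFiniteColimits F] (Z : DerivedCategory A) (n : ℤ) (hZ : Z.IsGE n) :
    (F.mapDerivedCategory.obj Z).IsGE n := by
  haveI := hZ
  obtain ⟨K, hK, ⟨e⟩⟩ := exists_iso_Q_obj_of_isGE Z n
  have e' : F.mapDerivedCategory.obj Z ≅
      DerivedCategory.Q.obj ((F.mapHomologicalComplex (ComplexShape.up ℤ)).obj K) :=
    F.mapDerivedCategory.mapIso e ≪≫ F.mapDerivedCategoryFactors.app K
  exact t.isGE_of_iso e'.symm n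

/-- The total right derived functor of an additive functor is left t-exact (when there are enough
injectives and K-injective resolutions). -/
lemma isGE_rightDerived [EnoughInjectives A] (hA : HasKInjRes A) (F : A ⥤ B) [F.Additive]
    (RF : DerivedCategory A ⥤ DerivedCategory B)
    (α : F.mapHomotopyCategory (ComplexShape.up ℤ) ⋙ DerivedCategory.Qh ⟶ DerivedCategory.Qh ⋙ RF)
    [RF.IsRightDerivedFunctor α (HomotopyCategory.quasiIso A (ComplexShape.up ℤ))]
    (Z : DerivedCategory A) (n : ℤ) (hZ : Z.IsGE n) : (RF.obj Z).IsGE n := by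
  haveI := hZ
  obtain ⟨K, hK, ⟨e⟩⟩ := exists_iso_Q_obj_of_isGE Z n
  obtain ⟨L, i, hi, hL, hLn⟩ :=
    CochainComplex.Plus.modelCategoryQuillen.exists_quasiIso_injective K n
  haveI : L.IsKInjective := CochainComplex.isKInjective_of_injective L n
  haveI : IsIso (DerivedCategory.Q.map i) := by
    rw [DerivedCategory.isIso_Q_map_iff_quasiIso]
    exact hi
  haveI : IsIso (α.app ((HomotopyCategory.quotient A (ComplexShape.up ℤ)).obj L)) :=
    isIso_app_of_isTerminal (hasTerminalArrows_Qh hA)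
      (HomotopyCategory.quasiIso A (ComplexShape.up ℤ)) RF α _ (isTerminalMkId L)
  have e' : RF.obj Z ≅
      DerivedCategory.Q.obj ((F.mapHomologicalComplex (ComplexShape.up ℤ)).obj L) :=
    RF.mapIso (e ≪≫ asIso (DerivedCategory.Q.map i) ≪≫
      ((DerivedCategory.quotientCompQhIso A).app L).symm) ≪≫
    (asIso (α.app ((HomotopyCategory.quotient A (ComplexShape.up ℤ)).obj L))).symm ≪≫
    DerivedCategory.Qh.mapIso ((F.mapHomotopyCategoryFactors (ComplexShape.up ℤ)).app L) ≪≫
    (DerivedCategory.quotientCompQhIso B).app _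
  exact t.isGE_of_iso e'.symm n

end TExact

end Groth.Agent.Lib.Helper32.WayOut
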