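import Mathlib
import Groth.Prelude.Def_WeakSerre
import Groth.Agent.Lib.Helper32.WayOut

/-!
# Way-out arguments II: properties of objects, weak Serre subcategories (helper32)
-/

set_option autoImplicit false

universe w₁ w₂ v₁ v₂ u₁ u₂
open CategoryTheory CategoryTheory.Limits CategoryTheory.Pretriangulated

namespace Groth.Agent.Lib.Helper32.WayOut2

open DerivedCategory Groth.Agent.Lib.Helper32.WayOut

section FiveTerm

variable {C : Type u₁} [Category.{v₁} C] [Abelian C]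

/-- In an exact sequence `X₁ ⟶ X₂ ⟶ X₃ ⟶ X₄ ⟶ X₅` with the four outer terms in a weak Serre
subcategory, the middle term is in it. -/
lemma prop_of_exact5 (P : ObjectProperty C) [WSerre.IsWeakSerre P] {X₁ X₂ X₃ X₄ X₅ : C}
    (f₁ : X₁ ⟶ X₂) (f₂ : X₂ ⟶ X₃) (f₃ : X₃ ⟶ X₄) (f₄ : X₄ ⟶ X₅)
    (w₁ : f₁ ≫ f₂ = 0) (w₂ : f₂ ≫ f₃ = 0) (w₃ : f₃ ≫ f₄ = 0)
    (e₁ : (ShortComplex.mk f₁ f₂ w₁).Exact) (e₂ : (ShortComplex.mk f₂ f₃ w₂).Exact)
    (e₃ : (ShortComplex.mk f₃ f₄ w₃).Exact)
    (h₁ : P X₁) (h₂ : P X₂) (h₄ : P X₄) (h₅ : P X₅) : P X₃ := by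
  have hc : P (cokernel f₁) := P.prop_of_isColimit_cokernelCofork (k := Cofork.ofπ (cokernel.π f₁) (by simp)) (cokernelIsCokernel f₁) h₁ h₂
  have hk : P (kernel f₄) := P.prop_of_isLimit_kernelFork (k := Fork.ofι (kernel.ι f₄) (by simp)) (kernelIsKernel f₄) h₄ h₅
  let a : cokernel f₁ ⟶ X₃ := cokernel.desc f₁ f₂ w₁
  let b : X₃ ⟶ kernel f₄ := kernel.lift f₄ f₃ w₃
  haveI : Mono a := (ShortComplex.mk f₁ f₂ w₁).exact_iff_mono_cokernel_desc.1 e₁
  haveI : Epi b := (ShortComplex.mk f₃ f₄ w₃).exact_iff_epi_kernel_lift.1 e₃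
  have wab : a ≫ b = 0 := by
    rw [← cancel_epi (cokernel.π f₁), ← cancel_mono (kernel.ι f₄)]
    simp [a, b, w₂]
  have wa3 : a ≫ f₃ = 0 := by
    rw [← cancel_epi (cokernel.π f₁)]
    simp [a, w₂]
  let φ₁ : ShortComplex.mk f₂ f₃ w₂ ⟶ ShortComplex.mk a f₃ wa3 :=
    { τ₁ := cokernel.π f₁, τ₂ := 𝟙 _, τ₃ := 𝟙 _, comm₁₂ := by simp [a], comm₂₃ := by simp }
  let φ₂ : ShortComplex.mk a b wab ⟶ ShortComplex.mk a f₃ wa3 :=
    { τ₁ := 𝟙 _, τ₂ := 𝟙 _, τ₃ := kernel.ι f₄, comm₁₂ := by simp, comm₂₃ := by simp [b] }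
  haveI : Epi φ₁.τ₁ := by dsimp [φ₁]; infer_instance
  haveI : IsIso φ₁.τ₂ := by dsimp [φ₁]; infer_instance
  haveI : Mono φ₁.τ₃ := by dsimp [φ₁]; infer_instance
  haveI : Epi φ₂.τ₁ := by dsimp [φ₂]; infer_instance
  haveI : IsIso φ₂.τ₂ := by dsimp [φ₂]; infer_instance
  haveI : Mono φ₂.τ₃ := by dsimp [φ₂]; infer_instance
  have ex : (ShortComplex.mk a b wab).Exact :=
    (ShortComplex.exact_iff_of_epi_of_isIso_of_mono φ₂).2
      ((ShortComplex.exact_iff_of_epi_of_isIso_of_mono φ₁).1 e₂)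
  have hS : (ShortComplex.mk a b wab).ShortExact := ⟨ex⟩
  exact P.prop_X₂_of_shortExact hS hc hk

end FiveTerm

section CohIn

variable {B : Type u₂} [Category.{v₂} B] [Abelian B] [HasDerivedCategory.{w₂} B]
  (P : ObjectProperty B) [WSerre.IsWeakSerre P]

lemma cohIn_of_iso {X Y : DerivedCategory B} (e : X ≅ Y) (h : WSerre.cohIn P X) :
    WSerre.cohIn P Y :=
  fun i => P.prop_of_iso ((homologyFunctor B i).mapIso e) (h i)

lemma cohIn_of_isZero {X : DerivedCategory B} (hX : IsZero X) : WSerre.cohIn P X :=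
  fun i => P.prop_of_isZero ((homologyFunctor B i).map_isZero hX)

lemma cohIn_shift {X : DerivedCategory B} (n : ℤ) (h : WSerre.cohIn P X) :
    WSerre.cohIn P (X⟦n⟧) :=
  fun i => P.prop_of_iso
    (((homologyFunctor B 0).shiftIso n i (n + i) rfl).app X).symm (h (n + i))

lemma cohIn_ext₂ (Δ : Triangle (DerivedCategory B)) (hΔ : Δ ∈ distTriang _)
    (h₁ : WSerre.cohIn P Δ.obj₁) (h₃ : WSerre.cohIn P Δ.obj₃) : WSerre.cohIn P Δ.obj₂ := by
  intro i
  exact prop_of_exact5 P (HomologySequence.δ Δ (i - 1) i (by omega))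
    ((homologyFunctor B i).map Δ.mor₁) ((homologyFunctor B i).map Δ.mor₂)
    (HomologySequence.δ Δ i (i + 1) rfl) _ _ _
    (HomologySequence.exact₁ Δ hΔ (i - 1) i (by omega)) (HomologySequence.exact₂ Δ hΔ i)
    (HomologySequence.exact₃ Δ hΔ i (i + 1) rfl) (h₃ _) (h₁ _) (h₃ _) (h₁ _)

lemma cohIn_single (M : B) (hM : P M) (q : ℤ) : WSerre.cohIn P ((singleFunctor B q).obj M) := by
  intro i
  by_cases hi : i = q
  · subst hi
    exact P.prop_of_iso ((singleFunctorCompHomologyFunctorIso B i).app M).symm hM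
  · rcases lt_or_gt_of_ne hi with h | h
    · exact P.prop_of_isZero (isZero_of_isGE ((singleFunctor B q).obj M) q i h)
    · exact P.prop_of_isZero (isZero_of_isLE ((singleFunctor B q).obj M) q i h)

end CohIn

section Bounded

open DerivedCategory.TStructure

variable {A : Type u₁} [Category.{v₁} A] [Abelian A] [HasDerivedCategory.{w₁} A]

/-- Dévissage for bounded objects of the derived category: a property of objects which is
invariant under isomorphisms, holds for zero objects, satisfies two-out-of-three in the middle for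
distinguished triangles, and holds for the shifted cohomology objects of `Z`, holds for `Z`. -/
theorem prop_of_bounded (Pp : DerivedCategory A → Prop)
    (hiso : ∀ {X Y : DerivedCategory A}, (X ≅ Y) → Pp X → Pp Y)
    (hzero : ∀ Z : DerivedCategory A, IsZero Z → Pp Z)
    (hext : ∀ Δ : Triangle (DerivedCategory A), Δ ∈ distTriang _ → Pp Δ.obj₁ → Pp Δ.obj₃ → Pp Δ.obj₂)
    (k : ℕ) : ∀ (a : ℤ) (Z : DerivedCategory A), Z.IsGE a → Z.IsLE (a + k - 1) →
    (∀ (q : ℤ) (M : A), Nonempty (M ≅ (homologyFunctor A q).obj Z) →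
      Pp ((singleFunctor A q).obj M)) → Pp Z := by
  induction k with
  | zero =>
    intro a Z hGE hLE _
    exact hzero Z (t.isZero Z (a + ((0 : ℕ) : ℤ) - 1) a (by simp))
  | succ k ih =>
    intro a Z hGE hLE hZ
    have hLE' : Z.IsLE (a + k) := by
      have : a + ((k + 1 : ℕ) : ℤ) - 1 = a + k := by push_cast; ring
      rwa [this] at hLE
    let Δ := (t.triangleLEGE (a + k - 1) (a + k) (by omega)).obj Z
    have hΔ : Δ ∈ distTriang _ := t.triangleLEGE_distinguished (a + k - 1) (a + k) (by omega) Z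
    haveI := hGE
    haveI := hLE'
    have hΔ₁LE : Δ.obj₁.IsLE (a + k - 1) := by
      change ((t.truncLE (a + k - 1)).obj Z).IsLE (a + k - 1)
      infer_instance
    have hΔ₃GE : Δ.obj₃.IsGE (a + k) := by
      change ((t.truncGE (a + k)).obj Z).IsGE (a + k)
      infer_instance
    have hΔ₁GE : Δ.obj₁.IsGE a := by
      change ((t.truncLE (a + k - 1)).obj Z).IsGE a
      infer_instance
    have h₁ : Pp Δ.obj₁ := by
      refine ih a Δ.obj₁ hΔ₁GE hΔ₁LE ?_
      rintro q M ⟨e⟩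
      by_cases hq : q < a + k
      · have := isIso_homologyMap_mor₁ Δ hΔ (a + k) q hq hΔ₃GE
        exact hZ q M ⟨e ≪≫ @asIso _ _ _ _ ((homologyFunctor A q).map Δ.mor₁) this⟩
      · have : IsZero M := (isZero_of_isLE Δ.obj₁ (a + k - 1) q (by omega)).of_iso e
        exact hzero _ ((singleFunctor A q).map_isZero this)
    have h₃ : Pp Δ.obj₃ := by
      haveI : Δ.obj₃.IsLE (a + k) := by
        change ((t.truncGE (a + k)).obj Z).IsLE (a + k)
        infer_instance
      obtain ⟨Y, ⟨e⟩⟩ := exists_iso_singleFunctor_obj_of_isGE_of_isLE Δ.obj₃ (a + k)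
      haveI := isIso_homologyMap_mor₂ Δ hΔ (a + k - 1) (a + k) (by omega) hΔ₁LE
      have eY : Y ≅ (homologyFunctor A (a + k)).obj Z :=
        ((singleFunctorCompHomologyFunctorIso A (a + k)).app Y).symm ≪≫
          (homologyFunctor A (a + k)).mapIso e.symm ≪≫
          (asIso ((homologyFunctor A (a + k)).map Δ.mor₂)).symm
      exact hiso e.symm (hZ (a + k) Y ⟨eY⟩)
    exact hext Δ hΔ h₁ h₃

variable {B : Type u₂} [Category.{v₂} B] [Abelian B] [HasDerivedCategory.{w₂} B]
  (T : DerivedCategory A ⥤ DerivedCategory B) [T.CommShift ℤ] [T.IsTriangulated]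
  (P : ObjectProperty B) [WSerre.IsWeakSerre P]

/-- **Way-out lemma** for cohomology in a weak Serre subcategory: if `T` is left t-exact and sends
the cohomology objects of a bounded below `X` into `D_P`, then `T X` is in `D_P`. -/
theorem cohIn_of_wayOut
    (hT : ∀ (Z : DerivedCategory A) (n : ℤ), Z.IsGE n → (T.obj Z).IsGE n)
    (X : DerivedCategory A) (n₀ : ℤ) (hX : X.IsGE n₀)
    (h : ∀ q : ℤ, WSerre.cohIn P (T.obj ((singleFunctor A 0).obj ((homologyFunctor A q).obj X)))) :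
    WSerre.cohIn P (T.obj X) := by
  intro i
  let Δ := (t.triangleLEGE i (i + 1) rfl).obj X
  have hΔ : Δ ∈ distTriang _ := t.triangleLEGE_distinguished i (i + 1) rfl X
  haveI := hX
  have hΔ₁LE : Δ.obj₁.IsLE i := by
    change ((t.truncLE i).obj X).IsLE i
    infer_instance
  have hΔ₃GE : Δ.obj₃.IsGE (i + 1) := by
    change ((t.truncGE (i + 1)).obj X).IsGE (i + 1)
    infer_instance
  have hΔ₁GE : Δ.obj₁.IsGE n₀ := by
    change ((t.truncLE i).obj X).IsGE n₀
    infer_instance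
  -- the property
  have hiso : ∀ {X Y : DerivedCategory A}, (X ≅ Y) → WSerre.cohIn P (T.obj X) →
      WSerre.cohIn P (T.obj Y) := fun e hX => cohIn_of_iso P (T.mapIso e) hX
  have hzero : ∀ Z : DerivedCategory A, IsZero Z → WSerre.cohIn P (T.obj Z) :=
    fun Z hZ => cohIn_of_isZero P (T.map_isZero hZ)
  have hext : ∀ Δ : Triangle (DerivedCategory A), Δ ∈ distTriang _ →
      WSerre.cohIn P (T.obj Δ.obj₁) → WSerre.cohIn P (T.obj Δ.obj₃) →
      WSerre.cohIn P (T.obj Δ.obj₂) :=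
    fun Δ hΔ h₁ h₃ => cohIn_ext₂ P (T.mapTriangle.obj Δ) (T.map_distinguished _ hΔ) h₁ h₃
  have hsingle : ∀ (q : ℤ) (M : A), WSerre.cohIn P (T.obj ((singleFunctor A 0).obj M)) →
      WSerre.cohIn P (T.obj ((singleFunctor A q).obj M)) := by
    intro q M hM
    refine hiso (((singleFunctors A).shiftIso (-q) q 0 (by omega)).app M) ?_
    exact cohIn_of_iso P ((T.commShiftIso (-q)).app _).symm (cohIn_shift P (-q) hM)
  have hb : WSerre.cohIn P (T.obj Δ.obj₁) := by
    by_cases hi : n₀ ≤ i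
    · have hk : n₀ + ((i - n₀ + 1).toNat : ℤ) - 1 = i := by
        rw [Int.toNat_of_nonneg (by omega)]
        ring
      refine prop_of_bounded (fun Z => WSerre.cohIn P (T.obj Z)) hiso hzero hext
        (i - n₀ + 1).toNat n₀ Δ.obj₁ hΔ₁GE (by rwa [hk]) ?_
      rintro q M ⟨e⟩
      by_cases hq : q < i + 1
      · have := isIso_homologyMap_mor₁ Δ hΔ (i + 1) q hq hΔ₃GE
        have e' : M ≅ (homologyFunctor A q).obj X :=
          e ≪≫ @asIso _ _ _ _ ((homologyFunctor A q).map Δ.mor₁) this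
        exact hiso ((singleFunctor A q).mapIso e'.symm) (hsingle q _ (h q))
      · have : IsZero M := (isZero_of_isLE Δ.obj₁ i q (by omega)).of_iso e
        exact hzero _ ((singleFunctor A q).map_isZero this)
    · haveI : X.IsGE (i + 1) := t.isGE_of_ge X (i + 1) n₀ (by omega)
      exact hzero _ (t.isZero_truncLE_obj_of_isGE i (i + 1) rfl X)
  have key : IsIso ((homologyFunctor B i).map (T.map Δ.mor₁)) :=
    isIso_homologyMap_mor₁ (T.mapTriangle.obj Δ) (T.map_distinguished _ hΔ) (i + 1) i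
      (by omega) (hT Δ.obj₃ (i + 1) hΔ₃GE)
  exact P.prop_of_iso (@asIso _ _ _ _ ((homologyFunctor B i).map (T.map Δ.mor₁)) key) (hb i)

end Bounded

section ExactFunctor

variable {A : Type u₁} [Category.{v₁} A] [Abelian A] [HasDerivedCategory.{w₁} A]
  {B : Type u₂} [Category.{v₂} B] [Abelian B] [HasDerivedCategory.{w₂} B]

/-- An exact functor commutes with cohomology objects on derived categories. -/
lemma nonempty_homologyIso_mapDerivedCategory (F : A ⥤ B) [F.Additive] [PreservesFiniteLimits F]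
    [PreservesFiniteColimits F] (Y : DerivedCategory A) (i : ℤ) :
    Nonempty ((homologyFunctor B i).obj (F.mapDerivedCategory.obj Y) ≅
      F.obj ((homologyFunctor A i).obj Y)) := by
  let K := DerivedCategory.Q.objPreimage Y
  let e : DerivedCategory.Q.obj K ≅ Y := DerivedCategory.Q.objObjPreimageIso Y
  exact ⟨(homologyFunctor B i).mapIso (F.mapDerivedCategory.mapIso e.symm) ≪≫
    (homologyFunctor B i).mapIso (F.mapDerivedCategoryFactors.app K) ≪≫
    (homologyFunctorFactors B i).app _ ≪≫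
    (K.sc i).mapHomologyIso F ≪≫
    F.mapIso ((homologyFunctorFactors A i).app K).symm ≪≫
    F.mapIso ((homologyFunctor A i).mapIso e)⟩

end ExactFunctor

end Groth.Agent.Lib.Helper32.WayOut2
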