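import Mathlib.Algebra.Homology.Embedding.CochainComplex
import Mathlib.Algebra.Homology.QuasiIso
import Mathlib.CategoryTheory.Abelian.Refinements
import Mathlib.Algebra.Homology.HomotopyCategory.ShiftSequence

/-!
# Right resolutions of bounded below complexes by objects of a class (helper32)

Let `I` be a class of objects of an abelian category such that every object embeds into an object of `I`.
For a cochain complex `K` with `K.X i = 0` for `i < 0` we construct inductively a complex `M` with terms in `I`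
(and a prescribed zero object `Z` in negative degrees) and a termwise monic quasi-isomorphism `K ⟶ M`.
-/

set_option autoImplicit false
universe v u
open CategoryTheory CategoryTheory.Limits

namespace Groth.Agent.Lib.Helper32

/-- A criterion for a morphism of short complexes to be a quasi-isomorphism. -/
theorem shortComplex_quasiIso_of_refinements {C : Type u} [Category.{v} C] [Abelian C]
    {S₁ S₂ : ShortComplex C} (φ : S₁ ⟶ S₂)
    (h₁ : ∀ ⦃A : C⦄ (x₂ : A ⟶ S₁.X₂) (y₁ : A ⟶ S₂.X₁), x₂ ≫ φ.τ₂ = y₁ ≫ S₂.f →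
      ∃ (A' : C) (π : A' ⟶ A) (_ : Epi π) (x₁ : A' ⟶ S₁.X₁), π ≫ x₂ = x₁ ≫ S₁.f)
    (h₂ : ∀ ⦃A : C⦄ (y₂ : A ⟶ S₂.X₂), y₂ ≫ S₂.g = 0 →
      ∃ (A' : C) (π : A' ⟶ A) (_ : Epi π) (x₂ : A' ⟶ S₁.X₂) (_ : x₂ ≫ S₁.g = 0)
        (y₁ : A' ⟶ S₂.X₁), π ≫ y₂ = x₂ ≫ φ.τ₂ + y₁ ≫ S₂.f) :
    ShortComplex.QuasiIso φ := by
  rw [ShortComplex.quasiIso_iff]
  have : Mono (ShortComplex.homologyMap φ) := by
    rw [ShortComplex.mono_homologyMap_iff_up_to_refinements]
    intro A x₂ _ y₁ h
    exact h₁ x₂ y₁ h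
  have : Epi (ShortComplex.homologyMap φ) := by
    rw [ShortComplex.epi_homologyMap_iff_up_to_refinements]
    intro A y₂ hy₂
    exact h₂ y₂ hy₂
  exact isIso_of_mono_of_epi _

/-- A criterion for a morphism of cochain complexes to be a quasi-isomorphism in a given degree. -/
theorem quasiIsoAt_of_refinements {C : Type u} [Category.{v} C] [Abelian C]
    {K M : CochainComplex C ℤ} (α : K ⟶ M) (i j k : ℤ) (hi : i + 1 = j) (hk : j + 1 = k)
    (h₁ : ∀ ⦃W : C⦄ (x : W ⟶ K.X j) (t : W ⟶ M.X i), x ≫ α.f j = t ≫ M.d i j →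
      ∃ (i' : ℤ) (W' : C) (π : W' ⟶ W) (_ : Epi π) (x' : W' ⟶ K.X i'), π ≫ x = x' ≫ K.d i' j)
    (h₂ : ∀ ⦃W : C⦄ (y : W ⟶ M.X j), y ≫ M.d j k = 0 →
      ∃ (W' : C) (π : W' ⟶ W) (_ : Epi π) (x : W' ⟶ K.X j) (_ : x ≫ K.d j k = 0)
        (t : W' ⟶ M.X i), π ≫ y = x ≫ α.f j + t ≫ M.d i j) :
    QuasiIsoAt α j := by
  rw [quasiIsoAt_iff' α i j k (by simp; lia) (by simp; lia)]
  apply shortComplex_quasiIso_of_refinements
  · intro W x t h
    obtain ⟨i', W', π, hπ, x', hx'⟩ := h₁ x t h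
    by_cases hi' : i' = i
    · subst hi'
      exact ⟨W', π, hπ, x', hx'⟩
    · refine ⟨W', π, hπ, 0, hx'.trans ?_⟩
      rw [K.shape i' j (by simp; lia), comp_zero, zero_comp]
      rfl
  · intro W y hy
    exact h₂ y hy

namespace RightRes

variable {A : Type u} [Category.{v} A] [Abelian A] (I : A → Prop)
  (hI : ∀ X : A, ∃ (Y : A) (ι : X ⟶ Y), I Y ∧ Mono ι) (K : CochainComplex A ℤ)

/-- The data at stage `k` of the inductive construction. -/
structure Stage (k : ℕ) where
  /-- the previous term -/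
  Tprev : A
  /-- the current term -/
  T : A
  /-- the differential -/
  dprev : Tprev ⟶ T
  /-- the comparison map -/
  α : K.X (Int.ofNat k) ⟶ T
  hT : I T
  mono_α : Mono α
  inv : ∀ ⦃W : A⦄ (x : W ⟶ K.X (Int.ofNat k)) (t : W ⟶ Tprev), x ≫ α = t ≫ dprev →
    ∃ (i : ℤ) (W' : A) (π : W' ⟶ W) (_ : Epi π) (x' : W' ⟶ K.X i), π ≫ x = x' ≫ K.d i (Int.ofNat k)

variable {I K}

namespace Stage

variable {k : ℕ} (st : Stage I K k)

/-- The "differential" `Tprev ⊞ K^k ⟶ T ⊞ K^{k+1}`. -/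
noncomputable def φ : st.Tprev ⊞ K.X (Int.ofNat k) ⟶ st.T ⊞ K.X (Int.ofNat (k + 1)) :=
  biprod.desc (st.dprev ≫ biprod.inl)
    (st.α ≫ biprod.inl - K.d (Int.ofNat k) (Int.ofNat (k + 1)) ≫ biprod.inr)

/-- The cokernel of `φ`. -/
noncomputable abbrev B : A := cokernel st.φ

/-- `T ⟶ B`. -/
noncomputable def inl' : st.T ⟶ st.B := biprod.inl ≫ cokernel.π st.φ

/-- `K^{k+1} ⟶ B`. -/
noncomputable def inr' : K.X (Int.ofNat (k + 1)) ⟶ st.B := biprod.inr ≫ cokernel.π st.φ

lemma dprev_inl' : st.dprev ≫ st.inl' = 0 := by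
  have h : biprod.inl ≫ st.φ = st.dprev ≫ biprod.inl := by simp [φ]
  rw [inl', ← Category.assoc, ← h, Category.assoc, cokernel.condition, comp_zero]

lemma α_inl' : st.α ≫ st.inl' = K.d (Int.ofNat k) (Int.ofNat (k + 1)) ≫ st.inr' := by
  have h : biprod.inr ≫ st.φ =
      st.α ≫ biprod.inl - K.d (Int.ofNat k) (Int.ofNat (k + 1)) ≫ biprod.inr := by simp [φ]
  have h2 := cokernel.condition st.φ
  rw [← sub_eq_zero, inl', inr', ← Category.assoc, ← Category.assoc, ← Preadditive.sub_comp, ← h,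
    Category.assoc, h2, comp_zero]

/-- Exactness of `Tprev ⊞ K^k ⟶ T ⊞ K^{k+1} ⟶ B`, in terms of refinements. -/
lemma exact {W : A} (y : W ⟶ st.T) (x : W ⟶ K.X (Int.ofNat (k + 1)))
    (h : y ≫ st.inl' + x ≫ st.inr' = 0) :
    ∃ (W' : A) (π : W' ⟶ W) (_ : Epi π) (t : W' ⟶ st.Tprev) (x₀ : W' ⟶ K.X (Int.ofNat k)),
      π ≫ y = t ≫ st.dprev + x₀ ≫ st.α ∧
      π ≫ x = -(x₀ ≫ K.d (Int.ofNat k) (Int.ofNat (k + 1))) := by
  have hS : (ShortComplex.mk st.φ (cokernel.π st.φ) (cokernel.condition _)).Exact :=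
    ShortComplex.exact_of_g_is_cokernel _ (cokernelIsCokernel st.φ)
  obtain ⟨W', π, hπ, w, hw⟩ := hS.exact_up_to_refinements (biprod.lift y x) (by
    dsimp
    rw [← h]
    simp only [inl', inr', ← Category.assoc, ← Preadditive.add_comp]
    congr 1
    apply biprod.hom_ext <;> simp)
  dsimp at w hw
  refine ⟨W', π, hπ, w ≫ biprod.fst, w ≫ biprod.snd, ?_, ?_⟩
  · have := hw =≫ biprod.fst
    simpa [φ, biprod.desc_eq] using this
  · have := hw =≫ biprod.snd
    simpa [φ, biprod.desc_eq] using this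

include hI in
/-- The next stage. -/
noncomputable def next : Stage I K (k + 1) where
  Tprev := st.T
  T := (hI st.B).choose
  dprev := st.inl' ≫ (hI st.B).choose_spec.choose
  α := st.inr' ≫ (hI st.B).choose_spec.choose
  hT := (hI st.B).choose_spec.choose_spec.1
  mono_α := by
    have : Mono (hI st.B).choose_spec.choose := (hI st.B).choose_spec.choose_spec.2
    have : Mono st.inr' := by
      apply Preadditive.mono_of_cancel_zero
      intro W x hx
      obtain ⟨W', π, hπ, t, x₀, h1, h2⟩ := st.exact 0 x (by rw [zero_comp, zero_add, hx])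
      rw [comp_zero] at h1
      obtain ⟨i, W'', π', hπ', x', h3⟩ := st.inv x₀ (-t) (by
        rw [Preadditive.neg_comp]
        exact eq_neg_of_add_eq_zero_right h1.symm)
      rw [← cancel_epi π, ← cancel_epi π', comp_zero, comp_zero, h2, Preadditive.comp_neg,
        reassoc_of% h3, K.d_comp_d, comp_zero, neg_zero]
    exact mono_comp _ _
  inv := by
    intro W x t hxt
    have : Mono (hI st.B).choose_spec.choose := (hI st.B).choose_spec.choose_spec.2
    rw [← Category.assoc, ← Category.assoc, cancel_mono] at hxt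
    obtain ⟨W', π, hπ, t', x₀, h1, h2⟩ := st.exact (-t) x (by
      rw [Preadditive.neg_comp, hxt, neg_add_cancel])
    exact ⟨Int.ofNat k, W', π, hπ, -x₀, by rw [h2, Preadditive.neg_comp]⟩

lemma next_comm : st.α ≫ (st.next hI).dprev =
    K.d (Int.ofNat k) (Int.ofNat (k + 1)) ≫ (st.next hI).α := by
  change st.α ≫ st.inl' ≫ _ = _ ≫ st.inr' ≫ _
  rw [← Category.assoc, ← Category.assoc, st.α_inl']

lemma next_dd : st.dprev ≫ (st.next hI).dprev = 0 := by
  change st.dprev ≫ st.inl' ≫ _ = 0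
  rw [← Category.assoc, st.dprev_inl', zero_comp]

lemma next_surj {W : A} (y : W ⟶ st.T) (hy : y ≫ (st.next hI).dprev = 0) :
    ∃ (W' : A) (π : W' ⟶ W) (_ : Epi π) (x : W' ⟶ K.X (Int.ofNat k))
      (_ : x ≫ K.d (Int.ofNat k) (Int.ofNat (k + 1)) = 0) (t : W' ⟶ st.Tprev),
      π ≫ y = x ≫ st.α + t ≫ st.dprev := by
  have : Mono (hI st.B).choose_spec.choose := (hI st.B).choose_spec.choose_spec.2
  change y ≫ st.inl' ≫ (hI st.B).choose_spec.choose = 0 at hy
  rw [← Category.assoc] at hy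
  replace hy := zero_of_comp_mono _ hy
  obtain ⟨W', π, hπ, t, x₀, h1, h2⟩ := st.exact y 0 (by rw [hy, zero_comp, add_zero])
  refine ⟨W', π, hπ, x₀, ?_, t, by rw [h1, add_comm]⟩
  rw [comp_zero] at h2
  exact neg_eq_zero.1 h2.symm

end Stage

section Construction

variable (I K) (Z : A)

include hI in
/-- The initial stage. -/
noncomputable def init : Stage I K 0 where
  Tprev := Z
  T := (hI (K.X (Int.ofNat 0))).choose
  dprev := 0
  α := (hI (K.X (Int.ofNat 0))).choose_spec.choose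
  hT := (hI (K.X (Int.ofNat 0))).choose_spec.choose_spec.1
  mono_α := (hI (K.X (Int.ofNat 0))).choose_spec.choose_spec.2
  inv := by
    intro W x t h
    have : Mono (hI (K.X (Int.ofNat 0))).choose_spec.choose :=
      (hI (K.X (Int.ofNat 0))).choose_spec.choose_spec.2
    rw [comp_zero] at h
    have hx := zero_of_comp_mono _ h
    exact ⟨0, W, 𝟙 W, inferInstance, 0, by rw [hx, comp_zero, zero_comp]⟩

/-- The sequence of stages. -/
noncomputable def seq : (k : ℕ) → Stage I K k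
  | 0 => init I hI K Z
  | k + 1 => (seq k).next hI

/-- The terms of the resolution. -/
noncomputable def X' : ℤ → A
  | Int.ofNat k => (seq I hI K Z k).T
  | Int.negSucc _ => Z

/-- The differentials of the resolution. -/
noncomputable def d' : (m : ℤ) → (X' I hI K Z m ⟶ X' I hI K Z (m + 1))
  | Int.ofNat k => (seq I hI K Z (k + 1)).dprev
  | Int.negSucc 0 => 0
  | Int.negSucc (_ + 1) => 0

lemma d'_comp_d' (m : ℤ) : d' I hI K Z m ≫ d' I hI K Z (m + 1) = 0 := by
  match m with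
  | Int.ofNat k => exact (seq I hI K Z (k + 1)).next_dd hI
  | Int.negSucc 0 => exact zero_comp
  | Int.negSucc (j + 1) => exact zero_comp

/-- The resolution. -/
noncomputable def M : CochainComplex A ℤ :=
  CochainComplex.of (X' I hI K Z) (d' I hI K Z) (d'_comp_d' I hI K Z)

/-- The components of the comparison map. -/
noncomputable def f' : (m : ℤ) → (K.X m ⟶ X' I hI K Z m)
  | Int.ofNat k => (seq I hI K Z k).α
  | Int.negSucc _ => 0

variable [K.IsStrictlyGE 0]

lemma f'_comm (m : ℤ) : f' I hI K Z m ≫ d' I hI K Z m = K.d m (m + 1) ≫ f' I hI K Z (m + 1) := by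
  match m with
  | Int.ofNat k => exact (seq I hI K Z k).next_comm hI
  | Int.negSucc 0 =>
    exact (zero_comp).trans ((K.isZero_of_isStrictlyGE 0 (Int.negSucc 0) (by lia)).eq_of_src _ _)
  | Int.negSucc (j + 1) =>
    exact (zero_comp).trans ((K.isZero_of_isStrictlyGE 0 (Int.negSucc (j + 1)) (by lia)).eq_of_src _ _)

/-- The comparison map. -/
noncomputable def α : K ⟶ M I hI K Z where
  f := f' I hI K Z
  comm' i j hij := by
    obtain rfl : i + 1 = j := hij
    dsimp [M]
    rw [CochainComplex.of_d]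
    exact f'_comm I hI K Z i

omit [K.IsStrictlyGE 0] in
lemma isStrictlyGE_M (hZ : IsZero Z) : (M I hI K Z).IsStrictlyGE 0 := by
  rw [CochainComplex.isStrictlyGE_iff]
  intro i hi
  match i with
  | Int.ofNat k => exact absurd hi (by simp)
  | Int.negSucc _ => exact hZ

omit [K.IsStrictlyGE 0] in
lemma prop_M (hIZ : I Z) (n : ℤ) : I ((M I hI K Z).X n) := by
  match n with
  | Int.ofNat k => exact (seq I hI K Z k).hT
  | Int.negSucc _ => exact hIZ

lemma mono_α_f (n : ℤ) : Mono ((α I hI K Z).f n) := by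
  match n with
  | Int.ofNat k => exact (seq I hI K Z k).mono_α
  | Int.negSucc j =>
    exact ⟨fun _ _ _ => (K.isZero_of_isStrictlyGE 0 (Int.negSucc j) (by lia)).eq_of_tgt _ _⟩

omit [K.IsStrictlyGE 0] in
lemma M_d (m : ℤ) : (M I hI K Z).d m (m + 1) = d' I hI K Z m :=
  CochainComplex.of_d (X' I hI K Z) (d' I hI K Z) m

lemma quasiIsoAt_α_ofNat (k : ℕ) : QuasiIsoAt (α I hI K Z) (Int.ofNat k) := by
  match k with
  | 0 =>
    refine quasiIsoAt_of_refinements (α I hI K Z) (Int.negSucc 0) (Int.ofNat 0) (Int.ofNat 1)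
      (by rfl) (by rfl) ?_ ?_
    · intro W x t h
      refine (seq I hI K Z 0).inv x t ?_
      refine h.trans ?_
      congr 1
      exact M_d I hI K Z (Int.negSucc 0)
    · intro W y hy
      have hy' : y ≫ (seq I hI K Z 1).dprev = 0 := by
        refine Eq.trans ?_ hy
        congr 1
        exact (M_d I hI K Z (Int.ofNat 0)).symm
      obtain ⟨W', π, hπ, x, hx, t, h⟩ := (seq I hI K Z 0).next_surj hI y hy'
      refine ⟨W', π, hπ, x, hx, t, h.trans ?_⟩
      congr 2
      exact (M_d I hI K Z (Int.negSucc 0)).symm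
  | k + 1 =>
    refine quasiIsoAt_of_refinements (α I hI K Z) (Int.ofNat k) (Int.ofNat (k + 1)) (Int.ofNat (k + 2))
      (by rfl) (by rfl) ?_ ?_
    · intro W x t h
      refine (seq I hI K Z (k + 1)).inv x t ?_
      refine h.trans ?_
      congr 1
      exact M_d I hI K Z (Int.ofNat k)
    · intro W y hy
      have hy' : y ≫ (seq I hI K Z (k + 2)).dprev = 0 := by
        refine Eq.trans ?_ hy
        congr 1
        exact (M_d I hI K Z (Int.ofNat (k + 1))).symm
      obtain ⟨W', π, hπ, x, hx, t, h⟩ := (seq I hI K Z (k + 1)).next_surj hI y hy'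
      refine ⟨W', π, hπ, x, hx, t, h.trans ?_⟩
      congr 2
      exact (M_d I hI K Z (Int.ofNat k)).symm

lemma quasiIso_α (hZ : IsZero Z) : QuasiIso (α I hI K Z) := by
  rw [quasiIso_iff]
  intro n
  match n with
  | Int.ofNat k => exact quasiIsoAt_α_ofNat I hI K Z k
  | Int.negSucc j =>
    have := isStrictlyGE_M I hI K Z hZ
    rw [quasiIsoAt_iff_exactAt _ _ (K.exactAt_of_isGE 0 _ (by lia))]
    exact (M I hI K Z).exactAt_of_isGE 0 _ (by lia)

end Construction

include hI in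
/-- Right resolutions for complexes vanishing in negative degrees. -/
theorem exists_zero (hI0 : ∃ Z : A, IsZero Z ∧ I Z) (K : CochainComplex A ℤ) [K.IsStrictlyGE 0] :
    ∃ (L : CochainComplex A ℤ) (α : K ⟶ L), L.IsStrictlyGE 0 ∧ (∀ n, I (L.X n)) ∧
      (∀ n, Mono (α.f n)) ∧ QuasiIso α := by
  obtain ⟨Z, hZ, hIZ⟩ := hI0
  exact ⟨M I hI K Z, α I hI K Z, isStrictlyGE_M I hI K Z hZ, prop_M I hI K Z hIZ,
    mono_α_f I hI K Z, quasiIso_α I hI K Z hZ⟩

include hI in
/-- Right resolutions for bounded below complexes. -/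
theorem exists_of_isStrictlyGE (hI0 : ∃ Z : A, IsZero Z ∧ I Z) (K : CochainComplex A ℤ) (a : ℤ)
    [K.IsStrictlyGE a] :
    ∃ (L : CochainComplex A ℤ) (α : K ⟶ L), L.IsStrictlyGE a ∧ (∀ n, I (L.X n)) ∧
      (∀ n, Mono (α.f n)) ∧ QuasiIso α := by
  have : (K⟦a⟧).IsStrictlyGE 0 := K.isStrictlyGE_shift a a 0 (by lia)
  obtain ⟨M, α', hM, hIM, hmono, hqis⟩ := exists_zero hI hI0 (K⟦a⟧)
  refine ⟨M⟦-a⟧, ((shiftEquiv (CochainComplex A ℤ) a).unitIso.app K).hom ≫ α'⟦-a⟧',
    M.isStrictlyGE_shift 0 (-a) a (by lia), fun n => hIM (n + -a), fun n => ?_, ?_⟩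
  · have := hmono (n + -a)
    have h1 : Mono ((α'⟦-a⟧').f n) := this
    have h2 : IsIso (((shiftEquiv (CochainComplex A ℤ) a).unitIso.app K).hom.f n) := inferInstance
    rw [HomologicalComplex.comp_f]
    exact @mono_comp _ _ _ _ _ _ inferInstance _ h1
  · have h1 : QuasiIso (α'⟦-a⟧') := (CochainComplex.quasiIso_shift_iff α' (-a)).2 hqis
    have h2 : QuasiIso ((shiftEquiv (CochainComplex A ℤ) a).unitIso.app K).hom := inferInstance
    exact @quasiIso_comp _ _ _ _ _ _ _ _ _ _ _ _ _ h2 h1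

end RightRes

end Groth.Agent.Lib.Helper32
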