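import Mathlib.Algebra.Homology.DerivedCategory.Basic
import Mathlib.Algebra.Homology.HomotopyCategory.MappingCocone
import Mathlib.Algebra.Homology.Embedding.CochainComplex
import Mathlib.Algebra.Homology.HomotopyCategory.Plus
import Groth.Agent.Lib.Helper32.RightRes

set_option autoImplicit false
universe v u
open CategoryTheory CategoryTheory.Limits CategoryTheory.Pretriangulated

namespace Groth.Agent.Lib.Helper32.RelRes

variable {A : Type u} [Category.{v} A] [Abelian A]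

open CochainComplex HomComplex

section
variable {K₁ L₁ K₂ L₂ : CochainComplex A ℤ} (φ₁ : K₁ ⟶ L₁) (φ₂ : K₂ ⟶ L₂)
    (a : K₁ ⟶ K₂) (b : L₁ ⟶ L₂) (comm : φ₁ ≫ b = a ≫ φ₂)

lemma map_f_fst_v (p q : ℤ) (hpq : p + 1 = q) :
    (mappingCone.map φ₁ φ₂ a b comm).f p ≫ (mappingCone.fst φ₂).1.v p q hpq =
      (mappingCone.fst φ₁).1.v p q hpq ≫ a.f q := by
  subst hpq
  simp [mappingCone.map, mappingCone.ext_from_iff _ (p + 1) p rfl]

lemma map_f_snd_v (p : ℤ) :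
    (mappingCone.map φ₁ φ₂ a b comm).f p ≫ (mappingCone.snd φ₂).v p p (add_zero p) =
      (mappingCone.snd φ₁).v p p (add_zero p) ≫ b.f p := by
  simp [mappingCone.map, mappingCone.ext_from_iff _ (p + 1) p rfl]
end

lemma quasiIso_mappingCone_map {K₁ L₁ K₂ L₂ : CochainComplex A ℤ} (φ₁ : K₁ ⟶ L₁) (φ₂ : K₂ ⟶ L₂)
    (a : K₁ ⟶ K₂) (b : L₁ ⟶ L₂) (comm : φ₁ ≫ b = a ≫ φ₂) [ha : QuasiIso a] [hb : QuasiIso b] :
    QuasiIso (mappingCone.map φ₁ φ₂ a b comm) := by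
  let _ := HasDerivedCategory.standard A
  rw [← DerivedCategory.isIso_Q_map_iff_quasiIso] at ha hb ⊢
  let f := DerivedCategory.Q.mapTriangle.map (mappingCone.triangleMap φ₁ φ₂ a b comm)
  exact isIso₃_of_isIso₁₂ f (DerivedCategory.mappingCone_triangle_distinguished φ₁)
    (DerivedCategory.mappingCone_triangle_distinguished φ₂) ha hb


lemma rotate_hom_inv_id {K L : CochainComplex A ℤ} (φ : K ⟶ L) :
    (mappingCone.rotateHomotopyEquiv φ).hom ≫ (mappingCone.rotateHomotopyEquiv φ).inv = 𝟙 _ := by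
  ext i
  have := (mappingCone.rotateHomotopyEquiv φ).homotopyHomInvId.comm i
  have h0 : (mappingCone.rotateHomotopyEquiv φ).homotopyHomInvId.hom = 0 := rfl
  rw [h0] at this
  have e1 : (dNext i) (0 : (i j : ℤ) → ((K⟦(1:ℤ)⟧).X i ⟶ (K⟦(1:ℤ)⟧).X j)) = 0 := map_zero _
  have e2 : (prevD i) (0 : (i j : ℤ) → ((K⟦(1:ℤ)⟧).X i ⟶ (K⟦(1:ℤ)⟧).X j)) = 0 := map_zero _
  rw [e1, e2, zero_add, zero_add] at this
  exact this

lemma quasiIso_rotate_hom {K L : CochainComplex A ℤ} (φ : K ⟶ L) :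
    QuasiIso (mappingCone.rotateHomotopyEquiv φ).hom := by
  infer_instance

lemma mono_rotate_hom_f {K L : CochainComplex A ℤ} (φ : K ⟶ L) (i : ℤ) :
    Mono ((mappingCone.rotateHomotopyEquiv φ).hom.f i) := by
  have h : (mappingCone.rotateHomotopyEquiv φ).hom.f i ≫ (mappingCone.rotateHomotopyEquiv φ).inv.f i = 𝟙 _ := by
    rw [← HomologicalComplex.comp_f, rotate_hom_inv_id, HomologicalComplex.id_f]
  exact mono_of_mono_fac h


section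
variable {K₁ L₁ K₂ L₂ : CochainComplex A ℤ} (φ₁ : K₁ ⟶ L₁) (φ₂ : K₂ ⟶ L₂)
    (a : K₁ ⟶ K₂) (b : L₁ ⟶ L₂) (comm : φ₁ ≫ b = a ≫ φ₂)

lemma mono_map_f (p : ℤ) (ha : Mono (a.f (p + 1))) (hb : Mono (b.f p)) :
    Mono ((mappingCone.map φ₁ φ₂ a b comm).f p) := by
  rw [Preadditive.mono_iff_cancel_zero]
  intro W x hx
  have h1 : x ≫ (mappingCone.fst φ₁).1.v p (p + 1) rfl = 0 := by
    rw [← cancel_mono (a.f (p + 1)), Category.assoc, ← map_f_fst_v φ₁ φ₂ a b comm, ← Category.assoc, hx,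
      zero_comp, zero_comp]
  have h2 : x ≫ (mappingCone.snd φ₁).v p p (add_zero p) = 0 := by
    rw [← cancel_mono (b.f p), Category.assoc, ← map_f_snd_v φ₁ φ₂ a b comm, ← Category.assoc, hx,
      zero_comp, zero_comp]
  rw [mappingCone.ext_to_iff _ _ (p + 1) rfl]
  simp [h1, h2]
end

section
variable {K₁ J T : CochainComplex A ℤ} (β : K₁ ⟶ J) (ρ : mappingCone β ⟶ T)

noncomputable def δ' : J ⟶ T := mappingCone.inr β ≫ ρ

noncomputable def mapρ : mappingCone (mappingCone.inr β) ⟶ mappingCone (δ' β ρ) :=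
  mappingCone.map (mappingCone.inr β) (δ' β ρ) (𝟙 J) ρ (by simp [δ'])

noncomputable def γ : K₁ ⟶ mappingCocone (δ' β ρ) :=
  (shiftFunctorCompIsoId (CochainComplex A ℤ) (1 : ℤ) (-1) (by lia)).inv.app K₁ ≫
    ((mappingCone.rotateHomotopyEquiv β).hom)⟦(-1 : ℤ)⟧' ≫ (mapρ β ρ)⟦(-1 : ℤ)⟧'

set_option backward.defeqAttrib.useBackward true in
set_option backward.isDefEq.respectTransparency false in
lemma γ_fst : γ β ρ ≫ mappingCocone.fst (δ' β ρ) = β := by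
  ext k
  simp [γ, mapρ, mappingCocone.fst, Cochain.leftShift_v (n := 1) _ _ _ _ k k _ (k + -1) (by lia)]
  rw [map_f_fst_v]
  simp [mappingCone.rotateHomotopyEquiv,
    Cochain.leftShift_v (n := 0) _ 1 1 (zero_add 1) (k + -1) k (by lia) k (by lia),
    shiftFunctorCompIsoId, shiftFunctorAdd'_hom_app_f', shiftFunctorZero_inv_app_f]

lemma quasiIso_γ [hρ : QuasiIso ρ] : QuasiIso (γ β ρ) := by
  have h1 : QuasiIso (mapρ β ρ) := quasiIso_mappingCone_map _ _ _ _ _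
  have h2 : QuasiIso ((mapρ β ρ)⟦(-1 : ℤ)⟧') := inferInstance
  have h3 : QuasiIso (((mappingCone.rotateHomotopyEquiv β).hom)⟦(-1 : ℤ)⟧') := inferInstance
  have h4 : QuasiIso ((shiftFunctorCompIsoId (CochainComplex A ℤ) (1 : ℤ) (-1) (by lia)).inv.app K₁) :=
    inferInstance
  have h5 : QuasiIso (((mappingCone.rotateHomotopyEquiv β).hom)⟦(-1 : ℤ)⟧' ≫ (mapρ β ρ)⟦(-1 : ℤ)⟧') :=
    @quasiIso_comp _ _ _ _ _ _ _ _ _ _ _ _ _ h3 h2
  exact @quasiIso_comp _ _ _ _ _ _ _ _ _ _ _ _ _ h4 h5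

lemma mono_γ_f (hρ : ∀ i, Mono (ρ.f i)) (k : ℤ) : Mono ((γ β ρ).f k) := by
  dsimp only [γ]
  rw [HomologicalComplex.comp_f, HomologicalComplex.comp_f]
  have h1 : Mono (((mappingCone.rotateHomotopyEquiv β).hom⟦(-1 : ℤ)⟧').f k) :=
    mono_rotate_hom_f β (k + -1)
  have h2 : Mono (((mapρ β ρ)⟦(-1 : ℤ)⟧').f k) :=
    mono_map_f (mappingCone.inr β) (δ' β ρ) (𝟙 J) ρ (by simp [δ']) (k + -1)
      (by rw [HomologicalComplex.id_f]; infer_instance) (hρ _)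
  have h3 : Mono (((shiftFunctorCompIsoId (CochainComplex A ℤ) (1 : ℤ) (-1) (by lia)).inv.app K₁).f k) :=
    inferInstance
  have h5 : Mono (((mappingCone.rotateHomotopyEquiv β).hom⟦(-1 : ℤ)⟧').f k ≫ ((mapρ β ρ)⟦(-1 : ℤ)⟧').f k) :=
    @mono_comp _ _ _ _ _ _ h1 _ h2
  exact @mono_comp _ _ _ _ _ _ h3 _ h5
end

section
variable {M X Y : A} (q₁ : M ⟶ X) (i₁ : X ⟶ M) (q₂ : M ⟶ Y) (i₂ : Y ⟶ M)

noncomputable def kernelIsoOfSplitting (h22 : i₂ ≫ q₂ = 𝟙 Y) (h21 : i₂ ≫ q₁ = 0)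
    (hid : q₁ ≫ i₁ + q₂ ≫ i₂ = 𝟙 M) : kernel q₁ ≅ Y where
  hom := kernel.ι q₁ ≫ q₂
  inv := kernel.lift q₁ i₂ h21
  hom_inv_id := by
    rw [← cancel_mono (kernel.ι q₁), Category.assoc, Category.assoc, kernel.lift_ι, Category.id_comp]
    have : q₂ ≫ i₂ = 𝟙 M - q₁ ≫ i₁ := by rw [← hid]; abel
    rw [this, Preadditive.comp_sub, Category.comp_id, kernel.condition_assoc, zero_comp, sub_zero]
  inv_hom_id := by
    rw [kernel.lift_ι_assoc, h22]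

noncomputable def isoBiprodOfSplitting (h11 : i₁ ≫ q₁ = 𝟙 X) (h12 : i₁ ≫ q₂ = 0)
    (h22 : i₂ ≫ q₂ = 𝟙 Y) (h21 : i₂ ≫ q₁ = 0)
    (hid : q₁ ≫ i₁ + q₂ ≫ i₂ = 𝟙 M) : M ≅ X ⊞ Y where
  hom := biprod.lift q₁ q₂
  inv := biprod.desc i₁ i₂
  hom_inv_id := by rw [biprod.lift_desc, hid]
  inv_hom_id := by
    ext <;> simp [h11, h12, h22, h21]
end

theorem exists_relative (I : ObjectProperty A) [I.IsClosedUnderIsomorphisms]
    (hI0 : ∃ Z : A, IsZero Z ∧ I Z) (hIprod : ∀ X Y : A, I X → I Y → I (X ⊞ Y))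
    (hI : ∀ X : A, ∃ (Y : A) (ι : X ⟶ Y), I Y ∧ Mono ι)
    {K₁ J : CochainComplex A ℤ} (β : K₁ ⟶ J) (a : ℤ) [K₁.IsStrictlyGE a] [J.IsStrictlyGE a]
    (hJ : ∀ i, I (J.X i)) :
    ∃ (M : CochainComplex A ℤ) (γ : K₁ ⟶ M) (p : M ⟶ J), γ ≫ p = β ∧ QuasiIso γ ∧
      (∀ i, Mono (γ.f i)) ∧ M.IsStrictlyGE a ∧ (∀ i, I (M.X i)) ∧
      ∀ i, (∃ s : J.X i ⟶ M.X i, s ≫ p.f i = 𝟙 _) ∧ I (kernel (p.f i)) := by
  have hC : (mappingCone β).IsStrictlyGE (a - 1) := isStrictlyGE_mappingCone β a a (a - 1)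
  obtain ⟨T, ρ, hT, hIT, hρmono, hρ⟩ :=
    RightRes.exists_of_isStrictlyGE (I := I) hI hI0 (mappingCone β) (a - 1)
  have key (i : ℤ) : ∃ (e₁ : (mappingCocone (δ' β ρ)).X i ≅ J.X i ⊞ T.X (i + -1))
      (e₂ : kernel ((mappingCocone.fst (δ' β ρ)).f i) ≅ T.X (i + -1)), True := by
    refine ⟨isoBiprodOfSplitting ((mappingCocone.fst (δ' β ρ)).f i)
      ((mappingCocone.inl (δ' β ρ)).v i i (add_zero i))
      ((mappingCocone.snd (δ' β ρ)).v i (i + -1) rfl)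
      ((mappingCocone.inr (δ' β ρ)).1.v (i + -1) i (by lia)) ?_ ?_ ?_ ?_ ?_,
      kernelIsoOfSplitting ((mappingCocone.fst (δ' β ρ)).f i)
      ((mappingCocone.inl (δ' β ρ)).v i i (add_zero i))
      ((mappingCocone.snd (δ' β ρ)).v i (i + -1) rfl)
      ((mappingCocone.inr (δ' β ρ)).1.v (i + -1) i (by lia)) ?_ ?_ ?_, trivial⟩
    · exact mappingCocone.inl_v_fst_f _ _
    · exact mappingCocone.inl_v_snd_v _ _ _ _
    · exact mappingCocone.inr_v_snd_v _ _ _ _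
    · exact mappingCocone.inr_v_fst_f _ _ _ _
    · exact mappingCocone.id_X _ _ _ _
    · exact mappingCocone.inr_v_snd_v _ _ _ _
    · exact mappingCocone.inr_v_fst_f _ _ _ _
    · exact mappingCocone.id_X _ _ _ _
  refine ⟨mappingCocone (δ' β ρ), γ β ρ, mappingCocone.fst (δ' β ρ), γ_fst β ρ, quasiIso_γ β ρ,
    mono_γ_f β ρ hρmono, ?_, ?_, ?_⟩
  · rw [isStrictlyGE_iff]
    intro i hi
    obtain ⟨e₁, -, -⟩ := key i
    refine IsZero.of_iso ?_ e₁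
    rw [biprod_isZero_iff]
    exact ⟨J.isZero_of_isStrictlyGE a i hi, T.isZero_of_isStrictlyGE (a - 1) _ (by lia)⟩
  · intro i
    obtain ⟨e₁, -, -⟩ := key i
    exact I.prop_of_iso e₁.symm (hIprod _ _ (hJ i) (hIT _))
  · intro i
    obtain ⟨-, e₂, -⟩ := key i
    exact ⟨⟨(mappingCocone.inl (δ' β ρ)).v i i (add_zero i), mappingCocone.inl_v_fst_f _ _⟩,
      I.prop_of_iso e₂.symm (hIT _)⟩

end Groth.Agent.Lib.Helper32.RelRes
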