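import Mathlib
import Groth.Agent.Lib.Helper32.RelRes

/-!
# Towers of complexes, their limits, and Spaltenstein's K-injective resolutions (helper32)

`A` abelian with countable products.
* `IsTowerLimit X p T π` : `(T, π)` is a limit of the tower `… → X 2 → X 1 → X 0` (any category).
* `prodCx X`, `towerD X p` : the termwise product complex and the map `1 - shift`.
* `exists_towerLimit` : tower limits exist (kernel of `1 - shift`), termwise too.
* `exactAt_of_isTowerLimit` : Mittag-Leffler-type vanishing (exact countable products).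
* `isKInjective_of_isTowerLimit`.
* `exists_kInjective_resolution` : Spaltenstein.
-/

set_option autoImplicit false

universe v u
open CategoryTheory CategoryTheory.Limits CochainComplex HomComplex

namespace Groth.Agent.Lib.Helper32.KInjTower

section Abstract

variable {C : Type*} [Category C]

/-- `(T, π)` is a limit of the tower `(X, p)`. -/
structure IsTowerLimit (X : ℕ → C) (p : ∀ n, X (n + 1) ⟶ X n) (T : C) (π : ∀ n, T ⟶ X n) : Prop where
  w : ∀ n, π (n + 1) ≫ p n = π n
  exists_lift : ∀ {W : C} (g : ∀ n, W ⟶ X n), (∀ n, g (n + 1) ≫ p n = g n) →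
    ∃ l : W ⟶ T, ∀ n, l ≫ π n = g n
  hom_ext : ∀ {W : C} (a b : W ⟶ T), (∀ n, a ≫ π n = b ≫ π n) → a = b

variable {X : ℕ → C} {p : ∀ n, X (n + 1) ⟶ X n} {T : C} {π : ∀ n, T ⟶ X n}

lemma IsTowerLimit.tail (h : IsTowerLimit X p T π) :
    IsTowerLimit (fun n => X (n + 1)) (fun n => p (n + 1)) T (fun n => π (n + 1)) where
  w n := h.w (n + 1)
  exists_lift {W} g hg := by
    obtain ⟨l, hl⟩ := h.exists_lift (fun n => Nat.casesOn n (g 0 ≫ p 0) (fun k => g k)) (by
      intro n
      cases n with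
      | zero => rfl
      | succ k => exact hg k)
    exact ⟨l, fun n => hl (n + 1)⟩
  hom_ext {W} a b hab := by
    apply h.hom_ext
    intro n
    cases n with
    | zero => rw [← h.w 0, ← Category.assoc, hab 0, Category.assoc]
    | succ k => exact hab k

end Abstract

section Prod

variable {A : Type u} [Category.{v} A] [Abelian A] [HasLimitsOfShape (Discrete ℕ) A]

/-- The termwise product of a sequence of complexes. -/
noncomputable def prodCx (X : ℕ → CochainComplex A ℤ) : CochainComplex A ℤ where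
  X j := ∏ᶜ (fun n => (X n).X j)
  d i j := Limits.Pi.map (fun n => (X n).d i j)
  shape i j h := by
    apply Pi.hom_ext
    intro n
    simp [(X n).shape i j h]
  d_comp_d' i j k _ _ := by
    apply Pi.hom_ext
    intro n
    simp

variable (X : ℕ → CochainComplex A ℤ)

/-- The projections. -/
noncomputable def prodπ (n : ℕ) : prodCx X ⟶ X n where
  f j := Pi.π _ n
  comm' i j _ := by simp [prodCx]

variable {X}

/-- The lift. -/
noncomputable def prodLift {W : CochainComplex A ℤ} (g : ∀ n, W ⟶ X n) : W ⟶ prodCx X where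
  f j := Pi.lift (fun n => (g n).f j)
  comm' i j _ := by
    apply Pi.hom_ext
    intro n
    simp [prodCx]

@[reassoc (attr := simp)]
lemma prodLift_π {W : CochainComplex A ℤ} (g : ∀ n, W ⟶ X n) (n : ℕ) :
    prodLift g ≫ prodπ X n = g n := by
  ext j
  exact Pi.lift_π _ _

lemma prod_hom_ext {W : CochainComplex A ℤ} (a b : W ⟶ prodCx X)
    (h : ∀ n, a ≫ prodπ X n = b ≫ prodπ X n) : a = b := by
  ext j
  apply Pi.hom_ext
  intro n
  exact congrArg (fun t => t.f j) (h n)

/-- Termwise lift. -/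
noncomputable def liftX {W : A} (j : ℤ) (g : ∀ n, W ⟶ (X n).X j) : W ⟶ (prodCx X).X j :=
  Pi.lift g

@[reassoc (attr := simp)]
lemma liftX_π {W : A} (j : ℤ) (g : ∀ n, W ⟶ (X n).X j) (n : ℕ) :
    liftX j g ≫ (prodπ X n).f j = g n :=
  Pi.lift_π _ _

lemma hom_ext_X {W : A} (j : ℤ) (a b : W ⟶ (prodCx X).X j)
    (h : ∀ n, a ≫ (prodπ X n).f j = b ≫ (prodπ X n).f j) : a = b :=
  Pi.hom_ext _ _ h

end Prod

section Tower

variable {A : Type u} [Category.{v} A] [Abelian A] [HasLimitsOfShape (Discrete ℕ) A]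
variable (X : ℕ → CochainComplex A ℤ) (p : ∀ n, X (n + 1) ⟶ X n)

/-- `1 - shift` on the product. -/
noncomputable def towerD : prodCx X ⟶ prodCx X :=
  prodLift (fun n => prodπ X n - prodπ X (n + 1) ≫ p n)

@[reassoc (attr := simp)]
lemma towerD_π (n : ℕ) : towerD X p ≫ prodπ X n = prodπ X n - prodπ X (n + 1) ≫ p n :=
  prodLift_π _ _

@[reassoc]
lemma towerD_f_π (n : ℕ) (j : ℤ) :
    (towerD X p).f j ≫ (prodπ X n).f j =
      (prodπ X n).f j - (prodπ X (n + 1)).f j ≫ (p n).f j := by
  have := congrArg (fun t => t.f j) (towerD_π X p n)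
  simpa only [HomologicalComplex.comp_f, HomologicalComplex.sub_f_apply] using this

variable {X p}

lemma lift_towerD {W : CochainComplex A ℤ} (g : ∀ n, W ⟶ X n) (hg : ∀ n, g (n + 1) ≫ p n = g n) :
    prodLift g ≫ towerD X p = 0 := by
  apply prod_hom_ext
  intro n
  rw [Category.assoc, towerD_π, Preadditive.comp_sub, prodLift_π, prodLift_π_assoc, hg, sub_self,
    zero_comp]

lemma compat_of_comp_towerD {W : CochainComplex A ℤ} (a : W ⟶ prodCx X) (ha : a ≫ towerD X p = 0)
    (n : ℕ) : (a ≫ prodπ X (n + 1)) ≫ p n = a ≫ prodπ X n := by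
  have h := congrArg (fun t => t ≫ prodπ X n) ha
  simp only [Category.assoc, towerD_π, Preadditive.comp_sub, zero_comp] at h
  rw [Category.assoc]
  exact (sub_eq_zero.mp h).symm

variable (X p)

lemma isTowerLimit_kernel :
    IsTowerLimit X p (kernel (towerD X p)) (fun n => kernel.ι (towerD X p) ≫ prodπ X n) where
  w n := compat_of_comp_towerD _ (kernel.condition (towerD X p)) n
  exists_lift {W} g hg :=
    ⟨kernel.lift _ (prodLift g) (lift_towerD g hg), fun n => by
      rw [kernel.lift_ι_assoc, prodLift_π]⟩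
  hom_ext {W} a b hab := by
    rw [← cancel_mono (kernel.ι (towerD X p))]
    apply prod_hom_ext
    intro n
    simpa using hab n

lemma isTowerLimit_kernel_f (j : ℤ) :
    IsTowerLimit (fun n => (X n).X j) (fun n => (p n).f j) ((kernel (towerD X p)).X j)
      (fun n => (kernel.ι (towerD X p) ≫ prodπ X n).f j) where
  w n := by
    rw [← HomologicalComplex.comp_f, (isTowerLimit_kernel X p).w n]
  exists_lift {W} g hg := by
    have hk := KernelFork.mapIsLimit _ (kernelIsKernel (towerD X p))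
      (HomologicalComplex.eval A (ComplexShape.up ℤ) j)
    have hG : liftX j g ≫ (towerD X p).f j = 0 := by
      apply hom_ext_X
      intro n
      rw [Category.assoc, towerD_f_π, Preadditive.comp_sub, liftX_π, liftX_π_assoc, hg,
        sub_self, zero_comp]
    refine ⟨hk.lift (KernelFork.ofι (f := (towerD X p).f j) (liftX j g) hG), fun n => ?_⟩
    have h1 := hk.fac (KernelFork.ofι (f := (towerD X p).f j) (liftX j g) hG)
      WalkingParallelPair.zero
    have h2 : hk.lift (KernelFork.ofι (f := (towerD X p).f j) (liftX j g) hG) ≫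
        (kernel.ι (towerD X p)).f j = liftX j g := h1
    rw [HomologicalComplex.comp_f, ← Category.assoc]
    exact (congrArg (fun t => t ≫ (prodπ X n).f j) h2).trans (liftX_π j g n)
  hom_ext {W} a b hab := by
    haveI : Mono ((kernel.ι (towerD X p)).f j) := inferInstance
    rw [← cancel_mono ((kernel.ι (towerD X p)).f j)]
    apply hom_ext_X
    intro n
    have := hab n
    simpa only [HomologicalComplex.comp_f, Category.assoc] using this

end Tower

section Split

variable {A : Type u} [Category.{v} A] [Abelian A] [HasLimitsOfShape (Discrete ℕ) A]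
variable {X : ℕ → CochainComplex A ℤ} {p : ∀ n, X (n + 1) ⟶ X n}
variable (σ : ∀ (n : ℕ) (j : ℤ), (X n).X j ⟶ (X (n + 1)).X j)

/-- Components of the section of `towerD`. -/
noncomputable def secComp (j : ℤ) : ∀ n, (prodCx X).X j ⟶ (X n).X j
  | 0 => 0
  | n + 1 => (secComp j n - (prodπ X n).f j) ≫ σ n j

variable (hσ : ∀ (n : ℕ) (j : ℤ), σ n j ≫ (p n).f j = 𝟙 _)

include hσ in
lemma sec_towerD (j : ℤ) : liftX j (secComp σ j) ≫ (towerD X p).f j = 𝟙 _ := by
  apply hom_ext_X
  intro n
  rw [Category.assoc, towerD_f_π, Preadditive.comp_sub, liftX_π, liftX_π_assoc, Category.id_comp]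
  simp only [secComp]
  rw [Category.assoc, hσ, Category.comp_id]
  abel

include hσ in
lemma epi_towerD : Epi (towerD X p) := by
  haveI : ∀ j, Epi ((towerD X p).f j) := fun j =>
    (IsSplitEpi.mk' ⟨liftX j (secComp σ j), sec_towerD σ hσ j⟩).epi
  exact HomologicalComplex.epi_of_epi_f _ inferInstance

variable {T : CochainComplex A ℤ} {π : ∀ n, T ⟶ X n} (h : IsTowerLimit X p T π)

include h in
lemma mono_prodLift : Mono (prodLift π) :=
  ⟨fun a b hab => h.hom_ext a b (fun n => by
    have := congrArg (fun t => t ≫ prodπ X n) hab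
    simpa only [Category.assoc, prodLift_π] using this)⟩

/-- The short complex `T → ∏ X → ∏ X`. -/
noncomputable def sc : ShortComplex (CochainComplex A ℤ) :=
  ShortComplex.mk (prodLift π) (towerD X p) (lift_towerD π h.w)

include hσ in
lemma sc_shortExact : (sc h).ShortExact := by
  haveI : Mono (sc h).f := mono_prodLift h
  haveI : Epi (sc h).g := epi_towerD σ hσ
  refine ShortComplex.ShortExact.mk' (ShortComplex.exact_of_f_is_kernel _ ?_) inferInstance inferInstance
  refine KernelFork.IsLimit.ofι' (sc h).f (sc h).zero (fun {W} k hk => ?_)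
  have hk' : ∀ n, (k ≫ prodπ X (n + 1)) ≫ p n = k ≫ prodπ X n := compat_of_comp_towerD k hk
  refine ⟨(h.exists_lift (fun n => k ≫ prodπ X n) hk').choose, ?_⟩
  apply prod_hom_ext
  intro n
  have := (h.exists_lift (fun n => k ≫ prodπ X n) hk').choose_spec n
  simpa only [sc, Category.assoc, prodLift_π] using this

end Split

section Exact

variable {A : Type u} [Category.{v} A] [Abelian A] [HasLimitsOfShape (Discrete ℕ) A]
  [HasExactLimitsOfShape (Discrete ℕ) A]

lemma epi_piMap {Y Z : ℕ → A} (f : ∀ n, Y n ⟶ Z n) [∀ n, Epi (f n)] : Epi (Limits.Pi.map f) := by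
  let α : Discrete.functor Y ⟶ Discrete.functor Z := Discrete.natTrans (fun n => f n.as)
  haveI : ∀ c, Epi (α.app c) := fun c => by
    dsimp [α]
    infer_instance
  haveI : Epi α := NatTrans.epi_of_epi_app _
  exact (lim : (Discrete ℕ ⥤ A) ⥤ A).map_epi α

lemma exactAt_prodCx (X : ℕ → CochainComplex A ℤ) (j : ℤ) (hX : ∀ n, (X n).ExactAt j) :
    (prodCx X).ExactAt j := by
  have hX' : ∀ n, Epi (kernel.lift ((X n).d j (j + 1)) ((X n).d (j - 1) j) (by simp)) := fun n => by
    have := hX n
    rw [HomologicalComplex.exactAt_iff' _ (j - 1) j (j + 1) (by simp) (by simp),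
      ShortComplex.exact_iff_epi_kernel_lift] at this
    exact this
  rw [HomologicalComplex.exactAt_iff' _ (j - 1) j (j + 1) (by simp) (by simp),
    ShortComplex.exact_iff_epi_kernel_lift]
  let κ : ℕ → A := fun n => kernel ((X n).d j (j + 1))
  have hθ : liftX j (fun n => Pi.π κ n ≫ kernel.ι ((X n).d j (j + 1))) ≫
      (prodCx X).d j (j + 1) = 0 := by
    apply hom_ext_X
    intro n
    rw [Category.assoc, ← (prodπ X n).comm j (j + 1), liftX_π_assoc, Category.assoc,
      kernel.condition, comp_zero, zero_comp]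
  let θ : ∏ᶜ κ ⟶ kernel ((prodCx X).d j (j + 1)) := kernel.lift _ _ hθ
  let ψ : kernel ((prodCx X).d j (j + 1)) ⟶ ∏ᶜ κ :=
    Pi.lift (fun n => kernel.lift ((X n).d j (j + 1))
      (kernel.ι ((prodCx X).d j (j + 1)) ≫ (prodπ X n).f j) (by
        rw [Category.assoc, (prodπ X n).comm j (j + 1), kernel.condition_assoc, zero_comp]))
  have hψθ : ψ ≫ θ = 𝟙 _ := by
    rw [← cancel_mono (kernel.ι ((prodCx X).d j (j + 1)))]
    apply hom_ext_X
    intro n
    simp only [θ, ψ, Category.assoc, kernel.lift_ι, liftX_π, Category.id_comp]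
    rw [Pi.lift_π_assoc, kernel.lift_ι]
  haveI : Epi θ := (IsSplitEpi.mk' ⟨ψ, hψθ⟩).epi
  let e : ∀ n, (X n).X (j - 1) ⟶ κ n :=
    fun n => kernel.lift ((X n).d j (j + 1)) ((X n).d (j - 1) j) (by simp)
  haveI : ∀ n, Epi (e n) := hX'
  have hE0 := epi_piMap e
  let E : (prodCx X).X (j - 1) ⟶ ∏ᶜ κ := Pi.lift (fun n => (prodπ X n).f (j - 1) ≫ e n)
  have hE : E = (Limits.Pi.map e : (prodCx X).X (j - 1) ⟶ ∏ᶜ κ) := by
    apply Pi.hom_ext
    intro n
    rw [Pi.lift_π]
    exact (Limits.Pi.map_π e n).symm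
  haveI : Epi E := by
    rw [hE]
    exact hE0
  have key : kernel.lift ((prodCx X).d j (j + 1)) ((prodCx X).d (j - 1) j) (by simp) = E ≫ θ := by
    rw [← cancel_mono (kernel.ι ((prodCx X).d j (j + 1)))]
    apply hom_ext_X
    intro n
    simp only [θ, E, e, Category.assoc, kernel.lift_ι, liftX_π]
    rw [Pi.lift_π_assoc, Category.assoc, kernel.lift_ι]
    exact ((prodπ X n).comm (j - 1) j).symm
  change Epi (kernel.lift ((prodCx X).d j (j + 1)) ((prodCx X).d (j - 1) j) _)
  rw [key]
  exact epi_comp _ _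

variable {T : CochainComplex A ℤ}

lemma exactAt_of_isTowerLimit {X : ℕ → CochainComplex A ℤ} {p : ∀ n, X (n + 1) ⟶ X n}
    {π : ∀ n, T ⟶ X n} (h : IsTowerLimit X p T π)
    (σ : ∀ (n : ℕ) (j : ℤ), (X n).X j ⟶ (X (n + 1)).X j)
    (hσ : ∀ (n : ℕ) (j : ℤ), σ n j ≫ (p n).f j = 𝟙 _) (j : ℤ)
    (h1 : ∀ n, (X n).ExactAt j) (h2 : ∀ n, (X n).ExactAt (j - 1)) : T.ExactAt j := by
  have hS := sc_shortExact σ hσ h
  have e1 := exactAt_prodCx X j h1
  have e2 := exactAt_prodCx X (j - 1) h2
  rw [HomologicalComplex.exactAt_iff_isZero_homology] at e1 e2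
  refine hS.exactAt_X₁ j ⟨fun a b _ => e1.eq_of_tgt a b⟩ ?_
  intro i hi
  have : i = j - 1 := by simp at hi; omega
  subst this
  exact ⟨fun a b _ => e2.eq_of_src a b⟩

lemma exactAt_of_isTowerLimit' (j : ℤ) (N : ℕ) :
    ∀ {X : ℕ → CochainComplex A ℤ} {p : ∀ n, X (n + 1) ⟶ X n} {π : ∀ n, T ⟶ X n}
    (_ : IsTowerLimit X p T π) (σ : ∀ (n : ℕ) (j : ℤ), (X n).X j ⟶ (X (n + 1)).X j)
    (_ : ∀ (n : ℕ) (j : ℤ), σ n j ≫ (p n).f j = 𝟙 _)
    (_ : ∀ n, N ≤ n → (X n).ExactAt j) (_ : ∀ n, N ≤ n → (X n).ExactAt (j - 1)), T.ExactAt j := by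
  induction N with
  | zero =>
    intro X p π h σ hσ h1 h2
    exact exactAt_of_isTowerLimit h σ hσ j (fun n => h1 n (Nat.zero_le n)) (fun n => h2 n (Nat.zero_le n))
  | succ N ih =>
    intro X p π h σ hσ h1 h2
    exact ih h.tail (fun n j => σ (n + 1) j) (fun n j => hσ (n + 1) j)
      (fun n hn => h1 (n + 1) (by omega)) (fun n hn => h2 (n + 1) (by omega))

end Exact

section KInj

variable {A : Type u} [Category.{v} A] [Abelian A] [HasLimitsOfShape (Discrete ℕ) A]

lemma cochain_ext_prod {L : CochainComplex A ℤ} {X : ℕ → CochainComplex A ℤ} {m : ℤ}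
    (z₁ z₂ : Cochain L (prodCx X) m)
    (h : ∀ n, z₁.comp (Cochain.ofHom (prodπ X n)) (add_zero m) =
      z₂.comp (Cochain.ofHom (prodπ X n)) (add_zero m)) : z₁ = z₂ := by
  ext p q hpq
  apply hom_ext_X
  intro n
  have := Cochain.congr_v (h n) p q hpq
  simpa only [Cochain.comp_zero_cochain_v, Cochain.ofHom_v] using this

lemma isKInjective_prodCx (X : ℕ → CochainComplex A ℤ) [∀ n, (X n).IsKInjective] :
    (prodCx X).IsKInjective := by
  refine ⟨fun {L} f hL => ?_⟩
  choose hn hhn using fun n =>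
    IsKInjective.eq_δ_of_cocycle (Cocycle.ofHom (f ≫ prodπ X n)) hL (-1) (by simp)
  let H : Cochain L (prodCx X) (-1) :=
    Cochain.mk (fun p q hpq => liftX q (fun n => (hn n).v p q hpq))
  have hH : ∀ n, H.comp (Cochain.ofHom (prodπ X n)) (add_zero _) = hn n := by
    intro n
    ext p q hpq
    simp only [Cochain.comp_zero_cochain_v, Cochain.ofHom_v, H, Cochain.mk_v, liftX_π]
  have hδ : δ (-1) 0 H = Cochain.ofHom f := by
    apply cochain_ext_prod
    intro n
    rw [← δ_comp_ofHom, hH, hhn, ← Cochain.ofHom_comp]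
    rfl
  exact ⟨(Cochain.equivHomotopy f 0).symm ⟨H, by simp [hδ]⟩⟩

lemma isKInjective_of_isTowerLimit {X : ℕ → CochainComplex A ℤ} {p : ∀ n, X (n + 1) ⟶ X n}
    {T : CochainComplex A ℤ} {π : ∀ n, T ⟶ X n} (h : IsTowerLimit X p T π)
    (σ : ∀ (n : ℕ) (j : ℤ), (X n).X j ⟶ (X (n + 1)).X j)
    (hσ : ∀ (n : ℕ) (j : ℤ), σ n j ≫ (p n).f j = 𝟙 _) [∀ n, (X n).IsKInjective] :
    T.IsKInjective := by
  have hS := sc_shortExact σ hσ h
  have spl : ∀ j, ((sc h).map (HomologicalComplex.eval A (ComplexShape.up ℤ) j)).Splitting :=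
    fun j => by
      have hj := hS.map_of_exact (HomologicalComplex.eval A (ComplexShape.up ℤ) j)
      haveI := hj.mono_f
      exact ShortComplex.Splitting.ofExactOfSection _ hj.exact (liftX j (secComp σ j))
        (sec_towerD σ hσ j) inferInstance
  have hT := (HomotopyCategory.distinguished_iff_iso_trianglehOfDegreewiseSplit _).2
    ⟨sc h, spl, ⟨Iso.refl _⟩⟩
  haveI := isKInjective_prodCx X
  rw [isKInjective_iff_rightOrthogonal]
  exact ObjectProperty.ext_of_isTriangulatedClosed₁ _ _ hT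
    (IsKInjective.rightOrthogonal (prodCx X)) (IsKInjective.rightOrthogonal (prodCx X))

end KInj

section Cone

variable {A : Type u} [Category.{v} A] [Abelian A]
variable {K : CochainComplex A ℤ} {X : ℕ → CochainComplex A ℤ} {p : ∀ n, X (n + 1) ⟶ X n}
  {T : CochainComplex A ℤ} {π : ∀ n, T ⟶ X n}
  (φ : ∀ n, K ⟶ X n) (hφ : ∀ n, φ (n + 1) ≫ p n = φ n) (ψ : K ⟶ T) (hψ : ∀ n, ψ ≫ π n = φ n)

open RelRes

/-- Transition maps of the tower of mapping cones. -/
noncomputable def coneP (n : ℕ) : mappingCone (φ (n + 1)) ⟶ mappingCone (φ n) :=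
  mappingCone.map (φ (n + 1)) (φ n) (𝟙 K) (p n) (by rw [Category.id_comp, hφ])

/-- The legs of the cone over the tower of mapping cones. -/
noncomputable def coneπ (n : ℕ) : mappingCone ψ ⟶ mappingCone (φ n) :=
  mappingCone.map ψ (φ n) (𝟙 K) (π n) (by rw [Category.id_comp, hψ])

@[reassoc]
lemma coneP_fst (n : ℕ) (j k : ℤ) (hjk : j + 1 = k) :
    (coneP φ hφ n).f j ≫ (mappingCone.fst (φ n)).1.v j k hjk =
      (mappingCone.fst (φ (n + 1))).1.v j k hjk := by
  rw [coneP, map_f_fst_v, HomologicalComplex.id_f, Category.comp_id]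

@[reassoc]
lemma coneP_snd (n : ℕ) (j : ℤ) :
    (coneP φ hφ n).f j ≫ (mappingCone.snd (φ n)).v j j (add_zero j) =
      (mappingCone.snd (φ (n + 1))).v j j (add_zero j) ≫ (p n).f j := by
  rw [coneP, map_f_snd_v]

@[reassoc]
lemma coneπ_fst (n : ℕ) (j k : ℤ) (hjk : j + 1 = k) :
    (coneπ φ ψ hψ n).f j ≫ (mappingCone.fst (φ n)).1.v j k hjk =
      (mappingCone.fst ψ).1.v j k hjk := by
  rw [coneπ, map_f_fst_v, HomologicalComplex.id_f, Category.comp_id]

@[reassoc]
lemma coneπ_snd (n : ℕ) (j : ℤ) :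
    (coneπ φ ψ hψ n).f j ≫ (mappingCone.snd (φ n)).v j j (add_zero j) =
      (mappingCone.snd ψ).v j j (add_zero j) ≫ (π n).f j := by
  rw [coneπ, map_f_snd_v]

/-- The mapping cones form a tower with termwise split epi transitions. -/
lemma coneP_section (σ : ∀ (n : ℕ) (j : ℤ), (X n).X j ⟶ (X (n + 1)).X j)
    (hσ : ∀ (n : ℕ) (j : ℤ), σ n j ≫ (p n).f j = 𝟙 _) (n : ℕ) (j : ℤ) :
    ((mappingCone.fst (φ n)).1.v j (j + 1) rfl ≫ (mappingCone.inl (φ (n + 1))).v (j + 1) j (by lia) +
      (mappingCone.snd (φ n)).v j j (add_zero j) ≫ σ n j ≫ (mappingCone.inr (φ (n + 1))).f j) ≫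
      (coneP φ hφ n).f j = 𝟙 _ := by
  rw [mappingCone.ext_to_iff _ j (j + 1) rfl]
  constructor
  · simp only [Preadditive.add_comp, Category.assoc, coneP_fst, mappingCone.inl_v_fst_v,
      mappingCone.inr_f_fst_v, comp_zero, add_zero, Category.comp_id, Category.id_comp]
  · simp only [Preadditive.add_comp, Category.assoc, coneP_snd, mappingCone.inl_v_snd_v_assoc,
      mappingCone.inr_f_snd_v_assoc, zero_comp, comp_zero, zero_add, hσ, Category.comp_id,
      Category.id_comp]

include hφ in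
lemma fst_eq_of_compat {W : A} (j : ℤ) (g : ∀ n, W ⟶ (mappingCone (φ n)).X j)
    (hg : ∀ n, g (n + 1) ≫ (coneP φ hφ n).f j = g n) (n : ℕ) :
    g n ≫ (mappingCone.fst (φ n)).1.v j (j + 1) rfl =
      g 0 ≫ (mappingCone.fst (φ 0)).1.v j (j + 1) rfl := by
  induction n with
  | zero => rfl
  | succ n ih => rw [← ih, ← hg n, Category.assoc, coneP_fst]

/-- The mapping cone of the limit map is termwise the limit of the mapping cones. -/
lemma isTowerLimit_cone_f (hT : ∀ j, IsTowerLimit (fun n => (X n).X j) (fun n => (p n).f j) (T.X j)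
      (fun n => (π n).f j)) (j : ℤ) :
    IsTowerLimit (fun n => (mappingCone (φ n)).X j) (fun n => (coneP φ hφ n).f j)
      ((mappingCone ψ).X j) (fun n => (coneπ φ ψ hψ n).f j) where
  w n := by
    rw [mappingCone.ext_to_iff _ j (j + 1) rfl]
    constructor
    · rw [Category.assoc, coneP_fst, coneπ_fst, coneπ_fst]
    · rw [Category.assoc, coneP_snd, coneπ_snd_assoc, coneπ_snd, (hT j).w n]
  exists_lift {W} g hg := by
    obtain ⟨b, hb⟩ := (hT j).exists_lift
      (fun n => g n ≫ (mappingCone.snd (φ n)).v j j (add_zero j)) (fun n => by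
        rw [Category.assoc, ← coneP_snd φ hφ, ← Category.assoc, hg n])
    refine ⟨(g 0 ≫ (mappingCone.fst (φ 0)).1.v j (j + 1) rfl) ≫
      (mappingCone.inl ψ).v (j + 1) j (by lia) + b ≫ (mappingCone.inr ψ).f j, fun n => ?_⟩
    rw [mappingCone.ext_to_iff _ j (j + 1) rfl]
    constructor
    · simp only [Preadditive.add_comp, Category.assoc, coneπ_fst, mappingCone.inl_v_fst_v,
        mappingCone.inr_f_fst_v, comp_zero, add_zero, Category.comp_id]
      exact (fst_eq_of_compat φ hφ j g hg n).symm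
    · simp only [Preadditive.add_comp, Category.assoc, coneπ_snd, mappingCone.inl_v_snd_v_assoc,
        mappingCone.inr_f_snd_v_assoc, zero_comp, comp_zero, zero_add]
      exact hb n
  hom_ext {W} a b hab := by
    rw [mappingCone.ext_to_iff _ j (j + 1) rfl]
    constructor
    · have := hab 0
      have h2 := congrArg (fun t => t ≫ (mappingCone.fst (φ 0)).1.v j (j + 1) rfl) this
      simpa only [Category.assoc, coneπ_fst] using h2
    · apply (hT j).hom_ext
      intro n
      have h2 := congrArg (fun t => t ≫ (mappingCone.snd (φ n)).v j j (add_zero j)) (hab n)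
      simpa only [Category.assoc, coneπ_snd] using h2

end Cone

section Termwise

variable {A : Type u} [Category.{v} A] [Abelian A]

lemma isTowerLimit_of_termwise {X : ℕ → CochainComplex A ℤ} {p : ∀ n, X (n + 1) ⟶ X n}
    {T : CochainComplex A ℤ} {π : ∀ n, T ⟶ X n}
    (hT : ∀ j, IsTowerLimit (fun n => (X n).X j) (fun n => (p n).f j) (T.X j)
      (fun n => (π n).f j)) : IsTowerLimit X p T π where
  w n := by
    ext j
    exact (hT j).w n
  exists_lift {W} g hg := by
    have hg' : ∀ j n, (g (n + 1)).f j ≫ (p n).f j = (g n).f j := fun j n => by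
      rw [← HomologicalComplex.comp_f, hg]
    choose l hl using fun j => (hT j).exists_lift (fun n => (g n).f j) (hg' j)
    refine ⟨{ f := l, comm' := fun i j _ => ?_ }, fun n => by ext j; exact hl j n⟩
    apply (hT j).hom_ext
    intro n
    rw [Category.assoc, Category.assoc, hl j n, ← (π n).comm i j, ← Category.assoc, hl i n,
      (g n).comm i j]
  hom_ext {W} a b hab := by
    ext j
    apply (hT j).hom_ext
    intro n
    exact congrArg (fun t => t.f j) (hab n)

lemma epi_map_iff_of_natIso {C D : Type*} [Category C] [Category D] {F G : C ⥤ D} (e : F ≅ G)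
    {X Y : C} (f : X ⟶ Y) : Epi (F.map f) ↔ Epi (G.map f) :=
  (MorphismProperty.epimorphisms D).arrow_mk_iso_iff (Arrow.isoMk (e.app X) (e.app Y) (by simp))

lemma mono_map_iff_of_natIso {C D : Type*} [Category C] [Category D] {F G : C ⥤ D} (e : F ≅ G)
    {X Y : C} (f : X ⟶ Y) : Mono (F.map f) ↔ Mono (G.map f) :=
  (MorphismProperty.monomorphisms D).arrow_mk_iso_iff (Arrow.isoMk (e.app X) (e.app Y) (by simp))

attribute [local instance] HasDerivedCategory.standard in
lemma exactAt_mappingCone {K L : CochainComplex A ℤ} (φ : K ⟶ L) (q : ℤ)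
    (h1 : Epi (HomologicalComplex.homologyMap φ q))
    (h2 : Mono (HomologicalComplex.homologyMap φ (q + 1))) :
    (mappingCone φ).ExactAt q := by
  have hT := DerivedCategory.mappingCone_triangle_distinguished φ
  have e1 : Epi ((DerivedCategory.homologyFunctor A q).map (DerivedCategory.Q.map φ)) :=
    (epi_map_iff_of_natIso (DerivedCategory.homologyFunctorFactors A q) φ).2 h1
  have e2 : Mono ((DerivedCategory.homologyFunctor A (q + 1)).map (DerivedCategory.Q.map φ)) :=
    (mono_map_iff_of_natIso (DerivedCategory.homologyFunctorFactors A (q + 1)) φ).2 h2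
  have x2 := DerivedCategory.HomologySequence.exact₂ _ hT q
  have x3 := DerivedCategory.HomologySequence.exact₃ _ hT q (q + 1) rfl
  have x1 := DerivedCategory.HomologySequence.exact₁ _ hT q (q + 1) rfl
  have e1' : Epi ((DerivedCategory.homologyFunctor A q).map
      (DerivedCategory.Q.mapTriangle.obj (mappingCone.triangle φ)).mor₁) := e1
  have e2' : Mono ((DerivedCategory.homologyFunctor A (q + 1)).map
      (DerivedCategory.Q.mapTriangle.obj (mappingCone.triangle φ)).mor₁) := e2
  have z2 : (DerivedCategory.homologyFunctor A q).map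
      (DerivedCategory.Q.mapTriangle.obj (mappingCone.triangle φ)).mor₂ = 0 := by
    rw [← cancel_epi ((DerivedCategory.homologyFunctor A q).map
      (DerivedCategory.Q.mapTriangle.obj (mappingCone.triangle φ)).mor₁), comp_zero,
      ← Functor.map_comp, Pretriangulated.comp_distTriang_mor_zero₁₂ _ hT, Functor.map_zero]
  have z3 : DerivedCategory.HomologySequence.δ
      (DerivedCategory.Q.mapTriangle.obj (mappingCone.triangle φ)) q (q + 1) rfl = 0 := by
    rw [← cancel_mono ((DerivedCategory.homologyFunctor A (q + 1)).map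
      (DerivedCategory.Q.mapTriangle.obj (mappingCone.triangle φ)).mor₁), zero_comp]
    exact DerivedCategory.HomologySequence.δ_comp _ hT q (q + 1) rfl
  have hz := x3.isZero_of_both_zeros z2 z3
  rw [HomologicalComplex.exactAt_iff_isZero_homology]
  exact hz.of_iso ((DerivedCategory.homologyFunctorFactors A q).app (mappingCone φ)).symm

end Termwise

section Main

variable {A : Type u} [Category.{v} A] [Abelian A] [EnoughInjectives A]
variable (K : CochainComplex A ℤ)

/-- The class of injective objects. -/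
def inj : ObjectProperty A := fun X => Injective X

instance : (inj (A := A)).IsClosedUnderIsomorphisms :=
  ⟨fun e h => Injective.of_iso e h⟩

lemma inj_embed (X : A) : ∃ (Y : A) (ι : X ⟶ Y), inj Y ∧ Mono ι :=
  ⟨Injective.under X, Injective.ι X, (inferInstance : Injective (Injective.under X)), inferInstance⟩

open ZeroObject in
lemma inj_zero : ∃ Z : A, IsZero Z ∧ inj Z :=
  ⟨0, isZero_zero _, (inferInstance : Injective (0 : A))⟩

/-- Stage `n` of the tower. -/
structure Stage (n : ℕ) where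
  I : CochainComplex A ℤ
  φ : K ⟶ I
  hGE : I.IsStrictlyGE (-(n : ℤ))
  hinj : ∀ j, Injective (I.X j)
  hq : ∀ q : ℤ, -(n : ℤ) ≤ q → QuasiIsoAt φ q

/-- A step of the tower. -/
structure Step {n : ℕ} (s : Stage K n) where
  next : Stage K (n + 1)
  p : next.I ⟶ s.I
  σ : ∀ j, s.I.X j ⟶ next.I.X j
  hσ : ∀ j, σ j ≫ p.f j = 𝟙 _
  comm : next.φ ≫ p = s.φ

lemma exists_stage_zero : Nonempty (Stage K 0) := by
  obtain ⟨L, α, hL, hIL, -, hα⟩ :=
    RightRes.exists_of_isStrictlyGE (I := inj) inj_embed inj_zero (K.truncGE 0) 0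
  refine ⟨⟨L, K.πTruncGE 0 ≫ α, by simpa using hL, hIL, fun q hq => ?_⟩⟩
  haveI := K.quasiIsoAt_πTruncGE 0 q (by simpa using hq)
  haveI : QuasiIsoAt α q := inferInstance
  exact quasiIsoAt_comp _ _ _

variable {K}

lemma exists_step {n : ℕ} (s : Stage K n) : Nonempty (Step K s) := by
  haveI := s.hGE
  haveI : s.I.IsStrictlyGE (-((n + 1 : ℕ) : ℤ)) :=
    s.I.isStrictlyGE_of_ge (-((n + 1 : ℕ) : ℤ)) (-(n : ℤ)) (by push_cast; lia)
  obtain ⟨M, γ, p, hγp, hγ, -, hM, hIM, hsec⟩ :=
    RelRes.exists_relative inj inj_zero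
      (fun X Y (hX : Injective X) (hY : Injective Y) => (inferInstance : Injective (X ⊞ Y)))
      inj_embed
      (CochainComplex.truncGEMap s.φ (-((n + 1 : ℕ) : ℤ)) ≫ inv (s.I.πTruncGE (-((n + 1 : ℕ) : ℤ))))
      (-((n + 1 : ℕ) : ℤ)) s.hinj
  choose σ hσ using fun j => (hsec j).1
  refine ⟨⟨⟨M, K.πTruncGE (-((n + 1 : ℕ) : ℤ)) ≫ γ, hM, hIM, fun q hq => ?_⟩, p, σ, hσ, ?_⟩⟩
  · haveI := K.quasiIsoAt_πTruncGE (-((n + 1 : ℕ) : ℤ)) q hq
    haveI : QuasiIsoAt γ q := inferInstance
    exact quasiIsoAt_comp _ _ _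
  · rw [Category.assoc, hγp, CochainComplex.πTruncGE_naturality_assoc, IsIso.hom_inv_id,
      Category.comp_id]

variable (K)

/-- The chosen tower. -/
noncomputable def stage : ∀ n, Stage K n
  | 0 => (exists_stage_zero K).some
  | n + 1 => (exists_step (stage n)).some.next

/-- The chosen steps. -/
noncomputable def step (n : ℕ) : Step K (stage K n) := (exists_step (stage K n)).some

omit [EnoughInjectives A] in
lemma quasiIso_of_acyclic_mappingCone {K T : CochainComplex A ℤ} (ψ : K ⟶ T)
    (h : (mappingCone ψ).Acyclic) : QuasiIso ψ := by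
  rw [← HomologicalComplex.mem_quasiIso_iff, ← HomotopyCategory.quotient_map_mem_quasiIso_iff,
    HomotopyCategory.quasiIso_eq_trW_subcategoryAcyclic]
  exact ObjectProperty.trW.mk _ (HomotopyCategory.mappingCone_triangleh_distinguished ψ)
    ((HomotopyCategory.quotient_obj_mem_subcategoryAcyclic_iff_acyclic _).2 h)

/-- **Spaltenstein**: in an abelian category with enough injectives and exact countable products,
every complex has a K-injective resolution. -/
theorem exists_kInjective_resolution [HasLimitsOfShape (Discrete ℕ) A]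
    [HasExactLimitsOfShape (Discrete ℕ) A] :
    ∃ (I : CochainComplex A ℤ) (f : K ⟶ I), I.IsKInjective ∧ QuasiIso f := by
  let X : ℕ → CochainComplex A ℤ := fun n => (stage K n).I
  let p : ∀ n, X (n + 1) ⟶ X n := fun n => (step K n).p
  let φ : ∀ n, K ⟶ X n := fun n => (stage K n).φ
  have hφ : ∀ n, φ (n + 1) ≫ p n = φ n := fun n => (step K n).comm
  let σ : ∀ (n : ℕ) (j : ℤ), (X n).X j ⟶ (X (n + 1)).X j := fun n j => (step K n).σ j
  have hσ : ∀ (n : ℕ) (j : ℤ), σ n j ≫ (p n).f j = 𝟙 _ := fun n j => (step K n).hσ j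
  haveI : ∀ n, (X n).IsKInjective := fun n => by
    haveI := (stage K n).hGE
    haveI := (stage K n).hinj
    exact isKInjective_of_injective _ (-(n : ℤ))
  have hTl := isTowerLimit_kernel X p
  have hTf := isTowerLimit_kernel_f X p
  obtain ⟨ψ, hψ⟩ := hTl.exists_lift φ hφ
  refine ⟨kernel (towerD X p), ψ, isKInjective_of_isTowerLimit hTl σ hσ, ?_⟩
  apply quasiIso_of_acyclic_mappingCone
  intro q
  have hC := isTowerLimit_of_termwise (isTowerLimit_cone_f φ hφ ψ hψ hTf)
  have hiso : ∀ (n : ℕ) (j : ℤ), -(n : ℤ) ≤ j → IsIso (HomologicalComplex.homologyMap (φ n) j) :=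
    fun n j hj => by
      have := (stage K n).hq j hj
      rwa [quasiIsoAt_iff_isIso_homologyMap] at this
  have hex : ∀ (n : ℕ) (j : ℤ), -(n : ℤ) ≤ j → (mappingCone (φ n)).ExactAt j := fun n j hj => by
    haveI := hiso n j hj
    haveI := hiso n (j + 1) (by lia)
    exact exactAt_mappingCone (φ n) j inferInstance inferInstance
  refine exactAt_of_isTowerLimit' q (1 - q).toNat hC
    (fun n j => (mappingCone.fst (φ n)).1.v j (j + 1) rfl ≫
        (mappingCone.inl (φ (n + 1))).v (j + 1) j (by lia) +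
      (mappingCone.snd (φ n)).v j j (add_zero j) ≫ σ n j ≫ (mappingCone.inr (φ (n + 1))).f j)
    (fun n j => coneP_section φ hφ σ hσ n j)
    (fun n hn => hex n q (by lia)) (fun n hn => hex n (q - 1) (by lia))

end Main

end Groth.Agent.Lib.Helper32.KInjTower
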