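import Mathlib
import Groth.Agent.Lib.Helper32.KInjTower

/-!
# Countable products in `D(A)` of objects with K-injective representatives (helper32)

* `existsUnique_lift` : for K-injective `I n`, `Q (prodCx I)` is a product of the `Q (I n)` in `D(A)`.
* `hasProduct_of_kInjective_reps`.
* `exists_kInjective_rep_of_isGE` : bounded below objects have K-injective representatives
  (enough injectives).
-/

set_option autoImplicit false

universe w v u
open CategoryTheory CategoryTheory.Limits CochainComplex HomComplex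

namespace Groth.Agent.Lib.Helper32.DProd

open Groth.Agent.Lib.Helper32.KInjTower

variable {A : Type u} [Category.{v} A] [Abelian A] [HasLimitsOfShape (Discrete ℕ) A]

lemma homotopy_zero_of_comp_prodπ {L : CochainComplex A ℤ} {X : ℕ → CochainComplex A ℤ}
    (w : L ⟶ prodCx X) (h : ∀ n, Nonempty (Homotopy (w ≫ prodπ X n) 0)) :
    Nonempty (Homotopy w 0) := by
  have h' : ∀ n, ∃ z : Cochain L (X n) (-1), δ (-1) 0 z = Cochain.ofHom (w ≫ prodπ X n) := by
    intro n
    obtain ⟨z, hz⟩ := Cochain.equivHomotopy _ _ (h n).some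
    exact ⟨z, by simpa using hz.symm⟩
  choose hn hhn using h'
  let H : Cochain L (prodCx X) (-1) :=
    Cochain.mk (fun p q hpq => liftX q (fun n => (hn n).v p q hpq))
  have hH : ∀ n, H.comp (Cochain.ofHom (prodπ X n)) (add_zero _) = hn n := by
    intro n
    ext p q hpq
    simp only [Cochain.comp_zero_cochain_v, Cochain.ofHom_v, H, Cochain.mk_v, liftX_π]
  have hδ : δ (-1) 0 H = Cochain.ofHom w := by
    apply cochain_ext_prod
    intro n
    rw [← δ_comp_ofHom, hH, hhn, ← Cochain.ofHom_comp]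
  exact ⟨(Cochain.equivHomotopy w 0).symm ⟨H, by simp [hδ]⟩⟩

lemma quotient_map_eq_of_comp_prodπ {L : CochainComplex A ℤ} {X : ℕ → CochainComplex A ℤ}
    (u v : L ⟶ prodCx X)
    (h : ∀ n, (HomotopyCategory.quotient A (ComplexShape.up ℤ)).map (u ≫ prodπ X n) =
      (HomotopyCategory.quotient A (ComplexShape.up ℤ)).map (v ≫ prodπ X n)) :
    (HomotopyCategory.quotient A (ComplexShape.up ℤ)).map u =
      (HomotopyCategory.quotient A (ComplexShape.up ℤ)).map v := by
  have h0 : ∀ n, Nonempty (Homotopy ((u - v) ≫ prodπ X n) 0) := by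
    intro n
    have : (HomotopyCategory.quotient A (ComplexShape.up ℤ)).map ((u - v) ≫ prodπ X n) =
        (HomotopyCategory.quotient A (ComplexShape.up ℤ)).map 0 := by
      rw [Preadditive.sub_comp, Functor.map_sub, h n, sub_self, Functor.map_zero]
    exact ⟨HomotopyCategory.homotopyOfEq _ _ this⟩
  obtain ⟨H⟩ := homotopy_zero_of_comp_prodπ (u - v) h0
  have := HomotopyCategory.eq_of_homotopy _ _ H
  rw [Functor.map_sub, Functor.map_zero, sub_eq_zero] at this
  exact this

section Derived

variable [HasDerivedCategory.{w} A]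

variable (A) in
/-- `Qh` with explicit category. -/
noncomputable abbrev Qh' : HomotopyCategory A (ComplexShape.up ℤ) ⥤ DerivedCategory A :=
  DerivedCategory.Qh

variable (A) in
/-- The quotient functor to the homotopy category. -/
abbrev quo : CochainComplex A ℤ ⥤ HomotopyCategory A (ComplexShape.up ℤ) :=
  HomotopyCategory.quotient A (ComplexShape.up ℤ)

/-- `Q (∏ I n)` is the product of the `Q (I n)` when the `I n` are K-injective (`Qh` version). -/
theorem existsUnique_lift_Qh (I : ℕ → CochainComplex A ℤ) [∀ n, (I n).IsKInjective]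
    (T : DerivedCategory A)
    (f : ∀ n, T ⟶ (Qh' A).obj ((quo A).obj (I n))) :
    ∃! u : T ⟶ (Qh' A).obj ((quo A).obj (prodCx I)), ∀ n, u ≫ (Qh' A).map ((quo A).map (prodπ I n)) = f n := by
  haveI := isKInjective_prodCx I
  -- reduce to `T = Qh.obj ((quo A).obj X)`
  obtain ⟨X, ⟨i⟩⟩ : ∃ X : CochainComplex A ℤ, Nonempty ((Qh' A).obj ((quo A).obj X) ≅ T) := by
    obtain ⟨T', ⟨i⟩⟩ : ∃ T', Nonempty ((Qh' A).obj T' ≅ T) := ⟨_, ⟨(Qh' A).objObjPreimageIso T⟩⟩
    obtain ⟨X, rfl⟩ := HomotopyCategory.quotient_obj_surjective T'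
    exact ⟨X, ⟨i⟩⟩
  have hg : ∀ n, ∃ g : X ⟶ I n, (Qh' A).map ((quo A).map g) = i.hom ≫ f n := by
    intro n
    obtain ⟨g, hg⟩ := (CochainComplex.IsKInjective.Qh_map_bijective ((quo A).obj X) (I n)).surjective
      (i.hom ≫ f n)
    obtain ⟨g', rfl⟩ := (quo A).map_surjective g
    exact ⟨g', hg⟩
  choose g hg using hg
  refine ⟨i.inv ≫ (Qh' A).map ((quo A).map (prodLift g)), fun n => ?_, fun u hu => ?_⟩
  · rw [Category.assoc, ← Functor.map_comp, ← Functor.map_comp, prodLift_π, hg, Iso.inv_hom_id_assoc]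
  · obtain ⟨u', hu'⟩ := (CochainComplex.IsKInjective.Qh_map_bijective ((quo A).obj X)
      (prodCx I)).surjective (i.hom ≫ u)
    obtain ⟨u'', rfl⟩ := (quo A).map_surjective u'
    have h1 : (quo A).map u'' = (quo A).map (prodLift g) := by
      apply quotient_map_eq_of_comp_prodπ
      intro n
      apply (CochainComplex.IsKInjective.Qh_map_bijective ((quo A).obj X) (I n)).injective
      rw [Functor.map_comp, Functor.map_comp, hu', Category.assoc, hu n, prodLift_π, hg]
    rw [← h1, hu', Iso.inv_hom_id_assoc]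

/-- The product fan. -/
noncomputable def fanQh (I : ℕ → CochainComplex A ℤ) :
    Fan (fun n => (Qh' A).obj ((quo A).obj (I n))) :=
  Fan.mk ((Qh' A).obj ((quo A).obj (prodCx I))) (fun n => (Qh' A).map ((quo A).map (prodπ I n)))

noncomputable def isLimitFanQh (I : ℕ → CochainComplex A ℤ) [∀ n, (I n).IsKInjective] :
    IsLimit (fanQh I) :=
  Fan.IsLimit.mk _ (fun s => (existsUnique_lift_Qh I s.pt s.proj).choose)
    (fun s n => (existsUnique_lift_Qh I s.pt s.proj).choose_spec.1 n)
    (fun s m hm => (existsUnique_lift_Qh I s.pt s.proj).choose_spec.2 m hm)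

theorem hasProduct_of_kInjective_reps (K : ℕ → DerivedCategory A)
    (h : ∀ n, ∃ I : CochainComplex A ℤ, I.IsKInjective ∧
      Nonempty (DerivedCategory.Q.obj I ≅ K n)) : HasProduct K := by
  choose I hI e using h
  haveI := hI
  have : HasLimit (Discrete.functor (fun n => (Qh' A).obj ((quo A).obj (I n)))) :=
    ⟨⟨_, isLimitFanQh I⟩⟩
  exact hasLimit_of_iso (F := Discrete.functor (fun n => (Qh' A).obj ((quo A).obj (I n))))
    (G := Discrete.functor K) (Discrete.natIso (fun ⟨n⟩ =>
      (DerivedCategory.quotientCompQhIso A).app (I n) ≪≫ (e n).some))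

omit [HasLimitsOfShape (Discrete ℕ) A] in
/-- Bounded below objects of `D(A)` have K-injective representatives (enough injectives). -/
theorem exists_kInjective_rep_of_isGE [EnoughInjectives A] (X : DerivedCategory A) (a : ℤ)
    [X.IsGE a] : ∃ I : CochainComplex A ℤ, I.IsKInjective ∧
      Nonempty (DerivedCategory.Q.obj I ≅ X) := by
  obtain ⟨K, hK, ⟨e⟩⟩ := X.exists_iso_Q_obj_of_isGE a
  obtain ⟨L, α, hL, hI, -, hα⟩ :=
    RightRes.exists_of_isStrictlyGE (I := inj) inj_embed inj_zero K a
  haveI : ∀ n, Injective (L.X n) := hI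
  exact ⟨L, CochainComplex.isKInjective_of_injective L a,
    ⟨(asIso (DerivedCategory.Q.map α)).symm ≪≫ e.symm⟩⟩

end Derived

end Groth.Agent.Lib.Helper32.DProd
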