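import Mathlib
import Groth.Agent.Lib.Helper32.KInjDerived

/-!
# A criterion for being a right derived functor, in the presence of K-injective resolutions (helper32)

If every complex of `A` has a K-injective resolution, then `(T, β : F ⟶ Qh ⋙ T)` is a right derived
functor of `F : K(A) ⥤ H` as soon as `β` is an isomorphism on K-injective complexes.
-/

set_option autoImplicit false

universe w v u
open CategoryTheory CategoryTheory.Limits

namespace Groth.Agent.Lib.Helper32.RDerCrit

open Groth.Agent.Lib.Helper32.KInjDerived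

variable {A : Type u} [Category.{v} A] [Abelian A] [HasDerivedCategory.{w} A]
  {H : Type*} [Category H]

/-- The unit of a right derived functor is an isomorphism on K-injective complexes. -/
lemma isIso_app_kInjective (h : HasKInjRes A)
    {F : HomotopyCategory A (ComplexShape.up ℤ) ⥤ H}
    (RF : DerivedCategory A ⥤ H) (α : F ⟶ DerivedCategory.Qh ⋙ RF)
    [RF.IsRightDerivedFunctor α (HomotopyCategory.quasiIso A (ComplexShape.up ℤ))]
    (I : CochainComplex A ℤ) [I.IsKInjective] :
    IsIso (α.app ((HomotopyCategory.quotient A (ComplexShape.up ℤ)).obj I)) :=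
  isIso_app_of_isTerminal (hasTerminalArrows_Qh h)
    (HomotopyCategory.quasiIso A (ComplexShape.up ℤ)) RF α _ (isTerminalMkId I)

/-- Every object of `D(A)` is isomorphic to the image of a K-injective complex. -/
lemma exists_iso_kInjective (h : HasKInjRes A) (Y : DerivedCategory A) :
    ∃ (I : CochainComplex A ℤ), I.IsKInjective ∧
      Nonempty (DerivedCategory.Qh.obj
        ((HomotopyCategory.quotient A (ComplexShape.up ℤ)).obj I) ≅ Y) := by
  obtain ⟨K, hK⟩ := HomotopyCategory.quotient_obj_surjective (DerivedCategory.Qh.objPreimage Y)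
  obtain ⟨I, f, hI, hf⟩ := h K
  refine ⟨I, hI, ?_⟩
  have h1 : HomotopyCategory.quasiIso A (ComplexShape.up ℤ)
      ((HomotopyCategory.quotient A (ComplexShape.up ℤ)).map f) := by
    rwa [HomotopyCategory.quotient_map_mem_quasiIso_iff]
  have := Localization.inverts DerivedCategory.Qh
    (HomotopyCategory.quasiIso A (ComplexShape.up ℤ)) _ h1
  exact ⟨(asIso (DerivedCategory.Qh.map
    ((HomotopyCategory.quotient A (ComplexShape.up ℤ)).map f))).symm ≪≫
    DerivedCategory.Qh.mapIso (eqToIso hK) ≪≫ DerivedCategory.Qh.objObjPreimageIso Y⟩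

/-- Criterion: `β` iso on K-injectives implies `(T, β)` is a right derived functor. -/
theorem isRightDerivedFunctor_of_isIso (h : HasKInjRes A)
    {F : HomotopyCategory A (ComplexShape.up ℤ) ⥤ H} (T : DerivedCategory A ⥤ H)
    (β : F ⟶ DerivedCategory.Qh ⋙ T)
    (hβ : ∀ (I : CochainComplex A ℤ), I.IsKInjective →
      IsIso (β.app ((HomotopyCategory.quotient A (ComplexShape.up ℤ)).obj I))) :
    T.IsRightDerivedFunctor β (HomotopyCategory.quasiIso A (ComplexShape.up ℤ)) := by
  have hL := hasTerminalArrows_Qh h
  have := hasPointwiseLeftKanExtension hL F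
  let RF := (DerivedCategory.Qh (C := A)).leftKanExtension F
  let α : F ⟶ DerivedCategory.Qh ⋙ RF := (DerivedCategory.Qh (C := A)).leftKanExtensionUnit F
  haveI : RF.IsRightDerivedFunctor α (HomotopyCategory.quasiIso A (ComplexShape.up ℤ)) :=
    ⟨inferInstance⟩
  rw [Functor.isRightDerivedFunctor_iff_isIso_rightDerivedDesc RF α]
  rw [NatTrans.isIso_iff_isIso_app]
  intro Y
  obtain ⟨I, hI, ⟨e⟩⟩ := exists_iso_kInjective h Y
  rw [← NatTrans.isIso_app_iff_of_iso _ e]
  have h1 := isIso_app_kInjective h RF α I
  have h2 := hβ I hI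
  have h3 := Functor.rightDerived_fac_app RF α
    (HomotopyCategory.quasiIso A (ComplexShape.up ℤ)) T β
    ((HomotopyCategory.quotient A (ComplexShape.up ℤ)).obj I)
  rw [← h3] at h2
  exact IsIso.of_isIso_comp_left (α.app _) _

end Groth.Agent.Lib.Helper32.RDerCrit
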