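import Mathlib
import Groth.Agent.Lib.Helper32.KInjDerived
import Groth.Agent.Lib.Helper32.RDerCrit

/-!
# Total right derived functors and distinguished triangles (helper32)

Let `A` be an abelian category in which every complex has a K-injective resolution, `F : A ⥤ B` an
additive functor and `(RF, α)` a total right derived functor of `F` on unbounded derived categories.
* `β K : Q (F K) ⟶ RF (Q K)`: the comparison map, natural in the complex `K`, an isomorphism for
  K-injective `K`;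
* `exists_distinguished`: for every distinguished triangle `T` of `D(A)` there is a morphism `h` such that
  `(RF T.mor₁, RF T.mor₂, h)` is a distinguished triangle of `D(B)`;
* `isZero_homology_obj₂`: two-out-of-three for the vanishing of `Hⁱ(RF -)`.
-/

set_option autoImplicit false
universe w w' v v' u u'
open CategoryTheory CategoryTheory.Limits CategoryTheory.Pretriangulated DerivedCategory

namespace Groth.Agent.Lib.Helper32.TriRF

open Groth.Agent.Lib.Helper32.KInjDerived Groth.Agent.Lib.Helper32.RDerCrit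

section Reps

variable {A : Type u} [Category.{v} A] [Abelian A] [HasDerivedCategory.{w} A]

lemma exists_kInj_rep (hA : HasKInjRes A) (X : DerivedCategory A) :
    ∃ (I : CochainComplex A ℤ), I.IsKInjective ∧ Nonempty (Q.obj I ≅ X) := by
  obtain ⟨I, hI, ⟨e⟩⟩ := exists_iso_kInjective hA X
  exact ⟨I, hI, ⟨((quotientCompQhIso A).app I).symm ≪≫ e⟩⟩

lemma exists_Q_map_eq {X Y : CochainComplex A ℤ} [Y.IsKInjective] (φ : Q.obj X ⟶ Q.obj Y) :
    ∃ f : X ⟶ Y, Q.map f = φ := by
  obtain ⟨g, hg⟩ := (CochainComplex.IsKInjective.Qh_map_bijective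
    ((HomotopyCategory.quotient A (ComplexShape.up ℤ)).obj X) Y).surjective φ
  obtain ⟨g', rfl⟩ := (HomotopyCategory.quotient A (ComplexShape.up ℤ)).map_surjective g
  exact ⟨g', hg⟩

lemma isKInjective_mappingCone {I₁ I₂ : CochainComplex A ℤ} [I₁.IsKInjective] [I₂.IsKInjective]
    (ψ : I₁ ⟶ I₂) : (CochainComplex.mappingCone ψ).IsKInjective := by
  rw [CochainComplex.isKInjective_iff_rightOrthogonal]
  exact ObjectProperty.ext_of_isTriangulatedClosed₃ _ _
    (HomotopyCategory.mappingCone_triangleh_distinguished ψ)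
    (CochainComplex.IsKInjective.rightOrthogonal I₁) (CochainComplex.IsKInjective.rightOrthogonal I₂)

end Reps

variable {A : Type u} [Category.{v} A] [Abelian A] [HasDerivedCategory.{w} A]
  {B : Type u'} [Category.{v'} B] [Abelian B] [HasDerivedCategory.{w'} B]
  (F : A ⥤ B) [F.Additive]
  (RF : DerivedCategory A ⥤ DerivedCategory B)
  (α : F.mapHomotopyCategory (ComplexShape.up ℤ) ⋙ DerivedCategory.Qh ⟶ DerivedCategory.Qh ⋙ RF)

/-- the comparison map `Q (F K) ⟶ RF (Q K)` -/
noncomputable def β (K : CochainComplex A ℤ) :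
    Q.obj ((F.mapHomologicalComplex (ComplexShape.up ℤ)).obj K) ⟶ RF.obj (Q.obj K) :=
  (quotientCompQhIso B).inv.app _ ≫
    Qh.map ((F.mapHomotopyCategoryFactors (ComplexShape.up ℤ)).inv.app K) ≫
    α.app ((HomotopyCategory.quotient A (ComplexShape.up ℤ)).obj K) ≫
    RF.map ((quotientCompQhIso A).hom.app K)

lemma β_naturality {K L : CochainComplex A ℤ} (f : K ⟶ L) :
    Q.map ((F.mapHomologicalComplex (ComplexShape.up ℤ)).map f) ≫ β F RF α L =
      β F RF α K ≫ RF.map (Q.map f) := by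
  dsimp only [β]
  have h1 := (quotientCompQhIso B).inv.naturality ((F.mapHomologicalComplex (ComplexShape.up ℤ)).map f)
  have h2 := (F.mapHomotopyCategoryFactors (ComplexShape.up ℤ)).inv.naturality f
  have h3 := α.naturality ((HomotopyCategory.quotient A (ComplexShape.up ℤ)).map f)
  have h4 := (quotientCompQhIso A).hom.naturality f
  dsimp only [Functor.comp_map, Functor.comp_obj] at h1 h2 h3 h4
  rw [reassoc_of% h1, ← Qh.map_comp_assoc, h2, Qh.map_comp_assoc, reassoc_of% h3]
  simp only [Category.assoc, ← RF.map_comp, h4]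

variable [RF.IsRightDerivedFunctor α (HomotopyCategory.quasiIso A (ComplexShape.up ℤ))]

lemma isIso_β (hA : HasKInjRes A) (I : CochainComplex A ℤ) [I.IsKInjective] : IsIso (β F RF α I) := by
  haveI := isIso_app_kInjective hA RF α I
  dsimp only [β]
  infer_instance

include α in
/-- `RF` sends distinguished triangles to distinguished triangles (for a suitable third map). -/
theorem exists_distinguished (hA : HasKInjRes A) (T : Triangle (DerivedCategory A))
    (hT : T ∈ distTriang _) :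
    ∃ h : RF.obj T.obj₃ ⟶ (RF.obj T.obj₁)⟦(1 : ℤ)⟧,
      Triangle.mk (RF.map T.mor₁) (RF.map T.mor₂) h ∈ distTriang _ := by
  obtain ⟨I₁, hI₁, ⟨e₁⟩⟩ := exists_kInj_rep hA T.obj₁
  obtain ⟨I₂, hI₂, ⟨e₂⟩⟩ := exists_kInj_rep hA T.obj₂
  haveI := hI₁
  haveI := hI₂
  obtain ⟨ψ, hψ⟩ := exists_Q_map_eq (e₁.hom ≫ T.mor₁ ≫ e₂.inv)
  haveI := isKInjective_mappingCone ψ
  let T' := Q.mapTriangle.obj (CochainComplex.mappingCone.triangle ψ)
  have hT' : T' ∈ distTriang _ := mappingCone_triangle_distinguished ψ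
  let ε : T' ≅ T := isoTriangleOfIso₁₂ T' T hT' hT e₁ e₂ (by
    change Q.map ψ ≫ e₂.hom = e₁.hom ≫ T.mor₁
    rw [hψ, Category.assoc, Category.assoc, Iso.inv_hom_id, Category.comp_id])
  let Fψ := (F.mapHomologicalComplex (ComplexShape.up ℤ)).map ψ
  let T'' := Q.mapTriangle.obj (CochainComplex.mappingCone.triangle Fψ)
  have hT'' : T'' ∈ distTriang _ := mappingCone_triangle_distinguished Fψ
  haveI hb₁ : IsIso (β F RF α I₁) := isIso_β F RF α hA I₁
  haveI hb₂ : IsIso (β F RF α I₂) := isIso_β F RF α hA I₂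
  haveI hb₃ : IsIso (β F RF α (CochainComplex.mappingCone ψ)) :=
    isIso_β F RF α hA (CochainComplex.mappingCone ψ)
  let b₁ : Q.obj ((F.mapHomologicalComplex (ComplexShape.up ℤ)).obj I₁) ≅ RF.obj (Q.obj I₁) :=
    asIso (β F RF α I₁)
  let b₂ : Q.obj ((F.mapHomologicalComplex (ComplexShape.up ℤ)).obj I₂) ≅ RF.obj (Q.obj I₂) :=
    asIso (β F RF α I₂)
  let b₃ : Q.obj ((F.mapHomologicalComplex (ComplexShape.up ℤ)).obj (CochainComplex.mappingCone ψ)) ≅
      RF.obj (Q.obj (CochainComplex.mappingCone ψ)) :=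
    asIso (β F RF α (CochainComplex.mappingCone ψ))
  let c₁ : T''.obj₁ ≅ RF.obj T.obj₁ := b₁ ≪≫ RF.mapIso e₁
  let c₂ : T''.obj₂ ≅ RF.obj T.obj₂ := b₂ ≪≫ RF.mapIso e₂
  let c₃ : T''.obj₃ ≅ RF.obj T.obj₃ :=
    Q.mapIso (CochainComplex.mappingCone.mapHomologicalComplexIso ψ F).symm ≪≫
      b₃ ≪≫ RF.mapIso (Triangle.π₃.mapIso ε)
  refine ⟨c₃.inv ≫ T''.mor₃ ≫ c₁.hom⟦(1 : ℤ)⟧', ?_⟩
  refine isomorphic_distinguished T'' hT'' _ (Iso.symm ?_)
  refine Triangle.isoMk _ _ c₁ c₂ c₃ ?_ ?_ ?_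
  · change Q.map Fψ ≫ (β F RF α I₂ ≫ RF.map e₂.hom) = (β F RF α I₁ ≫ RF.map e₁.hom) ≫ RF.map T.mor₁
    rw [reassoc_of% (β_naturality F RF α ψ), Category.assoc, ← RF.map_comp, ← RF.map_comp, hψ]
    simp only [Category.assoc, Iso.inv_hom_id, Category.comp_id]
  · have h1 : CochainComplex.mappingCone.inr Fψ ≫
        (CochainComplex.mappingCone.mapHomologicalComplexIso ψ F).inv =
        (F.mapHomologicalComplex (ComplexShape.up ℤ)).map (CochainComplex.mappingCone.inr ψ) := by
      rw [← CochainComplex.mappingCone.map_inr ψ F, Category.assoc, Iso.hom_inv_id,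
        Category.comp_id]
    have h2 : Q.map (CochainComplex.mappingCone.inr ψ) ≫ ε.hom.hom₃ = e₂.hom ≫ T.mor₂ := by
      have h := ε.hom.comm₂
      have h' : ε.hom.hom₂ = e₂.hom := isoTriangleOfIso₁₂_hom_hom₂ _ _ _ _ _ _ _
      rw [h'] at h
      exact h
    change Q.map (CochainComplex.mappingCone.inr Fψ) ≫
      (Q.map (CochainComplex.mappingCone.mapHomologicalComplexIso ψ F).inv ≫
        β F RF α (CochainComplex.mappingCone ψ) ≫ RF.map ε.hom.hom₃) =
      (β F RF α I₂ ≫ RF.map e₂.hom) ≫ RF.map T.mor₂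
    rw [← Q.map_comp_assoc, h1, reassoc_of% (β_naturality F RF α (CochainComplex.mappingCone.inr ψ)),
      Category.assoc, ← RF.map_comp, ← RF.map_comp, h2]
  · change T''.mor₃ ≫ c₁.hom⟦(1 : ℤ)⟧' = c₃.hom ≫ c₃.inv ≫ T''.mor₃ ≫ c₁.hom⟦(1 : ℤ)⟧'
    rw [Iso.hom_inv_id_assoc]

include α in
/-- two-out-of-three for the vanishing of `Hⁱ(RF -)` -/
theorem isZero_homology_obj₂ (hA : HasKInjRes A) (T : Triangle (DerivedCategory A))
    (hT : T ∈ distTriang _) (i : ℤ)
    (h₁ : IsZero ((homologyFunctor B i).obj (RF.obj T.obj₁)))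
    (h₃ : IsZero ((homologyFunctor B i).obj (RF.obj T.obj₃))) :
    IsZero ((homologyFunctor B i).obj (RF.obj T.obj₂)) := by
  obtain ⟨h, hh⟩ := exists_distinguished F RF α hA T hT
  exact (HomologySequence.exact₂ _ hh i).isZero_of_both_zeros (h₁.eq_of_src _ _) (h₃.eq_of_tgt _ _)

end Groth.Agent.Lib.Helper32.TriRF
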