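import Groth.Agent.Lib.Helper32.RightRes
import Mathlib.Algebra.Homology.CochainComplexOpposite

set_option autoImplicit false
universe v u
open CategoryTheory CategoryTheory.Limits Opposite

namespace Groth.Agent.Lib.Helper32.LeftRes

variable {A : Type u} [Category.{v} A] [Abelian A]

set_option backward.isDefEq.respectTransparency.types false in
set_option backward.defeqAttrib.useBackward true in
lemma quasiIso_unop_inverse_map {K L : CochainComplex Aᵒᵖ ℤ} (f : K ⟶ L) [hf : QuasiIso f] :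
    QuasiIso ((CochainComplex.opEquivalence A).inverse.map f).unop := by
  rw [quasiIso_iff]
  intro n
  rw [quasiIsoAt_iff' _ (n - 1) n (n + 1) (by simp) (by simp)]
  have h1 : QuasiIsoAt f (-n) := inferInstance
  rw [quasiIsoAt_iff' _ (-(n + 1)) (-n) (-(n - 1)) (by simp; lia) (by simp; lia)] at h1
  exact ShortComplex.quasiIso_unopMap
    ((HomologicalComplex.shortComplexFunctor' Aᵒᵖ (ComplexShape.up ℤ) (-(n + 1)) (-n) (-(n - 1))).map f)

set_option backward.isDefEq.respectTransparency.types false in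
set_option backward.defeqAttrib.useBackward true in
theorem exists_of_isStrictlyLE (P : A → Prop)
    (hP : ∀ X : A, ∃ (Y : A) (π : Y ⟶ X), P Y ∧ Epi π)
    (hP0 : ∃ Z : A, IsZero Z ∧ P Z)
    (K : CochainComplex A ℤ) (a : ℤ) [K.IsStrictlyLE a] :
    ∃ (Q : CochainComplex A ℤ) (α : Q ⟶ K), Q.IsStrictlyLE a ∧ (∀ n, P (Q.X n)) ∧
      (∀ n, Epi (α.f n)) ∧ QuasiIso α := by
  let E := CochainComplex.opEquivalence A
  let K' := E.functor.obj (op K)
  have hK' : K'.IsStrictlyGE (-a) := by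
    rw [CochainComplex.isStrictlyGE_iff]
    intro i hi
    exact (K.isZero_of_isStrictlyLE a _ (by dsimp; lia)).op
  let I' : Aᵒᵖ → Prop := fun X => P X.unop
  have hI' : ∀ X : Aᵒᵖ, ∃ (Y : Aᵒᵖ) (ι : X ⟶ Y), I' Y ∧ Mono ι := by
    intro X
    obtain ⟨Y, π, hY, hπ⟩ := hP X.unop
    exact ⟨op Y, π.op, hY, inferInstance⟩
  have hI'0 : ∃ Z : Aᵒᵖ, IsZero Z ∧ I' Z := by
    obtain ⟨Z, hZ, hPZ⟩ := hP0
    exact ⟨op Z, hZ.op, hPZ⟩
  obtain ⟨L', α', hL', hIL', hmono, hqi⟩ := RightRes.exists_of_isStrictlyGE hI' hI'0 K' (-a)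
  let Q := (E.inverse.obj L').unop
  let α₀ : Q ⟶ (E.inverse.obj K').unop := (E.inverse.map α').unop
  let u : (E.inverse.obj K').unop ≅ K := (E.unitIso.app (op K)).unop
  refine ⟨Q, α₀ ≫ u.hom, ?_, ?_, ?_, ?_⟩
  · rw [CochainComplex.isStrictlyLE_iff]
    intro i hi
    exact (L'.isZero_of_isStrictlyGE (-a) (-i) (by lia)).unop
  · intro n
    exact hIL' (-n)
  · intro n
    rw [HomologicalComplex.comp_f]
    have h1 : Epi (α₀.f n) := by
      change Epi (α'.f (-n)).unop
      have := hmono (-n)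
      infer_instance
    infer_instance
  · have h1 : QuasiIso α₀ := quasiIso_unop_inverse_map α'
    infer_instance

end Groth.Agent.Lib.Helper32.LeftRes
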