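import Groth.Agent.Lib.Helper32.RelRes
import Groth.Agent.Lib.Helper32.LeftRes
import Mathlib.CategoryTheory.Abelian.Opposite
import Mathlib.CategoryTheory.ObjectProperty.Opposite

set_option autoImplicit false
universe v u
open CategoryTheory CategoryTheory.Limits Opposite

namespace Groth.Agent.Lib.Helper32.RelResLeft

variable {A : Type u} [Category.{v} A] [Abelian A]

noncomputable def unopBiprodIso (X Y : Aᵒᵖ) : (X ⊞ Y).unop ≅ X.unop ⊞ Y.unop :=
  RelRes.isoBiprodOfSplitting (biprod.inl : X ⟶ X ⊞ Y).unop (biprod.fst : X ⊞ Y ⟶ X).unop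
    (biprod.inr : Y ⟶ X ⊞ Y).unop (biprod.snd : X ⊞ Y ⟶ Y).unop
    (by rw [← unop_comp, biprod.inl_fst, unop_id])
    (by rw [← unop_comp, biprod.inr_fst, unop_zero])
    (by rw [← unop_comp, biprod.inr_snd, unop_id])
    (by rw [← unop_comp, biprod.inl_snd, unop_zero])
    (by rw [← unop_comp, ← unop_comp, ← unop_add, biprod.total, unop_id])

set_option backward.isDefEq.respectTransparency.types false in
set_option backward.defeqAttrib.useBackward true in
theorem exists_relative_left (P : ObjectProperty A) [P.IsClosedUnderIsomorphisms]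
    (hP0 : ∃ Z : A, IsZero Z ∧ P Z) (hPsum : ∀ X Y : A, P X → P Y → P (X ⊞ Y))
    (hP : ∀ X : A, ∃ (Y : A) (π : Y ⟶ X), P Y ∧ Epi π)
    {J K₁ : CochainComplex A ℤ} (β : J ⟶ K₁) (b : ℤ) [K₁.IsStrictlyLE b] [J.IsStrictlyLE b]
    (hJ : ∀ i, P (J.X i)) :
    ∃ (M : CochainComplex A ℤ) (γ : M ⟶ K₁) (j : J ⟶ M), j ≫ γ = β ∧ QuasiIso γ ∧
      (∀ i, Epi (γ.f i)) ∧ M.IsStrictlyLE b ∧ (∀ i, P (M.X i)) ∧
      ∀ i, (∃ r : M.X i ⟶ J.X i, j.f i ≫ r = 𝟙 _) ∧ P (cokernel (j.f i)) := by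
  let E := CochainComplex.opEquivalence A
  let K' := E.functor.obj (op K₁)
  let J' := E.functor.obj (op J)
  let β' : K' ⟶ J' := E.functor.map β.op
  have hK' : K'.IsStrictlyGE (-b) := by
    rw [CochainComplex.isStrictlyGE_iff]
    intro i hi
    exact (K₁.isZero_of_isStrictlyLE b _ (by dsimp; lia)).op
  have hJ' : J'.IsStrictlyGE (-b) := by
    rw [CochainComplex.isStrictlyGE_iff]
    intro i hi
    exact (J.isZero_of_isStrictlyLE b _ (by dsimp; lia)).op
  have hI'0 : ∃ Z : Aᵒᵖ, IsZero Z ∧ P.op Z := by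
    obtain ⟨Z, hZ, hPZ⟩ := hP0
    exact ⟨op Z, hZ.op, hPZ⟩
  have hI'prod : ∀ X Y : Aᵒᵖ, P.op X → P.op Y → P.op (X ⊞ Y) := fun X Y hX hY =>
    P.prop_of_iso (unopBiprodIso X Y).symm (hPsum _ _ hX hY)
  have hI' : ∀ X : Aᵒᵖ, ∃ (Y : Aᵒᵖ) (ι : X ⟶ Y), P.op Y ∧ Mono ι := by
    intro X
    obtain ⟨Y, π, hY, hπ⟩ := hP X.unop
    exact ⟨op Y, π.op, hY, inferInstance⟩
  have hJ'prop : ∀ i, P.op (J'.X i) := fun i => hJ (-i)
  obtain ⟨M', γ', p', hγp', hγ', hγ'mono, hM', hIM', hp'⟩ :=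
    RelRes.exists_relative P.op hI'0 hI'prod hI' β' (-b) hJ'prop
  let M := (E.inverse.obj M').unop
  let uK : (E.inverse.obj K').unop ≅ K₁ := (E.unitIso.app (op K₁)).unop
  let uJ : (E.inverse.obj J').unop ≅ J := (E.unitIso.app (op J)).unop
  let γ₀ : M ⟶ (E.inverse.obj K').unop := (E.inverse.map γ').unop
  let j₀ : (E.inverse.obj J').unop ⟶ M := (E.inverse.map p').unop
  have hnat : uJ.hom ≫ β = (E.inverse.map β').unop ≫ uK.hom := by
    have := E.unitIso.hom.naturality β.op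
    exact congrArg Quiver.Hom.unop this
  refine ⟨M, γ₀ ≫ uK.hom, uJ.inv ≫ j₀, ?_, ?_, ?_, ?_, ?_, ?_⟩
  · have h1 : j₀ ≫ γ₀ = (E.inverse.map β').unop := by
      dsimp only [j₀, γ₀]
      rw [← unop_comp, ← Functor.map_comp, hγp']
    rw [Category.assoc, ← Category.assoc j₀, h1, ← hnat, Iso.inv_hom_id_assoc]
  · have h1 : QuasiIso γ₀ := LeftRes.quasiIso_unop_inverse_map γ'
    infer_instance
  · intro i
    rw [HomologicalComplex.comp_f]
    have h1 : Epi (γ₀.f i) := by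
      change Epi (γ'.f (-i)).unop
      have := hγ'mono (-i)
      infer_instance
    infer_instance
  · rw [CochainComplex.isStrictlyLE_iff]
    intro i hi
    exact (M'.isZero_of_isStrictlyGE (-b) (-i) (by lia)).unop
  · intro i
    exact hIM' (-i)
  · intro i
    obtain ⟨⟨s, hs⟩, hker⟩ := hp' (-i)
    have hj₀ : j₀.f i = (p'.f (-i)).unop := rfl
    let s' : M.X i ⟶ ((E.inverse.obj J').unop).X i := s.unop
    have hs' : j₀.f i ≫ s' = 𝟙 _ := by
      change (p'.f (-i)).unop ≫ s.unop = 𝟙 _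
      rw [← unop_comp, hs, unop_id]
    refine ⟨⟨s' ≫ uJ.hom.f i, ?_⟩, ?_⟩
    · rw [HomologicalComplex.comp_f, Category.assoc, reassoc_of% hs', ← HomologicalComplex.comp_f,
        Iso.inv_hom_id, HomologicalComplex.id_f]
    · rw [HomologicalComplex.comp_f]
      have e1 : cokernel (uJ.inv.f i ≫ j₀.f i) ≅ cokernel (j₀.f i) :=
        cokernelEpiComp _ _
      have e2 : cokernel (j₀.f i) ≅ (kernel (p'.f (-i))).unop := cokernelUnopUnop (p'.f (-i))
      exact P.prop_of_iso (e1 ≪≫ e2).symm hker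

end Groth.Agent.Lib.Helper32.RelResLeft
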