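import Mathlib
import Groth.Prelude.Def_CxOX

/-!
# Mayer–Vietoris short exact sequence of O_X-modules for two opens covering X (helper32)

For `X = U ∪ V` and an `O_X`-module `F`:
`0 → F → j_{U*}F|_U ⊕ j_{V*}F|_V → j_{U∩V*}F|_{U∩V} → 0` is short exact (`mvComplex_shortExact`).
Also: joint faithfulness of restriction to `U`, `V` (`hom_eq_zero_of_res`), a generic splitting lemma
(`splittingOfIsos`) and reflection of short exactness by jointly faithful exact functors
(`shortExact_of_map`).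
-/

set_option autoImplicit false
universe u
open CategoryTheory CategoryTheory.Limits AlgebraicGeometry TopologicalSpace Opposite

namespace Groth.Agent.Lib.Helper32.MVOpens


open Scheme.Modules

section Generic

variable {C : Type*} [Category C] [Preadditive C]

instance isIso_neg' {P Q : C} (f : P ⟶ Q) [IsIso f] : IsIso (-f) :=
  ⟨⟨-inv f, by simp, by simp⟩⟩

/-- A short complex whose middle term decomposes as a biproduct `P ⊕ Q` such that
`f ≫ p₁` and `i₂ ≫ g` are isomorphisms is split. -/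
noncomputable def splittingOfIsos (S : ShortComplex C) {P Q : C}
    (p₁ : S.X₂ ⟶ P) (p₂ : S.X₂ ⟶ Q) (i₁ : P ⟶ S.X₂) (i₂ : Q ⟶ S.X₂)
    (h21 : i₂ ≫ p₁ = 0)
    (htot : p₁ ≫ i₁ + p₂ ≫ i₂ = 𝟙 S.X₂)
    [IsIso (S.f ≫ p₁)] [IsIso (i₂ ≫ S.g)] : S.Splitting where
  r := p₁ ≫ inv (S.f ≫ p₁)
  s := inv (i₂ ≫ S.g) ≫ i₂
  f_r := by rw [← Category.assoc, IsIso.hom_inv_id]
  s_g := by rw [Category.assoc, IsIso.inv_hom_id]
  id := by
    set u : S.X₂ ⟶ S.X₂ := 𝟙 _ - (p₁ ≫ inv (S.f ≫ p₁)) ≫ S.f - S.g ≫ inv (i₂ ≫ S.g) ≫ i₂ with hu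
    have h1 : u ≫ p₁ = 0 := by
      simp only [hu, Preadditive.sub_comp, Category.id_comp, Category.assoc, h21, comp_zero,
        sub_zero]
      rw [IsIso.inv_hom_id, Category.comp_id, sub_self]
    have h2 : u ≫ S.g = 0 := by
      simp only [hu, Preadditive.sub_comp, Category.id_comp, Category.assoc, S.zero, comp_zero,
        sub_zero]
      rw [IsIso.inv_hom_id, Category.comp_id, sub_self]
    have h3 : u = u ≫ p₂ ≫ i₂ := by
      have := congrArg (fun x => u ≫ x) htot
      simp only [Preadditive.comp_add, Category.comp_id] at this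
      rw [← Category.assoc, h1, zero_comp, zero_add] at this
      exact this.symm
    have h4 : u ≫ p₂ = 0 := by
      have : (u ≫ p₂) ≫ (i₂ ≫ S.g) = 0 := by
        rw [Category.assoc, ← Category.assoc p₂, ← Category.assoc, ← h3, h2]
      rw [← cancel_mono (i₂ ≫ S.g), this, zero_comp]
    have h5 : u = 0 := by rw [h3, ← Category.assoc, h4, zero_comp]
    rw [hu] at h5
    have := sub_eq_zero.mp h5
    rw [sub_eq_iff_eq_add] at this
    rw [this]
    abel

end Generic



section Reflect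

variable {A B₁ B₂ : Type*} [Category A] [Category B₁] [Category B₂] [Abelian A] [Abelian B₁]
  [Abelian B₂] (F₁ : A ⥤ B₁) (F₂ : A ⥤ B₂) [F₁.Additive] [F₂.Additive]
  [PreservesFiniteLimits F₁] [PreservesFiniteColimits F₁]
  [PreservesFiniteLimits F₂] [PreservesFiniteColimits F₂]
  (hF : ∀ {M N : A} (φ : M ⟶ N), F₁.map φ = 0 → F₂.map φ = 0 → φ = 0)

include hF in
theorem shortExact_of_map (S : ShortComplex A) (h₁ : (S.map F₁).ShortExact)
    (h₂ : (S.map F₂).ShortExact) : S.ShortExact := by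
  have hm1 : Mono (F₁.map S.f) := h₁.mono_f
  have hm2 : Mono (F₂.map S.f) := h₂.mono_f
  have he1 : Epi (F₁.map S.g) := h₁.epi_g
  have he2 : Epi (F₂.map S.g) := h₂.epi_g
  have hmono : Mono S.f := by
    apply Preadditive.mono_of_cancel_zero
    intro P g hg
    apply hF
    · rw [← cancel_mono (F₁.map S.f), ← F₁.map_comp, hg, F₁.map_zero, zero_comp]
    · rw [← cancel_mono (F₂.map S.f), ← F₂.map_comp, hg, F₂.map_zero, zero_comp]
  have hepi : Epi S.g := by
    apply Preadditive.epi_of_cancel_zero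
    intro P g hg
    apply hF
    · rw [← cancel_epi (F₁.map S.g), ← F₁.map_comp, hg, F₁.map_zero, comp_zero]
    · rw [← cancel_epi (F₂.map S.g), ← F₂.map_comp, hg, F₂.map_zero, comp_zero]
  have hex : S.Exact := by
    rw [ShortComplex.exact_iff_isZero_homology]
    rw [IsZero.iff_id_eq_zero]
    apply hF
    · apply IsZero.eq_of_src
      exact IsZero.of_iso ((ShortComplex.exact_iff_isZero_homology _).mp h₁.exact)
        (S.mapHomologyIso F₁).symm
    · apply IsZero.eq_of_src
      exact IsZero.of_iso ((ShortComplex.exact_iff_isZero_homology _).mp h₂.exact)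
        (S.mapHomologyIso F₂).symm
  exact { exact := hex, mono_f := hmono, epi_g := hepi }

end Reflect


open Scheme.Modules

variable {X : Scheme.{u}}


lemma res_map_app (U : X.Opens) {M N : X.Modules} (φ : M ⟶ N) (O' : (U : Scheme.{u}).Opens) :
    ((restrictFunctor U.ι).map φ).app O' = φ.app (U.ι ''ᵁ O') := rfl

lemma hom_naturality {M N : X.Modules} (φ : M ⟶ N) {O₁ O₂ : X.Opens} (i : O₁ ⟶ O₂) :
    M.presheaf.map i.op ≫ φ.app O₁ = φ.app O₂ ≫ N.presheaf.map i.op :=
  φ.mapPresheaf.naturality i.op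

/-- joint faithfulness of the restrictions to two opens covering `X`. -/
theorem hom_eq_zero_of_res (U V : X.Opens) (hUV : U ⊔ V = ⊤) {M N : X.Modules} (φ : M ⟶ N)
    (hU : (restrictFunctor U.ι).map φ = 0) (hV : (restrictFunctor V.ι).map φ = 0) : φ = 0 := by
  apply Scheme.Modules.hom_ext
  intro O
  ext x
  have hcov : O ≤ U.ι ''ᵁ (U.ι ⁻¹ᵁ O) ⊔ V.ι ''ᵁ (V.ι ⁻¹ᵁ O) := by
    rw [Scheme.Hom.image_preimage_eq_opensRange_inf, Scheme.Hom.image_preimage_eq_opensRange_inf,
      Scheme.Opens.opensRange_ι, Scheme.Opens.opensRange_ι, ← inf_sup_right, hUV, top_inf_eq]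
  apply TopCat.Sheaf.eq_of_locally_eq₂ ⟨N.presheaf, N.isSheaf⟩
    (homOfLE (U.ι.image_preimage_le O)) (homOfLE (V.ι.image_preimage_le O)) hcov
  · have h1 := hom_naturality φ (homOfLE (U.ι.image_preimage_le O))
    have h2 : φ.app (U.ι ''ᵁ (U.ι ⁻¹ᵁ O)) = 0 := by
      rw [← res_map_app, hU]; rfl
    rw [h2, comp_zero] at h1
    have h3 := congrArg (fun f => f x) h1.symm
    simpa using h3
  · have h1 := hom_naturality φ (homOfLE (V.ι.image_preimage_le O))
    have h2 : φ.app (V.ι ''ᵁ (V.ι ⁻¹ᵁ O)) = 0 := by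
      rw [← res_map_app, hV]; rfl
    rw [h2, comp_zero] at h1
    have h3 := congrArg (fun f => f x) h1.symm
    simpa using h3




/-- `T W = j_{W*} j_W^*`. -/
noncomputable abbrev T (W : X.Opens) : X.Modules ⥤ X.Modules :=
  restrictFunctor W.ι ⋙ pushforward W.ι

/-- the unit `𝟭 ⟶ j_{W*} j_W^*`. -/
noncomputable abbrev η (W : X.Opens) : 𝟭 X.Modules ⟶ T W := (restrictAdjunction W.ι).unit

lemma isIso_presheaf_map (M : X.Modules) {O₁ O₂ : X.Opens} (i : O₁ ⟶ O₂) (h : O₁ = O₂) :
    IsIso (M.presheaf.map i.op) := by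
  subst h
  have : i = 𝟙 _ := Subsingleton.elim _ _
  rw [this, op_id, M.presheaf.map_id]
  infer_instance

lemma image_preimage_eq (W O : X.Opens) : W.ι ''ᵁ (W.ι ⁻¹ᵁ O) = W ⊓ O := by
  rw [Scheme.Hom.image_preimage_eq_opensRange_inf, Scheme.Opens.opensRange_ι]

lemma image_le (U : X.Opens) (O' : (U : Scheme.{u}).Opens) : U.ι ''ᵁ O' ≤ U := by
  have := Scheme.Hom.image_le_opensRange U.ι O'
  rwa [Scheme.Opens.opensRange_ι] at this

/-- criterion for the restriction to `U` of a unit map to be an isomorphism. -/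
lemma isIso_res_η (U W : X.Opens) (M : X.Modules)
    (h : ∀ O : X.Opens, O ≤ U →
      IsIso (M.presheaf.map (homOfLE (W.ι.image_preimage_le O)).op)) :
    IsIso ((restrictFunctor U.ι).map ((η W).app M)) := by
  rw [Hom.isIso_iff_isIso_app]
  intro O'
  rw [res_map_app]
  exact h _ (image_le U O')

lemma isIso_res_η_of_le (U W : X.Opens) (hUW : U ≤ W) (M : X.Modules) :
    IsIso ((restrictFunctor U.ι).map ((η W).app M)) := by
  apply isIso_res_η
  intro O hO
  apply isIso_presheaf_map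
  rw [image_preimage_eq]
  exact inf_eq_right.mpr (hO.trans hUW)

lemma isIso_res_η_T (U W W' : X.Opens) (h : U ⊓ W ≤ W') (F : X.Modules) :
    IsIso ((restrictFunctor U.ι).map ((η W').app ((T W).obj F))) := by
  apply isIso_res_η
  intro O hO
  change IsIso (F.presheaf.map (W.ι.opensFunctor.map ((Opens.map W.ι.base).map
    (homOfLE (W'.ι.image_preimage_le O)))).op)
  apply isIso_presheaf_map
  change W.ι ''ᵁ (W.ι ⁻¹ᵁ (W'.ι ''ᵁ (W'.ι ⁻¹ᵁ O))) = W.ι ''ᵁ (W.ι ⁻¹ᵁ O)
  rw [image_preimage_eq, image_preimage_eq, image_preimage_eq]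
  apply le_antisymm
  · exact inf_le_inf_left _ inf_le_right
  · refine le_inf inf_le_left (le_inf ?_ inf_le_right)
    exact le_trans (le_inf (inf_le_right.trans hO) inf_le_left) h





lemma isIso_T_map_η (W W' : X.Opens) (h : W' ≤ W) (F : X.Modules) :
    IsIso ((T W').map ((η W).app F)) := by
  have := isIso_res_η_of_le W' W h F
  change IsIso ((pushforward W'.ι).map ((restrictFunctor W'.ι).map ((η W).app F)))
  infer_instance

/-- restriction map `T W ⟶ T W'` for `W' ≤ W`. -/
noncomputable def ρ (W W' : X.Opens) (h : W' ≤ W) : T W ⟶ T W' where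
  app F :=
    haveI := isIso_T_map_η W W' h F
    (η W').app ((T W).obj F) ≫ inv ((T W').map ((η W).app F))
  naturality F G φ := by
    haveI := isIso_T_map_η W W' h F
    haveI := isIso_T_map_η W W' h G
    have h1 := (η W').naturality ((T W).map φ)
    have h2 := (η W).naturality φ
    simp only [Functor.id_obj, Functor.id_map] at h1 h2
    have h3 : (T W').map φ ≫ (T W').map ((η W).app G) =
        (T W').map ((η W).app F) ≫ (T W').map ((T W).map φ) := by
      rw [← Functor.map_comp, h2, Functor.map_comp]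
    have h4 : (T W').map ((T W).map φ) ≫ inv ((T W').map ((η W).app G)) =
        inv ((T W').map ((η W).app F)) ≫ (T W').map φ := by
      rw [IsIso.comp_inv_eq, Category.assoc, h3, IsIso.inv_hom_id_assoc]
    rw [← Category.assoc, h1, Category.assoc, h4, Category.assoc]

lemma η_ρ (W W' : X.Opens) (h : W' ≤ W) (F : X.Modules) :
    (η W).app F ≫ (ρ W W' h).app F = (η W').app F := by
  haveI := isIso_T_map_η W W' h F
  have h1 := (η W').naturality ((η W).app F)
  simp only [Functor.id_obj, Functor.id_map] at h1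
  change (η W).app F ≫ (η W').app ((T W).obj F) ≫ inv ((T W').map ((η W).app F)) = _
  rw [← Category.assoc, h1, Category.assoc, IsIso.hom_inv_id, Category.comp_id]

lemma isIso_res_ρ (U W W' : X.Opens) (h : W' ≤ W) (h' : U ⊓ W ≤ W') (F : X.Modules) :
    IsIso ((restrictFunctor U.ι).map ((ρ W W' h).app F)) := by
  haveI := isIso_T_map_η W W' h F
  haveI := isIso_res_η_T U W W' h' F
  change IsIso ((restrictFunctor U.ι).map
    ((η W').app ((T W).obj F) ≫ inv ((T W').map ((η W).app F))))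
  rw [Functor.map_comp]
  infer_instance


/-- The Mayer–Vietoris short complex `F → j_{U*}F|_U ⊕ j_{V*}F|_V → j_{U∩V*}F|_{U∩V}`. -/
noncomputable def mvComplex (U V : X.Opens) (F : X.Modules) : ShortComplex X.Modules :=
  ShortComplex.mk (biprod.lift ((η U).app F) (-(η V).app F))
    (biprod.desc ((ρ U (U ⊓ V) inf_le_left).app F) ((ρ V (U ⊓ V) inf_le_right).app F)) (by
      rw [biprod.lift_desc, Preadditive.neg_comp, η_ρ, η_ρ, add_neg_cancel])

theorem mvComplex_shortExact (U V : X.Opens) (hUV : U ⊔ V = ⊤) (F : X.Modules) :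
    (mvComplex U V F).ShortExact := by
  apply shortExact_of_map (restrictFunctor U.ι) (restrictFunctor V.ι)
    (fun φ h1 h2 => hom_eq_zero_of_res U V hUV φ h1 h2)
  · -- restriction to U
    let rU := restrictFunctor U.ι
    let A := (T U).obj F
    let B := (T V).obj F
    let f : F ⟶ A ⊞ B := biprod.lift ((η U).app F) (-(η V).app F)
    let g : A ⊞ B ⟶ (T (U ⊓ V)).obj F :=
      biprod.desc ((ρ U (U ⊓ V) inf_le_left).app F) ((ρ V (U ⊓ V) inf_le_right).app F)
    have hi1 : IsIso (rU.map f ≫ rU.map (biprod.fst : A ⊞ B ⟶ A)) := by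
      rw [← rU.map_comp, biprod.lift_fst]
      exact isIso_res_η_of_le U U le_rfl F
    have hi2 : IsIso (rU.map (biprod.inr : B ⟶ A ⊞ B) ≫ rU.map g) := by
      rw [← rU.map_comp, biprod.inr_desc]
      exact isIso_res_ρ U V (U ⊓ V) inf_le_right le_rfl F
    have h21 : rU.map (biprod.inr : B ⟶ A ⊞ B) ≫ rU.map (biprod.fst : A ⊞ B ⟶ A) = 0 := by
      rw [← rU.map_comp, biprod.inr_fst, rU.map_zero]
    have htot : rU.map (biprod.fst : A ⊞ B ⟶ A) ≫ rU.map biprod.inl +
        rU.map (biprod.snd : A ⊞ B ⟶ B) ≫ rU.map biprod.inr = 𝟙 (rU.obj (A ⊞ B)) := by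
      rw [← rU.map_comp, ← rU.map_comp, ← rU.map_add, biprod.total, rU.map_id]
    exact (@splittingOfIsos _ _ _ ((mvComplex U V F).map rU) _ _
      (rU.map (biprod.fst : A ⊞ B ⟶ A)) (rU.map (biprod.snd : A ⊞ B ⟶ B))
      (rU.map biprod.inl) (rU.map biprod.inr) h21 htot hi1 hi2).shortExact
  · -- restriction to V
    let rV := restrictFunctor V.ι
    let A := (T U).obj F
    let B := (T V).obj F
    let f : F ⟶ A ⊞ B := biprod.lift ((η U).app F) (-(η V).app F)
    let g : A ⊞ B ⟶ (T (U ⊓ V)).obj F :=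
      biprod.desc ((ρ U (U ⊓ V) inf_le_left).app F) ((ρ V (U ⊓ V) inf_le_right).app F)
    have hi1 : IsIso (rV.map f ≫ rV.map (biprod.snd : A ⊞ B ⟶ B)) := by
      rw [← rV.map_comp, biprod.lift_snd, rV.map_neg]
      haveI := isIso_res_η_of_le V V le_rfl F
      infer_instance
    have hi2 : IsIso (rV.map (biprod.inl : A ⟶ A ⊞ B) ≫ rV.map g) := by
      rw [← rV.map_comp, biprod.inl_desc]
      exact isIso_res_ρ V U (U ⊓ V) inf_le_left (le_of_eq (inf_comm _ _)) F
    have h21 : rV.map (biprod.inl : A ⟶ A ⊞ B) ≫ rV.map (biprod.snd : A ⊞ B ⟶ B) = 0 := by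
      rw [← rV.map_comp, biprod.inl_snd, rV.map_zero]
    have htot : rV.map (biprod.snd : A ⊞ B ⟶ B) ≫ rV.map biprod.inr +
        rV.map (biprod.fst : A ⊞ B ⟶ A) ≫ rV.map biprod.inl = 𝟙 (rV.obj (A ⊞ B)) := by
      rw [← rV.map_comp, ← rV.map_comp, ← rV.map_add, add_comm, biprod.total, rV.map_id]
    exact (@splittingOfIsos _ _ _ ((mvComplex U V F).map rV) _ _
      (rV.map (biprod.snd : A ⊞ B ⟶ B)) (rV.map (biprod.fst : A ⊞ B ⟶ A))
      (rV.map biprod.inr) (rV.map biprod.inl) h21 htot hi1 hi2).shortExact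

end Groth.Agent.Lib.Helper32.MVOpens
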