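import Mathlib
import Groth.Agent.Lib.Helper32.MVOpens
import Groth.Agent.Lib.Helper32.RDerCrit
import Groth.Agent.Lib.Helper32.OpenKInj

/-!
# Mayer–Vietoris distinguished triangles from the short exact sequence of `MVOpens` (helper32)
-/

set_option autoImplicit false
universe w w' v v' u u'
open CategoryTheory CategoryTheory.Limits AlgebraicGeometry TopologicalSpace Opposite

namespace Groth.Agent.Lib.Helper32.MVTriangle

open Groth.Agent.Lib.Helper32.MVOpens Groth.Agent.Lib.Helper32.KInjDerived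
  Groth.Agent.Lib.Helper32.RDerCrit Scheme.Modules

section RDcompute

variable {A : Type u} [Category.{v} A] [Abelian A] [HasDerivedCategory.{w} A]
  {B : Type u'} [Category.{v'} B] [Abelian B] [HasDerivedCategory.{w'} B]
  (P : A ⥤ B) [P.Additive]

/-- The value of a total right derived functor on a K-injective complex. -/
theorem nonempty_rd_iso (h : HasKInjRes A)
    [(P.mapHomotopyCategory (ComplexShape.up ℤ) ⋙ DerivedCategory.Qh).HasRightDerivedFunctor
      (HomotopyCategory.quasiIso A (ComplexShape.up ℤ))]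
    (J : CochainComplex A ℤ) (hJ : J.IsKInjective) :
    Nonempty (DerivedCategory.Q.obj ((P.mapHomologicalComplex (ComplexShape.up ℤ)).obj J) ≅
      ((P.mapHomotopyCategory (ComplexShape.up ℤ) ⋙ DerivedCategory.Qh).totalRightDerived
        DerivedCategory.Qh (HomotopyCategory.quasiIso A (ComplexShape.up ℤ))).obj
        (DerivedCategory.Q.obj J)) := by
  let Kh := P.mapHomotopyCategory (ComplexShape.up ℤ) ⋙ DerivedCategory.Qh (C := B)
  let W := HomotopyCategory.quasiIso A (ComplexShape.up ℤ)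
  let RP := Kh.totalRightDerived DerivedCategory.Qh W
  let α := Kh.totalRightDerivedUnit DerivedCategory.Qh W
  have h1 : IsIso (α.app ((HomotopyCategory.quotient A (ComplexShape.up ℤ)).obj J)) :=
    isIso_app_kInjective h RP α J
  let e1 : DerivedCategory.Q.obj ((P.mapHomologicalComplex (ComplexShape.up ℤ)).obj J) ≅
      Kh.obj ((HomotopyCategory.quotient A (ComplexShape.up ℤ)).obj J) :=
    ((DerivedCategory.quotientCompQhIso B).app
      ((P.mapHomologicalComplex (ComplexShape.up ℤ)).obj J)).symm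
  let e2 : Kh.obj ((HomotopyCategory.quotient A (ComplexShape.up ℤ)).obj J) ≅
      RP.obj (DerivedCategory.Qh.obj ((HomotopyCategory.quotient A (ComplexShape.up ℤ)).obj J)) :=
    asIso (α.app ((HomotopyCategory.quotient A (ComplexShape.up ℤ)).obj J))
  let e3 : RP.obj (DerivedCategory.Qh.obj
      ((HomotopyCategory.quotient A (ComplexShape.up ℤ)).obj J)) ≅
      RP.obj (DerivedCategory.Q.obj J) :=
    RP.mapIso ((DerivedCategory.quotientCompQhIso A).app J)
  exact ⟨e1 ≪≫ e2 ≪≫ e3⟩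

end RDcompute

section Tsum

variable {X : Scheme.{u}} (U V : X.Opens)

/-- `F ↦ j_{U*}F|_U ⊕ j_{V*}F|_V`. -/
noncomputable def Tsum : X.Modules ⥤ X.Modules where
  obj F := (T U).obj F ⊞ (T V).obj F
  map φ := biprod.map ((T U).map φ) ((T V).map φ)
  map_id F := by apply biprod.hom_ext <;> simp
  map_comp φ ψ := by apply biprod.hom_ext <;> simp

instance : (Tsum U V).Additive where
  map_add := by
    intro F G φ ψ
    change biprod.map ((T U).map (φ + ψ)) ((T V).map (φ + ψ)) =
      biprod.map ((T U).map φ) ((T V).map φ) + biprod.map ((T U).map ψ) ((T V).map ψ)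
    rw [Functor.map_add, Functor.map_add]
    apply biprod.hom_ext
    · rw [Preadditive.add_comp]
      simp
    · rw [Preadditive.add_comp]
      simp

noncomputable def mvA : 𝟭 X.Modules ⟶ Tsum U V where
  app F := (mvComplex U V F).f
  naturality F G φ := by
    have h1 := (η U).naturality φ
    have h2 := (η V).naturality φ
    simp only [Functor.id_obj, Functor.id_map] at h1 h2
    dsimp [Tsum, mvComplex]
    apply biprod.hom_ext
    · simp only [Category.assoc, biprod.lift_fst, biprod.map_fst, biprod.lift_fst_assoc]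
      exact h1
    · simp only [Category.assoc, biprod.lift_snd, biprod.map_snd, biprod.lift_snd_assoc,
        Preadditive.neg_comp, Preadditive.comp_neg]
      rw [h2]
      rfl

noncomputable def mvB : Tsum U V ⟶ T (U ⊓ V) where
  app F := (mvComplex U V F).g
  naturality F G φ := by
    have h1 := (ρ U (U ⊓ V) inf_le_left).naturality φ
    have h2 := (ρ V (U ⊓ V) inf_le_right).naturality φ
    dsimp [Tsum, mvComplex]
    apply biprod.hom_ext'
    · simp only [biprod.inl_map_assoc, biprod.inl_desc, biprod.inl_desc_assoc]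
      exact h1
    · simp only [biprod.inr_map_assoc, biprod.inr_desc, biprod.inr_desc_assoc]
      exact h2

noncomputable def inlN : T U ⟶ Tsum U V where
  app F := biprod.inl
  naturality F G φ := by dsimp [Tsum]; simp

noncomputable def inrN : T V ⟶ Tsum U V where
  app F := biprod.inr
  naturality F G φ := by dsimp [Tsum]; simp

noncomputable def fstN : Tsum U V ⟶ T U where
  app F := biprod.fst
  naturality F G φ := by dsimp [Tsum]; simp

noncomputable def sndN : Tsum U V ⟶ T V where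
  app F := biprod.snd
  naturality F G φ := by dsimp [Tsum]; simp

end Tsum

section Triangle

variable {X : Scheme.{u}} (U V : X.Opens)
  {B : Type u'} [Category.{v'} B] [Abelian B]
  (G : X.Modules ⥤ B) [G.Additive] (I : CochainComplex X.Modules ℤ)

/-- the complex `G(P(I))` -/
noncomputable abbrev cx (P : X.Modules ⥤ X.Modules) [P.Additive] : CochainComplex B ℤ :=
  ((P ⋙ G).mapHomologicalComplex (ComplexShape.up ℤ)).obj I

noncomputable abbrev cxMap {P P' : X.Modules ⥤ X.Modules} [P.Additive] [P'.Additive]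
    (τ : P ⟶ P') : cx G I P ⟶ cx G I P' :=
  (NatTrans.mapHomologicalComplex (Functor.whiskerRight τ G) (ComplexShape.up ℤ)).app I

lemma cxMap_comp {P P' P'' : X.Modules ⥤ X.Modules} [P.Additive] [P'.Additive] [P''.Additive]
    (τ : P ⟶ P') (τ' : P' ⟶ P'') : cxMap G I τ ≫ cxMap G I τ' = cxMap G I (τ ≫ τ') := by
  ext n
  simp [cxMap]

noncomputable def mvCx : ShortComplex (CochainComplex B ℤ) :=
  ShortComplex.mk (cxMap G I (mvA U V)) (cxMap G I (mvB U V)) (by
    ext n
    have h := (mvComplex U V (I.X n)).zero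
    change G.map ((mvComplex U V (I.X n)).f) ≫ G.map ((mvComplex U V (I.X n)).g) = 0
    rw [← G.map_comp, h, G.map_zero])

theorem mvCx_shortExact (hUV : U ⊔ V = ⊤) (hI : ∀ n, Injective (I.X n)) :
    (mvCx U V G I).ShortExact := by
  apply HomologicalComplex.shortExact_of_degreewise_shortExact
  intro n
  have h1 := mvComplex_shortExact U V hUV (I.X n)
  haveI : Injective (mvComplex U V (I.X n)).X₁ := hI n
  exact (h1.splittingOfInjective.map G).shortExact

end Triangle

section TriGen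

open Pretriangulated

variable {C : Type*} [Category C] [HasShift C ℤ] [Preadditive C] [HasZeroObject C]
  [∀ n : ℤ, (shiftFunctor C n).Additive] [Pretriangulated C]

lemma triangle_replace_mid (T : Triangle C) (hT : T ∈ distTriang C) {Y : C} (e : T.obj₂ ≅ Y) :
    Triangle.mk (T.mor₁ ≫ e.hom) (e.inv ≫ T.mor₂) T.mor₃ ∈ distTriang C := by
  refine isomorphic_distinguished _ hT _ ?_
  have h1 : (T.mor₁ ≫ e.hom) ≫ e.inv = 𝟙 T.obj₁ ≫ T.mor₁ := by simp
  have h2 : (e.inv ≫ T.mor₂) ≫ 𝟙 T.obj₃ = e.inv ≫ T.mor₂ := by simp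
  have h3 : T.mor₃ ≫ (shiftFunctor C (1 : ℤ)).map (𝟙 T.obj₁) = 𝟙 T.obj₃ ≫ T.mor₃ := by simp
  exact Triangle.isoMk _ _ (Iso.refl _) e.symm (Iso.refl _) h1 h2 h3

lemma exists_triangle_of_iso {X₁ X₂ X₃ Y₁ Y₂ Y₃ : C} (e₁ : X₁ ≅ Y₁) (e₂ : X₂ ≅ Y₂) (e₃ : X₃ ≅ Y₃)
    (h : ∃ (a : X₁ ⟶ X₂) (b : X₂ ⟶ X₃) (c : X₃ ⟶ X₁⟦(1 : ℤ)⟧),
      Triangle.mk a b c ∈ distTriang C) :
    ∃ (a : Y₁ ⟶ Y₂) (b : Y₂ ⟶ Y₃) (c : Y₃ ⟶ Y₁⟦(1 : ℤ)⟧),
      Triangle.mk a b c ∈ distTriang C := by
  obtain ⟨a, b, c, hT⟩ := h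
  refine ⟨e₁.inv ≫ a ≫ e₂.hom, e₂.inv ≫ b ≫ e₃.hom, e₃.inv ≫ c ≫ e₁.hom⟦(1 : ℤ)⟧', ?_⟩
  refine isomorphic_distinguished _ hT _ ?_
  have h1 : (e₁.inv ≫ a ≫ e₂.hom) ≫ e₂.inv = e₁.inv ≫ a := by simp
  have h2 : (e₂.inv ≫ b ≫ e₃.hom) ≫ e₃.inv = e₂.inv ≫ b := by simp
  have h3 : (e₃.inv ≫ c ≫ e₁.hom⟦(1 : ℤ)⟧') ≫ e₁.inv⟦(1 : ℤ)⟧' = e₃.inv ≫ c := by
    simp only [Category.assoc, ← Functor.map_comp, Iso.hom_inv_id]
    rw [CategoryTheory.Functor.map_id, Category.comp_id]
  exact Triangle.isoMk _ _ e₁.symm e₂.symm e₃.symm h1 h2 h3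

end TriGen

section Triangle2

open Pretriangulated DerivedCategory

variable {X : Scheme.{u}} (U V : X.Opens)
  {B : Type u'} [Category.{v'} B] [Abelian B] [HasDerivedCategory.{w'} B]
  (G : X.Modules ⥤ B) [G.Additive] (I : CochainComplex X.Modules ℤ)

/-- `Q(G(T_U I ⊕ T_V I)) ≅ Q(G T_U I) ⊞ Q(G T_V I)`. -/
theorem nonempty_sum_iso :
    Nonempty (Q.obj (cx G I (Tsum U V)) ≅ Q.obj (cx G I (T U)) ⊞ Q.obj (cx G I (T V))) := by
  let b : BinaryBicone (Q.obj (cx G I (T U))) (Q.obj (cx G I (T V))) :=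
    { pt := Q.obj (cx G I (Tsum U V))
      fst := Q.map (cxMap G I (fstN U V))
      snd := Q.map (cxMap G I (sndN U V))
      inl := Q.map (cxMap G I (inlN U V))
      inr := Q.map (cxMap G I (inrN U V))
      inl_fst := by
        rw [← Q.map_comp, ← Q.map_id]
        congr 1
        ext n
        change G.map (biprod.inl) ≫ G.map (biprod.fst) = 𝟙 _
        rw [← G.map_comp, biprod.inl_fst, G.map_id]
      inl_snd := by
        rw [← Q.map_comp, ← Q.map_zero]
        congr 1
        ext n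
        change G.map (biprod.inl) ≫ G.map (biprod.snd) = 0
        rw [← G.map_comp, biprod.inl_snd, G.map_zero]
      inr_fst := by
        rw [← Q.map_comp, ← Q.map_zero]
        congr 1
        ext n
        change G.map (biprod.inr) ≫ G.map (biprod.fst) = 0
        rw [← G.map_comp, biprod.inr_fst, G.map_zero]
      inr_snd := by
        rw [← Q.map_comp, ← Q.map_id]
        congr 1
        ext n
        change G.map (biprod.inr) ≫ G.map (biprod.snd) = 𝟙 _
        rw [← G.map_comp, biprod.inr_snd, G.map_id] }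
  have hb : b.IsBilimit := by
    apply isBinaryBilimitOfTotal
    change Q.map (cxMap G I (fstN U V)) ≫ Q.map (cxMap G I (inlN U V)) +
      Q.map (cxMap G I (sndN U V)) ≫ Q.map (cxMap G I (inrN U V)) = 𝟙 _
    rw [← Q.map_comp, ← Q.map_comp, ← Q.map_add, ← Q.map_id]
    congr 1
    ext n
    have key : G.map (biprod.fst : (T U).obj (I.X n) ⊞ (T V).obj (I.X n) ⟶ _) ≫ G.map biprod.inl +
        G.map biprod.snd ≫ G.map biprod.inr =
        𝟙 (G.obj ((T U).obj (I.X n) ⊞ (T V).obj (I.X n))) := by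
      rw [← G.map_comp, ← G.map_comp, ← G.map_add, biprod.total, G.map_id]
    exact key
  exact ⟨biprod.uniqueUpToIso _ _ hb⟩

theorem exists_mv_triangle (hUV : U ⊔ V = ⊤) (hI : ∀ n, Injective (I.X n)) :
    ∃ (a : Q.obj (cx G I (𝟭 _)) ⟶ Q.obj (cx G I (T U)) ⊞ Q.obj (cx G I (T V)))
      (b : Q.obj (cx G I (T U)) ⊞ Q.obj (cx G I (T V)) ⟶ Q.obj (cx G I (T (U ⊓ V))))
      (c : Q.obj (cx G I (T (U ⊓ V))) ⟶ (Q.obj (cx G I (𝟭 _)))⟦(1 : ℤ)⟧),
      Triangle.mk a b c ∈ distTriang (DerivedCategory B) := by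
  have hS := mvCx_shortExact U V G I hUV hI
  have hT := triangleOfSES_distinguished hS
  obtain ⟨e⟩ := nonempty_sum_iso U V G I
  exact ⟨_, _, _, triangle_replace_mid (triangleOfSES hS) hT e⟩

end Triangle2

section Ident

open DerivedCategory Groth.Agent.Lib.Helper32.OpenKInj

variable {X : Scheme.{u}} (W : X.Opens)
  {B : Type u'} [Category.{v'} B] [Abelian B] [HasDerivedCategory.{w'} B]
  [HasDerivedCategory.{w} X.Modules] [HasDerivedCategory.{w} (W : Scheme.{u}).Modules]
  [PreservesFiniteLimits (restrictFunctor W.ι)]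

/-- For K-injective `I` on `X`: `Q(G'(I)) ≅ RP((Q I)|_W)` whenever `G' ≅ res_W ⋙ P`. -/
theorem nonempty_ident (P : (W : Scheme.{u}).Modules ⥤ B) [P.Additive]
    [(P.mapHomotopyCategory (ComplexShape.up ℤ) ⋙ DerivedCategory.Qh).HasRightDerivedFunctor
      (HomotopyCategory.quasiIso (W : Scheme.{u}).Modules (ComplexShape.up ℤ))]
    (G' : X.Modules ⥤ B) [G'.Additive] (e : G' ≅ restrictFunctor W.ι ⋙ P)
    (I : CochainComplex X.Modules ℤ) (hI : I.IsKInjective)
    (E : DerivedCategory X.Modules) (eE : E ≅ Q.obj I) :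
    Nonempty (Q.obj ((G'.mapHomologicalComplex (ComplexShape.up ℤ)).obj I) ≅
      ((P.mapHomotopyCategory (ComplexShape.up ℤ) ⋙ DerivedCategory.Qh).totalRightDerived
        DerivedCategory.Qh
        (HomotopyCategory.quasiIso (W : Scheme.{u}).Modules (ComplexShape.up ℤ))).obj
        ((restrictFunctor W.ι).mapDerivedCategory.obj E)) := by
  let J : CochainComplex (W : Scheme.{u}).Modules ℤ :=
    ((restrictFunctor W.ι).mapHomologicalComplex (ComplexShape.up ℤ)).obj I
  have hJ : J.IsKInjective := isKInjective_restrict W I hI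
  obtain ⟨e3⟩ := nonempty_rd_iso P (hasKInjRes (W : Scheme.{u})) J hJ
  let e1 : Q.obj ((G'.mapHomologicalComplex (ComplexShape.up ℤ)).obj I) ≅
      Q.obj (((restrictFunctor W.ι ⋙ P).mapHomologicalComplex (ComplexShape.up ℤ)).obj I) :=
    Q.mapIso ((NatIso.mapHomologicalComplex e (ComplexShape.up ℤ)).app I)
  let e2 : Q.obj (((restrictFunctor W.ι ⋙ P).mapHomologicalComplex (ComplexShape.up ℤ)).obj I) ≅
      Q.obj ((P.mapHomologicalComplex (ComplexShape.up ℤ)).obj J) := Iso.refl _
  let e4 : Q.obj J ≅ (restrictFunctor W.ι).mapDerivedCategory.obj (Q.obj I) :=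
    ((restrictFunctor W.ι).mapDerivedCategoryFactors.app I).symm
  let RP := (P.mapHomotopyCategory (ComplexShape.up ℤ) ⋙ DerivedCategory.Qh).totalRightDerived
        DerivedCategory.Qh
        (HomotopyCategory.quasiIso (W : Scheme.{u}).Modules (ComplexShape.up ℤ))
  exact ⟨e1 ≪≫ e2 ≪≫ e3 ≪≫ RP.mapIso (e4 ≪≫ (restrictFunctor W.ι).mapDerivedCategory.mapIso eE.symm)⟩

end Ident

section Model

open DerivedCategory Groth.Agent.Lib.Helper32.OpenKInj

variable {X : Scheme.{u}} [HasDerivedCategory.{w} X.Modules]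

/-- Every object of `D(O_X)` is represented by a K-injective complex with injective terms. -/
theorem exists_kInj_model (E : DerivedCategory X.Modules) :
    ∃ (I : CochainComplex X.Modules ℤ), I.IsKInjective ∧ (∀ n, Injective (I.X n)) ∧
      Nonempty (E ≅ Q.obj I) := by
  obtain ⟨I, f, hI, hf, _, hinj⟩ :=
    Groth.Agent.Lib.Helper32.KInjRes.exists_kInjective_resolution (Q.objPreimage E)
  haveI := hf
  exact ⟨I, hI, hinj, ⟨(Q.objObjPreimageIso E).symm ≪≫ asIso (Q.map f)⟩⟩

end Model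

end Groth.Agent.Lib.Helper32.MVTriangle
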