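import Mathlib
import Groth.Prelude.Def_CxOX
import Groth.Agent.Lib.Helper32.MVOpens
import Groth.Agent.Lib.Helper32.MVTriangle

/-!
# Mayer–Vietoris short exact sequence for extension by zero (helper32)

For `X = U ∪ V` and an `O_X`-module `F`:
`0 → j_{U∩V!}F|_{U∩V} → j_{U!}F|_U ⊕ j_{V!}F|_V → F → 0` is short exact.
The maps are defined as the conjugates (mates) of those of `MVOpens.mvComplex`.
-/

set_option autoImplicit false
universe u
open CategoryTheory CategoryTheory.Limits AlgebraicGeometry TopologicalSpace Opposite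

namespace Groth.Agent.Lib.Helper32.MVShriek

open Groth.Agent.Lib.Helper32.MVOpens Scheme.Modules

variable {X : Scheme.{u}}

/-- `L W = j_{W!} j_W^*`. -/
noncomputable abbrev L (W : X.Opens) : X.Modules ⥤ X.Modules :=
  restrictFunctor W.ι ⋙ CxOX.extZero W.ι

/-- `j_! j^* ⊣ j_* j^*`. -/
noncomputable def adjL (W : X.Opens) : L W ⊣ T W :=
  (restrictAdjunction W.ι).comp (CxOX.extZeroAdj W.ι)

/-- the counit `j_! j^* ⟶ 𝟭`, defined as the conjugate of `η W`. -/
noncomputable def εL (W : X.Opens) : L W ⟶ 𝟭 X.Modules :=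
  (conjugateEquiv Adjunction.id (adjL W)).symm (η W)

/-- `j_{W'!} j_{W'}^* ⟶ j_{W!} j_W^*` for `W' ≤ W`, the conjugate of `ρ`. -/
noncomputable def lam (W W' : X.Opens) (h : W' ≤ W) : L W' ⟶ L W :=
  (conjugateEquiv (adjL W) (adjL W')).symm (ρ W W' h)

lemma η_ρ_nat (W W' : X.Opens) (h : W' ≤ W) : η W ≫ ρ W W' h = η W' := by
  apply NatTrans.ext
  funext F
  exact η_ρ W W' h F

lemma lam_ε (W W' : X.Opens) (h : W' ≤ W) : lam W W' h ≫ εL W = εL W' := by
  dsimp only [lam, εL]
  rw [conjugateEquiv_symm_comp, η_ρ_nat]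

lemma lam_ε_app (W W' : X.Opens) (h : W' ≤ W) (F : X.Modules) :
    (lam W W' h).app F ≫ (εL W).app F = (εL W').app F := by
  rw [← NatTrans.comp_app, lam_ε]

lemma isIso_η_push (U : X.Opens) (G : (U : Scheme.{u}).Modules) :
    IsIso ((η U).app ((pushforward U.ι).obj G)) := by
  have h := (restrictAdjunction U.ι).right_triangle_components G
  have : IsIso ((pushforward U.ι).map ((restrictAdjunction U.ι).counit.app G)) := inferInstance
  exact IsIso.of_isIso_fac_right h

lemma isIso_res_εL (U : X.Opens) (F : X.Modules) :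
    IsIso ((restrictFunctor U.ι).map ((εL U).app F)) := by
  have h1 := conjugateEquiv_whiskerRight (Adjunction.id (C := X.Modules)) (adjL U)
    (restrictAdjunction U.ι) (εL U)
  have h2 : conjugateEquiv Adjunction.id (adjL U) (εL U) = η U := by
    dsimp only [εL]
    rw [Equiv.apply_symm_apply]
  rw [h2] at h1
  have h3 : IsIso (Functor.whiskerLeft (pushforward U.ι) (η U)) := by
    rw [NatTrans.isIso_iff_isIso_app]
    intro G
    exact isIso_η_push U G
  rw [← h1] at h3
  have h4 := @conjugateEquiv_of_iso _ _ _ _ _ _ _ _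
    ((Adjunction.id (C := X.Modules)).comp (restrictAdjunction U.ι))
    ((adjL U).comp (restrictAdjunction U.ι))
    (Functor.whiskerRight (εL U) (restrictFunctor U.ι)) h3
  exact (NatTrans.isIso_iff_isIso_app _).mp h4 F

lemma preimage_eq_of_inf_eq (U A B : X.Opens) (h : U ⊓ A = U ⊓ B) : U.ι ⁻¹ᵁ A = U.ι ⁻¹ᵁ B := by
  apply U.ι.image_injective
  change U.ι ''ᵁ (U.ι ⁻¹ᵁ A) = U.ι ''ᵁ (U.ι ⁻¹ᵁ B)
  rw [image_preimage_eq, image_preimage_eq, h]

lemma isIso_η_T_push (U W W' : X.Opens) (h' : U ⊓ W ≤ W') (G : (U : Scheme.{u}).Modules) :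
    IsIso ((η W').app ((T W).obj ((pushforward U.ι).obj G))) := by
  rw [Hom.isIso_iff_isIso_app]
  intro O
  change IsIso (G.presheaf.map ((Opens.map U.ι.base).map (W.ι.opensFunctor.map
    ((Opens.map W.ι.base).map (homOfLE (W'.ι.image_preimage_le O))))).op)
  apply isIso_presheaf_map
  change U.ι ⁻¹ᵁ (W.ι ''ᵁ (W.ι ⁻¹ᵁ (W'.ι ''ᵁ (W'.ι ⁻¹ᵁ O)))) = U.ι ⁻¹ᵁ (W.ι ''ᵁ (W.ι ⁻¹ᵁ O))
  apply preimage_eq_of_inf_eq
  rw [image_preimage_eq, image_preimage_eq, image_preimage_eq]
  apply le_antisymm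
  · exact inf_le_inf_left _ (inf_le_inf_left _ inf_le_right)
  · refine le_inf inf_le_left (le_inf (inf_le_right.trans inf_le_left) (le_inf ?_ ?_))
    · exact le_trans (le_inf inf_le_left (inf_le_right.trans inf_le_left)) h'
    · exact inf_le_right.trans inf_le_right

lemma isIso_ρ_push (U W W' : X.Opens) (h : W' ≤ W) (h' : U ⊓ W ≤ W')
    (G : (U : Scheme.{u}).Modules) :
    IsIso ((ρ W W' h).app ((pushforward U.ι).obj G)) := by
  haveI := isIso_T_map_η W W' h ((pushforward U.ι).obj G)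
  haveI := isIso_η_T_push U W W' h' G
  change IsIso ((η W').app ((T W).obj ((pushforward U.ι).obj G)) ≫
    inv ((T W').map ((η W).app ((pushforward U.ι).obj G))))
  infer_instance

lemma isIso_res_lam (U W W' : X.Opens) (h : W' ≤ W) (h' : U ⊓ W ≤ W') (F : X.Modules) :
    IsIso ((restrictFunctor U.ι).map ((lam W W' h).app F)) := by
  have h1 := conjugateEquiv_whiskerRight (adjL W) (adjL W')
    (restrictAdjunction U.ι) (lam W W' h)
  have h2 : conjugateEquiv (adjL W) (adjL W') (lam W W' h) = ρ W W' h := by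
    dsimp only [lam]
    rw [Equiv.apply_symm_apply]
  rw [h2] at h1
  have h3 : IsIso (Functor.whiskerLeft (pushforward U.ι) (ρ W W' h)) := by
    rw [NatTrans.isIso_iff_isIso_app]
    intro G
    exact isIso_ρ_push U W W' h h' G
  rw [← h1] at h3
  have h4 := @conjugateEquiv_of_iso _ _ _ _ _ _ _ _
    ((adjL W).comp (restrictAdjunction U.ι))
    ((adjL W').comp (restrictAdjunction U.ι))
    (Functor.whiskerRight (lam W W' h) (restrictFunctor U.ι)) h3
  exact (NatTrans.isIso_iff_isIso_app _).mp h4 F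

/-- The Mayer–Vietoris short complex `j_{U∩V!}F|_{U∩V} → j_{U!}F|_U ⊕ j_{V!}F|_V → F`. -/
noncomputable def mvShriek (U V : X.Opens) (F : X.Modules) : ShortComplex X.Modules :=
  ShortComplex.mk
    (biprod.lift ((lam U (U ⊓ V) inf_le_left).app F) (-(lam V (U ⊓ V) inf_le_right).app F))
    (biprod.desc ((εL U).app F) ((εL V).app F)) (by
      rw [biprod.lift_desc, Preadditive.neg_comp, lam_ε_app, lam_ε_app, add_neg_cancel])

theorem mvShriek_shortExact (U V : X.Opens) (hUV : U ⊔ V = ⊤) (F : X.Modules) :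
    (mvShriek U V F).ShortExact := by
  apply shortExact_of_map (restrictFunctor U.ι) (restrictFunctor V.ι)
    (fun φ h1 h2 => hom_eq_zero_of_res U V hUV φ h1 h2)
  · -- restriction to U
    let rU := restrictFunctor U.ι
    let A := (L U).obj F
    let B := (L V).obj F
    let f : (L (U ⊓ V)).obj F ⟶ A ⊞ B :=
      biprod.lift ((lam U (U ⊓ V) inf_le_left).app F) (-(lam V (U ⊓ V) inf_le_right).app F)
    let g : A ⊞ B ⟶ F := biprod.desc ((εL U).app F) ((εL V).app F)
    have hi1 : IsIso (rU.map f ≫ rU.map (biprod.snd : A ⊞ B ⟶ B)) := by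
      rw [← rU.map_comp, biprod.lift_snd, rU.map_neg]
      haveI := isIso_res_lam U V (U ⊓ V) inf_le_right le_rfl F
      infer_instance
    have hi2 : IsIso (rU.map (biprod.inl : A ⟶ A ⊞ B) ≫ rU.map g) := by
      rw [← rU.map_comp, biprod.inl_desc]
      exact isIso_res_εL U F
    have h21 : rU.map (biprod.inl : A ⟶ A ⊞ B) ≫ rU.map (biprod.snd : A ⊞ B ⟶ B) = 0 := by
      rw [← rU.map_comp, biprod.inl_snd, rU.map_zero]
    have htot : rU.map (biprod.snd : A ⊞ B ⟶ B) ≫ rU.map biprod.inr +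
        rU.map (biprod.fst : A ⊞ B ⟶ A) ≫ rU.map biprod.inl = 𝟙 (rU.obj (A ⊞ B)) := by
      rw [← rU.map_comp, ← rU.map_comp, ← rU.map_add, add_comm, biprod.total, rU.map_id]
    exact (@splittingOfIsos _ _ _ ((mvShriek U V F).map rU) _ _
      (rU.map (biprod.snd : A ⊞ B ⟶ B)) (rU.map (biprod.fst : A ⊞ B ⟶ A))
      (rU.map biprod.inr) (rU.map biprod.inl) h21 htot hi1 hi2).shortExact
  · -- restriction to V
    let rV := restrictFunctor V.ι
    let A := (L U).obj F
    let B := (L V).obj F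
    let f : (L (U ⊓ V)).obj F ⟶ A ⊞ B :=
      biprod.lift ((lam U (U ⊓ V) inf_le_left).app F) (-(lam V (U ⊓ V) inf_le_right).app F)
    let g : A ⊞ B ⟶ F := biprod.desc ((εL U).app F) ((εL V).app F)
    have hi1 : IsIso (rV.map f ≫ rV.map (biprod.fst : A ⊞ B ⟶ A)) := by
      rw [← rV.map_comp, biprod.lift_fst]
      exact isIso_res_lam V U (U ⊓ V) inf_le_left (le_of_eq (inf_comm _ _)) F
    have hi2 : IsIso (rV.map (biprod.inr : B ⟶ A ⊞ B) ≫ rV.map g) := by
      rw [← rV.map_comp, biprod.inr_desc]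
      exact isIso_res_εL V F
    have h21 : rV.map (biprod.inr : B ⟶ A ⊞ B) ≫ rV.map (biprod.fst : A ⊞ B ⟶ A) = 0 := by
      rw [← rV.map_comp, biprod.inr_fst, rV.map_zero]
    have htot : rV.map (biprod.fst : A ⊞ B ⟶ A) ≫ rV.map biprod.inl +
        rV.map (biprod.snd : A ⊞ B ⟶ B) ≫ rV.map biprod.inr = 𝟙 (rV.obj (A ⊞ B)) := by
      rw [← rV.map_comp, ← rV.map_comp, ← rV.map_add, biprod.total, rV.map_id]
    exact (@splittingOfIsos _ _ _ ((mvShriek U V F).map rV) _ _
      (rV.map (biprod.fst : A ⊞ B ⟶ A)) (rV.map (biprod.snd : A ⊞ B ⟶ B))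
      (rV.map biprod.inl) (rV.map biprod.inr) h21 htot hi1 hi2).shortExact

section Gen

variable {A B : Type*} [Category A] [Category B] [Abelian A] [Abelian B]
  (P₁ P₂ : A ⥤ B) [P₁.Additive] [P₂.Additive]

/-- `F ↦ P₁ F ⊞ P₂ F`. -/
noncomputable def Fsum : A ⥤ B where
  obj F := P₁.obj F ⊞ P₂.obj F
  map φ := biprod.map (P₁.map φ) (P₂.map φ)
  map_id F := by apply biprod.hom_ext <;> simp
  map_comp φ ψ := by apply biprod.hom_ext <;> simp

instance : (Fsum P₁ P₂).Additive where
  map_add := by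
    intro F G φ ψ
    change biprod.map (P₁.map (φ + ψ)) (P₂.map (φ + ψ)) =
      biprod.map (P₁.map φ) (P₂.map φ) + biprod.map (P₁.map ψ) (P₂.map ψ)
    rw [Functor.map_add, Functor.map_add]
    apply biprod.hom_ext
    · rw [Preadditive.add_comp]
      simp
    · rw [Preadditive.add_comp]
      simp

noncomputable def fsInl : P₁ ⟶ Fsum P₁ P₂ where
  app F := biprod.inl
  naturality F G φ := by dsimp [Fsum]; simp

noncomputable def fsInr : P₂ ⟶ Fsum P₁ P₂ where
  app F := biprod.inr
  naturality F G φ := by dsimp [Fsum]; simp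

noncomputable def fsFst : Fsum P₁ P₂ ⟶ P₁ where
  app F := biprod.fst
  naturality F G φ := by dsimp [Fsum]; simp

noncomputable def fsSnd : Fsum P₁ P₂ ⟶ P₂ where
  app F := biprod.snd
  naturality F G φ := by dsimp [Fsum]; simp

open DerivedCategory in
theorem nonempty_fsum_iso [HasDerivedCategory B] (K : CochainComplex A ℤ) :
    Nonempty (Q.obj (((Fsum P₁ P₂).mapHomologicalComplex (ComplexShape.up ℤ)).obj K) ≅
      Q.obj ((P₁.mapHomologicalComplex (ComplexShape.up ℤ)).obj K) ⊞
        Q.obj ((P₂.mapHomologicalComplex (ComplexShape.up ℤ)).obj K)) := by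
  let m {R R' : A ⥤ B} [R.Additive] [R'.Additive] (τ : R ⟶ R') :=
    (NatTrans.mapHomologicalComplex τ (ComplexShape.up ℤ)).app K
  let b : BinaryBicone (Q.obj ((P₁.mapHomologicalComplex (ComplexShape.up ℤ)).obj K))
      (Q.obj ((P₂.mapHomologicalComplex (ComplexShape.up ℤ)).obj K)) :=
    { pt := Q.obj (((Fsum P₁ P₂).mapHomologicalComplex (ComplexShape.up ℤ)).obj K)
      fst := Q.map (m (fsFst P₁ P₂))
      snd := Q.map (m (fsSnd P₁ P₂))
      inl := Q.map (m (fsInl P₁ P₂))
      inr := Q.map (m (fsInr P₁ P₂))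
      inl_fst := by
        rw [← Q.map_comp, ← Q.map_id]
        congr 1
        ext n
        exact biprod.inl_fst
      inl_snd := by
        rw [← Q.map_comp, ← Q.map_zero]
        congr 1
        ext n
        exact biprod.inl_snd
      inr_fst := by
        rw [← Q.map_comp, ← Q.map_zero]
        congr 1
        ext n
        exact biprod.inr_fst
      inr_snd := by
        rw [← Q.map_comp, ← Q.map_id]
        congr 1
        ext n
        exact biprod.inr_snd }
  have hb : b.IsBilimit := by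
    apply isBinaryBilimitOfTotal
    change Q.map (m (fsFst P₁ P₂)) ≫ Q.map (m (fsInl P₁ P₂)) +
      Q.map (m (fsSnd P₁ P₂)) ≫ Q.map (m (fsInr P₁ P₂)) = 𝟙 _
    rw [← Q.map_comp, ← Q.map_comp, ← Q.map_add, ← Q.map_id]
    congr 1
    ext n
    exact biprod.total
  exact ⟨biprod.uniqueUpToIso _ _ hb⟩

end Gen

section Cx

open DerivedCategory Pretriangulated

variable (U V : X.Opens)

noncomputable def mvAs : L (U ⊓ V) ⟶ Fsum (L U) (L V) where
  app F := (mvShriek U V F).f
  naturality F G φ := by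
    have h1 := (lam U (U ⊓ V) inf_le_left).naturality φ
    have h2 := (lam V (U ⊓ V) inf_le_right).naturality φ
    dsimp only [Fsum, mvShriek]
    apply biprod.hom_ext
    · simp only [Category.assoc, biprod.lift_fst, biprod.map_fst, biprod.lift_fst_assoc]
      exact h1
    · simp only [Category.assoc, biprod.lift_snd, biprod.map_snd, biprod.lift_snd_assoc,
        Preadditive.neg_comp, Preadditive.comp_neg]
      rw [h2]

noncomputable def mvBs : Fsum (L U) (L V) ⟶ 𝟭 X.Modules where
  app F := (mvShriek U V F).g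
  naturality F G φ := by
    have h1 := (εL U).naturality φ
    have h2 := (εL V).naturality φ
    dsimp only [Fsum, mvShriek]
    apply biprod.hom_ext'
    · simp only [biprod.inl_map_assoc, biprod.inl_desc, biprod.inl_desc_assoc]
      exact h1
    · simp only [biprod.inr_map_assoc, biprod.inr_desc, biprod.inr_desc_assoc]
      exact h2

variable (K : CochainComplex X.Modules ℤ)

noncomputable def mvShriekCx : ShortComplex (CochainComplex X.Modules ℤ) :=
  ShortComplex.mk
    ((NatTrans.mapHomologicalComplex (mvAs U V) (ComplexShape.up ℤ)).app K)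
    ((NatTrans.mapHomologicalComplex (mvBs U V) (ComplexShape.up ℤ)).app K) (by
      apply HomologicalComplex.hom_ext
      intro n
      exact (mvShriek U V (K.X n)).zero)

theorem mvShriekCx_shortExact (hUV : U ⊔ V = ⊤) : (mvShriekCx U V K).ShortExact := by
  apply HomologicalComplex.shortExact_of_degreewise_shortExact
  intro n
  exact mvShriek_shortExact U V hUV (K.X n)

variable [HasDerivedCategory.{u + 1} X.Modules]

theorem exists_mvShriek_triangle (hUV : U ⊔ V = ⊤) :
    ∃ (a : Q.obj (((L (U ⊓ V)).mapHomologicalComplex (ComplexShape.up ℤ)).obj K) ⟶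
        Q.obj (((L U).mapHomologicalComplex (ComplexShape.up ℤ)).obj K) ⊞
          Q.obj (((L V).mapHomologicalComplex (ComplexShape.up ℤ)).obj K))
      (b : Q.obj (((L U).mapHomologicalComplex (ComplexShape.up ℤ)).obj K) ⊞
          Q.obj (((L V).mapHomologicalComplex (ComplexShape.up ℤ)).obj K) ⟶ Q.obj K)
      (c : Q.obj K ⟶
        (Q.obj (((L (U ⊓ V)).mapHomologicalComplex (ComplexShape.up ℤ)).obj K))⟦(1 : ℤ)⟧),
      Triangle.mk a b c ∈ distTriang (DerivedCategory X.Modules) := by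
  have hS := mvShriekCx_shortExact U V K hUV
  have hT := triangleOfSES_distinguished hS
  obtain ⟨e⟩ := nonempty_fsum_iso (L U) (L V) K
  exact ⟨_, _, _, Groth.Agent.Lib.Helper32.MVTriangle.triangle_replace_mid (triangleOfSES hS) hT e⟩

end Cx

section IdentL

open DerivedCategory

variable (W : X.Opens) [PreservesFiniteLimits (CxOX.extZero W.ι)]
  [PreservesFiniteLimits (restrictFunctor W.ι)]
  [HasDerivedCategory.{u + 1} X.Modules] [HasDerivedCategory.{u + 1} (W : Scheme.{u}).Modules]

theorem nonempty_identL (K : CochainComplex X.Modules ℤ) (E : DerivedCategory X.Modules)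
    (eE : E ≅ Q.obj K) :
    Nonempty (Q.obj (((L W).mapHomologicalComplex (ComplexShape.up ℤ)).obj K) ≅
      (CxOX.extZero W.ι).mapDerivedCategory.obj
        ((restrictFunctor W.ι).mapDerivedCategory.obj E)) := by
  let e1 := (restrictFunctor W.ι).mapDerivedCategoryFactors.app K
  let e2 := (CxOX.extZero W.ι).mapDerivedCategoryFactors.app
    (((restrictFunctor W.ι).mapHomologicalComplex (ComplexShape.up ℤ)).obj K)
  let e0 : Q.obj (((L W).mapHomologicalComplex (ComplexShape.up ℤ)).obj K) ≅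
      Q.obj (((CxOX.extZero W.ι).mapHomologicalComplex (ComplexShape.up ℤ)).obj
        (((restrictFunctor W.ι).mapHomologicalComplex (ComplexShape.up ℤ)).obj K)) := Iso.refl _
  exact ⟨e0 ≪≫ e2.symm ≪≫ (CxOX.extZero W.ι).mapDerivedCategory.mapIso e1.symm ≪≫
    (CxOX.extZero W.ι).mapDerivedCategory.mapIso
      ((restrictFunctor W.ι).mapDerivedCategory.mapIso eE.symm)⟩

end IdentL

end Groth.Agent.Lib.Helper32.MVShriek
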