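import Mathlib
import Groth.Prelude.Def_CxOX
import Groth.Agent.Lib.Helper32.MVShriek
import Groth.Agent.Lib.Helper5.ExtZeroSub

/-!
# `j_! j^* F ⟶ F` is a monomorphism, `I ⟶ j_* j^* I` is split epi for injective `I`, and
`Γ_Z(I)` is injective for injective `I` (helper32)

Uses helper5's `ExtZeroSub.mono_extZero_counit_app` (site version), transported along
`CxOX.extZeroIsoSite`.
-/

set_option autoImplicit false
universe u
open CategoryTheory CategoryTheory.Limits AlgebraicGeometry TopologicalSpace Opposite

namespace Groth.Agent.Lib.Helper32.ExtZeroMono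

open Groth.Agent.Lib.Helper32.MVOpens Groth.Agent.Lib.Helper32.MVShriek Scheme.Modules

section Abstract

variable {C : Type*} [Category C] [Preadditive C]

lemma exists_retraction_kernel {I A : C} (u : I ⟶ A) [HasKernel u] (s : A ⟶ I)
    (hs : s ≫ u = 𝟙 A) : ∃ r : I ⟶ kernel u, kernel.ι u ≫ r = 𝟙 _ := by
  have h1 : (𝟙 I - u ≫ s) ≫ u = 0 := by
    rw [Preadditive.sub_comp, Category.id_comp, Category.assoc, hs, Category.comp_id, sub_self]
  refine ⟨kernel.lift u (𝟙 I - u ≫ s) h1, ?_⟩
  rw [← cancel_mono (kernel.ι u), Category.assoc, kernel.lift_ι, Category.id_comp,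
    Preadditive.comp_sub, Category.comp_id, kernel.condition_assoc, zero_comp, sub_zero]

/-- two kernels with the same vanishing condition are isomorphic. -/
noncomputable def kernelIsoOfVanish {I A B : C} (f : I ⟶ A) (g : I ⟶ B) [HasKernel f] [HasKernel g]
    (h1 : kernel.ι f ≫ g = 0) (h2 : kernel.ι g ≫ f = 0) : kernel f ≅ kernel g where
  hom := kernel.lift g (kernel.ι f) h1
  inv := kernel.lift f (kernel.ι g) h2
  hom_inv_id := by
    rw [← cancel_mono (kernel.ι f), Category.assoc, kernel.lift_ι, kernel.lift_ι, Category.id_comp]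
  inv_hom_id := by
    rw [← cancel_mono (kernel.ι g), Category.assoc, kernel.lift_ι, kernel.lift_ι, Category.id_comp]

end Abstract

variable {X : Scheme.{u}}

lemma εL_app (W : X.Opens) (F : X.Modules) :
    (εL W).app F = (CxOX.extZeroAdj W.ι).counit.app F := by
  dsimp only [εL]
  rw [conjugateEquiv_symm_apply_app]
  dsimp only [adjL, Adjunction.id, Functor.id_obj]
  rw [Adjunction.comp_counit_app]
  dsimp only [L, η, Functor.comp_map, Functor.comp_obj, Functor.id_obj, NatTrans.id_app]
  have h1 : (CxOX.extZero W.ι).map ((restrictFunctor W.ι).map (𝟙 F)) = 𝟙 _ := by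
    rw [CategoryTheory.Functor.map_id, CategoryTheory.Functor.map_id]
  have h2 : (CxOX.extZero W.ι).map ((restrictFunctor W.ι).map ((restrictAdjunction W.ι).unit.app F)) ≫
        (CxOX.extZero W.ι).map ((restrictAdjunction W.ι).counit.app ((restrictFunctor W.ι).obj F)) =
      𝟙 _ := by
    rw [← Functor.map_comp]
    have := (restrictAdjunction W.ι).left_triangle_components F
    exact (congrArg (fun t => (CxOX.extZero W.ι).map t) this).trans
      (CategoryTheory.Functor.map_id _ _)
  refine (congrArg (fun t => t ≫ _) h1).trans ?_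
  rw [Category.id_comp, reassoc_of% h2]

/-- `j_! j^* T ⟶ T` is a monomorphism (site version, transported). -/
lemma mono_extZeroAdj_counit (W : X.Opens) (F : X.Modules) :
    Mono ((CxOX.extZeroAdj W.ι).counit.app F) := by
  let adj₂ := (((Scheme.Modules.overEquiv W).symm.toAdjunction).comp
    (ModSite.extZeroAdj X.sheaf W)).ofNatIsoRight (Scheme.Modules.overFunctorEquiv W)
  have h := Adjunction.leftAdjointUniq_hom_app_counit (CxOX.extZeroAdj W.ι) adj₂ F
  rw [← h]
  have hU : ∀ V : X.Opens, Subsingleton (V ⟶ W) := fun V => inferInstance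
  have h1 := Groth.Agent.Lib.Helper5.ExtZeroSub.mono_extZero_counit_app X.sheaf W hU F
  have h2 : Mono (adj₂.counit.app F) := by
    have h3 : adj₂.counit.app F = (adj₂.homEquiv _ _).symm (𝟙 _) := by
      rw [Adjunction.homEquiv_counit, CategoryTheory.Functor.map_id, Category.id_comp]
    rw [h3]
    dsimp only [adj₂]
    rw [Adjunction.homEquiv_ofNatIsoRight_symm_apply, Adjunction.homEquiv_counit,
      Adjunction.comp_counit_app, Functor.map_comp]
    have i1 : IsIso ((overEquiv W).symm.toAdjunction.counit.app ((ModSite.restr X.sheaf W).obj F)) :=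
      inferInstance
    have i2 : IsIso ((ModSite.extZero X.sheaf W).map
        ((overEquiv W).symm.toAdjunction.counit.app ((ModSite.restr X.sheaf W).obj F))) :=
      Functor.map_isIso _ _
    have i3 : IsIso (((overEquiv W).symm.functor ⋙ ModSite.extZero X.sheaf W).map
        ((overFunctorEquiv W).inv.app F)) := Functor.map_isIso _ _
    have i4 : IsIso (((overEquiv W).symm.functor ⋙ ModSite.extZero X.sheaf W).map
        (𝟙 ((restrictFunctor W.ι).obj F))) := Functor.map_isIso _ _
    have m2 := @IsIso.mono_of_iso _ _ _ _ _ i2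
    have m3 := @IsIso.mono_of_iso _ _ _ _ _ i3
    have m4 := @IsIso.mono_of_iso _ _ _ _ _ i4
    have m5 := @mono_comp _ _ _ _ _ _ m2 _ h1
    have m6 := @mono_comp _ _ _ _ _ _ m4 _ m3
    exact @mono_comp _ _ _ _ _ _ m6 _ m5
  exact @mono_comp _ _ _ _ _ _ (IsIso.mono_of_iso _) _ h2

lemma mono_εL (W : X.Opens) (F : X.Modules) : Mono ((εL W).app F) := by
  rw [εL_app]
  exact mono_extZeroAdj_counit W F

/-- the mate of `φ ≫ η_I` under `j_! j^* ⊣ j_* j^*` is `ε_A ≫ φ`. -/
lemma homEquiv_εL_comp (W : X.Opens) {A I : X.Modules} (φ : A ⟶ I) :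
    (adjL W).homEquiv A I ((εL W).app A ≫ φ) = φ ≫ (η W).app I := by
  have h := unit_conjugateEquiv (Adjunction.id (C := X.Modules)) (adjL W) (εL W) A
  have h2 : conjugateEquiv Adjunction.id (adjL W) (εL W) = η W := by
    dsimp only [εL]
    rw [Equiv.apply_symm_apply]
  rw [h2] at h
  rw [Adjunction.homEquiv_unit, Functor.map_comp, ← Category.assoc, ← h]
  dsimp only [Adjunction.id, Functor.id_obj, NatTrans.id_app]
  rw [Category.id_comp]
  exact ((η W).naturality φ).symm

/-- For injective `I`, the unit `I ⟶ j_* j^* I` has a section. -/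
theorem exists_section_η (W : X.Opens) (I : X.Modules) [Injective I] :
    ∃ s : (T W).obj I ⟶ I, s ≫ (η W).app I = 𝟙 _ := by
  haveI := mono_εL W ((T W).obj I)
  refine ⟨Injective.factorThru ((adjL W).counit.app I) ((εL W).app ((T W).obj I)), ?_⟩
  rw [← homEquiv_εL_comp, Injective.comp_factorThru, Adjunction.homEquiv_unit,
    (adjL W).right_triangle_components]

theorem epi_η_of_injective (W : X.Opens) (I : X.Modules) [Injective I] :
    Epi ((η W).app I) := by
  obtain ⟨s, hs⟩ := exists_section_η W I
  exact (IsSplitEpi.mk' ⟨s, hs⟩).epi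

/-- `Γ_Z(I)` is a retract of `I` for injective `I`. -/
theorem exists_retraction_gammaZ (W : X.Opens) (I : X.Modules) [Injective I] :
    ∃ r : I ⟶ (DCoh.gammaZ W.ι).obj I, (CxOX.gammaZι W.ι).app I ≫ r = 𝟙 _ := by
  obtain ⟨s, hs⟩ := exists_section_η W I
  exact exists_retraction_kernel ((η W).app I) s hs

theorem injective_gammaZ (W : X.Opens) (I : X.Modules) [Injective I] :
    Injective ((DCoh.gammaZ W.ι).obj I) := by
  obtain ⟨r, hr⟩ := exists_retraction_gammaZ W I
  exact Retract.injective ⟨(CxOX.gammaZι W.ι).app I, r, hr⟩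

section General

variable {U : Scheme.{u}} (j : U ⟶ X) [IsOpenImmersion j]

lemma comp_unit_eq_zero_iff {F I : X.Modules} (φ : F ⟶ I) :
    φ ≫ (restrictAdjunction j).unit.app I = 0 ↔ (restrictFunctor j).map φ = 0 := by
  have h : (restrictAdjunction j).homEquiv F _ ((restrictFunctor j).map φ) =
      φ ≫ (restrictAdjunction j).unit.app I := by
    rw [Adjunction.homEquiv_unit]
    exact ((restrictAdjunction j).unit.naturality φ).symm
  rw [← h]
  constructor
  · intro h0
    apply ((restrictAdjunction j).homEquiv F _).injective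
    rw [h0]
    rw [Adjunction.homEquiv_unit, Functor.map_zero, comp_zero]
  · intro h0
    rw [h0, Adjunction.homEquiv_unit, Functor.map_zero, comp_zero]

lemma res_map_eq_zero_of_comp {A B : Scheme.{u}} (g : A ⟶ B) (h : B ⟶ X) (f : A ⟶ X)
    (hf : g ≫ h = f) [IsOpenImmersion g] [IsOpenImmersion h] [IsOpenImmersion f]
    {M N : X.Modules} (φ : M ⟶ N) (h0 : (restrictFunctor h).map φ = 0) :
    (restrictFunctor f).map φ = 0 := by
  subst hf
  let iso := restrictFunctorComp g h
  have hn := iso.hom.naturality φ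
  rw [← cancel_mono (iso.hom.app N), hn, zero_comp]
  dsimp only [Functor.comp_map]
  rw [h0, Functor.map_zero, comp_zero]

lemma res_map_eq_zero_iff_opensRange {M N : X.Modules} (φ : M ⟶ N) :
    (restrictFunctor j).map φ = 0 ↔ (restrictFunctor j.opensRange.ι).map φ = 0 :=
  ⟨res_map_eq_zero_of_comp j.isoOpensRange.inv j j.opensRange.ι j.isoOpensRange_inv_comp φ,
    res_map_eq_zero_of_comp j.isoOpensRange.hom j.opensRange.ι j j.isoOpensRange_hom_ι φ⟩

lemma kernel_ι_comp_unit_opensRange (I : X.Modules) :
    kernel.ι ((restrictAdjunction j).unit.app I) ≫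
      (restrictAdjunction j.opensRange.ι).unit.app I = 0 :=
  (comp_unit_eq_zero_iff j.opensRange.ι _).mpr ((res_map_eq_zero_iff_opensRange j _).mp
    ((comp_unit_eq_zero_iff j _).mp (kernel.condition _)))

lemma kernel_ι_opensRange_comp_unit (I : X.Modules) :
    kernel.ι ((restrictAdjunction j.opensRange.ι).unit.app I) ≫
      (restrictAdjunction j).unit.app I = 0 :=
  (comp_unit_eq_zero_iff j _).mpr ((res_map_eq_zero_iff_opensRange j _).mpr
    ((comp_unit_eq_zero_iff j.opensRange.ι _).mp (kernel.condition _)))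

/-- `Γ_Z` for `j` agrees with `Γ_Z` for the inclusion of the range of `j`. -/
noncomputable def gammaZIsoOpensRange (I : X.Modules) :
    (DCoh.gammaZ j).obj I ≅ (DCoh.gammaZ j.opensRange.ι).obj I :=
  kernelIsoOfVanish _ _ (kernel_ι_comp_unit_opensRange j I) (kernel_ι_opensRange_comp_unit j I)

theorem injective_gammaZ' (I : X.Modules) [Injective I] :
    Injective ((DCoh.gammaZ j).obj I) := by
  haveI := injective_gammaZ j.opensRange I
  exact Injective.of_iso (gammaZIsoOpensRange j I).symm inferInstance

end General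

end Groth.Agent.Lib.Helper32.ExtZeroMono
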