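import Mathlib
import Groth.Prelude.Def_CxOX
import Groth.Prelude.Def_CohB1
import Groth.Agent.Lib.Helper32.MVTriangle
import Groth.Agent.Lib.Helper32.WayOut2

/-!
# Supports, restriction to opens and derived direct images (helper32)
-/

set_option autoImplicit false
universe w w' v v' u u'
open CategoryTheory CategoryTheory.Limits AlgebraicGeometry TopologicalSpace Opposite ZeroObject

namespace Groth.Agent.Lib.Helper32.OpenSupp

open Groth.Agent.Lib.Helper32.KInjDerived Groth.Agent.Lib.Helper32.RDerCrit
  Groth.Agent.Lib.Helper32.OpenKInj Groth.Agent.Lib.Helper32.MVTriangle Scheme.Modules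

section Gen

variable {A : Type u} [Category.{v} A] [Abelian A] [HasDerivedCategory.{w} A]
  {B : Type u'} [Category.{v'} B] [Abelian B] [HasDerivedCategory.{w'} B]

/-- Existence of total right derived functors in the presence of K-injective resolutions. -/
theorem hasRightDerivedFunctor (h : HasKInjRes A) {H : Type*} [Category H]
    (F : HomotopyCategory A (ComplexShape.up ℤ) ⥤ H) :
    F.HasRightDerivedFunctor (HomotopyCategory.quasiIso A (ComplexShape.up ℤ)) := by
  have := hasPointwiseLeftKanExtension (hasTerminalArrows_Qh h) F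
  rw [Functor.hasRightDerivedFunctor_iff F DerivedCategory.Qh]
  infer_instance

lemma isZero_of_homology (Z : DerivedCategory A)
    (h : ∀ n : ℤ, IsZero ((DerivedCategory.homologyFunctor A n).obj Z)) : IsZero Z := by
  have : IsIso (0 : Z ⟶ 0) := by
    rw [DerivedCategory.isIso_iff]
    intro n
    have h0 : IsZero ((DerivedCategory.homologyFunctor A n).obj (0 : DerivedCategory A)) :=
      Functor.map_isZero _ (isZero_zero _)
    exact ⟨⟨0, (h n).eq_of_src _ _, h0.eq_of_src _ _⟩⟩
  exact IsZero.of_iso (isZero_zero _) (asIso (0 : Z ⟶ 0))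

lemma isKInjective_zero (J : CochainComplex A ℤ) (hJ : IsZero J) : J.IsKInjective :=
  ⟨fun f _ => ⟨Homotopy.ofEq (hJ.eq_of_tgt _ _)⟩⟩

/-- A total right derived functor sends zero objects to zero objects. -/
theorem isZero_rd_obj (h : HasKInjRes A) (P : A ⥤ B) [P.Additive]
    [(P.mapHomotopyCategory (ComplexShape.up ℤ) ⋙ DerivedCategory.Qh).HasRightDerivedFunctor
      (HomotopyCategory.quasiIso A (ComplexShape.up ℤ))]
    (Z : DerivedCategory A) (hZ : IsZero Z) :
    IsZero (((P.mapHomotopyCategory (ComplexShape.up ℤ) ⋙ DerivedCategory.Qh).totalRightDerived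
      DerivedCategory.Qh (HomotopyCategory.quasiIso A (ComplexShape.up ℤ))).obj Z) := by
  have h0 : IsZero (0 : CochainComplex A ℤ) := isZero_zero _
  obtain ⟨e⟩ := nonempty_rd_iso P h (0 : CochainComplex A ℤ) (isKInjective_zero _ h0)
  have h1 : IsZero (DerivedCategory.Q.obj
      ((P.mapHomologicalComplex (ComplexShape.up ℤ)).obj (0 : CochainComplex A ℤ))) :=
    Functor.map_isZero _ (Functor.map_isZero _ h0)
  have h2 : IsZero (DerivedCategory.Q.obj (0 : CochainComplex A ℤ)) := Functor.map_isZero _ h0
  exact IsZero.of_iso (IsZero.of_iso h1 e.symm) (Functor.mapIso _ (hZ.iso h2))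

end Gen

section Scheme

variable {Y : Scheme.{u}}

/-- A module whose stalks vanish on an open `O` restricts to zero on `O`. -/
lemma isZero_restrict_of_stalk (O : Y.Opens) (M : Y.Modules)
    (h : ∀ x : Y, x ∈ O → Subsingleton (M.presheaf.stalk x)) :
    IsZero ((restrictFunctor O.ι).obj M) := by
  rw [IsZero.iff_id_eq_zero]
  apply Scheme.Modules.hom_ext
  intro W'
  have hsub : Subsingleton Γ(M, O.ι ''ᵁ W') := by
    refine ⟨fun s t => ?_⟩
    apply TopCat.Presheaf.section_ext ⟨M.presheaf, M.isSheaf⟩ (O.ι ''ᵁ W') s t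
    intro x hx
    have hxO : x ∈ O := Groth.Agent.Lib.Helper32.MVOpens.image_le O W' hx
    haveI := h x hxO
    exact Subsingleton.elim _ _
  ext x
  exact @Subsingleton.elim _ hsub _ _

variable [HasDerivedCategory.{w} Y.Modules]

/-- If the cohomology sheaves of `G` have no support in `O`, then `G|_O = 0`. -/
theorem isZero_restrictD_of_support (O : Y.Opens)
    [HasDerivedCategory.{w} (O : Scheme.{u}).Modules]
    [PreservesFiniteLimits (restrictFunctor O.ι)] (G : DerivedCategory Y.Modules)
    (h : ∀ (i : ℤ) (x : Y), x ∈ O →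
      x ∉ CohB1.support ((DerivedCategory.homologyFunctor Y.Modules i).obj G)) :
    IsZero ((restrictFunctor O.ι).mapDerivedCategory.obj G) := by
  apply isZero_of_homology
  intro n
  obtain ⟨e⟩ := Groth.Agent.Lib.Helper32.WayOut2.nonempty_homologyIso_mapDerivedCategory
    (restrictFunctor O.ι) G n
  refine IsZero.of_iso ?_ e
  apply isZero_restrict_of_stalk
  intro x hx
  have := h n x hx
  simpa [CohB1.support] using this

end Scheme

section Counit

open DerivedCategory

variable {X : Scheme.{u}} (U : X.Opens)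
  [HasDerivedCategory.{w} X.Modules] [HasDerivedCategory.{w} (U : Scheme.{u}).Modules]
  [PreservesFiniteLimits (restrictFunctor U.ι)]
  [((pushforward U.ι).mapHomotopyCategory (ComplexShape.up ℤ) ⋙
      DerivedCategory.Qh).HasRightDerivedFunctor
    (HomotopyCategory.quasiIso (U : Scheme.{u}).Modules (ComplexShape.up ℤ))]

/-- `(Rj_* F)|_U ≅ F` for an open immersion `j : U → X`. -/
theorem nonempty_restrictD_Rpush_iso (F : DerivedCategory (U : Scheme.{u}).Modules) :
    Nonempty ((restrictFunctor U.ι).mapDerivedCategory.obj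
      ((((pushforward U.ι).mapHomotopyCategory (ComplexShape.up ℤ) ⋙
        DerivedCategory.Qh).totalRightDerived DerivedCategory.Qh
        (HomotopyCategory.quasiIso (U : Scheme.{u}).Modules (ComplexShape.up ℤ))).obj F) ≅ F) := by
  obtain ⟨J, hJ, _, ⟨eF⟩⟩ := exists_kInj_model F
  obtain ⟨e1⟩ := nonempty_rd_iso (pushforward U.ι) (hasKInjRes (U : Scheme.{u})) J hJ
  let RP := ((pushforward U.ι).mapHomotopyCategory (ComplexShape.up ℤ) ⋙
        DerivedCategory.Qh).totalRightDerived DerivedCategory.Qh
        (HomotopyCategory.quasiIso (U : Scheme.{u}).Modules (ComplexShape.up ℤ))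
  let e2 := (restrictFunctor U.ι).mapDerivedCategoryFactors.app
    (((pushforward U.ι).mapHomologicalComplex (ComplexShape.up ℤ)).obj J)
  let e3 : Q.obj (((restrictFunctor U.ι).mapHomologicalComplex (ComplexShape.up ℤ)).obj
      (((pushforward U.ι).mapHomologicalComplex (ComplexShape.up ℤ)).obj J)) ≅ Q.obj J :=
    Q.mapIso ((NatIso.mapHomologicalComplex (restrictFunctorAdjCounitIso U.ι)
      (ComplexShape.up ℤ)).app J)
  exact ⟨(restrictFunctor U.ι).mapDerivedCategory.mapIso (RP.mapIso eF ≪≫ e1.symm) ≪≫
    e2 ≪≫ e3 ≪≫ eF.symm⟩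

end Counit

end Groth.Agent.Lib.Helper32.OpenSupp
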