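import Mathlib
import Groth.Prelude.Def_CxOX
import Groth.Agent.Lib.Helper32.OpenSupp

/-!
# `RΓ_Z`, open immersions and essential images of `Rj_*` (helper32)
-/

set_option autoImplicit false
universe u
open CategoryTheory CategoryTheory.Limits AlgebraicGeometry TopologicalSpace Opposite ZeroObject

attribute [local instance] HasDerivedCategory.standard

namespace Groth.Agent.Lib.Helper32.RGammaZ

open Groth.Agent.Lib.Helper32.KInjDerived Groth.Agent.Lib.Helper32.RDerCrit
  Groth.Agent.Lib.Helper32.OpenKInj Groth.Agent.Lib.Helper32.MVTriangle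
  Groth.Agent.Lib.Helper32.MVOpens Groth.Agent.Lib.Helper32.OpenSupp Scheme.Modules
  Pretriangulated

section MV

variable {X : Scheme.{u}}

/-- If `X = U ∪ V` and `E` vanishes on `V` and on `U ∩ V`, then `E ≅ Rj_{U*}(E|_U)`. -/
theorem nonempty_iso_Rpush_restrictD (U V : X.Opens) (hUV : U ⊔ V = ⊤) [DCoh.HasRpush U.ι]
    (E : DCoh.D X) (hV0 : IsZero ((DCoh.restrictD V.ι).obj E))
    (hUV0 : IsZero ((DCoh.restrictD (U ⊓ V).ι).obj E)) :
    Nonempty (E ≅ (DCoh.Rpush U.ι).obj ((DCoh.restrictD U.ι).obj E)) := by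
  haveI hRV : DCoh.HasRpush V.ι := hasRightDerivedFunctor (hasKInjRes (V : Scheme.{u})) _
  haveI hRUV : DCoh.HasRpush (U ⊓ V).ι :=
    hasRightDerivedFunctor (hasKInjRes ((U ⊓ V : X.Opens) : Scheme.{u})) _
  obtain ⟨I, hI, hinj, ⟨eE⟩⟩ := exists_kInj_model E
  have h := exists_mv_triangle U V (𝟭 X.Modules) I hUV hinj
  have e₁ : DerivedCategory.Q.obj (cx (𝟭 X.Modules) I (𝟭 _)) ≅ E := eE.symm
  obtain ⟨eU⟩ := nonempty_ident U (Scheme.Modules.pushforward U.ι) (T U ⋙ 𝟭 X.Modules)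
    (Functor.rightUnitor _) I hI E eE
  obtain ⟨eV⟩ := nonempty_ident V (Scheme.Modules.pushforward V.ι) (T V ⋙ 𝟭 X.Modules)
    (Functor.rightUnitor _) I hI E eE
  obtain ⟨eUV⟩ := nonempty_ident (U ⊓ V) (Scheme.Modules.pushforward (U ⊓ V).ι)
    (T (U ⊓ V) ⋙ 𝟭 X.Modules) (Functor.rightUnitor _) I hI E eE
  obtain ⟨a, b, c, hTr⟩ := exists_triangle_of_iso e₁ (biprod.mapIso eU eV) eUV h
  have hZ₂ : IsZero ((DCoh.Rpush V.ι).obj ((DCoh.restrictD V.ι).obj E)) :=
    isZero_rd_obj (hasKInjRes (V : Scheme.{u})) (Scheme.Modules.pushforward V.ι) _ hV0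
  have hZ₃ : IsZero ((DCoh.Rpush (U ⊓ V).ι).obj ((DCoh.restrictD (U ⊓ V).ι).obj E)) :=
    isZero_rd_obj (hasKInjRes ((U ⊓ V : X.Opens) : Scheme.{u}))
      (Scheme.Modules.pushforward (U ⊓ V).ι) _ hUV0
  have ha : IsIso a := (Triangle.isZero₃_iff_isIso₁ _ hTr).mp hZ₃
  exact ⟨asIso a ≪≫ (isoBiprodZero hZ₂).symm⟩

end MV

section PushKInj

variable {A B : Scheme.{u}} (k : A ⟶ B) [IsOpenImmersion k]

/-- Direct image along an open immersion preserves K-injective complexes. -/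
theorem isKInjective_pushforward (J : CochainComplex A.Modules ℤ) (hJ : J.IsKInjective) :
    CochainComplex.IsKInjective
      (((pushforward k).mapHomologicalComplex (ComplexShape.up ℤ)).obj J) :=
  Groth.Agent.S0481.result (pushforward k) (restrictFunctor k) (restrictAdjunction k) J hJ

end PushKInj

section GammaZ

variable {X : Scheme.{u}} (W : X.Opens)

lemma isZero_res_gammaZ (W' : X.Opens) (h : W' ≤ W) (F : X.Modules) :
    IsZero ((restrictFunctor W'.ι).obj ((DCoh.gammaZ W.ι).obj F)) := by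
  have hi : IsIso ((restrictFunctor W'.ι).map ((η W).app F)) := isIso_res_η_of_le W' W h F
  let r := restrictFunctor W'.ι
  have h1 : r.map (kernel.ι ((η W).app F)) ≫ r.map ((η W).app F) = 0 := by
    rw [← r.map_comp, kernel.condition, r.map_zero]
  have h2 : r.map (kernel.ι ((η W).app F)) = 0 := by
    rw [← cancel_mono (r.map ((η W).app F)), h1, zero_comp]
  haveI : r.PreservesMonomorphisms :=
    CategoryTheory.preservesMonomorphisms_of_preservesLimitsOfShape r
  have hm : Mono (r.map (kernel.ι ((η W).app F))) := r.map_mono _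
  exact @IsZero.of_mono_eq_zero _ _ _ _ _ (r.map (kernel.ι ((η W).app F))) hm h2

theorem isZero_restrictD_RgammaZ (W' : X.Opens) (h : W' ≤ W) [CxOX.HasRgammaZ W.ι]
    (G : DCoh.D X) :
    IsZero ((DCoh.restrictD W'.ι).obj ((CxOX.RgammaZ W.ι).obj G)) := by
  obtain ⟨I, hI, _, ⟨eG⟩⟩ := exists_kInj_model G
  obtain ⟨e1⟩ := nonempty_rd_iso (DCoh.gammaZ W.ι) (hasKInjRes X) I hI
  let e2 := (restrictFunctor W'.ι).mapDerivedCategoryFactors.app
    (((DCoh.gammaZ W.ι).mapHomologicalComplex (ComplexShape.up ℤ)).obj I)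
  have h0 : IsZero (((restrictFunctor W'.ι).mapHomologicalComplex (ComplexShape.up ℤ)).obj
      (((DCoh.gammaZ W.ι).mapHomologicalComplex (ComplexShape.up ℤ)).obj I)) := by
    rw [IsZero.iff_id_eq_zero]
    apply HomologicalComplex.hom_ext
    intro n
    exact (isZero_res_gammaZ W W' h (I.X n)).eq_of_src _ _
  exact IsZero.of_iso (Functor.map_isZero DerivedCategory.Q h0)
    ((DCoh.restrictD W'.ι).mapIso ((CxOX.RgammaZ W.ι).mapIso eG ≪≫ e1.symm) ≪≫ e2)

end GammaZ

section EssImage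

variable {X Xbar : Scheme.{u}} (j : X ⟶ Xbar) [IsOpenImmersion j] [DCoh.HasRpush j]

/-- `Rj_*` is fully faithful for an open immersion `j`. -/
theorem nonempty_fullyFaithful_Rpush : Nonempty (DCoh.Rpush j).FullyFaithful := by
  let β := (DCoh.pushKh j).totalRightDerivedUnit DerivedCategory.Qh
    (HomotopyCategory.quasiIso X.Modules (ComplexShape.up ℤ))
  obtain ⟨adj', hadj'⟩ := exists_derivedAdjunctionh (restrictAdjunction j) (hasKInjRes X)
    (DCoh.Rpush j) β
  haveI := isIso_counit_of_isIso_counit (restrictAdjunction j) (hasKInjRes X)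
    (DCoh.Rpush j) β adj' hadj'
  exact ⟨adj'.fullyFaithfulROfIsIsoCounit⟩

/-- The essential image of `Rj_*` contains that of `R(j.opensRange.ι)_*`. -/
theorem exists_iso_Rpush_of_opensRange [DCoh.HasRpush j.opensRange.ι]
    (N₀ : DCoh.D (j.opensRange : Scheme.{u})) :
    ∃ N : DCoh.D X, Nonempty ((DCoh.Rpush j.opensRange.ι).obj N₀ ≅ (DCoh.Rpush j).obj N) := by
  obtain ⟨J, hJ, _, ⟨eN⟩⟩ := exists_kInj_model N₀
  let e := j.isoOpensRange
  have he : e.inv ≫ j = j.opensRange.ι := j.isoOpensRange_inv_comp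
  let J' : CochainComplex X.Modules ℤ :=
    ((pushforward e.inv).mapHomologicalComplex (ComplexShape.up ℤ)).obj J
  have hJ' : J'.IsKInjective := isKInjective_pushforward e.inv J hJ
  obtain ⟨e1⟩ := nonempty_rd_iso (pushforward j.opensRange.ι)
    (hasKInjRes (j.opensRange : Scheme.{u})) J hJ
  obtain ⟨e2⟩ := nonempty_rd_iso (pushforward j) (hasKInjRes X) J' hJ'
  let φ : pushforward j.opensRange.ι ≅ pushforward e.inv ⋙ pushforward j :=
    (Scheme.Modules.pushforwardCongr he).symm ≪≫ (Scheme.Modules.pushforwardComp e.inv j).symm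
  let e3 : DerivedCategory.Q.obj
      (((pushforward j.opensRange.ι).mapHomologicalComplex (ComplexShape.up ℤ)).obj J) ≅
      DerivedCategory.Q.obj (((pushforward j).mapHomologicalComplex (ComplexShape.up ℤ)).obj J') :=
    DerivedCategory.Q.mapIso ((NatIso.mapHomologicalComplex φ (ComplexShape.up ℤ)).app J)
  exact ⟨DerivedCategory.Q.obj J',
    ⟨(DCoh.Rpush j.opensRange.ι).mapIso eN ≪≫ e1.symm ≪≫ e3 ≪≫ e2⟩⟩

end EssImage

end Groth.Agent.Lib.Helper32.RGammaZ
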