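import Mathlib
import Groth.Prelude.Def_CxOX
import Groth.Agent.Lib.Helper32.RGammaZ
import Groth.Agent.Lib.Helper32.ExtZeroMono

/-!
# The triangle `RΓ_Z G → G → Rj_* j^* G`, supports and restriction (helper32)

* `isSuppD_of_isZero_restrictD`: `K|_U = 0 ⇒ K ∈ D_Z`;
* `isZero_restrictD_of_range_subset`, `isZero_restrictD_restrictD`: vanishing of restrictions;
* `isZero_RgammaZ_Rpush`: `RΓ_Z(Rj_* F) = 0` when `j(U) ∩ Z = ∅`;
* `gammaSC_shortExact`: `0 → Γ_Z I → I → j_* j^* I → 0` for complexes of injectives;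
* `nonempty_iso_Rpush_of_isZero_RgammaZ`: `RΓ_Z G = 0 ⇒ G ≅ Rj_*(G|_U)`;
* `nonempty_Rpush_comp_iso`, `exists_iso_Rpush_of_range_eq`, `isZero_restrictD_Rpush`,
  `isQCohD_restrictD`.
-/

set_option autoImplicit false
universe u
open CategoryTheory CategoryTheory.Limits AlgebraicGeometry TopologicalSpace Opposite ZeroObject

attribute [local instance] HasDerivedCategory.standard

namespace Groth.Agent.Lib.Helper32.RGammaTri

open Groth.Agent.Lib.Helper32.KInjDerived Groth.Agent.Lib.Helper32.RDerCrit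
  Groth.Agent.Lib.Helper32.OpenKInj Groth.Agent.Lib.Helper32.MVTriangle
  Groth.Agent.Lib.Helper32.MVOpens Groth.Agent.Lib.Helper32.OpenSupp
  Groth.Agent.Lib.Helper32.RGammaZ Groth.Agent.Lib.Helper32.ExtZeroMono Scheme.Modules
  Pretriangulated

section Stalk

variable {U X : Scheme.{u}} (j : U ⟶ X) [IsOpenImmersion j]

lemma subsingleton_sections_of_isZero {Y : Scheme.{u}} (N : Y.Modules) (hN : IsZero N)
    (V : Y.Opens) : Subsingleton Γ(N, V) := by
  refine ⟨fun s t => ?_⟩
  have h : 𝟙 N = 0 := hN.eq_of_src _ _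
  have h1 : ∀ s : Γ(N, V), s = 0 := by
    intro s
    have h2 : (𝟙 N : N ⟶ N).app V s = (0 : N ⟶ N).app V s := by rw [h]
    simpa using h2
  rw [h1 s, h1 t]

lemma subsingleton_stalk_of_isZero {Y : Scheme.{u}} (N : Y.Modules) (hN : IsZero N) (y : Y) :
    Subsingleton (N.presheaf.stalk y) := by
  have h1 : ∀ t : N.presheaf.stalk y, t = 0 := by
    intro t
    obtain ⟨V, m, s, rfl⟩ := TopCat.Presheaf.exists_germ_eq N.presheaf t
    haveI := subsingleton_sections_of_isZero N hN V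
    have : s = 0 := Subsingleton.elim _ _
    rw [this, map_zero]
  exact ⟨fun s t => by rw [h1 s, h1 t]⟩

lemma subsingleton_stalk_of_isZero_restrict (M : X.Modules)
    (h : IsZero ((restrictFunctor j).obj M)) (x : U) :
    Subsingleton (M.presheaf.stalk (j x)) := by
  have hsub : Subsingleton (((restrictFunctor j).obj M).presheaf.stalk x) :=
    subsingleton_stalk_of_isZero _ h x
  let e := (restrictStalkNatIso j x).app M
  refine ⟨fun a b => ?_⟩
  have ha : e.hom (e.inv a) = a := by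
    rw [← ConcreteCategory.comp_apply, e.inv_hom_id]; rfl
  have hb : e.hom (e.inv b) = b := by
    rw [← ConcreteCategory.comp_apply, e.inv_hom_id]; rfl
  rw [← ha, ← hb]
  congr 1
  exact @Subsingleton.elim _ hsub _ _

/-- If `K|_U = 0` then the cohomology sheaves of `K` are supported off `U`. -/
theorem isSuppD_of_isZero_restrictD (K : DCoh.D X)
    (h : IsZero ((DCoh.restrictD j).obj K)) : CxOX.IsSuppD j K := by
  intro i y hy
  rintro ⟨x, rfl⟩
  apply hy
  obtain ⟨e⟩ := Groth.Agent.Lib.Helper32.WayOut2.nonempty_homologyIso_mapDerivedCategory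
    (restrictFunctor j) K i
  have h0 : IsZero ((restrictFunctor j).obj (DCoh.HD K i)) :=
    IsZero.of_iso (Functor.map_isZero _ h) e.symm
  exact subsingleton_stalk_of_isZero_restrict j _ h0 x

end Stalk

section RestrComp

lemma isZero_restrict_comp {P Q R : Scheme.{u}} (a : P ⟶ Q) (b : Q ⟶ R) [IsOpenImmersion a]
    [IsOpenImmersion b] (M : R.Modules) (h : IsZero ((restrictFunctor b).obj M)) :
    IsZero ((restrictFunctor (a ≫ b)).obj M) :=
  IsZero.of_iso (Functor.map_isZero (restrictFunctor a) h) ((restrictFunctorComp a b).app M)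

lemma isZero_restrict_of_range_subset {P Q R : Scheme.{u}} (f : P ⟶ R) (b : Q ⟶ R)
    [IsOpenImmersion f] [IsOpenImmersion b] (hr : Set.range f ⊆ Set.range b) (M : R.Modules)
    (h : IsZero ((restrictFunctor b).obj M)) : IsZero ((restrictFunctor f).obj M) := by
  let a := IsOpenImmersion.lift b f hr
  have ha : a ≫ b = f := IsOpenImmersion.lift_fac b f hr
  haveI : IsOpenImmersion (a ≫ b) := by rw [ha]; infer_instance
  haveI : IsOpenImmersion a := IsOpenImmersion.of_comp a b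
  have h1 := isZero_restrict_comp a b M h
  have key : ∀ (f' : P ⟶ R) (hf' : f' = f) [IsOpenImmersion f'],
      IsZero ((restrictFunctor f').obj M) → IsZero ((restrictFunctor f).obj M) := by
    intro f' hf' _ h'
    subst hf'
    exact h'
  exact key (a ≫ b) ha h1

lemma isZero_restrictD_iff {P R : Scheme.{u}} (f : P ⟶ R) [IsOpenImmersion f] (G : DCoh.D R) :
    IsZero ((DCoh.restrictD f).obj G) ↔
      ∀ n : ℤ, IsZero ((restrictFunctor f).obj (DCoh.HD G n)) := by
  constructor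
  · intro h n
    obtain ⟨e⟩ := Groth.Agent.Lib.Helper32.WayOut2.nonempty_homologyIso_mapDerivedCategory
      (restrictFunctor f) G n
    exact IsZero.of_iso (Functor.map_isZero _ h) e.symm
  · intro h
    apply isZero_of_homology
    intro n
    obtain ⟨e⟩ := Groth.Agent.Lib.Helper32.WayOut2.nonempty_homologyIso_mapDerivedCategory
      (restrictFunctor f) G n
    exact IsZero.of_iso (h n) e

/-- If `G` vanishes on the range of `b` and the range of `f` is contained in it, then `G`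
vanishes on the range of `f`. -/
theorem isZero_restrictD_of_range_subset {P Q R : Scheme.{u}} (f : P ⟶ R) (b : Q ⟶ R)
    [IsOpenImmersion f] [IsOpenImmersion b] (hr : Set.range f ⊆ Set.range b) (G : DCoh.D R)
    (h : IsZero ((DCoh.restrictD b).obj G)) : IsZero ((DCoh.restrictD f).obj G) := by
  rw [isZero_restrictD_iff] at h ⊢
  intro n
  exact isZero_restrict_of_range_subset f b hr _ (h n)

/-- Iterated restriction: `(G|_Q)|_P = 0` as soon as `G` vanishes on an open containing the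
image of `P`. -/
theorem isZero_restrictD_restrictD {P Q R S : Scheme.{u}} (a : P ⟶ Q) (b : Q ⟶ R) (c : S ⟶ R)
    [IsOpenImmersion a] [IsOpenImmersion b] [IsOpenImmersion c]
    (hr : Set.range (a ≫ b) ⊆ Set.range c) (G : DCoh.D R)
    (h : IsZero ((DCoh.restrictD c).obj G)) :
    IsZero ((DCoh.restrictD a).obj ((DCoh.restrictD b).obj G)) := by
  rw [isZero_restrictD_iff] at h ⊢
  intro n
  obtain ⟨e⟩ := Groth.Agent.Lib.Helper32.WayOut2.nonempty_homologyIso_mapDerivedCategory
    (restrictFunctor b) G n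
  have h1 : IsZero ((restrictFunctor (a ≫ b)).obj (DCoh.HD G n)) :=
    isZero_restrict_of_range_subset (a ≫ b) c hr _ (h n)
  have h2 : IsZero ((restrictFunctor a).obj ((restrictFunctor b).obj (DCoh.HD G n))) :=
    IsZero.of_iso h1 ((restrictFunctorComp a b).app _).symm
  exact IsZero.of_iso h2 ((restrictFunctor a).mapIso e)

end RestrComp

section GammaPush

variable {U X : Scheme.{u}} (j : U ⟶ X) [IsOpenImmersion j] (W : X.Opens)

lemma isIso_η_push_of_le (hW : j.opensRange ≤ W) (M : U.Modules) :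
    IsIso ((η W).app ((pushforward j).obj M)) := by
  rw [Hom.isIso_iff_isIso_app]
  intro O
  change IsIso (M.presheaf.map ((Opens.map j.base).map (homOfLE (W.ι.image_preimage_le O))).op)
  apply isIso_presheaf_map
  change j ⁻¹ᵁ (W.ι ''ᵁ (W.ι ⁻¹ᵁ O)) = j ⁻¹ᵁ O
  rw [image_preimage_eq]
  apply le_antisymm
  · intro x hx
    exact hx.2
  · intro x hx
    exact ⟨hW ⟨x, rfl⟩, hx⟩

lemma isZero_gammaZ_push (hW : j.opensRange ≤ W) (M : U.Modules) :
    IsZero ((DCoh.gammaZ W.ι).obj ((pushforward j).obj M)) := by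
  haveI := isIso_η_push_of_le j W hW M
  exact isZero_kernel_of_mono ((η W).app ((pushforward j).obj M))

/-- `RΓ_Z(Rj_* F) = 0` when `Z` does not meet the image of `j`. -/
theorem isZero_RgammaZ_Rpush (hW : j.opensRange ≤ W) [DCoh.HasRpush j] [CxOX.HasRgammaZ W.ι]
    (F : DCoh.D U) : IsZero ((CxOX.RgammaZ W.ι).obj ((DCoh.Rpush j).obj F)) := by
  obtain ⟨J, hJ, _, ⟨eF⟩⟩ := exists_kInj_model F
  obtain ⟨e1⟩ := nonempty_rd_iso (pushforward j) (hasKInjRes U) J hJ
  have hJ' := isKInjective_pushforward j J hJ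
  obtain ⟨e2⟩ := nonempty_rd_iso (DCoh.gammaZ W.ι) (hasKInjRes X) _ hJ'
  have h0 : IsZero (((DCoh.gammaZ W.ι).mapHomologicalComplex (ComplexShape.up ℤ)).obj
      (((pushforward j).mapHomologicalComplex (ComplexShape.up ℤ)).obj J)) := by
    rw [IsZero.iff_id_eq_zero]
    apply HomologicalComplex.hom_ext
    intro n
    exact (isZero_gammaZ_push j W hW (J.X n)).eq_of_src _ _
  exact IsZero.of_iso (Functor.map_isZero DerivedCategory.Q h0)
    ((CxOX.RgammaZ W.ι).mapIso ((DCoh.Rpush j).mapIso eF ≪≫ e1.symm) ≪≫ e2.symm)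

end GammaPush

section Tri

variable {X : Scheme.{u}} (W : X.Opens) (I : CochainComplex X.Modules ℤ)

/-- the short complex `Γ_Z I ⟶ I ⟶ j_* j^* I` of complexes. -/
noncomputable def gammaSC : ShortComplex (CochainComplex X.Modules ℤ) :=
  ShortComplex.mk
    (X₁ := ((DCoh.gammaZ W.ι).mapHomologicalComplex (ComplexShape.up ℤ)).obj I) (X₂ := I)
    (X₃ := ((T W).mapHomologicalComplex (ComplexShape.up ℤ)).obj I)
    ((NatTrans.mapHomologicalComplex (CxOX.gammaZι W.ι) (ComplexShape.up ℤ)).app I)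
    ((NatTrans.mapHomologicalComplex (η W) (ComplexShape.up ℤ)).app I) (by
      apply HomologicalComplex.hom_ext
      intro n
      exact kernel.condition ((η W).app (I.X n)))

theorem gammaSC_shortExact (hI : ∀ n, Injective (I.X n)) : (gammaSC W I).ShortExact := by
  apply HomologicalComplex.shortExact_of_degreewise_shortExact
  intro n
  haveI := hI n
  haveI : Epi ((η W).app (I.X n)) := epi_η_of_injective W (I.X n)
  have hm : Mono (kernel.ι ((η W).app (I.X n))) := inferInstance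
  exact { exact := ShortComplex.exact_kernel ((η W).app (I.X n))
          mono_f := hm
          epi_g := ‹_› }

/-- If `RΓ_Z G = 0` then `G ≅ Rj_*(G|_U)`. -/
theorem nonempty_iso_Rpush_of_isZero_RgammaZ [CxOX.HasRgammaZ W.ι] [DCoh.HasRpush W.ι]
    (G : DCoh.D X) (h : IsZero ((CxOX.RgammaZ W.ι).obj G)) :
    Nonempty (G ≅ (DCoh.Rpush W.ι).obj ((DCoh.restrictD W.ι).obj G)) := by
  obtain ⟨I, hI, hinj, ⟨eG⟩⟩ := exists_kInj_model G
  have hS := gammaSC_shortExact W I hinj
  have hT := DerivedCategory.triangleOfSES_distinguished hS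
  obtain ⟨e2⟩ := nonempty_rd_iso (DCoh.gammaZ W.ι) (hasKInjRes X) I hI
  have h1 : IsZero (DerivedCategory.triangleOfSES hS).obj₁ :=
    IsZero.of_iso h (e2 ≪≫ (CxOX.RgammaZ W.ι).mapIso eG.symm)
  have h2 : IsIso (DerivedCategory.triangleOfSES hS).mor₂ :=
    (Triangle.isZero₁_iff_isIso₂ _ hT).mp h1
  obtain ⟨e3⟩ := nonempty_ident W (pushforward W.ι) (T W) (Iso.refl _) I hI G eG
  exact ⟨eG ≪≫ @asIso _ _ _ _ _ h2 ≪≫ e3⟩

end Tri

section Compose

variable {P Q R : Scheme.{u}}

/-- `Rb_* ∘ Ra_* ≅ R(a ≫ b)_*` on objects, for open immersions. -/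
theorem nonempty_Rpush_comp_iso (a : P ⟶ Q) (b : Q ⟶ R) [IsOpenImmersion a] [IsOpenImmersion b]
    [DCoh.HasRpush a] [DCoh.HasRpush b] [DCoh.HasRpush (a ≫ b)] (N : DCoh.D P) :
    Nonempty ((DCoh.Rpush b).obj ((DCoh.Rpush a).obj N) ≅ (DCoh.Rpush (a ≫ b)).obj N) := by
  obtain ⟨J, hJ, _, ⟨eN⟩⟩ := exists_kInj_model N
  obtain ⟨e1⟩ := nonempty_rd_iso (pushforward a) (hasKInjRes P) J hJ
  have hJ' := isKInjective_pushforward a J hJ
  obtain ⟨e2⟩ := nonempty_rd_iso (pushforward b) (hasKInjRes Q) _ hJ'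
  obtain ⟨e3⟩ := nonempty_rd_iso (pushforward (a ≫ b)) (hasKInjRes P) J hJ
  let φ : pushforward a ⋙ pushforward b ≅ pushforward (a ≫ b) :=
    Scheme.Modules.pushforwardComp a b
  let e4 : DerivedCategory.Q.obj (((pushforward b).mapHomologicalComplex (ComplexShape.up ℤ)).obj
      (((pushforward a).mapHomologicalComplex (ComplexShape.up ℤ)).obj J)) ≅
      DerivedCategory.Q.obj (((pushforward (a ≫ b)).mapHomologicalComplex
        (ComplexShape.up ℤ)).obj J) :=
    DerivedCategory.Q.mapIso ((NatIso.mapHomologicalComplex φ (ComplexShape.up ℤ)).app J)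
  exact ⟨(DCoh.Rpush b).mapIso ((DCoh.Rpush a).mapIso eN ≪≫ e1.symm) ≪≫ e2.symm ≪≫ e4 ≪≫ e3 ≪≫
    (DCoh.Rpush (a ≫ b)).mapIso eN.symm⟩

/-- Two open immersions with the same range have the same essential image of `R(-)_*`. -/
theorem exists_iso_Rpush_of_range_eq {X : Scheme.{u}} (k : P ⟶ R) (j : X ⟶ R) [IsOpenImmersion k]
    [IsOpenImmersion j] (hr : Set.range k = Set.range j) [DCoh.HasRpush k] [DCoh.HasRpush j]
    (N₀ : DCoh.D P) :
    ∃ N : DCoh.D X, Nonempty ((DCoh.Rpush k).obj N₀ ≅ (DCoh.Rpush j).obj N) := by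
  obtain ⟨J, hJ, _, ⟨eN⟩⟩ := exists_kInj_model N₀
  let e := IsOpenImmersion.isoOfRangeEq k j hr
  have he : e.hom ≫ j = k := IsOpenImmersion.isoOfRangeEq_hom_fac k j hr
  let J' : CochainComplex X.Modules ℤ :=
    ((pushforward e.hom).mapHomologicalComplex (ComplexShape.up ℤ)).obj J
  have hJ' : J'.IsKInjective := isKInjective_pushforward e.hom J hJ
  obtain ⟨e1⟩ := nonempty_rd_iso (pushforward k) (hasKInjRes P) J hJ
  obtain ⟨e2⟩ := nonempty_rd_iso (pushforward j) (hasKInjRes X) J' hJ'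
  let φ : pushforward k ≅ pushforward e.hom ⋙ pushforward j :=
    (Scheme.Modules.pushforwardCongr he).symm ≪≫ (Scheme.Modules.pushforwardComp e.hom j).symm
  let e3 : DerivedCategory.Q.obj
      (((pushforward k).mapHomologicalComplex (ComplexShape.up ℤ)).obj J) ≅
      DerivedCategory.Q.obj (((pushforward j).mapHomologicalComplex (ComplexShape.up ℤ)).obj J') :=
    DerivedCategory.Q.mapIso ((NatIso.mapHomologicalComplex φ (ComplexShape.up ℤ)).app J)
  exact ⟨DerivedCategory.Q.obj J', ⟨(DCoh.Rpush k).mapIso eN ≪≫ e1.symm ≪≫ e3 ≪≫ e2⟩⟩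

end Compose

section BaseChange

variable {X Xbar : Scheme.{u}} (j : X ⟶ Xbar) [IsOpenImmersion j] (N : Xbar.Opens)

/-- `(Rj_* F)|_N = 0` as soon as `F|_{j⁻¹ N} = 0`. -/
theorem isZero_restrictD_Rpush [DCoh.HasRpush j] (F : DCoh.D X)
    (h : IsZero ((DCoh.restrictD (j ⁻¹ᵁ N).ι).obj F)) :
    IsZero ((DCoh.restrictD N.ι).obj ((DCoh.Rpush j).obj F)) := by
  obtain ⟨J, hJ, _, ⟨eF⟩⟩ := exists_kInj_model F
  obtain ⟨e1⟩ := nonempty_rd_iso (pushforward j) (hasKInjRes X) J hJ
  let J'' : CochainComplex ((j ⁻¹ᵁ N : X.Opens) : Scheme.{u}).Modules ℤ :=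
    ((restrictFunctor (j ⁻¹ᵁ N).ι).mapHomologicalComplex (ComplexShape.up ℤ)).obj J
  have hJ'' : J''.IsKInjective := isKInjective_restrict (j ⁻¹ᵁ N) J hJ
  haveI : DCoh.HasRpush (j ∣_ N) :=
    hasRightDerivedFunctor (hasKInjRes ((j ⁻¹ᵁ N : X.Opens) : Scheme.{u})) _
  obtain ⟨e2⟩ := nonempty_rd_iso (pushforward (j ∣_ N))
    (hasKInjRes ((j ⁻¹ᵁ N : X.Opens) : Scheme.{u})) J'' hJ''
  have hQ : IsZero (DerivedCategory.Q.obj J'') :=
    IsZero.of_iso h (((restrictFunctor (j ⁻¹ᵁ N).ι).mapDerivedCategoryFactors.app J).symm ≪≫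
      (DCoh.restrictD (j ⁻¹ᵁ N).ι).mapIso eF.symm)
  have h3 : IsZero (DerivedCategory.Q.obj
      (((pushforward (j ∣_ N)).mapHomologicalComplex (ComplexShape.up ℤ)).obj J'')) :=
    IsZero.of_iso (isZero_rd_obj (hasKInjRes ((j ⁻¹ᵁ N : X.Opens) : Scheme.{u}))
      (pushforward (j ∣_ N)) _ hQ) e2
  let e4 := (restrictFunctor N.ι).mapDerivedCategoryFactors.app
    (((pushforward j).mapHomologicalComplex (ComplexShape.up ℤ)).obj J)
  let e5 : DerivedCategory.Q.obj (((restrictFunctor N.ι).mapHomologicalComplex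
      (ComplexShape.up ℤ)).obj (((pushforward j).mapHomologicalComplex
        (ComplexShape.up ℤ)).obj J)) ≅
      DerivedCategory.Q.obj
        (((pushforward (j ∣_ N)).mapHomologicalComplex (ComplexShape.up ℤ)).obj J'') :=
    DerivedCategory.Q.mapIso ((NatIso.mapHomologicalComplex (pushforwardRestrictIso j N)
      (ComplexShape.up ℤ)).app J)
  exact IsZero.of_iso h3 ((DCoh.restrictD N.ι).mapIso ((DCoh.Rpush j).mapIso eF ≪≫ e1.symm) ≪≫
    e4 ≪≫ e5)

end BaseChange

section QCoh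

variable {U X : Scheme.{u}} (j : U ⟶ X) [IsOpenImmersion j]

theorem isQCohD_restrictD (G : DCoh.D X) (h : DCoh.IsQCohD G) :
    DCoh.IsQCohD ((DCoh.restrictD j).obj G) := by
  intro i
  obtain ⟨e⟩ := Groth.Agent.Lib.Helper32.WayOut2.nonempty_homologyIso_mapDerivedCategory
    (restrictFunctor j) G i
  haveI : (DCoh.HD G i).IsQuasicoherent := h i
  have h1 : ((restrictFunctor j).obj (DCoh.HD G i)).IsQuasicoherent := inferInstance
  exact (SheafOfModules.isQuasicoherent U.ringCatSheaf).prop_of_iso e.symm h1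

end QCoh

end Groth.Agent.Lib.Helper32.RGammaTri
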