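import Mathlib
import Groth.Prelude.Def_CxOX
import Groth.Agent.Lib.Helper32.RGammaTri
import Groth.Agent.Lib.Helper5.LpullRpushAdj
import Groth.Agent.Lib.Helper28.LpullRestrict

/-!
# `RΓ_Z G ⟶ G` is the colocalization at complexes vanishing on `U` (helper32)
-/

set_option autoImplicit false
universe u
open CategoryTheory CategoryTheory.Limits AlgebraicGeometry TopologicalSpace Opposite ZeroObject

attribute [local instance] HasDerivedCategory.standard

namespace Groth.Agent.Lib.Helper32.RGammaColoc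

open Groth.Agent.Lib.Helper32.KInjDerived Groth.Agent.Lib.Helper32.RDerCrit
  Groth.Agent.Lib.Helper32.OpenKInj Groth.Agent.Lib.Helper32.MVTriangle
  Groth.Agent.Lib.Helper32.MVOpens Groth.Agent.Lib.Helper32.OpenSupp
  Groth.Agent.Lib.Helper32.RGammaZ Groth.Agent.Lib.Helper32.RGammaTri
  Groth.Agent.Lib.Helper32.ExtZeroMono Scheme.Modules Pretriangulated

section Abstract

variable {C : Type*} [Category C]

/-- `e : W ⟶ Y` is a `P`-colocalization of `Y`. -/
structure IsColoc (P : ObjectProperty C) {W Y : C} (e : W ⟶ Y) : Prop where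
  mem : P W
  bij : ∀ V : C, P V → Function.Bijective (fun g : V ⟶ W => g ≫ e)

variable {P : ObjectProperty C} {W₁ W₂ Y : C} {e₁ : W₁ ⟶ Y} {e₂ : W₂ ⟶ Y}

lemma IsColoc.exists_fac (h₁ : IsColoc P e₁) (h₂ : IsColoc P e₂) : ∃ α : W₁ ⟶ W₂, α ≫ e₂ = e₁ :=
  (h₂.bij W₁ h₁.mem).2 e₁

lemma IsColoc.isIso_of_fac (h₁ : IsColoc P e₁) (h₂ : IsColoc P e₂) (α : W₁ ⟶ W₂)
    (hα : α ≫ e₂ = e₁) : IsIso α := by
  obtain ⟨β, hβ⟩ := h₂.exists_fac h₁
  refine ⟨β, ?_, ?_⟩
  · apply (h₁.bij W₁ h₁.mem).1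
    change (α ≫ β) ≫ e₁ = 𝟙 _ ≫ e₁
    rw [Category.assoc, hβ, hα, Category.id_comp]
  · apply (h₂.bij W₂ h₂.mem).1
    change (β ≫ α) ≫ e₂ = 𝟙 _ ≫ e₂
    rw [Category.assoc, hα, hβ, Category.id_comp]

lemma IsColoc.of_iso {Y' : C} (h : IsColoc P e₁) (φ : Y ≅ Y') : IsColoc P (e₁ ≫ φ.hom) where
  mem := h.mem
  bij V hV := by
    have h1 := h.bij V hV
    constructor
    · intro g g' hg
      apply h1.1
      have hg' : g ≫ e₁ ≫ φ.hom = g' ≫ e₁ ≫ φ.hom := hg
      have : (g ≫ e₁ ≫ φ.hom) ≫ φ.inv = (g' ≫ e₁ ≫ φ.hom) ≫ φ.inv := by rw [hg']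
      simpa using this
    · intro y
      obtain ⟨g, hg⟩ := h1.2 (y ≫ φ.inv)
      refine ⟨g, ?_⟩
      change g ≫ e₁ ≫ φ.hom = y
      have hg' : g ≫ e₁ = y ≫ φ.inv := hg
      rw [← Category.assoc, hg', Category.assoc, Iso.inv_hom_id, Category.comp_id]

lemma IsColoc.of_iso_left {W' : C} (h : IsColoc P e₁) [P.IsClosedUnderIsomorphisms]
    (ψ : W' ≅ W₁) : IsColoc P (ψ.hom ≫ e₁) where
  mem := P.prop_of_iso ψ.symm h.mem
  bij V hV := by
    have h1 := h.bij V hV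
    constructor
    · intro g g' hg
      have hg' : g ≫ ψ.hom ≫ e₁ = g' ≫ ψ.hom ≫ e₁ := hg
      have h2 : (g ≫ ψ.hom) ≫ e₁ = (g' ≫ ψ.hom) ≫ e₁ := by simpa using hg'
      have h3 := h1.1 h2
      rw [← cancel_mono ψ.hom]
      exact h3
    · intro y
      obtain ⟨g, hg⟩ := h1.2 y
      refine ⟨g ≫ ψ.inv, ?_⟩
      change (g ≫ ψ.inv) ≫ ψ.hom ≫ e₁ = y
      rw [Category.assoc, Iso.inv_hom_id_assoc]
      exact hg

end Abstract

section Scheme

open DerivedCategory Groth.Agent.Lib.Helper5 Groth.Agent.Lib.Helper28.LpullCompute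
  Groth.Agent.Lib.Helper28.LpullRestrict

variable {U X : Scheme.{u}} (j : U ⟶ X) [IsOpenImmersion j]

/-- objects of `D(O_X)` vanishing on the range of the open immersion `j`. -/
def PZ : ObjectProperty (DCoh.D X) := fun V => IsZero ((DCoh.restrictD j).obj V)

instance : (PZ j).IsClosedUnderIsomorphisms where
  of_iso e h := IsZero.of_iso h ((DCoh.restrictD j).mapIso e.symm)

/-- the derived adjunction `j^* ⊣ Rj_*` for an open immersion. -/
noncomputable def adjR [DCoh.HasRpush j] : DCoh.restrictD j ⊣ DCoh.Rpush j :=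
  haveI := hasLpull j
  (LpullRpushAdj.adj j).ofNatIsoLeft (lpullRestrictIso j)

variable {j}

lemma subsingleton_hom_Rpush [DCoh.HasRpush j] {V : DCoh.D X} (hV : PZ j V) (N : DCoh.D U) :
    Subsingleton (V ⟶ (DCoh.Rpush j).obj N) := by
  have h1 : Subsingleton ((DCoh.restrictD j).obj V ⟶ N) :=
    ⟨fun a b => hV.eq_of_src a b⟩
  exact ((adjR j).homEquiv V N).symm.injective.subsingleton

lemma PZ_shift {V : DCoh.D X} (hV : PZ j V) (n : ℤ) : PZ j (V⟦n⟧) := by
  have h0 : IsZero (((DCoh.restrictD j).obj V)⟦n⟧) := Functor.map_isZero _ hV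
  exact IsZero.of_iso h0 (((DCoh.restrictD j).commShiftIso n).app V)

lemma subsingleton_hom_of_iso_Rpush [DCoh.HasRpush j] {V : DCoh.D X} (hV : PZ j V)
    {N' : DCoh.D X} (N : DCoh.D U) (e : N' ≅ (DCoh.Rpush j).obj N) : Subsingleton (V ⟶ N') := by
  haveI := subsingleton_hom_Rpush hV N
  refine ⟨fun a b => ?_⟩
  rw [← cancel_mono e.hom]
  exact Subsingleton.elim _ _

lemma subsingleton_hom_shift_of_iso_Rpush [DCoh.HasRpush j] {V : DCoh.D X} (hV : PZ j V)
    {N' : DCoh.D X} (N : DCoh.D U) (e : N' ≅ (DCoh.Rpush j).obj N) :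
    Subsingleton (V ⟶ N'⟦(-1 : ℤ)⟧) := by
  have hs : Subsingleton (V⟦(1 : ℤ)⟧ ⟶ N') :=
    subsingleton_hom_of_iso_Rpush (PZ_shift hV 1) N e
  refine ⟨fun a b => ?_⟩
  apply (shiftFunctor (DCoh.D X) (1 : ℤ)).map_injective
  let φ : (N'⟦(-1 : ℤ)⟧)⟦(1 : ℤ)⟧ ≅ N' :=
    (shiftFunctorCompIsoId (DCoh.D X) (-1 : ℤ) 1 (by simp)).app N'
  rw [← cancel_mono φ.hom]
  exact @Subsingleton.elim _ hs _ _

end Scheme

section Coloc

open DerivedCategory

variable {X : Scheme.{u}} (W : X.Opens) [CxOX.HasRgammaZ W.ι]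

/-- the unit of `RΓ_Z`. -/
noncomputable abbrev αZ : CxOX.gammaZKh W.ι ⟶ DerivedCategory.Qh ⋙ CxOX.RgammaZ W.ι :=
  (CxOX.gammaZKh W.ι).totalRightDerivedUnit DerivedCategory.Qh
    (HomotopyCategory.quasiIso X.Modules (ComplexShape.up ℤ))

/-- the complex `Γ_Z I`. -/
noncomputable abbrev GamZ (I : CochainComplex X.Modules ℤ) : CochainComplex X.Modules ℤ :=
  ((DCoh.gammaZ W.ι).mapHomologicalComplex (ComplexShape.up ℤ)).obj I

lemma αZ_ε (I : CochainComplex X.Modules ℤ) :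
    (αZ W).app ((HomotopyCategory.quotient _ _).obj I) ≫ (CxOX.RgammaZToId W.ι).app (Q.obj I) =
      Q.map (gammaSC W I).f := by
  have hfac : (αZ W).app ((HomotopyCategory.quotient _ _).obj I) ≫
      (CxOX.RgammaZToId W.ι).app (Q.obj I) =
      (CxOX.gammaZKhι W.ι ≫ (Functor.rightUnitor _).inv).app
        ((HomotopyCategory.quotient _ _).obj I) :=
    Functor.rightDerived_fac_app _ _ _ _ _ _
  have e2 : (CxOX.gammaZKhι W.ι).app ((HomotopyCategory.quotient _ _).obj I) =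
      𝟙 (Qh.obj ((HomotopyCategory.quotient _ _).obj (GamZ W I))) ≫
      Qh.map (𝟙 ((HomotopyCategory.quotient _ _).obj (GamZ W I))) ≫
      𝟙 (Qh.obj ((HomotopyCategory.quotient _ _).obj (GamZ W I))) ≫
      Qh.map ((HomotopyCategory.quotient _ _).map
        ((NatTrans.mapHomologicalComplex (CxOX.gammaZι W.ι) (ComplexShape.up ℤ)).app I)) ≫
      Qh.map ((HomotopyCategory.quotient _ _).map
        ((Functor.mapHomologicalComplexIdIso X.Modules (ComplexShape.up ℤ)).hom.app I)) ≫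
      𝟙 (Qh.obj ((HomotopyCategory.quotient _ _).obj I)) := rfl
  have e3 : Q.map (gammaSC W I).f = Qh.map ((HomotopyCategory.quotient _ _).map
        ((NatTrans.mapHomologicalComplex (CxOX.gammaZι W.ι) (ComplexShape.up ℤ)).app I)) ≫
      Qh.map ((HomotopyCategory.quotient _ _).map
        ((Functor.mapHomologicalComplexIdIso X.Modules (ComplexShape.up ℤ)).hom.app I)) := by
    rw [← Qh.map_comp, ← Functor.map_comp]
    rfl
  refine hfac.trans ?_
  rw [NatTrans.comp_app, e2, e3]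
  simp only [CategoryTheory.Functor.map_id, Category.id_comp, Category.comp_id,
    Functor.rightUnitor_inv_app]
  erw [Category.comp_id]

end Coloc

section Tri

variable {C : Type*} [Category C] [Preadditive C] [HasZeroObject C] [HasShift C ℤ]
  [∀ n : ℤ, (shiftFunctor C n).Additive] [Pretriangulated C]

lemma bijective_comp_mor₁ (T : Triangle C) (hT : T ∈ distTriang C) (V : C)
    (h3 : Subsingleton (V ⟶ T.obj₃)) (h3' : Subsingleton (V⟦(1 : ℤ)⟧ ⟶ T.obj₃)) :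
    Function.Bijective (fun g : V ⟶ T.obj₁ => g ≫ T.mor₁) := by
  constructor
  · intro g g' hg
    have hg' : g ≫ T.mor₁ = g' ≫ T.mor₁ := hg
    have hd : (g - g') ≫ T.mor₁ = 0 := by rw [Preadditive.sub_comp, hg', sub_self]
    have hd' : (g - g')⟦(1 : ℤ)⟧' ≫ T.mor₁⟦(1 : ℤ)⟧' = 0 := by
      rw [← Functor.map_comp, hd, Functor.map_zero]
    obtain ⟨h, hh⟩ := Triangle.coyoneda_exact₁ T hT _ hd'
    have h0 : h = 0 := Subsingleton.elim _ _
    rw [h0, zero_comp] at hh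
    have h1 : g - g' = 0 := (shiftFunctor C (1 : ℤ)).map_injective (by rw [hh, Functor.map_zero])
    exact sub_eq_zero.mp h1
  · intro y
    have hy : y ≫ T.mor₂ = 0 := Subsingleton.elim _ _
    obtain ⟨g, hg⟩ := Triangle.coyoneda_exact₂ T hT y hy
    exact ⟨g, hg.symm⟩

end Tri

section Coloc2

open DerivedCategory

variable {X : Scheme.{u}} (W : X.Opens)

lemma isColoc_Qmap [DCoh.HasRpush W.ι] (I : CochainComplex X.Modules ℤ) (hI : I.IsKInjective)
    (hinj : ∀ n, Injective (I.X n)) :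
    IsColoc (PZ W.ι) (Q.map (gammaSC W I).f) := by
  have hS := gammaSC_shortExact W I hinj
  have hT := DerivedCategory.triangleOfSES_distinguished hS
  obtain ⟨e3⟩ := nonempty_ident W (pushforward W.ι) (T W) (Iso.refl _) I hI (Q.obj I) (Iso.refl _)
  refine ⟨?_, ?_⟩
  · -- membership
    let e2 := (restrictFunctor W.ι).mapDerivedCategoryFactors.app
      (((DCoh.gammaZ W.ι).mapHomologicalComplex (ComplexShape.up ℤ)).obj I)
    have h0 : IsZero (((restrictFunctor W.ι).mapHomologicalComplex (ComplexShape.up ℤ)).obj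
        (((DCoh.gammaZ W.ι).mapHomologicalComplex (ComplexShape.up ℤ)).obj I)) := by
      rw [IsZero.iff_id_eq_zero]
      apply HomologicalComplex.hom_ext
      intro n
      exact (isZero_res_gammaZ W W le_rfl (I.X n)).eq_of_src _ _
    exact IsZero.of_iso (Functor.map_isZero DerivedCategory.Q h0) e2
  · intro V hV
    exact bijective_comp_mor₁ (DerivedCategory.triangleOfSES hS) hT V
      (subsingleton_hom_of_iso_Rpush hV _ e3)
      (subsingleton_hom_of_iso_Rpush (PZ_shift hV 1) _ e3)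

theorem isColoc_RgammaZToId [CxOX.HasRgammaZ W.ι] (M : DCoh.D X) :
    IsColoc (PZ W.ι) ((CxOX.RgammaZToId W.ι).app M) := by
  haveI : DCoh.HasRpush W.ι := hasRightDerivedFunctor (hasKInjRes (W : Scheme.{u})) _
  obtain ⟨I, hI, hinj, ⟨eM⟩⟩ := exists_kInj_model M
  haveI : I.IsKInjective := hI
  have hα : IsIso ((αZ W).app ((HomotopyCategory.quotient _ _).obj I)) :=
    isIso_app_kInjective (hasKInjRes X) (CxOX.RgammaZ W.ι) (αZ W) I
  haveI := hα
  have h1 := isColoc_Qmap W I hI hinj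
  have h2 := (h1.of_iso eM.symm).of_iso_left
    ((CxOX.RgammaZ W.ι).mapIso eM ≪≫ (@asIso _ _ _ _ _ hα).symm)
  have hnat := (CxOX.RgammaZToId W.ι).naturality eM.hom
  have hε := αZ_ε W I
  have key : (CxOX.RgammaZToId W.ι).app M =
      ((CxOX.RgammaZ W.ι).mapIso eM ≪≫ (@asIso _ _ _ _ _ hα).symm).hom ≫
        Q.map (gammaSC W I).f ≫ eM.symm.hom := by
    have h5 : (CxOX.RgammaZToId W.ι).app (Q.obj I) =
        inv ((αZ W).app ((HomotopyCategory.quotient _ _).obj I)) ≫ Q.map (gammaSC W I).f :=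
      (@IsIso.eq_inv_comp _ _ _ _ _ _ hα _ _).mpr hε
    have h6 : (CxOX.RgammaZToId W.ι).app M = (CxOX.RgammaZ W.ι).map eM.hom ≫
        (CxOX.RgammaZToId W.ι).app (Q.obj I) ≫ eM.inv := by
      rw [← Category.assoc, hnat]
      simp
    rw [h6, h5]
    simp only [Iso.trans_hom, Functor.mapIso_hom, Iso.symm_hom, asIso_inv, Category.assoc]
    exact congrArg (_ ≫ ·) (Category.assoc _ _ _)
  rw [key]
  exact h2

end Coloc2

section BaseChange

open DerivedCategory Groth.Agent.Lib.Helper5 Groth.Agent.Lib.Helper28.LpullCompute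
  Groth.Agent.Lib.Helper28.LpullRestrict

variable {X Y : Scheme.{u}} (f : X ⟶ Y) (N : Y.Opens)

/-- `(Rf_* F)|_N = 0` as soon as `F|_{f⁻¹ N} = 0` (arbitrary morphism `f`). -/
theorem isZero_restrictD_Rpush' [DCoh.HasRpush f] (F : DCoh.D X)
    (h : IsZero ((DCoh.restrictD (f ⁻¹ᵁ N).ι).obj F)) :
    IsZero ((DCoh.restrictD N.ι).obj ((DCoh.Rpush f).obj F)) := by
  obtain ⟨J, hJ, _, ⟨eF⟩⟩ := exists_kInj_model F
  obtain ⟨e1⟩ := nonempty_rd_iso (pushforward f) (hasKInjRes X) J hJ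
  let J'' : CochainComplex ((f ⁻¹ᵁ N : X.Opens) : Scheme.{u}).Modules ℤ :=
    ((restrictFunctor (f ⁻¹ᵁ N).ι).mapHomologicalComplex (ComplexShape.up ℤ)).obj J
  have hJ'' : J''.IsKInjective := isKInjective_restrict (f ⁻¹ᵁ N) J hJ
  haveI : DCoh.HasRpush (f ∣_ N) :=
    hasRightDerivedFunctor (hasKInjRes ((f ⁻¹ᵁ N : X.Opens) : Scheme.{u})) _
  obtain ⟨e2⟩ := nonempty_rd_iso (pushforward (f ∣_ N))
    (hasKInjRes ((f ⁻¹ᵁ N : X.Opens) : Scheme.{u})) J'' hJ''
  have hQ : IsZero (DerivedCategory.Q.obj J'') :=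
    IsZero.of_iso h (((restrictFunctor (f ⁻¹ᵁ N).ι).mapDerivedCategoryFactors.app J).symm ≪≫
      (DCoh.restrictD (f ⁻¹ᵁ N).ι).mapIso eF.symm)
  have h3 : IsZero (DerivedCategory.Q.obj
      (((pushforward (f ∣_ N)).mapHomologicalComplex (ComplexShape.up ℤ)).obj J'')) :=
    IsZero.of_iso (isZero_rd_obj (hasKInjRes ((f ⁻¹ᵁ N : X.Opens) : Scheme.{u}))
      (pushforward (f ∣_ N)) _ hQ) e2
  let e4 := (restrictFunctor N.ι).mapDerivedCategoryFactors.app
    (((pushforward f).mapHomologicalComplex (ComplexShape.up ℤ)).obj J)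
  let e5 : DerivedCategory.Q.obj (((restrictFunctor N.ι).mapHomologicalComplex
      (ComplexShape.up ℤ)).obj (((pushforward f).mapHomologicalComplex
        (ComplexShape.up ℤ)).obj J)) ≅
      DerivedCategory.Q.obj
        (((pushforward (f ∣_ N)).mapHomologicalComplex (ComplexShape.up ℤ)).obj J'') :=
    DerivedCategory.Q.mapIso ((NatIso.mapHomologicalComplex (pushforwardRestrictIso f N)
      (ComplexShape.up ℤ)).app J)
  exact IsZero.of_iso h3 ((DCoh.restrictD N.ι).mapIso ((DCoh.Rpush f).mapIso eF ≪≫ e1.symm) ≪≫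
    e4 ≪≫ e5)

/-- `Lf^*` of an object vanishing on `N` vanishes on `f⁻¹ N`. -/
lemma PZ_Lpull [DCoh.HasLpull f] {V : DCoh.D Y} (hV : PZ N.ι V) :
    PZ (f ⁻¹ᵁ N).ι ((DCoh.Lpull f).obj V) := by
  haveI := hasLpull (f ∣_ N)
  haveI : DCoh.HasRpush (f ∣_ N) :=
    hasRightDerivedFunctor (hasKInjRes ((f ⁻¹ᵁ N : X.Opens) : Scheme.{u})) _
  haveI : (DCoh.Lpull (f ∣_ N)).IsLeftAdjoint := (LpullRpushAdj.adj (f ∣_ N)).isLeftAdjoint
  have h0 : IsZero ((DCoh.Lpull (f ∣_ N)).obj ((DCoh.restrictD N.ι).obj V)) :=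
    Functor.map_isZero _ hV
  exact IsZero.of_iso h0 ((restrictLpullIso f N).app V)

/-- `Rf_*(RΓ_{Z'} K ⟶ K)` is a colocalization of `Rf_* K` at objects vanishing on `N`. -/
theorem isColoc_Rpush_map [DCoh.HasRpush f] [CxOX.HasRgammaZ (f ⁻¹ᵁ N).ι] (K : DCoh.D X) :
    IsColoc (PZ N.ι) ((DCoh.Rpush f).map ((CxOX.RgammaZToId (f ⁻¹ᵁ N).ι).app K)) := by
  haveI := hasLpull f
  have hε := isColoc_RgammaZToId (f ⁻¹ᵁ N) K
  refine ⟨isZero_restrictD_Rpush' f N _ hε.mem, ?_⟩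
  intro V hV
  have hb := hε.bij _ (PZ_Lpull f N hV)
  let adj := LpullRpushAdj.adj f
  have hfun : (fun g : V ⟶ (DCoh.Rpush f).obj ((CxOX.RgammaZ (f ⁻¹ᵁ N).ι).obj K) =>
      g ≫ (DCoh.Rpush f).map ((CxOX.RgammaZToId (f ⁻¹ᵁ N).ι).app K)) =
      (adj.homEquiv V K) ∘ (fun h => h ≫ (CxOX.RgammaZToId (f ⁻¹ᵁ N).ι).app K) ∘
        (adj.homEquiv V _).symm := by
    funext g
    simp only [Function.comp_apply]
    erw [Adjunction.homEquiv_naturality_right]
    simp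
  rw [hfun]
  exact (adj.homEquiv V K).bijective.comp (hb.comp (adj.homEquiv V _).symm.bijective)

end BaseChange

end Groth.Agent.Lib.Helper32.RGammaColoc
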