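import Mathlib
import Groth.Agent.Lib.Helper6.DerivedAdj0

/-!
# Adjunction between exact functors induces an adjunction on derived categories (helper32)

* `adjC` : `L ⊣ R` additive ⇒ `L.mapHomologicalComplex c ⊣ R.mapHomologicalComplex c`.
* `mapDerivedCategoryAdj` : `L ⊣ R`, both exact ⇒ `L.mapDerivedCategory ⊣ R.mapDerivedCategory`.
-/

set_option autoImplicit false

universe w₁ w₂ v₁ v₂ u₁ u₂
open CategoryTheory CategoryTheory.Limits

namespace Groth.Agent.Lib.Helper32.ExactAdj

open Groth.Agent.Lib.Helper6.DerivedAdj

section Complexes

variable {V W : Type*} [Category* V] [Category* W] [Preadditive V] [Preadditive W]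
  {L : V ⥤ W} {R : W ⥤ V} (adj : L ⊣ R) [L.Additive] [R.Additive]
  {ι : Type*} (c : ComplexShape ι)

/-- The adjunction on categories of complexes induced by an adjunction of additive functors. -/
def adjC : L.mapHomologicalComplex c ⊣ R.mapHomologicalComplex c :=
  Adjunction.mkOfUnitCounit
    { unit := unitC adj c
      counit := counitC adj c
      left_triangle := by
        ext K i
        simp
        exact adj.left_triangle_components (K.X i)
      right_triangle := by
        ext K i
        simp
        exact adj.right_triangle_components (K.X i) }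

end Complexes

section Derived

variable {A : Type u₁} [Category.{v₁} A] [Abelian A] [HasDerivedCategory.{w₁} A]
  {B : Type u₂} [Category.{v₂} B] [Abelian B] [HasDerivedCategory.{w₂} B]
  {L : A ⥤ B} {R : B ⥤ A} (adj : L ⊣ R) [L.Additive] [R.Additive]
  [PreservesFiniteLimits L] [PreservesFiniteColimits L]
  [PreservesFiniteLimits R] [PreservesFiniteColimits R]

/-- An adjunction between exact functors induces an adjunction between the induced functors
on derived categories. -/
noncomputable def mapDerivedCategoryAdj : L.mapDerivedCategory ⊣ R.mapDerivedCategory := by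
  letI : CatCommSq (L.mapHomologicalComplex (ComplexShape.up ℤ)) DerivedCategory.Q
      DerivedCategory.Q L.mapDerivedCategory := ⟨L.mapDerivedCategoryFactors.symm⟩
  letI : CatCommSq (R.mapHomologicalComplex (ComplexShape.up ℤ)) DerivedCategory.Q
      DerivedCategory.Q R.mapDerivedCategory := ⟨R.mapDerivedCategoryFactors.symm⟩
  exact (adjC adj (ComplexShape.up ℤ)).localization DerivedCategory.Q
    (HomologicalComplex.quasiIso A (ComplexShape.up ℤ)) DerivedCategory.Q
    (HomologicalComplex.quasiIso B (ComplexShape.up ℤ)) L.mapDerivedCategory R.mapDerivedCategory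

end Derived

end Groth.Agent.Lib.Helper32.ExactAdj
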