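import Mathlib
import Groth.Prelude.Def_CxOX
import Groth.Agent.Lib.Helper32.RGammaColoc
import Groth.Agent.Lib.Helper32.TriRF
import Groth.Agent.Lib.Helper32.RDPlus
import Groth.Agent.Lib.Helper45.SectionHom
import Groth.Agent.Lib.Helper49.FinLocFree

/-!
# `f_*` of a K-injective complex is acyclic for global sections (helper32)
-/

set_option autoImplicit false
universe w w' v v' u u'
open CategoryTheory CategoryTheory.Limits AlgebraicGeometry TopologicalSpace Opposite ZeroObject

attribute [local instance] HasDerivedCategory.standard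

namespace Groth.Agent.Lib.Helper32.PushAcyclic

open Pretriangulated DerivedCategory Groth.Agent.Lib.Helper5 Groth.Agent.Lib.Helper28.LpullCompute
  Groth.Agent.Lib.Helper32.OpenKInj Groth.Agent.Lib.Helper32.OpenSupp
  Groth.Agent.Lib.Helper32.KInjDerived Groth.Agent.Lib.Helper32.RDerCrit Scheme.Modules

section Step1

variable {X Y : Scheme.{u}} (f : X ⟶ Y)

/-- compatibility of the derived adjunction with the adjunction on homotopy categories. -/
lemma homEquiv_α_comp [DCoh.HasLpull f] [DCoh.HasRpush f]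
    (P : HomotopyCategory Y.Modules (ComplexShape.up ℤ))
    (B : HomotopyCategory X.Modules (ComplexShape.up ℤ))
    (ψ : ((Scheme.Modules.pullback f).mapHomotopyCategory (ComplexShape.up ℤ)).obj P ⟶ B) :
    (LpullRpushAdj.adj f).homEquiv (Qh.obj P) (Qh.obj B) ((LpullRpushAdj.α f).app P ≫ Qh.map ψ) =
      Qh.map ((LpullRpushAdj.adjH f).homEquiv P B ψ) ≫ (LpullRpushAdj.β f).app B := by
  rw [Adjunction.homEquiv_unit, Adjunction.homEquiv_unit, Functor.map_comp,
    ← Category.assoc, LpullRpushAdj.adj_unit_fac, Functor.map_comp, Category.assoc, Category.assoc]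
  congr 1
  exact ((LpullRpushAdj.β f).naturality ψ).symm


/-- `Qh` is bijective on morphisms from a K-flat complex with flat terms into `f_*` of a
K-injective complex. -/
lemma bijective_Qh_map_push (B : CochainComplex X.Modules ℤ) [B.IsKInjective]
    (P : CochainComplex Y.Modules ℤ) (hP : PF P) :
    Function.Bijective (fun φ : (HomotopyCategory.quotient _ _).obj P ⟶
        ((Scheme.Modules.pushforward f).mapHomotopyCategory (ComplexShape.up ℤ)).obj
          ((HomotopyCategory.quotient _ _).obj B) => Qh.map φ) := by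
  haveI := hasLpull f
  haveI : DCoh.HasRpush f := hasRightDerivedFunctor (hasKInjRes X) _
  let Pq := (HomotopyCategory.quotient Y.Modules (ComplexShape.up ℤ)).obj P
  let Bq := (HomotopyCategory.quotient X.Modules (ComplexShape.up ℤ)).obj B
  haveI hα : IsIso ((LpullRpushAdj.α f).app Pq) := isIso_counit f P hP
  haveI hβ : IsIso ((LpullRpushAdj.β f).app Bq) := LpullRpushAdj.isIso_β_app f B
  have hQ : Function.Bijective (fun ψ : ((Scheme.Modules.pullback f).mapHomotopyCategory
      (ComplexShape.up ℤ)).obj Pq ⟶ Bq => Qh.map ψ) :=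
    CochainComplex.IsKInjective.Qh_map_bijective _ B
  have h1 : Function.Bijective (fun φ : Pq ⟶
      ((Scheme.Modules.pushforward f).mapHomotopyCategory (ComplexShape.up ℤ)).obj Bq =>
      Qh.map φ ≫ (LpullRpushAdj.β f).app Bq) := by
    have hfun : (fun φ : Pq ⟶
        ((Scheme.Modules.pushforward f).mapHomotopyCategory (ComplexShape.up ℤ)).obj Bq =>
        Qh.map φ ≫ (LpullRpushAdj.β f).app Bq) =
        ((LpullRpushAdj.adj f).homEquiv (Qh.obj Pq) (Qh.obj Bq)) ∘
          (fun g => (LpullRpushAdj.α f).app Pq ≫ g) ∘ (fun ψ => Qh.map ψ) ∘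
          ((LpullRpushAdj.adjH f).homEquiv Pq Bq).symm := by
      funext φ
      simp only [Function.comp_apply]
      rw [homEquiv_α_comp, Equiv.apply_symm_apply]
    rw [hfun]
    refine ((LpullRpushAdj.adj f).homEquiv _ _).bijective.comp (Function.Bijective.comp ?_
      (hQ.comp ((LpullRpushAdj.adjH f).homEquiv Pq Bq).symm.bijective))
    constructor
    · intro a b hab
      exact (cancel_epi _).mp hab
    · intro b
      exact ⟨inv ((LpullRpushAdj.α f).app Pq) ≫ b, by simp⟩
  have hfun2 : (fun φ : Pq ⟶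
      ((Scheme.Modules.pushforward f).mapHomotopyCategory (ComplexShape.up ℤ)).obj Bq =>
      Qh.map φ) = (fun g => g ≫ inv ((LpullRpushAdj.β f).app Bq)) ∘ (fun φ =>
      Qh.map φ ≫ (LpullRpushAdj.β f).app Bq) := by
    funext φ
    simp
  rw [hfun2]
  refine Function.Bijective.comp ?_ h1
  constructor
  · intro a b hab
    exact (cancel_mono _).mp hab
  · intro b
    exact ⟨b ≫ (LpullRpushAdj.β f).app Bq, by simp⟩

end Step1

section Step2

variable {A : Type*} [Category A] [Abelian A] [HasDerivedCategory A]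

lemma bijective_comp_of_Qh (Pq : HomotopyCategory A (ComplexShape.up ℤ))
    {M J : CochainComplex A ℤ} (s : M ⟶ J) [QuasiIso s] [J.IsKInjective]
    (h : Function.Bijective (fun φ : Pq ⟶ (HomotopyCategory.quotient _ _).obj M => Qh.map φ)) :
    Function.Bijective (fun φ : Pq ⟶ (HomotopyCategory.quotient _ _).obj M =>
      φ ≫ (HomotopyCategory.quotient _ _).map s) := by
  have hJ : Function.Bijective (fun ψ : Pq ⟶ (HomotopyCategory.quotient _ _).obj J => Qh.map ψ) :=
    CochainComplex.IsKInjective.Qh_map_bijective _ J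
  haveI : IsIso (Qh.map ((HomotopyCategory.quotient A (ComplexShape.up ℤ)).map s)) := by
    have : IsIso (Q.map s) := inferInstance
    exact this
  rw [← Function.Bijective.of_comp_iff' hJ]
  have hfun : (fun ψ : Pq ⟶ (HomotopyCategory.quotient _ _).obj J => Qh.map ψ) ∘
      (fun φ : Pq ⟶ (HomotopyCategory.quotient _ _).obj M =>
        φ ≫ (HomotopyCategory.quotient _ _).map s) =
      (fun g => g ≫ Qh.map ((HomotopyCategory.quotient A (ComplexShape.up ℤ)).map s)) ∘
        (fun φ : Pq ⟶ (HomotopyCategory.quotient _ _).obj M => Qh.map φ) := by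
    funext φ
    simp
  rw [hfun]
  refine Function.Bijective.comp ?_ h
  constructor
  · intro a b hab
    exact (cancel_mono _).mp hab
  · intro b
    exact ⟨b ≫ inv (Qh.map ((HomotopyCategory.quotient A (ComplexShape.up ℤ)).map s)), by simp⟩

lemma hom_obj₃_eq_zero {C : Type*} [Category C] [Preadditive C] [HasZeroObject C] [HasShift C ℤ]
    [∀ n : ℤ, (shiftFunctor C n).Additive] [Pretriangulated C] (T : Triangle C)
    (hT : T ∈ distTriang C) (P : C)
    (h0 : Function.Surjective (fun φ : P ⟶ T.obj₁ => φ ≫ T.mor₁))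
    (h1 : Function.Injective (fun φ : P⟦(-1 : ℤ)⟧ ⟶ T.obj₁ => φ ≫ T.mor₁))
    (g : P ⟶ T.obj₃) : g = 0 := by
  have ha : g ≫ T.mor₃ = 0 := by
    have hz : (g ≫ T.mor₃) ≫ T.mor₁⟦(1 : ℤ)⟧' = 0 := by
      rw [Category.assoc, comp_distTriang_mor_zero₃₁ _ hT, comp_zero]
    have hnat := (shiftFunctorCompIsoId C (1 : ℤ) (-1) (by simp)).hom.naturality T.mor₁
    have h2 : ((g ≫ T.mor₃)⟦(-1 : ℤ)⟧' ≫
        (shiftFunctorCompIsoId C (1 : ℤ) (-1) (by simp)).hom.app T.obj₁) ≫ T.mor₁ =
        0 ≫ T.mor₁ := by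
      rw [Category.assoc, zero_comp]
      have h3 : (shiftFunctorCompIsoId C (1 : ℤ) (-1) (by simp)).hom.app T.obj₁ ≫ T.mor₁ =
          (T.mor₁⟦(1 : ℤ)⟧')⟦(-1 : ℤ)⟧' ≫
            (shiftFunctorCompIsoId C (1 : ℤ) (-1) (by simp)).hom.app T.obj₂ := hnat.symm
      rw [h3, ← Category.assoc, ← Functor.map_comp, hz, Functor.map_zero, zero_comp]
    have h4 := h1 h2
    have h5 : (g ≫ T.mor₃)⟦(-1 : ℤ)⟧' = 0 := by
      rw [← cancel_mono ((shiftFunctorCompIsoId C (1 : ℤ) (-1) (by simp)).hom.app T.obj₁), h4,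
        zero_comp]
    exact (shiftFunctor C (-1 : ℤ)).map_injective (by rw [h5, Functor.map_zero])
  obtain ⟨g', hg'⟩ := Triangle.coyoneda_exact₃ T hT g ha
  obtain ⟨g'', hg''⟩ := h0 g'
  have hg3 : g' = g'' ≫ T.mor₁ := hg''.symm
  rw [hg', hg3, Category.assoc, comp_distTriang_mor_zero₁₂ _ hT, comp_zero]

lemma hom_mappingCone_eq_zero {M J : CochainComplex A ℤ} (s : M ⟶ J)
    (Pq : HomotopyCategory A (ComplexShape.up ℤ))
    (h0 : Function.Surjective (fun φ : Pq ⟶ (HomotopyCategory.quotient _ _).obj M =>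
      φ ≫ (HomotopyCategory.quotient _ _).map s))
    (h1 : Function.Injective (fun φ : Pq⟦(-1 : ℤ)⟧ ⟶ (HomotopyCategory.quotient _ _).obj M =>
      φ ≫ (HomotopyCategory.quotient _ _).map s))
    (g : Pq ⟶ (HomotopyCategory.quotient _ _).obj (CochainComplex.mappingCone s)) : g = 0 :=
  hom_obj₃_eq_zero (CochainComplex.mappingCone.triangleh s)
    (HomotopyCategory.mappingCone_triangleh_distinguished s) Pq h0 h1 g

end Step2

section Step4

open Groth.Agent.Lib.Helper45.SectionHom Groth.Agent.Lib.Helper45.RefHullBasic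

variable {Y : Scheme.{u}}

lemma unit_hom_ext {N : Y.Modules} (φ ψ : Coh.structureModule Y ⟶ N)
    (h : φ.app ⊤ (1 : Γ(Y, ⊤)) = ψ.app ⊤ (1 : Γ(Y, ⊤))) : φ = ψ := by
  apply Scheme.Modules.hom_ext
  intro U
  ext a
  rw [unit_app_eq φ U a, unit_app_eq ψ U a, h]

lemma exactAt_gamma_of_hom_eq_zero (C : CochainComplex Y.Modules ℤ) (n : ℤ)
    (h : ∀ g : (HomotopyCategory.quotient _ _).obj
        ((HomologicalComplex.single Y.Modules (ComplexShape.up ℤ) n).obj (Coh.structureModule Y)) ⟶
        (HomotopyCategory.quotient _ _).obj C, g = 0) :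
    (((DCoh.gammaAb Y).mapHomologicalComplex (ComplexShape.up ℤ)).obj C).ExactAt n := by
  rw [HomologicalComplex.exactAt_iff' _ (n - 1) n (n + 1) (by simp) (by simp),
    ShortComplex.ab_exact_iff]
  intro x hx
  have hx' : (C.d n (n + 1)).app ⊤ x = 0 := hx
  let xt := sectionHom (C.X n) x
  have hxt : xt ≫ C.d n (n + 1) = 0 := by
    apply unit_hom_ext
    rw [Scheme.Modules.Hom.comp_app]
    change (C.d n (n + 1)).app ⊤ (xt.app ⊤ (1 : Γ(Y, ⊤))) = _
    rw [sectionHom_app_top_one, hx']
    rfl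
  let F := HomologicalComplex.mkHomFromSingle xt (fun k hk => by
    obtain rfl : n + 1 = k := hk
    exact hxt)
  have hF : (HomotopyCategory.quotient Y.Modules (ComplexShape.up ℤ)).map F =
      (HomotopyCategory.quotient Y.Modules (ComplexShape.up ℤ)).map 0 := by
    rw [h ((HomotopyCategory.quotient Y.Modules (ComplexShape.up ℤ)).map F), Functor.map_zero]
  let H := HomotopyCategory.homotopyOfEq _ _ hF
  have hcomm := H.comm n
  rw [dNext_eq H.hom (show (ComplexShape.up ℤ).Rel n (n + 1) from rfl),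
    prevD_eq H.hom (show (ComplexShape.up ℤ).Rel (n - 1) n by simp),
    HomologicalComplex.single_obj_d, zero_comp, zero_add, HomologicalComplex.zero_f, add_zero,
    HomologicalComplex.mkHomFromSingle_f] at hcomm
  let e := HomologicalComplex.singleObjXSelf (ComplexShape.up ℤ) n (Coh.structureModule Y)
  have hxt2 : xt = (e.inv ≫ H.hom n (n - 1)) ≫ C.d (n - 1) n := by
    rw [Category.assoc, ← hcomm, Iso.inv_hom_id_assoc]
  refine ⟨(e.inv ≫ H.hom n (n - 1)).app ⊤ (1 : Γ(Y, ⊤)), ?_⟩
  have h3 : xt.app ⊤ (1 : Γ(Y, ⊤)) = x := sectionHom_app_top_one _ x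
  rw [← h3, hxt2, Scheme.Modules.Hom.comp_app]
  rfl

end Step4

section Step5

open Groth.Agent.Lib.Helper28.TorOne Groth.Agent.Lib.Helper28.LTensorCompute

variable {X Y : Scheme.{u}}

lemma isFlat_structureModule (Y : Scheme.{u}) : FlatMod.IsFlat (Coh.structureModule Y) := by
  apply Groth.Agent.Lib.Helper49.isFlat_of_isFinLocFree
  intro y
  refine ⟨⊤, 1, trivial, ⟨Scheme.Modules.restrictUnitIso (⊤ : Y.Opens).ι ≪≫ ?_⟩⟩
  exact (Limits.coproductUniqueIso
    (fun _ : Fin 1 => Coh.structureModule (↑(⊤ : Y.Opens) : Scheme.{u}))).symm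

lemma pf_single (Y : Scheme.{u}) (n : ℤ) :
    PF ((HomologicalComplex.single Y.Modules (ComplexShape.up ℤ) n).obj
      (Coh.structureModule Y)) := by
  refine ⟨Groth.Agent.Lib.Helper5.KFlatSingle.isKFlat_single Y.sheaf (Coh.structureModule Y)
    ((Groth.Agent.Lib.Helper28.TorOne.flat_iff _).1 (isFlat_structureModule Y)) n, ?_⟩
  intro i
  by_cases hi : i = n
  · subst hi
    exact isFlat_of_iso
      (HomologicalComplex.singleObjXSelf (ComplexShape.up ℤ) i (Coh.structureModule Y)).symm
      (isFlat_structureModule Y)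
  · exact isFlat_of_isZero _
      (HomologicalComplex.isZero_single_obj_X (ComplexShape.up ℤ) n _ i hi)

lemma bijective_comp_of_iso {C : Type*} [Category C] {P P' M J : C} (e : P ≅ P') (s : M ⟶ J)
    (h : Function.Bijective (fun φ : P ⟶ M => φ ≫ s)) :
    Function.Bijective (fun φ : P' ⟶ M => φ ≫ s) := by
  constructor
  · intro a b hab
    have hab' : a ≫ s = b ≫ s := hab
    have h2 : (e.hom ≫ a) ≫ s = (e.hom ≫ b) ≫ s := by rw [Category.assoc, Category.assoc, hab']
    have := h.1 h2
    exact (cancel_epi e.hom).mp this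
  · intro b
    obtain ⟨a, ha⟩ := h.2 (e.hom ≫ b)
    have ha' : a ≫ s = e.hom ≫ b := ha
    refine ⟨e.inv ≫ a, ?_⟩
    change (e.inv ≫ a) ≫ s = b
    rw [Category.assoc, ha', Iso.inv_hom_id_assoc]

theorem acyclic_gamma_mappingCone (f : X ⟶ Y) (B : CochainComplex X.Modules ℤ) [B.IsKInjective]
    {J : CochainComplex Y.Modules ℤ}
    (s : ((Scheme.Modules.pushforward f).mapHomologicalComplex (ComplexShape.up ℤ)).obj B ⟶ J)
    [QuasiIso s] [J.IsKInjective] :
    (((DCoh.gammaAb Y).mapHomologicalComplex (ComplexShape.up ℤ)).obj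
      (CochainComplex.mappingCone s)).Acyclic := by
  intro n
  apply exactAt_gamma_of_hom_eq_zero
  intro g
  let P := (HomologicalComplex.single Y.Modules (ComplexShape.up ℤ) n).obj (Coh.structureModule Y)
  have hP : PF P := pf_single Y n
  have hP' : PF (P⟦(-1 : ℤ)⟧) := pf_stable.shift P (-1) hP
  have h0 := bijective_comp_of_Qh _ s (bijective_Qh_map_push f B P hP)
  have h1 := bijective_comp_of_Qh _ s (bijective_Qh_map_push f B _ hP')
  have h1' := bijective_comp_of_iso
    (((HomotopyCategory.quotient Y.Modules (ComplexShape.up ℤ)).commShiftIso (-1 : ℤ)).app P)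
    ((HomotopyCategory.quotient Y.Modules (ComplexShape.up ℤ)).map s) h1
  exact hom_mappingCone_eq_zero s _ h0.2 h1'.1 g

end Step5

section Step5b

open Groth.Agent.Lib.Helper32.TriRF

variable {A : Type u} [Category.{v} A] [Abelian A] [HasDerivedCategory.{w} A]
  {B : Type u'} [Category.{v'} B] [Abelian B] [HasDerivedCategory.{w'} B]
  (F : A ⥤ B) [F.Additive]
  (RF : DerivedCategory A ⥤ DerivedCategory B)
  (α : F.mapHomotopyCategory (ComplexShape.up ℤ) ⋙ DerivedCategory.Qh ⟶ DerivedCategory.Qh ⋙ RF)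
  [RF.IsRightDerivedFunctor α (HomotopyCategory.quasiIso A (ComplexShape.up ℤ))]

include α in
/-- the unit of a right derived functor is an isomorphism at `M` as soon as `F` sends a K-injective
resolution of `M` to a quasi-isomorphism. -/
lemma isIso_unit_app_of_quasiIso (hA : HasKInjRes A) {M J : CochainComplex A ℤ} (s : M ⟶ J)
    [QuasiIso s] [J.IsKInjective]
    (h : QuasiIso ((F.mapHomologicalComplex (ComplexShape.up ℤ)).map s)) :
    IsIso (α.app ((HomotopyCategory.quotient A (ComplexShape.up ℤ)).obj M)) := by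
  haveI := h
  haveI hJ : IsIso (β F RF α J) := isIso_β F RF α hA J
  have hnat := β_naturality F RF α s
  haveI : IsIso (Q.map s) := inferInstance
  haveI : IsIso (Q.map ((F.mapHomologicalComplex (ComplexShape.up ℤ)).map s)) := inferInstance
  have hM : IsIso (β F RF α M) := by
    have h2 : β F RF α M = (Q.map ((F.mapHomologicalComplex (ComplexShape.up ℤ)).map s) ≫
        β F RF α J) ≫ inv (RF.map (Q.map s)) := by
      rw [hnat, Category.assoc, IsIso.hom_inv_id, Category.comp_id]
    rw [h2]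
    infer_instance
  dsimp only [β] at hM
  haveI := hM
  have h3 := IsIso.of_isIso_comp_left ((quotientCompQhIso B).inv.app _)
    (Qh.map ((F.mapHomotopyCategoryFactors (ComplexShape.up ℤ)).inv.app M) ≫
      α.app ((HomotopyCategory.quotient A (ComplexShape.up ℤ)).obj M) ≫
      RF.map ((quotientCompQhIso A).hom.app M))
  haveI := h3
  have h4 := IsIso.of_isIso_comp_left
    (Qh.map ((F.mapHomotopyCategoryFactors (ComplexShape.up ℤ)).inv.app M))
    (α.app ((HomotopyCategory.quotient A (ComplexShape.up ℤ)).obj M) ≫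
      RF.map ((quotientCompQhIso A).hom.app M))
  haveI := h4
  exact IsIso.of_isIso_comp_right
    (α.app ((HomotopyCategory.quotient A (ComplexShape.up ℤ)).obj M))
    (RF.map ((quotientCompQhIso A).hom.app M))

end Step5b

section Step6

variable {X Y : Scheme.{u}}

/-- **`f_*` of a K-injective complex is acyclic for global sections.** -/
theorem isIso_unit_gamma_push (f : X ⟶ Y) (B : CochainComplex X.Modules ℤ) [B.IsKInjective]
    [DCoh.HasRΓ Y] :
    IsIso (((DCoh.gammaKh Y).totalRightDerivedUnit DerivedCategory.Qh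
      (HomotopyCategory.quasiIso Y.Modules (ComplexShape.up ℤ))).app
      ((HomotopyCategory.quotient Y.Modules (ComplexShape.up ℤ)).obj
        (((Scheme.Modules.pushforward f).mapHomologicalComplex (ComplexShape.up ℤ)).obj B))) := by
  obtain ⟨J, s, hJ, hs⟩ := hasKInjRes Y
    (((Scheme.Modules.pushforward f).mapHomologicalComplex (ComplexShape.up ℤ)).obj B)
  haveI := hJ
  haveI := hs
  exact isIso_unit_app_of_quasiIso (DCoh.gammaAb Y) (DCoh.RΓ Y) _ (hasKInjRes Y) s
    ((Groth.Agent.Lib.Helper32.ConeAcyclic.quasiIso_map_iff_acyclic_map_mappingCone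
      (DCoh.gammaAb Y) s).2 (acyclic_gamma_mappingCone f B s))


/-- S11124: the restricted version. -/
theorem isIso_unit_gamma_restrict_push (f : X ⟶ Y) (B : CochainComplex X.Modules ℤ)
    [B.IsKInjective] (U : Y.Opens) [DCoh.HasRΓ (U : Scheme.{u})] :
    IsIso (((DCoh.gammaKh (U : Scheme.{u})).totalRightDerivedUnit DerivedCategory.Qh
      (HomotopyCategory.quasiIso (U : Scheme.{u}).Modules (ComplexShape.up ℤ))).app
      ((HomotopyCategory.quotient (U : Scheme.{u}).Modules (ComplexShape.up ℤ)).obj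
        ((DCoh.restrictCx U).obj
          (((Scheme.Modules.pushforward f).mapHomologicalComplex (ComplexShape.up ℤ)).obj B)))) := by
  let B' : CochainComplex ((f ⁻¹ᵁ U : X.Opens) : Scheme.{u}).Modules ℤ :=
    ((restrictFunctor (f ⁻¹ᵁ U).ι).mapHomologicalComplex (ComplexShape.up ℤ)).obj B
  haveI hB' : B'.IsKInjective := isKInjective_restrict (f ⁻¹ᵁ U) B inferInstance
  have h1 := isIso_unit_gamma_push (f ∣_ U) B'
  let e : (DCoh.restrictCx U).obj
      (((Scheme.Modules.pushforward f).mapHomologicalComplex (ComplexShape.up ℤ)).obj B) ≅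
      ((Scheme.Modules.pushforward (f ∣_ U)).mapHomologicalComplex (ComplexShape.up ℤ)).obj B' :=
    (NatIso.mapHomologicalComplex (pushforwardRestrictIso f U) (ComplexShape.up ℤ)).app B
  rw [NatTrans.isIso_app_iff_of_iso _
    ((HomotopyCategory.quotient (U : Scheme.{u}).Modules (ComplexShape.up ℤ)).mapIso e)]
  exact h1

end Step6

end Groth.Agent.Lib.Helper32.PushAcyclic
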