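import Mathlib
import Groth.Prelude.Def_CxOX
import Groth.Agent.Lib.Helper32.PushAcyclic
import Groth.Agent.Lib.Helper30.DQC.AffineUnit
import Groth.Agent.Lib.Helper22.ChevShrink
import Groth.Agent.Lib.Helper32.MVTriangle

/-!
# `RΓ` detects zero objects of `D_QCoh` of an affine scheme (helper32)

* `nonempty_homotopy_zero_of_exactAt`: if `Γ(Y, L)` is exact in degree `0`, every chain map
  `O_Y[0] ⟶ L` is null-homotopic.
* `isZero_Q_obj_of_acyclic_gamma`: `Y` affine, `I` K-injective with quasi-coherent cohomology and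
  `Γ(Y, I)` acyclic ⇒ `I` is zero in `D(O_Y)`.
* `isZero_of_isZero_RΓ`: `Y` affine, `K ∈ D_QCoh(O_Y)`, `RΓ(Y, K) = 0` ⇒ `K = 0`.
-/

set_option autoImplicit false
universe u
open CategoryTheory CategoryTheory.Limits AlgebraicGeometry TopologicalSpace Opposite

attribute [local instance] HasDerivedCategory.standard

namespace Groth.Agent.Lib.Helper32.AffineDetect

open DerivedCategory Groth.Agent.Lib.Helper32.PushAcyclic Groth.Agent.Lib.Helper45.SectionHom
  Groth.Agent.Lib.Helper45.RefHullBasic Groth.Agent.Lib.Helper83.SingleHom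
  Groth.Agent.Lib.Helper83.H0Bij Groth.Agent.Lib.Helper30.DQC
  Groth.Agent.Lib.Helper32.KInjDerived Groth.Agent.Lib.Helper32.RDerCrit
  Groth.Agent.Lib.Helper32.OpenKInj Groth.Agent.Lib.Helper32.OpenSupp

variable {Y : Scheme.{u}}

/-- if `Γ(Y, L)` is exact in degree `0`, every chain map `O_Y[0] ⟶ L` is null-homotopic. -/
lemma nonempty_homotopy_zero_of_exactAt (L : CochainComplex Y.Modules ℤ)
    (h : (((DCoh.gammaAb Y).mapHomologicalComplex (ComplexShape.up ℤ)).obj L).ExactAt 0)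
    (f : sg (Coh.structureModule Y) ⟶ L) :
    Nonempty (Homotopy f 0) := by
  rw [HomologicalComplex.exactAt_iff' _ (-1) 0 1 (by simp) (by simp),
    ShortComplex.ab_exact_iff] at h
  let e := HomologicalComplex.singleObjXSelf (ComplexShape.up ℤ) 0 (Coh.structureModule Y)
  let x : Γ(L.X 0, ⊤) := (e.inv ≫ f.f 0).app ⊤ (1 : Γ(Y, ⊤))
  have hd : (e.inv ≫ f.f 0) ≫ L.d 0 1 = 0 := by
    have h1 : f.f 0 ≫ L.d 0 1 = 0 := by
      rw [f.comm 0 1, HomologicalComplex.single_obj_d, zero_comp]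
    rw [Category.assoc, h1, comp_zero]
  have hx : (L.d 0 1).app ⊤ x = 0 := by
    have h2 := congrArg (fun φ : Coh.structureModule Y ⟶ L.X 1 => φ.app ⊤ (1 : Γ(Y, ⊤))) hd
    simp only [Scheme.Modules.Hom.comp_app] at h2
    exact h2
  obtain ⟨y, hy⟩ := h x hx
  have hy' : (L.d (-1) 0).app ⊤ y = x := hy
  let g := sectionHom (L.X (-1)) y
  have hg : g ≫ L.d (-1) 0 = e.inv ≫ f.f 0 := by
    apply unit_hom_ext
    rw [Scheme.Modules.Hom.comp_app]
    change (L.d (-1) 0).app ⊤ (g.app ⊤ (1 : Γ(Y, ⊤))) = x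
    rw [sectionHom_app_top_one, hy']
  exact nonempty_homotopy_zero (S := Coh.structureModule Y) (L := L) f g hg

/-- exactness of a shifted complex of abelian groups in degree `0` -/
lemma exactAt_shift_zero {A : Type*} [Category A] [Abelian A] (L : CochainComplex A ℤ) (m : ℤ)
    (h : L.ExactAt m) : (L⟦m⟧).ExactAt 0 := by
  rw [HomologicalComplex.exactAt_iff_isZero_homology] at h ⊢
  exact IsZero.of_iso h
    (((HomologicalComplex.homologyFunctor A (ComplexShape.up ℤ) 0).shiftIso m 0 m (by simp)).app L)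

/-- a quasi-coherent module on an affine scheme all of whose maps from `O_Y` vanish is zero -/
lemma isZero_of_hom_unit_eq_zero [IsAffine Y] (M : Y.Modules) [M.IsQuasicoherent]
    (h : ∀ ψ : Coh.structureModule Y ⟶ M, ψ = 0) : IsZero M := by
  rw [IsZero.iff_id_eq_zero]
  refine Groth.Agent.Lib.Helper22.Chev.hom_eq_zero_of_app_cover (𝟙 M) {⊤} ?_ ?_ ?_
  · intro U hU
    rw [Set.mem_singleton_iff.mp hU]
    exact isAffineOpen_top Y
  · intro x
    exact ⟨⊤, rfl, trivial⟩
  · intro U hU k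
    obtain rfl := Set.mem_singleton_iff.mp hU
    have h1 := sectionHom_app_top_one M k
    rw [h (sectionHom M k)] at h1
    rw [← h1]
    rfl

/-- `Y` affine, `I` K-injective with quasi-coherent cohomology sheaves and `Γ(Y, I)` acyclic:
then `I` is zero in `D(O_Y)`. -/
theorem isZero_Q_obj_of_acyclic_gamma [IsAffine Y] (I : CochainComplex Y.Modules ℤ)
    [I.IsKInjective] (hq : DCoh.IsQCohD (Q.obj I))
    (hΓ : (((DCoh.gammaAb Y).mapHomologicalComplex (ComplexShape.up ℤ)).obj I).Acyclic) :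
    IsZero (Q.obj I) := by
  apply isZero_of_homology
  intro m
  -- step A
  have hA : (((DCoh.gammaAb Y).mapHomologicalComplex (ComplexShape.up ℤ)).obj (I⟦m⟧)).ExactAt 0 := by
    have h1 := exactAt_shift_zero _ m (hΓ m)
    rw [HomologicalComplex.exactAt_iff_isZero_homology] at h1 ⊢
    exact IsZero.of_iso h1 ((HomologicalComplex.homologyFunctor _ _ 0).mapIso
      ((((DCoh.gammaAb Y).mapHomologicalComplex (ComplexShape.up ℤ)).commShiftIso m).app I))
  -- step B
  have hB : ∀ φ : (DerivedCategory.singleFunctor Y.Modules 0).obj (Coh.structureModule Y) ⟶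
      (Q.obj I)⟦m⟧, φ = 0 := by
    intro φ
    let e : Q.obj (I⟦m⟧) ≅ (Q.obj I)⟦m⟧ := (Q.commShiftIso m).app I
    obtain ⟨f, hf⟩ := exists_qm_eq (L := I⟦m⟧) (φ ≫ e.inv)
    obtain ⟨H⟩ := nonempty_homotopy_zero_of_exactAt (I⟦m⟧) hA f
    have h3 : (HomotopyCategory.quotient Y.Modules (ComplexShape.up ℤ)).map f = 0 := by
      rw [HomotopyCategory.eq_of_homotopy f 0 H, Functor.map_zero]
    have h4 : qm f = 0 := by
      show Qh.map ((HomotopyCategory.quotient Y.Modules (ComplexShape.up ℤ)).map f) = 0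
      rw [h3, Functor.map_zero]
    rw [h4] at hf
    have h5 : φ = (φ ≫ e.inv) ≫ e.hom := by simp
    rw [h5, ← hf, zero_comp]
  -- step C
  have hC := h0Bij_unit_shift (Q.obj I) hq m
  have hD : ∀ ψ : Coh.structureModule Y ⟶
      (DerivedCategory.homologyFunctor Y.Modules 0).obj ((Q.obj I)⟦m⟧), ψ = 0 := by
    intro ψ
    obtain ⟨φ, rfl⟩ := hC.2 ψ
    rw [hB φ, h0_zero]
  -- step D
  let eH : (DerivedCategory.homologyFunctor Y.Modules 0).obj ((Q.obj I)⟦m⟧) ≅
      (DerivedCategory.homologyFunctor Y.Modules m).obj (Q.obj I) :=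
    ((DerivedCategory.homologyFunctor Y.Modules 0).shiftIso m 0 m (by simp)).app (Q.obj I)
  haveI : ((DerivedCategory.homologyFunctor Y.Modules m).obj (Q.obj I)).IsQuasicoherent := hq m
  apply isZero_of_hom_unit_eq_zero
  intro ψ
  have h6 := hD (ψ ≫ eH.inv)
  rw [← cancel_mono eH.inv, h6, zero_comp]

lemma isQCohD_of_iso {X : Scheme.{u}} {K K' : DCoh.D X} (e : K ≅ K') (h : DCoh.IsQCohD K) :
    DCoh.IsQCohD K' := fun i =>
  Groth.Agent.Lib.Helper49.isQuasicoherent_of_iso
    ((DerivedCategory.homologyFunctor X.Modules i).mapIso e) (h i)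

/-- `Y` affine, `K ∈ D_QCoh(O_Y)` with `RΓ(Y, K) = 0`: then `K = 0`. -/
theorem isZero_of_isZero_RΓ [IsAffine Y] [DCoh.HasRΓ Y] (K : DCoh.D Y) (hK : DCoh.IsQCohD K)
    (h : IsZero ((DCoh.RΓ Y).obj K)) : IsZero K := by
  obtain ⟨I, hI, _, ⟨e⟩⟩ := Groth.Agent.Lib.Helper32.MVTriangle.exists_kInj_model K
  haveI := hI
  have hq : DCoh.IsQCohD (Q.obj I) := isQCohD_of_iso e hK
  let α := (DCoh.gammaKh Y).totalRightDerivedUnit DerivedCategory.Qh
    (HomotopyCategory.quasiIso Y.Modules (ComplexShape.up ℤ))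
  haveI hα : IsIso (α.app ((HomotopyCategory.quotient _ _).obj I)) :=
    isIso_app_kInjective (hasKInjRes Y) (DCoh.RΓ Y) α I
  have hz : IsZero (Q.obj (((DCoh.gammaAb Y).mapHomologicalComplex (ComplexShape.up ℤ)).obj I)) :=
    IsZero.of_iso (IsZero.of_iso h ((DCoh.RΓ Y).mapIso e.symm))
      (@asIso _ _ _ _ (α.app ((HomotopyCategory.quotient _ _).obj I)) hα)
  have hΓ : (((DCoh.gammaAb Y).mapHomologicalComplex (ComplexShape.up ℤ)).obj I).Acyclic := by
    intro m
    rw [HomologicalComplex.exactAt_iff_isZero_homology]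
    exact IsZero.of_iso (Functor.map_isZero (DerivedCategory.homologyFunctor AddCommGrpCat.{u} m) hz)
      ((DerivedCategory.homologyFunctorFactors AddCommGrpCat.{u} m).app _).symm
  exact IsZero.of_iso (isZero_Q_obj_of_acyclic_gamma I hq hΓ) e

end Groth.Agent.Lib.Helper32.AffineDetect
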