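import Mathlib
import Groth.Prelude.Def_CxOX
import Groth.Agent.Lib.Helper32.PushAcyclic

set_option autoImplicit false
universe u
open CategoryTheory CategoryTheory.Limits AlgebraicGeometry TopologicalSpace Opposite ZeroObject

attribute [local instance] HasDerivedCategory.standard

namespace Groth.Agent.Lib.Helper32.RGammaPush

open Pretriangulated DerivedCategory Groth.Agent.Lib.Helper5
  Groth.Agent.Lib.Helper32.OpenKInj Groth.Agent.Lib.Helper32.OpenSupp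
  Groth.Agent.Lib.Helper32.KInjDerived Groth.Agent.Lib.Helper32.RDerCrit Scheme.Modules
  Groth.Agent.Lib.Helper32.PushAcyclic

variable {X Y : Scheme.{u}} (f : X ⟶ Y)

/-- `Γ(Y, f_* M) = Γ(X, M)`. -/
noncomputable def pushGammaIso : Scheme.Modules.pushforward f ⋙ DCoh.gammaAb Y ≅ DCoh.gammaAb X :=
  NatIso.ofComponents (fun M => Iso.refl _) (fun {M N} φ => by
    rfl)


/-- the comparison `Γ(X, K) ⟶ RΓ(Y, Rf_* K)` on the homotopy category. -/
noncomputable def δ [DCoh.HasRpush f] [DCoh.HasRΓ Y] :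
    DCoh.gammaKh X ⟶ DerivedCategory.Qh ⋙ (DCoh.Rpush f ⋙ DCoh.RΓ Y) :=
  (Functor.isoWhiskerRight
      (Functor.mapHomotopyCategoryCompIso (pushGammaIso f) (ComplexShape.up ℤ)) Qh).inv ≫
    (Functor.associator _ _ _).hom ≫
    Functor.whiskerLeft ((Scheme.Modules.pushforward f).mapHomotopyCategory (ComplexShape.up ℤ))
      ((DCoh.gammaKh Y).totalRightDerivedUnit DerivedCategory.Qh
        (HomotopyCategory.quasiIso Y.Modules (ComplexShape.up ℤ))) ≫
    (Functor.associator _ _ _).inv ≫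
    Functor.whiskerRight (LpullRpushAdj.β f) (DCoh.RΓ Y) ≫
    (Functor.associator _ _ _).hom

lemma isIso_δ_app [DCoh.HasRpush f] [DCoh.HasRΓ Y] (I : CochainComplex X.Modules ℤ)
    [I.IsKInjective] :
    IsIso ((δ f).app ((HomotopyCategory.quotient X.Modules (ComplexShape.up ℤ)).obj I)) := by
  haveI h1 := isIso_unit_gamma_push f I
  haveI h2 := LpullRpushAdj.isIso_β_app f I
  dsimp only [δ, NatTrans.comp_app, Functor.whiskerLeft_app, Functor.whiskerRight_app]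
  haveI h1' : IsIso (((DCoh.gammaKh Y).totalRightDerivedUnit DerivedCategory.Qh
      (HomotopyCategory.quasiIso Y.Modules (ComplexShape.up ℤ))).app
      (((Scheme.Modules.pushforward f).mapHomotopyCategory (ComplexShape.up ℤ)).obj
        ((HomotopyCategory.quotient X.Modules (ComplexShape.up ℤ)).obj I))) := h1
  infer_instance

/-- `RΓ(Y, Rf_* -) ≅ RΓ(X, -)`. -/
theorem nonempty_Rpush_RΓ_iso [DCoh.HasRpush f] [DCoh.HasRΓ X] [DCoh.HasRΓ Y] :
    Nonempty (DCoh.Rpush f ⋙ DCoh.RΓ Y ≅ DCoh.RΓ X) := by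
  haveI := isRightDerivedFunctor_of_isIso (hasKInjRes X) (DCoh.Rpush f ⋙ DCoh.RΓ Y) (δ f)
    (fun I hI => by haveI := hI; exact isIso_δ_app f I)
  exact ⟨Functor.rightDerivedUnique (DCoh.Rpush f ⋙ DCoh.RΓ Y) (DCoh.RΓ X) (δ f)
    ((DCoh.gammaKh X).totalRightDerivedUnit DerivedCategory.Qh
      (HomotopyCategory.quasiIso X.Modules (ComplexShape.up ℤ)))
    (HomotopyCategory.quasiIso X.Modules (ComplexShape.up ℤ))⟩


section BaseChange

variable (V : Y.Opens)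

/-- abbreviation: restriction on homotopy categories. -/
noncomputable abbrev resK {P Q : Scheme.{u}} (j : P ⟶ Q) [IsOpenImmersion j] :=
  (Scheme.Modules.restrictFunctor j).mapHomotopyCategory (ComplexShape.up ℤ)

/-- abbreviation: direct image on homotopy categories. -/
noncomputable abbrev pushK {P Q : Scheme.{u}} (g : P ⟶ Q) :=
  (Scheme.Modules.pushforward g).mapHomotopyCategory (ComplexShape.up ℤ)

/-- the unit exhibiting `(-)|_{f⁻¹V} ⋙ R(f|_V)_*` as a right derived functor of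
`f_* (-)|_V`. -/
noncomputable def α₂ [DCoh.HasRpush (f ∣_ V)] :
    DCoh.pushKh f ⋙ DCoh.restrictD V.ι ⟶
      DerivedCategory.Qh ⋙ (DCoh.restrictD (f ⁻¹ᵁ V).ι ⋙ DCoh.Rpush (f ∣_ V)) :=
  (Functor.associator _ _ _).hom ≫
    Functor.whiskerLeft (pushK f) (Scheme.Modules.restrictFunctor V.ι).mapDerivedCategoryFactorsh.hom ≫
    (Functor.associator _ _ _).inv ≫
    Functor.whiskerRight ((Functor.mapHomotopyCategoryCompIso (pushforwardRestrictIso f V)
      (ComplexShape.up ℤ)).hom ≫ (Functor.mapHomotopyCategoryCompIso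
        (Iso.refl (Scheme.Modules.restrictFunctor (f ⁻¹ᵁ V).ι ⋙
          Scheme.Modules.pushforward (f ∣_ V))) (ComplexShape.up ℤ)).inv) Qh ≫
    (Functor.associator _ _ _).hom ≫
    Functor.whiskerLeft (resK (f ⁻¹ᵁ V).ι) (LpullRpushAdj.β (f ∣_ V)) ≫
    (Functor.associator _ _ _).inv ≫
    Functor.whiskerRight
      (Scheme.Modules.restrictFunctor (f ⁻¹ᵁ V).ι).mapDerivedCategoryFactorsh.inv
      (DCoh.Rpush (f ∣_ V)) ≫
    (Functor.associator _ _ _).hom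

lemma isIso_α₂_app [DCoh.HasRpush (f ∣_ V)] (I : CochainComplex X.Modules ℤ) [I.IsKInjective] :
    IsIso ((α₂ f V).app ((HomotopyCategory.quotient X.Modules (ComplexShape.up ℤ)).obj I)) := by
  let I' : CochainComplex ((f ⁻¹ᵁ V : X.Opens) : Scheme.{u}).Modules ℤ :=
    ((restrictFunctor (f ⁻¹ᵁ V).ι).mapHomologicalComplex (ComplexShape.up ℤ)).obj I
  haveI hI' : I'.IsKInjective := isKInjective_restrict (f ⁻¹ᵁ V) I inferInstance
  haveI h2 := LpullRpushAdj.isIso_β_app (f ∣_ V) I'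
  dsimp only [α₂, NatTrans.comp_app, Functor.whiskerLeft_app, Functor.whiskerRight_app]
  haveI h2' : IsIso ((LpullRpushAdj.β (f ∣_ V)).app ((resK (f ⁻¹ᵁ V).ι).obj
      ((HomotopyCategory.quotient X.Modules (ComplexShape.up ℤ)).obj I))) := h2
  infer_instance

/-- **Base change for open restriction**: `(Rf_* -)|_V ≅ R(f|_V)_* ((-)|_{f⁻¹V})`, as a natural
isomorphism of functors. -/
theorem nonempty_rpushRestrictIso [DCoh.HasRpush f] [DCoh.HasRpush (f ∣_ V)] :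
    Nonempty (DCoh.Rpush f ⋙ DCoh.restrictD V.ι ≅
      DCoh.restrictD (f ⁻¹ᵁ V).ι ⋙ DCoh.Rpush (f ∣_ V)) := by
  haveI := LpullRpushAdj.isRightDerivedFunctor_Rpush_comp f (DCoh.restrictD V.ι)
  haveI := isRightDerivedFunctor_of_isIso (hasKInjRes X)
    (DCoh.restrictD (f ⁻¹ᵁ V).ι ⋙ DCoh.Rpush (f ∣_ V)) (α₂ f V)
    (fun I hI => by haveI := hI; exact isIso_α₂_app f V I)
  exact ⟨Functor.rightDerivedUnique (DCoh.Rpush f ⋙ DCoh.restrictD V.ι)
    (DCoh.restrictD (f ⁻¹ᵁ V).ι ⋙ DCoh.Rpush (f ∣_ V))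
    (Functor.whiskerRight (LpullRpushAdj.β f) (DCoh.restrictD V.ι) ≫
      (Functor.associator _ _ _).hom) (α₂ f V)
    (HomotopyCategory.quasiIso X.Modules (ComplexShape.up ℤ))⟩

end BaseChange


/-- `RΓ(f⁻¹V, -|_{f⁻¹V}) ≅ RΓ(V, (Rf_* -)|_V)`. -/
theorem nonempty_restrict_RΓ_iso (V : Y.Opens) [DCoh.HasRpush f]
    [DCoh.HasRΓ (V : Scheme.{u})] [DCoh.HasRΓ (f ⁻¹ᵁ V : Scheme.{u})] :
    Nonempty (DCoh.restrictD (f ⁻¹ᵁ V).ι ⋙ DCoh.RΓ (f ⁻¹ᵁ V : Scheme.{u}) ≅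
      DCoh.Rpush f ⋙ DCoh.restrictD V.ι ⋙ DCoh.RΓ (V : Scheme.{u})) := by
  haveI : DCoh.HasRpush (f ∣_ V) :=
    hasRightDerivedFunctor (hasKInjRes ((f ⁻¹ᵁ V : X.Opens) : Scheme.{u})) _
  obtain ⟨e1⟩ := nonempty_Rpush_RΓ_iso (f ∣_ V)
  obtain ⟨e2⟩ := nonempty_rpushRestrictIso f V
  exact ⟨(Functor.isoWhiskerLeft (DCoh.restrictD (f ⁻¹ᵁ V).ι) e1.symm) ≪≫
    (Functor.associator _ _ _).symm ≪≫
    Functor.isoWhiskerRight e2.symm (DCoh.RΓ (V : Scheme.{u})) ≪≫ Functor.associator _ _ _⟩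

end Groth.Agent.Lib.Helper32.RGammaPush
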