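import Mathlib

/-!
# Elements of the homology of cochain complexes of modules (helper32)

Elementwise tools for `CochainComplex (ModuleCat R) ℤ`: cycles from elements, exactness of
`toCycles`/`homologyπ`, and an elementwise criterion for `QuasiIsoAt`/`QuasiIso`.
-/

set_option autoImplicit false
universe v u
open CategoryTheory CategoryTheory.Limits HomologicalComplex

namespace Groth.Agent.Lib.Helper32.ModCxElem

variable {R : Type u} [Ring R] (K : CochainComplex (ModuleCat.{v} R) ℤ)

lemma iCycles_injective (q : ℤ) : Function.Injective (K.iCycles q) :=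
  (ModuleCat.mono_iff_injective _).1 inferInstance

lemma homologyπ_surjective (q : ℤ) : Function.Surjective (K.homologyπ q) :=
  (ModuleCat.epi_iff_surjective _).1 inferInstance

lemma d_iCycles (q j : ℤ) (c : K.cycles q) : (K.d q j) ((K.iCycles q) c) = 0 := by
  have h1 := ConcreteCategory.congr_hom (K.iCycles_d q j) c
  rw [ConcreteCategory.comp_apply] at h1
  exact h1

lemma exists_cycle (q : ℤ) (z : K.X q) (hz : (K.d q (q + 1)) z = 0) :
    ∃ c : K.cycles q, (K.iCycles q) c = z := by
  have hex : (ShortComplex.mk (K.iCycles q) (K.d q (q + 1)) (K.iCycles_d q (q + 1))).Exact :=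
    ShortComplex.exact_of_f_is_kernel _ (K.cyclesIsKernel q (q + 1) (by simp))
  rw [ShortComplex.moduleCat_exact_iff] at hex
  exact hex z hz

lemma exists_of_homologyπ_eq_zero (q : ℤ) (c : K.cycles q) (hc : (K.homologyπ q) c = 0) :
    ∃ x : K.X (q - 1), (K.toCycles (q - 1) q) x = c := by
  have hex : (ShortComplex.mk (K.toCycles (q - 1) q) (K.homologyπ q)
      (K.toCycles_comp_homologyπ (q - 1) q)).Exact :=
    ShortComplex.exact_of_g_is_cokernel _ (K.homologyIsCokernel (q - 1) q (by simp))
  rw [ShortComplex.moduleCat_exact_iff] at hex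
  exact hex c hc

lemma iCycles_toCycles (q : ℤ) (x : K.X (q - 1)) :
    (K.iCycles q) ((K.toCycles (q - 1) q) x) = (K.d (q - 1) q) x := by
  have h1 := ConcreteCategory.congr_hom (K.toCycles_i (q - 1) q) x
  rw [ConcreteCategory.comp_apply] at h1
  exact h1

lemma homologyπ_toCycles (q : ℤ) (x : K.X (q - 1)) :
    (K.homologyπ q) ((K.toCycles (q - 1) q) x) = 0 := by
  have h1 := ConcreteCategory.congr_hom (K.toCycles_comp_homologyπ (q - 1) q) x
  rw [ConcreteCategory.comp_apply] at h1
  exact h1

/-- a cycle whose underlying element is a boundary has zero class -/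
lemma homologyπ_eq_zero_of_boundary (q : ℤ) (c : K.cycles q) (x : K.X (q - 1))
    (h : (K.d (q - 1) q) x = (K.iCycles q) c) : (K.homologyπ q) c = 0 := by
  have : c = (K.toCycles (q - 1) q) x := by
    apply iCycles_injective
    rw [iCycles_toCycles, h]
  rw [this, homologyπ_toCycles]

/-- a cycle with zero class is a boundary -/
lemma exists_boundary (q : ℤ) (c : K.cycles q) (hc : (K.homologyπ q) c = 0) :
    ∃ x : K.X (q - 1), (K.d (q - 1) q) x = (K.iCycles q) c := by
  obtain ⟨x, rfl⟩ := exists_of_homologyπ_eq_zero K q c hc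
  exact ⟨x, (iCycles_toCycles K q x).symm⟩

lemma exists_cycle' (q q' : ℤ) (h : q + 1 = q') (z : K.X q) (hz : (K.d q q') z = 0) :
    ∃ c : K.cycles q, (K.iCycles q) c = z := by
  subst h
  exact exists_cycle K q z hz

lemma exists_boundary' (p q : ℤ) (h : p + 1 = q) (c : K.cycles q) (hc : (K.homologyπ q) c = 0) :
    ∃ x : K.X p, (K.d p q) x = (K.iCycles q) c := by
  obtain rfl : p = q - 1 := by omega
  exact exists_boundary K q c hc

variable {K} {L : CochainComplex (ModuleCat.{v} R) ℤ} (φ : K ⟶ L)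

lemma iCycles_cyclesMap (q : ℤ) (c : K.cycles q) :
    (L.iCycles q) ((cyclesMap φ q) c) = (φ.f q) ((K.iCycles q) c) := by
  have h1 := ConcreteCategory.congr_hom (cyclesMap_i φ q) c
  rw [ConcreteCategory.comp_apply, ConcreteCategory.comp_apply] at h1
  exact h1

lemma homologyMap_homologyπ (q : ℤ) (c : K.cycles q) :
    (homologyMap φ q) ((K.homologyπ q) c) = (L.homologyπ q) ((cyclesMap φ q) c) := by
  have h1 := ConcreteCategory.congr_hom (homologyπ_naturality φ q) c
  rw [ConcreteCategory.comp_apply, ConcreteCategory.comp_apply] at h1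
  exact h1

/-- elementwise criterion for a quasi-isomorphism in a given degree -/
theorem quasiIsoAt_of_elementwise (q : ℤ)
    (hinj : ∀ z : K.X q, (K.d q (q + 1)) z = 0 → ∀ w : L.X (q - 1),
      (L.d (q - 1) q) w = (φ.f q) z → ∃ w' : K.X (q - 1), (K.d (q - 1) q) w' = z)
    (hsurj : ∀ z : L.X q, (L.d q (q + 1)) z = 0 → ∃ z' : K.X q, (K.d q (q + 1)) z' = 0 ∧
      ∃ w : L.X (q - 1), (L.d (q - 1) q) w = z - (φ.f q) z') : QuasiIsoAt φ q := by
  rw [quasiIsoAt_iff_isIso_homologyMap]
  rw [ConcreteCategory.isIso_iff_bijective]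
  constructor
  · rw [injective_iff_map_eq_zero]
    intro y hy
    obtain ⟨c, rfl⟩ := homologyπ_surjective K q y
    have h1 : (L.homologyπ q) ((cyclesMap φ q) c) = 0 := by
      rw [← homologyMap_homologyπ]
      exact hy
    obtain ⟨w, hw⟩ := exists_boundary L q _ h1
    rw [iCycles_cyclesMap] at hw
    obtain ⟨w', hw'⟩ := hinj ((K.iCycles q) c) (d_iCycles K q (q + 1) c) w hw
    exact homologyπ_eq_zero_of_boundary K q c w' hw'
  · intro y
    obtain ⟨c, rfl⟩ := homologyπ_surjective L q y
    obtain ⟨z', hz', w, hw⟩ := hsurj ((L.iCycles q) c) (d_iCycles L q (q + 1) c)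
    obtain ⟨c', hc'⟩ := exists_cycle K q z' hz'
    refine ⟨(K.homologyπ q) c', ?_⟩
    have hsub : (L.homologyπ q) (c - (cyclesMap φ q) c') = 0 := by
      apply homologyπ_eq_zero_of_boundary L q _ w
      rw [hw, map_sub, iCycles_cyclesMap, hc']
    have h2 : (homologyMap φ q) ((K.homologyπ q) c') = (L.homologyπ q) ((cyclesMap φ q) c') :=
      homologyMap_homologyπ φ q c'
    change (homologyMap φ q) ((K.homologyπ q) c') = (L.homologyπ q) c
    rw [h2]
    rw [map_sub, sub_eq_zero] at hsub
    exact hsub.symm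

theorem quasiIso_of_elementwise
    (hinj : ∀ (q : ℤ) (z : K.X q), (K.d q (q + 1)) z = 0 → ∀ w : L.X (q - 1),
      (L.d (q - 1) q) w = (φ.f q) z → ∃ w' : K.X (q - 1), (K.d (q - 1) q) w' = z)
    (hsurj : ∀ (q : ℤ) (z : L.X q), (L.d q (q + 1)) z = 0 → ∃ z' : K.X q, (K.d q (q + 1)) z' = 0 ∧
      ∃ w : L.X (q - 1), (L.d (q - 1) q) w = z - (φ.f q) z') : QuasiIso φ :=
  ⟨fun q => quasiIsoAt_of_elementwise φ q (hinj q) (hsurj q)⟩

/-- every homology class is the class of a cycle element -/
lemma exists_rep (K : CochainComplex (ModuleCat.{v} R) ℤ) (q : ℤ) (y : K.homology q) :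
    ∃ c : K.cycles q, (K.homologyπ q) c = y := homologyπ_surjective K q y

end Groth.Agent.Lib.Helper32.ModCxElem
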