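import Mathlib
import Groth.Agent.Lib.Helper6.DerivedAdj0

/-!
# Left derived functors via initial structured arrows / K-projective resolutions (helper32)

General part (`L : C ⥤ D` a localization functor for `W`): if every `StructuredArrow Y L` has an
initial object (`HasInitialArrows L`), then every `F : C ⥤ H` has a pointwise left derived functor,
any left derived functor `(LF, α)` is absolute (`isLeftDerivedFunctor_comp`), and `α` is an
isomorphism at objects `X₀` such that `mk (𝟙 (L.obj X₀))` is initial.

Derived category part: `A` abelian, `Qh : K(A) ⥤ D(A)`: K-projective complexes give initial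
structured arrows (`isInitialMkId`), so if `A` has K-projective resolutions (`HasKProjRes A`),
all of the above applies to `Qh`.
-/

set_option autoImplicit false

universe w v u
open CategoryTheory CategoryTheory.Limits

namespace Groth.Agent.Lib.Helper32.KProjDerived

section General

variable {C D H H' : Type*} [Category C] [Category D] [Category H] [Category H']

/-- Any functor preserves limits of diagrams whose shape has an initial object. -/
lemma preservesLimit_of_isInitial {J : Type*} [Category J] {X : J} (hX : IsInitial X)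
    (K : J ⥤ H) (G : H ⥤ H') : PreservesLimit K G :=
  preservesLimit_of_preserves_limit_cone (limitOfDiagramInitial hX K)
    (IsLimit.ofIsoLimit (limitOfDiagramInitial hX (K ⋙ G)) (Cone.ext (Iso.refl _) (by
      intro j
      simp)))

/-- Every structured arrow category `StructuredArrow Y L` has an initial object. -/
def HasInitialArrows (L : C ⥤ D) : Prop :=
  ∀ Y : D, ∃ (X : StructuredArrow Y L), Nonempty (IsInitial X)

variable {L : C ⥤ D}

lemma hasInitialArrows_of_resolutions (W : MorphismProperty C) [L.IsLocalization W]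
    (h : ∀ X : C, ∃ (X₀ : C) (w : X₀ ⟶ X), W w ∧
      Nonempty (IsInitial (StructuredArrow.mk (𝟙 (L.obj X₀))))) : HasInitialArrows L := by
  intro Y
  have := Localization.essSurj L W
  obtain ⟨X₀, w, hw, ⟨hX₀⟩⟩ := h (L.objPreimage Y)
  have := Localization.inverts L W w hw
  let e : L.obj X₀ ≅ Y := asIso (L.map w) ≪≫ L.objObjPreimageIso Y
  let E : StructuredArrow (L.obj X₀) L ≌ StructuredArrow Y L := StructuredArrow.mapIso e
  exact ⟨E.functor.obj _, ⟨IsInitial.isInitialObj E.functor _ hX₀⟩⟩

variable (hL : HasInitialArrows L)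
include hL

lemma hasPointwiseRightKanExtension (F : C ⥤ H) : L.HasPointwiseRightKanExtension F := by
  intro Y
  obtain ⟨X, ⟨hX⟩⟩ := hL Y
  exact ⟨_, limitOfDiagramInitial hX _⟩

lemma hasPointwiseLeftDerivedFunctor (W : MorphismProperty C) [L.IsLocalization W] (F : C ⥤ H) :
    F.HasPointwiseLeftDerivedFunctor W := by
  intro X
  rw [F.hasPointwiseLeftDerivedFunctorAt_iff L W]
  exact hasPointwiseRightKanExtension hL F _

lemma preservesRightKanExtension (F : C ⥤ H) (G : H ⥤ H') : G.PreservesRightKanExtension F L := by
  have := hasPointwiseRightKanExtension hL F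
  have : G.PreservesPointwiseRightKanExtension F L := by
    intro Y
    obtain ⟨X, ⟨hX⟩⟩ := hL Y
    have := preservesLimit_of_isInitial hX (StructuredArrow.proj Y L ⋙ F) G
    infer_instance
  infer_instance

/-- Absoluteness of left derived functors in the presence of initial structured arrows. -/
lemma isLeftDerivedFunctor_comp (W : MorphismProperty C) [L.IsLocalization W] {F : C ⥤ H}
    (LF : D ⥤ H) (α : L ⋙ LF ⟶ F) [LF.IsLeftDerivedFunctor α W] (G : H ⥤ H') :
    (LF ⋙ G).IsLeftDerivedFunctor ((Functor.associator _ _ _).inv ≫ Functor.whiskerRight α G) W := by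
  have := preservesRightKanExtension hL F G
  have := Functor.IsLeftDerivedFunctor.isRightKanExtension LF α W
  exact ⟨Functor.PreservesRightKanExtension.preserves LF α⟩

lemma isIso_app_of_isInitial (W : MorphismProperty C) [L.IsLocalization W] {F : C ⥤ H}
    (LF : D ⥤ H) (α : L ⋙ LF ⟶ F) [LF.IsLeftDerivedFunctor α W] (X₀ : C)
    (hX₀ : IsInitial (StructuredArrow.mk (𝟙 (L.obj X₀)))) : IsIso (α.app X₀) := by
  have := hasPointwiseRightKanExtension hL F
  have := Functor.IsLeftDerivedFunctor.isRightKanExtension LF α W
  have hc := Functor.isPointwiseRightKanExtensionOfIsRightKanExtension LF α (L.obj X₀)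
  have h := IsLimit.isIso_π_app_of_isInitial hc _ hX₀
  simp only [Functor.RightExtension.coneAt_π_app,
    Functor.RightExtension.mk_hom, StructuredArrow.mk_hom_eq_self,
    StructuredArrow.mk_right, CategoryTheory.Functor.map_id] at h
  have h2 : α.app X₀ = 𝟙 ((CostructuredArrow.left (Functor.RightExtension.mk LF α)).obj (L.obj X₀)) ≫
      α.app X₀ := (Category.id_comp _).symm
  rw [h2]
  exact h

end General

section DerivedCategory

variable {A : Type u} [Category.{v} A] [Abelian A] [HasDerivedCategory.{w} A]

/-- For a K-projective complex `P`, `(P, 𝟙)` is initial in the structured arrows under `Qh.obj P`. -/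
noncomputable def isInitialMkId (P : CochainComplex A ℤ) [P.IsKProjective] :
    IsInitial (StructuredArrow.mk (T := (DerivedCategory.Qh (C := A)))
      (𝟙 (DerivedCategory.Qh.obj ((HomotopyCategory.quotient A (ComplexShape.up ℤ)).obj P)))) := by
  refine IsInitial.ofUniqueHom (fun X => ?_) (fun X m => ?_)
  · exact StructuredArrow.homMk
      ((CochainComplex.IsKProjective.Qh_map_bijective P X.right).surjective X.hom).choose
      (by
        have := ((CochainComplex.IsKProjective.Qh_map_bijective P X.right).surjective X.hom).choose_spec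
        simpa using this)
  · ext
    apply (CochainComplex.IsKProjective.Qh_map_bijective P X.right).injective
    have h1 := ((CochainComplex.IsKProjective.Qh_map_bijective P X.right).surjective X.hom).choose_spec
    have h2 := StructuredArrow.w m
    simp only [StructuredArrow.homMk_right]
    rw [h1]
    simpa using h2

variable (A) in
/-- Every complex has a K-projective resolution. -/
def HasKProjRes : Prop :=
  ∀ K : CochainComplex A ℤ, ∃ (P : CochainComplex A ℤ) (f : P ⟶ K), P.IsKProjective ∧ QuasiIso f

lemma hasInitialArrows_Qh (h : HasKProjRes A) : HasInitialArrows (DerivedCategory.Qh (C := A)) := by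
  apply hasInitialArrows_of_resolutions (HomotopyCategory.quasiIso A (ComplexShape.up ℤ))
  intro X
  obtain ⟨K, rfl⟩ := HomotopyCategory.quotient_obj_surjective X
  obtain ⟨P, f, hP, hf⟩ := h K
  exact ⟨_, (HomotopyCategory.quotient A (ComplexShape.up ℤ)).map f,
    by rwa [HomotopyCategory.quotient_map_mem_quasiIso_iff], ⟨isInitialMkId P⟩⟩

end DerivedCategory

section Adjunction

variable {A B : Type u} [Category.{v} A] [Category.{v} B] [Abelian A] [Abelian B]
  [HasDerivedCategory.{w} A] [HasDerivedCategory.{w} B]
  {G₀ : A ⥤ B} {F₀ : B ⥤ A} (adj : G₀ ⊣ F₀) [G₀.Additive] [F₀.Additive]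
  [PreservesFiniteLimits F₀] [PreservesFiniteColimits F₀]

/-- If `A` has K-projective resolutions, `G₀ ⊣ F₀` with `F₀` exact, then any total left derived
functor `LG` of `G₀` is left adjoint to `F₀.mapDerivedCategory`. -/
noncomputable def derivedAdjunction (hA : HasKProjRes A)
    (LG : DerivedCategory A ⥤ DerivedCategory B)
    (α : DerivedCategory.Qh ⋙ LG ⟶ G₀.mapHomotopyCategory (ComplexShape.up ℤ) ⋙ DerivedCategory.Qh)
    [LG.IsLeftDerivedFunctor α (HomotopyCategory.quasiIso A (ComplexShape.up ℤ))] :
    LG ⊣ F₀.mapDerivedCategory := by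
  let e₁ : DerivedCategory.Qh ⋙ F₀.mapDerivedCategory ≅
      F₀.mapHomotopyCategory (ComplexShape.up ℤ) ⋙ DerivedCategory.Qh :=
    F₀.mapDerivedCategoryFactorsh
  have i1 : F₀.mapDerivedCategory.IsRightDerivedFunctor e₁.inv
      (HomotopyCategory.quasiIso B (ComplexShape.up ℤ)) :=
    Functor.isRightDerivedFunctor_of_inverts _ _ e₁
  have i2 : (LG ⋙ F₀.mapDerivedCategory).IsLeftDerivedFunctor
      ((Functor.associator _ _ _).inv ≫ Functor.whiskerRight α F₀.mapDerivedCategory)
      (HomotopyCategory.quasiIso A (ComplexShape.up ℤ)) :=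
    isLeftDerivedFunctor_comp (hasInitialArrows_Qh hA) _ LG α _
  let e' : DerivedCategory.Qh ⋙ (F₀.mapDerivedCategory ⋙ LG) ≅
      (F₀.mapHomotopyCategory (ComplexShape.up ℤ) ⋙ DerivedCategory.Qh) ⋙ LG :=
    (Functor.associator _ _ _).symm ≪≫ Functor.isoWhiskerRight e₁ LG
  have i3 : (F₀.mapDerivedCategory ⋙ LG).IsRightDerivedFunctor
      (Functor.whiskerRight e₁.inv LG ≫ (Functor.associator _ _ _).hom)
      (HomotopyCategory.quasiIso B (ComplexShape.up ℤ)) :=
    Functor.isRightDerivedFunctor_of_inverts _ _ e'
  exact (Groth.Agent.Lib.Helper6.DerivedAdj.adjHomotopyCategory adj (ComplexShape.up ℤ)).derived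
    (HomotopyCategory.quasiIso A (ComplexShape.up ℤ))
    (HomotopyCategory.quasiIso B (ComplexShape.up ℤ)) α e₁.inv

end Adjunction

end Groth.Agent.Lib.Helper32.KProjDerived
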