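import Mathlib
import Groth.Agent.Lib.Helper32.KInjTower
import Groth.Agent.Lib.Helper32.LeftRes

/-!
# K-projective resolutions (helper32)

Dual of `KInjTower.exists_kInjective_resolution`:
* `hasExactLimitsOfShape_discrete_op` : AB4 in `C` gives AB4* in `Cᵒᵖ`.
* `exists_kProjective_resolution` : abelian `C` with enough projectives and exact countable coproducts:
  every complex `K` has a quasi-isomorphism `P ⟶ K` from a K-projective complex.
* `exists_kProjective_resolution_moduleCat`.
-/

set_option autoImplicit false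

universe v u
open CategoryTheory CategoryTheory.Limits Opposite

namespace Groth.Agent.Lib.Helper32.KProjRes

section OpExact

variable {C : Type u} [Category.{v} C] [Abelian C] (J : Type) [HasColimitsOfShape (Discrete J) C]

/-- The cone over `F : Discrete J ⥤ Cᵒᵖ` with point `op (∐ unop F)`. -/
noncomputable def opCone (F : Discrete J ⥤ Cᵒᵖ) : Cone F where
  pt := op (∐ (fun j => (F.obj ⟨j⟩).unop))
  π := Discrete.natTrans (fun ⟨j⟩ => (Sigma.ι (fun j => (F.obj ⟨j⟩).unop) j).op)

noncomputable def isLimitOpCone (F : Discrete J ⥤ Cᵒᵖ) : IsLimit (opCone J F) where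
  lift s := (Limits.Sigma.desc (fun j => (s.π.app ⟨j⟩).unop)).op
  fac s := by
    rintro ⟨j⟩
    apply Quiver.Hom.unop_inj
    simp [opCone]
  uniq s m hm := by
    apply Quiver.Hom.unop_inj
    apply Limits.Sigma.hom_ext
    intro j
    have := congrArg Quiver.Hom.unop (hm ⟨j⟩)
    simp only [opCone, Discrete.natTrans_app, unop_comp, Quiver.Hom.unop_op] at this
    refine this.trans ?_
    exact (Limits.Sigma.ι_desc (f := fun j => (F.obj ⟨j⟩).unop) (P := s.pt.unop)
      (fun j => (s.π.app ⟨j⟩).unop) j).symm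

lemma mono_sigmaMap [HasExactColimitsOfShape (Discrete J) C] {X Y : J → C}
    (f : ∀ j, X j ⟶ Y j) [∀ j, Mono (f j)] : Mono (Limits.Sigma.map f) := by
  have : Mono (Discrete.natTrans (F := Discrete.functor X) (G := Discrete.functor Y)
      (fun ⟨j⟩ => f j)) := by
    apply (config := { allowSynthFailures := true }) NatTrans.mono_of_mono_app
    rintro ⟨j⟩
    exact inferInstanceAs (Mono (f j))
  exact inferInstanceAs (Mono ((colim (J := Discrete J) (C := C)).map
    (Discrete.natTrans (F := Discrete.functor X) (G := Discrete.functor Y) (fun ⟨j⟩ => f j))))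

lemma hasExactLimitsOfShape_discrete_op [HasExactColimitsOfShape (Discrete J) C]
    [HasLimitsOfShape (Discrete J) Cᵒᵖ] : HasExactLimitsOfShape (Discrete J) Cᵒᵖ := by
  have : Functor.PreservesEpimorphisms (lim (J := Discrete J) (C := Cᵒᵖ)) := ⟨fun {F G} α hα => by
    have hα' : ∀ j, Epi (α.app j) := fun j => inferInstance
    let f : ∀ j : J, (G.obj ⟨j⟩).unop ⟶ (F.obj ⟨j⟩).unop := fun j => (α.app ⟨j⟩).unop
    have : ∀ j, Mono (f j) := fun j => inferInstance
    have hm : Mono (Limits.Sigma.map f) := mono_sigmaMap J f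
    let eF : limit F ≅ op (∐ fun j => (F.obj ⟨j⟩).unop) :=
      IsLimit.conePointUniqueUpToIso (limit.isLimit F) (isLimitOpCone J F)
    let eG : limit G ≅ op (∐ fun j => (G.obj ⟨j⟩).unop) :=
      IsLimit.conePointUniqueUpToIso (limit.isLimit G) (isLimitOpCone J G)
    have hF : ∀ j, eF.hom ≫ (Limits.Sigma.ι (fun j => (F.obj ⟨j⟩).unop) j).op = limit.π F ⟨j⟩ :=
      fun j => IsLimit.conePointUniqueUpToIso_hom_comp (limit.isLimit F) (isLimitOpCone J F) ⟨j⟩
    have hG : ∀ j, eG.hom ≫ (Limits.Sigma.ι (fun j => (G.obj ⟨j⟩).unop) j).op = limit.π G ⟨j⟩ :=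
      fun j => IsLimit.conePointUniqueUpToIso_hom_comp (limit.isLimit G) (isLimitOpCone J G) ⟨j⟩
    have key : limMap α ≫ eG.hom = eF.hom ≫ (Limits.Sigma.map f).op := by
      apply (isLimitOpCone J G).hom_ext
      rintro ⟨j⟩
      change (limMap α ≫ eG.hom) ≫ (Limits.Sigma.ι (fun j => (G.obj ⟨j⟩).unop) j).op =
        (eF.hom ≫ (Limits.Sigma.map f).op) ≫ (Limits.Sigma.ι (fun j => (G.obj ⟨j⟩).unop) j).op
      rw [Category.assoc, hG, limMap_π, Category.assoc, ← op_comp, Limits.Sigma.ι_map, op_comp,
        ← Category.assoc, hF]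
      rfl
    have : limMap α = eF.hom ≫ (Limits.Sigma.map f).op ≫ eG.inv := by
      rw [← Category.assoc, ← key, Category.assoc, Iso.hom_inv_id, Category.comp_id]
    change Epi (limMap α)
    rw [this]
    infer_instance⟩
  exact hasExactLimitsOfShape_of_preservesEpi Cᵒᵖ (Discrete J)

end OpExact

section Res

variable {C : Type u} [Category.{v} C] [Abelian C] [EnoughProjectives C]
  [HasColimitsOfShape (Discrete ℕ) C] [HasExactColimitsOfShape (Discrete ℕ) C]
  [HasLimitsOfShape (Discrete ℕ) Cᵒᵖ]

set_option backward.isDefEq.respectTransparency.types false in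
set_option backward.defeqAttrib.useBackward true in
/-- Dual Spaltenstein: every complex in an abelian category with enough projectives and exact
countable coproducts has a K-projective resolution. -/
theorem exists_kProjective_resolution (K : CochainComplex C ℤ) :
    ∃ (P : CochainComplex C ℤ) (f : P ⟶ K), P.IsKProjective ∧ QuasiIso f := by
  haveI : HasExactLimitsOfShape (Discrete ℕ) Cᵒᵖ := hasExactLimitsOfShape_discrete_op ℕ
  let E := CochainComplex.opEquivalence C
  let K' := E.functor.obj (op K)
  obtain ⟨I', f', hI', hf'⟩ := KInjTower.exists_kInjective_resolution K'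
  let P := (E.inverse.obj I').unop
  let α₀ : P ⟶ (E.inverse.obj K').unop := (E.inverse.map f').unop
  let u : (E.inverse.obj K').unop ≅ K := (E.unitIso.app (op K)).unop
  refine ⟨P, α₀ ≫ u.hom, ?_, ?_⟩
  · apply CochainComplex.isKProjective_of_op
    haveI : ((𝟭 (CochainComplex Cᵒᵖ ℤ)).obj I').IsKInjective := hI'
    exact CochainComplex.isKInjective_of_iso (E.counitIso.app I').symm
  · have h1 : QuasiIso α₀ := LeftRes.quasiIso_unop_inverse_map f'
    infer_instance

end Res

section ModuleCat

variable (R : Type u) [Ring R]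

theorem exists_kProjective_resolution_moduleCat (K : CochainComplex (ModuleCat.{u} R) ℤ) :
    ∃ (P : CochainComplex (ModuleCat.{u} R) ℤ) (f : P ⟶ K), P.IsKProjective ∧ QuasiIso f :=
  exists_kProjective_resolution K

end ModuleCat

end Groth.Agent.Lib.Helper32.KProjRes
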