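import Groth.Prelude.Def_DDual2
import Groth.Agent.Lib.Helper32.KProjRes
import Groth.Agent.Lib.Helper32.KProjDerived

/-!
# `DRing.LBaseChange` and `DRing.LTensor` computed on K-projective complexes (helper32)

* `hasKProjRes R` : `ModuleCat R` has K-projective resolutions.
* `lbcCounit φ E : LBaseChange φ (Q E) ⟶ Q (E ⊗ B)` and `isIso_lbcCounit` for `E` K-projective;
  `lbcIso φ E`.
* `ltCounit A M E : LTensor A M (Q E) ⟶ Q (E ⊗ M)` and `isIso_ltCounit`; `ltIso`.
* `exists_kproj_iso K` : every object of `D(A)` is `Q P` with `P` K-projective.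
-/

set_option autoImplicit false

universe u
open CategoryTheory CategoryTheory.Limits MonoidalCategory
attribute [local instance] HasDerivedCategory.standard

namespace Groth.Agent.Lib.Helper32.LBC

open Groth.Agent.Lib.Helper32.KProjDerived

lemma hasKProjRes (R : Type u) [Ring R] : HasKProjRes (ModuleCat.{u} R) :=
  fun K => KProjRes.exists_kProjective_resolution_moduleCat R K

/-- Every object of `D(R)` is the image of a K-projective complex. -/
lemma exists_kproj_iso {R : Type u} [Ring R] (K : DerivedCategory (ModuleCat.{u} R)) :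
    ∃ (P : CochainComplex (ModuleCat.{u} R) ℤ), P.IsKProjective ∧
      Nonempty (DerivedCategory.Q.obj P ≅ K) := by
  obtain ⟨X, ⟨e⟩⟩ : ∃ X, Nonempty (DerivedCategory.Q.obj X ≅ K) :=
    ⟨_, ⟨DerivedCategory.Q.objObjPreimageIso K⟩⟩
  obtain ⟨P, f, hP, hf⟩ := hasKProjRes R X
  exact ⟨P, hP, ⟨asIso (DerivedCategory.Q.map f) ≪≫ e⟩⟩

/-- A bounded above complex of projective modules is K-projective. -/
lemma isKProjective_of_vanishesAbove {A : Type u} [CommRing A] (E : DRing.Cx A) (b : ℤ)
    (hb : DRing.VanishesAbove E b) (hP : ∀ i : ℤ, Module.Projective A (E.X i)) :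
    E.IsKProjective := by
  haveI : E.IsStrictlyLE b := by
    rw [CochainComplex.isStrictlyLE_iff]
    exact fun i hi => hb i hi
  haveI : ∀ n : ℤ, Projective (E.X n) := fun n => by
    have := hP n
    exact (IsProjective.iff_projective (R := A) (P := E.X n)).1 inferInstance
  exact CochainComplex.isKProjective_of_projective E b

section LBaseChange

variable {A B : Type u} [CommRing A] [CommRing B] (φ : A →+* B) [DRing.HasLBaseChange φ]

/-- Termwise extension of scalars on complexes. -/
noncomputable abbrev extCx : DRing.Cx A ⥤ DRing.Cx B :=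
  (ModuleCat.extendScalars.{u, u, u} φ).mapHomologicalComplex (ComplexShape.up ℤ)

/-- The canonical map `(Q E) ⊗^L_A B ⟶ Q (E ⊗_A B)`. -/
noncomputable def lbcCounit (E : DRing.Cx A) :
    (DRing.LBaseChange φ).obj (DRing.toD E) ⟶ DRing.toD ((extCx φ).obj E) :=
  ((DRing.baseChangeKh φ).totalLeftDerivedCounit DerivedCategory.Qh
    (HomotopyCategory.quasiIso (ModuleCat.{u} A) (ComplexShape.up ℤ))).app
      ((HomotopyCategory.quotient _ _).obj E)

lemma isIso_lbcCounit (E : DRing.Cx A) [E.IsKProjective] : IsIso (lbcCounit φ E) :=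
  isIso_app_of_isInitial (hasInitialArrows_Qh (hasKProjRes A))
    (HomotopyCategory.quasiIso (ModuleCat.{u} A) (ComplexShape.up ℤ))
    (DRing.LBaseChange φ) _ _ (isInitialMkId E)

/-- `(Q E) ⊗^L_A B ≅ Q (E ⊗_A B)` for `E` K-projective. -/
noncomputable def lbcIso (E : DRing.Cx A) [E.IsKProjective] :
    (DRing.LBaseChange φ).obj (DRing.toD E) ≅ DRing.toD ((extCx φ).obj E) :=
  haveI := isIso_lbcCounit φ E
  asIso (lbcCounit φ E)

end LBaseChange

section LTensor

variable (A : Type u) [CommRing A] (M : ModuleCat.{u} A) [DRing.HasLTensor A M]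

/-- Termwise tensor product with a module. -/
noncomputable abbrev tenCx : DRing.Cx A ⥤ DRing.Cx A :=
  (tensorRight M).mapHomologicalComplex (ComplexShape.up ℤ)

/-- The canonical map `(Q E) ⊗^L_A M ⟶ Q (E ⊗_A M)`. -/
noncomputable def ltCounit (E : DRing.Cx A) :
    (DRing.LTensor A M).obj (DRing.toD E) ⟶ DRing.toD ((tenCx A M).obj E) :=
  ((DRing.tensorKh A M).totalLeftDerivedCounit DerivedCategory.Qh
    (HomotopyCategory.quasiIso (ModuleCat.{u} A) (ComplexShape.up ℤ))).app
      ((HomotopyCategory.quotient _ _).obj E)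

lemma isIso_ltCounit (E : DRing.Cx A) [E.IsKProjective] : IsIso (ltCounit A M E) :=
  isIso_app_of_isInitial (hasInitialArrows_Qh (hasKProjRes A))
    (HomotopyCategory.quasiIso (ModuleCat.{u} A) (ComplexShape.up ℤ))
    (DRing.LTensor A M) _ _ (isInitialMkId E)

/-- `(Q E) ⊗^L_A M ≅ Q (E ⊗_A M)` for `E` K-projective. -/
noncomputable def ltIso (E : DRing.Cx A) [E.IsKProjective] :
    (DRing.LTensor A M).obj (DRing.toD E) ≅ DRing.toD ((tenCx A M).obj E) :=
  haveI := isIso_ltCounit A M E
  asIso (ltCounit A M E)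

end LTensor

end Groth.Agent.Lib.Helper32.LBC
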