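import Mathlib
import Groth.Prelude.Def_CxOX
import Groth.Agent.Lib.Helper32.RGammaColoc
import Groth.Agent.Lib.Helper32.TriRF

/-!
# Glueing objects of `D(O_X)` along two opens (helper32)
-/

set_option autoImplicit false
universe u
open CategoryTheory CategoryTheory.Limits AlgebraicGeometry TopologicalSpace Opposite ZeroObject

attribute [local instance] HasDerivedCategory.standard

namespace Groth.Agent.Lib.Helper32.GlueTwo

open Pretriangulated

section Abstract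

variable {C C₁ C₂ : Type*} [Category C] [Category C₁] [Category C₂]
  [Preadditive C] [HasZeroObject C] [HasShift C ℤ] [∀ n : ℤ, (shiftFunctor C n).Additive]
  [Pretriangulated C] [IsTriangulated C]
  [Preadditive C₁] [HasZeroObject C₁] [HasShift C₁ ℤ] [∀ n : ℤ, (shiftFunctor C₁ n).Additive]
  [Pretriangulated C₁]
  [Preadditive C₂] [HasZeroObject C₂] [HasShift C₂ ℤ] [∀ n : ℤ, (shiftFunctor C₂ n).Additive]
  [Pretriangulated C₂]

lemma nonempty_iso_of_shift (G : C ⥤ C₂) [G.CommShift ℤ] {F P : C}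
    (e : G.obj (F⟦(1 : ℤ)⟧) ≅ G.obj (P⟦(1 : ℤ)⟧)) : Nonempty (G.obj F ≅ G.obj P) := by
  let e' : (G.obj F)⟦(1 : ℤ)⟧ ≅ (G.obj P)⟦(1 : ℤ)⟧ :=
    ((G.commShiftIso (1 : ℤ)).app F).symm ≪≫ e ≪≫ (G.commShiftIso (1 : ℤ)).app P
  exact ⟨(shiftFunctor C₂ (1 : ℤ)).preimageIso e'⟩

/-- homotopy pullback glueing. -/
theorem exists_glue (G₁ : C ⥤ C₁) (G₂ : C ⥤ C₂) [G₁.CommShift ℤ] [G₁.IsTriangulated]
    [G₂.CommShift ℤ] [G₂.IsTriangulated] {PA PB T : C} (φA : PA ⟶ T) (φB : PB ⟶ T)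
    (hA : IsIso (G₂.map φA)) (hB : IsIso (G₁.map φB)) :
    ∃ F : C, Nonempty (G₁.obj F ≅ G₁.obj PA) ∧ Nonempty (G₂.obj F ≅ G₂.obj PB) := by
  obtain ⟨D, π, δ, hD⟩ := distinguished_cocone_triangle φB
  have hD1 : IsZero (G₁.obj D) :=
    (Triangle.isZero₃_iff_isIso₁ _ (G₁.map_distinguished _ hD)).mpr hB
  obtain ⟨F, p, r, hF⟩ := distinguished_cocone_triangle₁ (φA ≫ π)
  have hp : IsIso (G₁.map p) :=
    (Triangle.isZero₃_iff_isIso₁ _ (G₁.map_distinguished _ hF)).mp hD1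
  obtain ⟨D', π', δ', hD'⟩ := distinguished_cocone_triangle φA
  have hD'2 : IsZero (G₂.obj D') :=
    (Triangle.isZero₃_iff_isIso₁ _ (G₂.map_distinguished _ hD')).mpr hA
  have h₂₃ : Triangle.mk π δ (-φB⟦(1 : ℤ)⟧') ∈ distTriang C := rot_of_distTriang _ hD
  have h₁₃ : Triangle.mk (φA ≫ π) r (-p⟦(1 : ℤ)⟧') ∈ distTriang C := rot_of_distTriang _ hF
  let oct := Triangulated.someOctahedron rfl hD' h₂₃ h₁₃
  have hm := G₂.map_distinguished _ oct.mem
  have hm₃ : IsIso (G₂.map oct.m₃) := (Triangle.isZero₁_iff_isIso₂ _ hm).mp hD'2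
  refine ⟨F, ⟨@asIso _ _ _ _ _ hp⟩, ?_⟩
  exact nonempty_iso_of_shift G₂ (@asIso _ _ _ _ _ hm₃)

end Abstract

section Scheme

open DerivedCategory Groth.Agent.Lib.Helper5 Groth.Agent.Lib.Helper32.RGammaColoc
  Groth.Agent.Lib.Helper32.RGammaZ Groth.Agent.Lib.Helper32.RGammaTri
  Groth.Agent.Lib.Helper32.OpenSupp Groth.Agent.Lib.Helper32.OpenKInj
  Groth.Agent.Lib.Helper32.KInjDerived Scheme.Modules

/-- restriction of the unit `A ⟶ Rj_* j^* A` to the open is an isomorphism. -/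
lemma isIso_restrictD_unit {P X : Scheme.{u}} (j : P ⟶ X) [IsOpenImmersion j] [DCoh.HasRpush j]
    (A : DCoh.D X) : IsIso ((DCoh.restrictD j).map ((adjR j).unit.app A)) := by
  obtain ⟨ff⟩ := nonempty_fullyFaithful_Rpush j
  haveI := ff.full
  haveI := ff.faithful
  have h := (adjR j).left_triangle_components A
  haveI : IsIso ((DCoh.restrictD j).map ((adjR j).unit.app A) ≫
      (adjR j).counit.app ((DCoh.restrictD j).obj A)) := by
    rw [h]; exact IsIso.id _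
  exact IsIso.of_isIso_comp_right _ ((adjR j).counit.app ((DCoh.restrictD j).obj A))

/-- a morphism which is an isomorphism on a larger open is an isomorphism on a smaller one. -/
lemma isIso_restrictD_map_of_range_subset {P Q R : Scheme.{u}} (f : P ⟶ R) (b : Q ⟶ R)
    [IsOpenImmersion f] [IsOpenImmersion b] (hr : Set.range f ⊆ Set.range b) {G G' : DCoh.D R}
    (g : G ⟶ G') (hg : IsIso ((DCoh.restrictD b).map g)) : IsIso ((DCoh.restrictD f).map g) := by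
  obtain ⟨C, m₂, m₃, hT⟩ := distinguished_cocone_triangle g
  have hC : IsZero ((DCoh.restrictD b).obj C) :=
    (Triangle.isZero₃_iff_isIso₁ _ ((DCoh.restrictD b).map_distinguished _ hT)).mpr hg
  have hC' := isZero_restrictD_of_range_subset f b hr C hC
  exact (Triangle.isZero₃_iff_isIso₁ _ ((DCoh.restrictD f).map_distinguished _ hT)).mp hC'

/-- if `g` is an isomorphism over `f⁻¹ N` then `Rf_* g` is an isomorphism over `N`. -/
lemma isIso_restrictD_Rpush_map {P X : Scheme.{u}} (f : P ⟶ X) (N : X.Opens) [DCoh.HasRpush f]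
    {G G' : DCoh.D P} (g : G ⟶ G') (hg : IsIso ((DCoh.restrictD (f ⁻¹ᵁ N).ι).map g)) :
    IsIso ((DCoh.restrictD N.ι).map ((DCoh.Rpush f).map g)) := by
  obtain ⟨C, m₂, m₃, hT⟩ := distinguished_cocone_triangle g
  have hC : IsZero ((DCoh.restrictD (f ⁻¹ᵁ N).ι).obj C) :=
    (Triangle.isZero₃_iff_isIso₁ _
      ((DCoh.restrictD (f ⁻¹ᵁ N).ι).map_distinguished _ hT)).mpr hg
  obtain ⟨h, hh⟩ := Groth.Agent.Lib.Helper32.TriRF.exists_distinguished
    (Scheme.Modules.pushforward f) (DCoh.Rpush f) (LpullRpushAdj.β f) (hasKInjRes P) _ hT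
  have hC' := isZero_restrictD_Rpush' f N C hC
  exact (Triangle.isZero₃_iff_isIso₁ _ ((DCoh.restrictD N.ι).map_distinguished _ hh)).mp hC'

/-- `Rpush` of equal morphisms. -/
noncomputable def rpushCongr {X Y : Scheme.{u}} {f f' : X ⟶ Y} (h : f = f') [DCoh.HasRpush f]
    [DCoh.HasRpush f'] : DCoh.Rpush f ≅ DCoh.Rpush f' := by
  subst h
  exact Iso.refl _


lemma range_preimage_ι_subset {X : Scheme.{u}} (U V : X.Opens) (h : U ⊓ V ≤ U) :
    Set.range (U.ι ⁻¹ᵁ V).ι ⊆ Set.range (X.homOfLE h) := by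
  intro x hx
  have hx' : x ∈ (U.ι ⁻¹ᵁ V : Set U) := by
    rw [Scheme.Opens.range_ι] at hx
    exact hx
  have hxV : x.1 ∈ V := by
    have : U.ι x ∈ V := hx'
    simpa using this
  refine ⟨⟨x.1, ⟨x.2, hxV⟩⟩, ?_⟩
  rw [Scheme.homOfLE_apply']
  rfl

/-- glueing objects of the derived category along two opens. -/
theorem exists_glue_opens {X : Scheme.{u}} (U V : X.Opens) (A : DCoh.D (U : Scheme.{u}))
    (B : DCoh.D (V : Scheme.{u}))
    (c : (DCoh.restrictD (X.homOfLE (inf_le_left : U ⊓ V ≤ U))).obj A ≅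
      (DCoh.restrictD (X.homOfLE (inf_le_right : U ⊓ V ≤ V))).obj B) :
    ∃ F : DCoh.D X, Nonempty ((DCoh.restrictD U.ι).obj F ≅ A) ∧
      Nonempty ((DCoh.restrictD V.ι).obj F ≅ B) := by
  let a := X.homOfLE (inf_le_left : U ⊓ V ≤ U)
  let b := X.homOfLE (inf_le_right : U ⊓ V ≤ V)
  have hab : a ≫ U.ι = b ≫ V.ι := by rw [X.homOfLE_ι, X.homOfLE_ι]
  haveI : DCoh.HasRpush a := hasRightDerivedFunctor (hasKInjRes _) _
  haveI : DCoh.HasRpush b := hasRightDerivedFunctor (hasKInjRes _) _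
  haveI : DCoh.HasRpush U.ι := hasRightDerivedFunctor (hasKInjRes _) _
  haveI : DCoh.HasRpush V.ι := hasRightDerivedFunctor (hasKInjRes _) _
  haveI : DCoh.HasRpush (a ≫ U.ι) := hasRightDerivedFunctor (hasKInjRes _) _
  haveI : DCoh.HasRpush (b ≫ V.ι) := hasRightDerivedFunctor (hasKInjRes _) _
  let ηA := (adjR a).unit.app A
  let ηB := (adjR b).unit.app B
  obtain ⟨e1⟩ := nonempty_Rpush_comp_iso a U.ι ((DCoh.restrictD a).obj A)
  obtain ⟨e2⟩ := nonempty_Rpush_comp_iso b V.ι ((DCoh.restrictD b).obj B)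
  let ψ : (DCoh.Rpush V.ι).obj ((DCoh.Rpush b).obj ((DCoh.restrictD b).obj B)) ≅
      (DCoh.Rpush U.ι).obj ((DCoh.Rpush a).obj ((DCoh.restrictD a).obj A)) :=
    e2 ≪≫ (rpushCongr hab.symm).app _ ≪≫ (DCoh.Rpush (a ≫ U.ι)).mapIso c.symm ≪≫ e1.symm
  let φA := (DCoh.Rpush U.ι).map ηA
  let φB := (DCoh.Rpush V.ι).map ηB ≫ ψ.hom
  have hA : IsIso ((DCoh.restrictD V.ι).map φA) := by
    apply isIso_restrictD_Rpush_map U.ι V ηA
    exact isIso_restrictD_map_of_range_subset (U.ι ⁻¹ᵁ V).ι a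
      (range_preimage_ι_subset U V _) ηA (isIso_restrictD_unit a A)
  have hB : IsIso ((DCoh.restrictD U.ι).map φB) := by
    have h1 : IsIso ((DCoh.restrictD U.ι).map ((DCoh.Rpush V.ι).map ηB)) := by
      apply isIso_restrictD_Rpush_map V.ι U ηB
      have hVU : V ⊓ U ≤ V := inf_le_left
      have hr : Set.range (V.ι ⁻¹ᵁ U).ι ⊆ Set.range b := by
        intro x hx
        obtain ⟨y, hy⟩ := range_preimage_ι_subset V U hVU hx
        refine ⟨⟨y.1, ⟨y.2.2, y.2.1⟩⟩, ?_⟩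
        rw [← hy]
        apply Subtype.ext
        rw [Scheme.homOfLE_apply, Scheme.homOfLE_apply]
      exact isIso_restrictD_map_of_range_subset (V.ι ⁻¹ᵁ U).ι b hr ηB (isIso_restrictD_unit b B)
    have h2 : (DCoh.restrictD U.ι).map φB =
        (DCoh.restrictD U.ι).map ((DCoh.Rpush V.ι).map ηB) ≫ (DCoh.restrictD U.ι).map ψ.hom :=
      Functor.map_comp _ _ _
    rw [h2]
    infer_instance
  obtain ⟨F, ⟨eU⟩, ⟨eV⟩⟩ := exists_glue (DCoh.restrictD U.ι) (DCoh.restrictD V.ι) φA φB hA hB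
  obtain ⟨cU⟩ := nonempty_restrictD_Rpush_iso U A
  obtain ⟨cV⟩ := nonempty_restrictD_Rpush_iso V B
  exact ⟨F, ⟨eU ≪≫ cU⟩, ⟨eV ≪≫ cV⟩⟩

end Scheme

end Groth.Agent.Lib.Helper32.GlueTwo
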