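import Mathlib

/-!
# Degreewise split short exact sequences of complexes and K-injectivity (helper32)
-/

set_option autoImplicit false
universe v u
open CategoryTheory CategoryTheory.Limits CochainComplex

namespace Groth.Agent.Lib.Helper32.SplitSESKInj

variable {A : Type u} [Category.{v} A] [Abelian A]
variable (S : ShortComplex (CochainComplex A ℤ)) (hS : S.ShortExact)

include hS in
/-- degreewise splittings from injectivity of the terms of `X₁` -/
noncomputable def splittingOfInjective (h : ∀ n, Injective (S.X₁.X n)) (n : ℤ) :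
    (S.map (HomologicalComplex.eval A (ComplexShape.up ℤ) n)).Splitting := by
  have hj := hS.map_of_exact (HomologicalComplex.eval A (ComplexShape.up ℤ) n)
  haveI := hj.mono_f
  haveI := hj.epi_g
  haveI : Injective (S.map (HomologicalComplex.eval A (ComplexShape.up ℤ) n)).X₁ := h n
  exact ShortComplex.Splitting.ofExactOfRetraction _ hj.exact
    (Injective.factorThru (𝟙 _) (S.map (HomologicalComplex.eval A (ComplexShape.up ℤ) n)).f)
    (Injective.comp_factorThru _ _) inferInstance

include hS in
/-- degreewise splittings from degreewise sections of `g` -/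
noncomputable def splittingOfSection (σ : ∀ n, S.X₃.X n ⟶ S.X₂.X n)
    (hσ : ∀ n, σ n ≫ S.g.f n = 𝟙 _) (n : ℤ) :
    (S.map (HomologicalComplex.eval A (ComplexShape.up ℤ) n)).Splitting := by
  have hj := hS.map_of_exact (HomologicalComplex.eval A (ComplexShape.up ℤ) n)
  haveI := hj.mono_f
  exact ShortComplex.Splitting.ofExactOfSection _ hj.exact (σ n) (hσ n) inferInstance

variable (spl : ∀ n, (S.map (HomologicalComplex.eval A (ComplexShape.up ℤ) n)).Splitting)

include spl in
theorem isKInjective_X₁ (h₂ : S.X₂.IsKInjective) (h₃ : S.X₃.IsKInjective) : S.X₁.IsKInjective := by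
  have hT := (HomotopyCategory.distinguished_iff_iso_trianglehOfDegreewiseSplit _).2
    ⟨S, spl, ⟨Iso.refl _⟩⟩
  rw [isKInjective_iff_rightOrthogonal]
  exact ObjectProperty.ext_of_isTriangulatedClosed₁ _ _ hT
    (IsKInjective.rightOrthogonal S.X₂) (IsKInjective.rightOrthogonal S.X₃)

include spl in
theorem isKInjective_X₃ (h₁ : S.X₁.IsKInjective) (h₂ : S.X₂.IsKInjective) : S.X₃.IsKInjective := by
  have hT := (HomotopyCategory.distinguished_iff_iso_trianglehOfDegreewiseSplit _).2
    ⟨S, spl, ⟨Iso.refl _⟩⟩
  rw [isKInjective_iff_rightOrthogonal]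
  exact ObjectProperty.ext_of_isTriangulatedClosed₃ _ _ hT
    (IsKInjective.rightOrthogonal S.X₁) (IsKInjective.rightOrthogonal S.X₂)

lemma injective_of_retract {X Y : A} (i : X ⟶ Y) (r : Y ⟶ X) (h : i ≫ r = 𝟙 X) [Injective Y] :
    Injective X where
  factors {U V} g f _ := ⟨Injective.factorThru (g ≫ i) f ≫ r, by
    rw [← Category.assoc, Injective.comp_factorThru, Category.assoc, h, Category.comp_id]⟩

include spl in
lemma injective_X₁ (n : ℤ) (h : Injective (S.X₂.X n)) : Injective (S.X₁.X n) :=
  @injective_of_retract _ _ _ (S.X₁.X n) (S.X₂.X n) (S.f.f n) (spl n).r (spl n).f_r h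

include spl in
lemma injective_X₃ (n : ℤ) (h : Injective (S.X₂.X n)) : Injective (S.X₃.X n) :=
  @injective_of_retract _ _ _ (S.X₃.X n) (S.X₂.X n) (spl n).s (S.g.f n) (spl n).s_g h

end Groth.Agent.Lib.Helper32.SplitSESKInj
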