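import Mathlib

/-!
# Beilinson-type dévissage for full faithfulness of triangulated functors (helper32)

`Psi G K L` : `G` induces a bijection `Hom(K, L) → Hom(G K, G L)`.
`Phi G K L` : `Psi G (K⟦m⟧) (L⟦n⟧)` for all `m n`.
Both are stable under isomorphisms, `Phi` is stable under shifts and satisfies two-out-of-three
in each variable along distinguished triangles.
-/

set_option autoImplicit false
set_option linter.unusedSectionVars false

open CategoryTheory CategoryTheory.Limits CategoryTheory.Pretriangulated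

namespace Groth.Agent.Lib.Helper32.Beilinson

variable {C D : Type*} [Category C] [Category D] [Preadditive C] [Preadditive D]
  [HasZeroObject C] [HasZeroObject D] [HasShift C ℤ] [HasShift D ℤ]
  [∀ n : ℤ, (shiftFunctor C n).Additive] [∀ n : ℤ, (shiftFunctor D n).Additive]
  [Pretriangulated C] [Pretriangulated D]
  (G : C ⥤ D)

/-- `G` induces a bijection `Hom(K, L) → Hom(G K, G L)`. -/
def Psi (K L : C) : Prop := Function.Bijective (fun φ : K ⟶ L => G.map φ)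

variable {G}

lemma Psi.of_iso {K K' L L' : C} (e₁ : K ≅ K') (e₂ : L ≅ L') (h : Psi G K L) : Psi G K' L' := by
  constructor
  · intro φ₁ φ₂ (hφ : G.map φ₁ = G.map φ₂)
    have h1 : e₁.hom ≫ φ₁ ≫ e₂.inv = e₁.hom ≫ φ₂ ≫ e₂.inv := by
      apply h.1
      change G.map (e₁.hom ≫ φ₁ ≫ e₂.inv) = G.map (e₁.hom ≫ φ₂ ≫ e₂.inv)
      simp only [Functor.map_comp, hφ]
    have h2 := congrArg (fun t => e₁.inv ≫ t ≫ e₂.hom) h1
    simpa using h2
  · intro ψ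
    obtain ⟨φ, hφ⟩ := h.2 (G.map e₁.hom ≫ ψ ≫ G.map e₂.inv)
    refine ⟨e₁.inv ≫ φ ≫ e₂.hom, ?_⟩
    change G.map φ = _ at hφ
    change G.map (e₁.inv ≫ φ ≫ e₂.hom) = ψ
    simp only [Functor.map_comp, hφ, Category.assoc]
    rw [← G.map_comp, e₂.inv_hom_id, G.map_id, Category.comp_id, ← G.map_comp_assoc,
      e₁.inv_hom_id, G.map_id, Category.id_comp]

variable [G.CommShift ℤ]

lemma map_shift {K L : C} (φ : K ⟶ L) (a : ℤ) :
    G.map (φ⟦a⟧') = (G.commShiftIso a).hom.app K ≫ (G.map φ)⟦a⟧' ≫ (G.commShiftIso a).inv.app L := by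
  have := (G.commShiftIso a).hom.naturality φ
  dsimp at this
  rw [← reassoc_of% this, Iso.hom_inv_id_app]
  exact (Category.comp_id _).symm

lemma Psi.shift {K L : C} (a : ℤ) (h : Psi G K L) : Psi G (K⟦a⟧) (L⟦a⟧) := by
  constructor
  · intro φ₁ φ₂ (hφ : G.map φ₁ = G.map φ₂)
    obtain ⟨f₁, rfl⟩ := (shiftFunctor C a).map_surjective φ₁
    obtain ⟨f₂, rfl⟩ := (shiftFunctor C a).map_surjective φ₂
    rw [map_shift, map_shift] at hφ
    have h1 : (G.map f₁)⟦a⟧' = (G.map f₂)⟦a⟧' := by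
      have := congrArg (fun t => (G.commShiftIso a).inv.app K ≫ t ≫ (G.commShiftIso a).hom.app L) hφ
      simpa using this
    have h2 : G.map f₁ = G.map f₂ := (shiftFunctor D a).map_injective h1
    rw [h.1 h2]
  · intro ψ
    obtain ⟨ψ₀, hψ₀⟩ := (shiftFunctor D a).map_surjective
      ((G.commShiftIso a).inv.app K ≫ ψ ≫ (G.commShiftIso a).hom.app L)
    obtain ⟨φ, hφ⟩ := h.2 ψ₀
    change G.map φ = ψ₀ at hφ
    refine ⟨φ⟦a⟧', ?_⟩
    change G.map (φ⟦a⟧') = ψ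
    rw [map_shift, hφ, hψ₀]
    simp


section Exact

omit [Category D] [Preadditive D] [HasZeroObject D] [HasShift D ℤ]
  [∀ n : ℤ, (shiftFunctor D n).Additive] [Pretriangulated D] in
lemma exact_rightComp₁₂ (T : Triangle C) (hT : T ∈ distTriang C) (K : C) :
    Function.Exact (Preadditive.rightComp K T.mor₁) (Preadditive.rightComp K T.mor₂) := by
  intro y
  constructor
  · intro hy
    obtain ⟨x, hx⟩ := Triangle.coyoneda_exact₂ T hT y hy
    exact ⟨x, hx.symm⟩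
  · rintro ⟨x, rfl⟩
    change (x ≫ T.mor₁) ≫ T.mor₂ = 0
    rw [Category.assoc, comp_distTriang_mor_zero₁₂ T hT, comp_zero]

lemma exact_rightComp₂₃ (T : Triangle C) (hT : T ∈ distTriang C) (K : C) {Z : C}
    (e : T.obj₁⟦(1 : ℤ)⟧ ≅ Z) (m : T.obj₃ ⟶ Z) (hm : m = T.mor₃ ≫ e.hom) :
    Function.Exact (Preadditive.rightComp K T.mor₂) (Preadditive.rightComp K m) := by
  subst hm
  intro y
  constructor
  · intro hy
    change y ≫ T.mor₃ ≫ e.hom = 0 at hy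
    have hy' : y ≫ T.mor₃ = 0 := by
      have := congrArg (fun t => t ≫ e.inv) hy
      simpa using this
    obtain ⟨x, hx⟩ := Triangle.coyoneda_exact₃ T hT y hy'
    exact ⟨x, hx.symm⟩
  · rintro ⟨x, rfl⟩
    change (x ≫ T.mor₂) ≫ T.mor₃ ≫ e.hom = 0
    rw [Category.assoc, reassoc_of% (comp_distTriang_mor_zero₂₃ T hT), zero_comp, comp_zero]

lemma exact_rightComp₃₁ (T : Triangle C) (hT : T ∈ distTriang C) (K : C) {Z Z' : C}
    (e : T.obj₁⟦(1 : ℤ)⟧ ≅ Z) (e' : T.obj₂⟦(1 : ℤ)⟧ ≅ Z') (m : T.obj₃ ⟶ Z)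
    (hm : m = T.mor₃ ≫ e.hom) (n : Z ⟶ Z') (hn : e.hom ≫ n = T.mor₁⟦(1 : ℤ)⟧' ≫ e'.hom) :
    Function.Exact (Preadditive.rightComp K m) (Preadditive.rightComp K n) := by
  subst hm
  intro y
  constructor
  · intro hy
    change y ≫ n = 0 at hy
    have hy' : (y ≫ e.inv) ≫ T.mor₁⟦(1 : ℤ)⟧' = 0 := by
      have h1 : T.mor₁⟦(1 : ℤ)⟧' = e.hom ≫ n ≫ e'.inv := by
        rw [← Category.assoc, hn, Category.assoc, e'.hom_inv_id, Category.comp_id]
      rw [h1, Category.assoc, e.inv_hom_id_assoc, reassoc_of% hy, zero_comp]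
    obtain ⟨x, hx⟩ := Triangle.coyoneda_exact₁ T hT (y ≫ e.inv) hy'
    refine ⟨x, ?_⟩
    change x ≫ T.mor₃ ≫ e.hom = y
    rw [← Category.assoc, ← hx, Category.assoc, e.inv_hom_id, Category.comp_id]
  · rintro ⟨x, rfl⟩
    change (x ≫ T.mor₃ ≫ e.hom) ≫ n = 0
    rw [Category.assoc, Category.assoc, hn, reassoc_of% (comp_distTriang_mor_zero₃₁ T hT),
      zero_comp, comp_zero]

lemma yoneda_exact₁ (T : Triangle C) (hT : T ∈ distTriang C) {X : C}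
    (f : T.obj₁⟦(1 : ℤ)⟧ ⟶ X) (hf : T.mor₃ ≫ f = 0) :
    ∃ g : T.obj₂⟦(1 : ℤ)⟧ ⟶ X, f = T.mor₁⟦(1 : ℤ)⟧' ≫ g := by
  obtain ⟨g, hg⟩ : ∃ g : T.obj₂⟦(1 : ℤ)⟧ ⟶ X, f = (-T.mor₁⟦(1 : ℤ)⟧') ≫ g :=
    Triangle.yoneda_exact₃ T.rotate (rot_of_distTriang _ hT) f hf
  refine ⟨-g, ?_⟩
  rw [hg, Preadditive.neg_comp, Preadditive.comp_neg]

lemma exact_leftComp₂₁ (T : Triangle C) (hT : T ∈ distTriang C) (L : C) :
    Function.Exact (Preadditive.leftComp L T.mor₂) (Preadditive.leftComp L T.mor₁) := by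
  intro y
  constructor
  · intro hy
    obtain ⟨x, hx⟩ := Triangle.yoneda_exact₂ T hT y hy
    exact ⟨x, hx.symm⟩
  · rintro ⟨x, rfl⟩
    change T.mor₁ ≫ T.mor₂ ≫ x = 0
    rw [reassoc_of% (comp_distTriang_mor_zero₁₂ T hT), zero_comp]

lemma exact_leftComp₃₂ (T : Triangle C) (hT : T ∈ distTriang C) (L : C) {Z : C}
    (e : T.obj₁⟦(1 : ℤ)⟧ ≅ Z) (m : T.obj₃ ⟶ Z) (hm : m = T.mor₃ ≫ e.hom) :
    Function.Exact (Preadditive.leftComp L m) (Preadditive.leftComp L T.mor₂) := by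
  subst hm
  intro y
  constructor
  · intro hy
    obtain ⟨g, hg⟩ := Triangle.yoneda_exact₃ T hT y hy
    refine ⟨e.inv ≫ g, ?_⟩
    change (T.mor₃ ≫ e.hom) ≫ e.inv ≫ g = y
    rw [Category.assoc, e.hom_inv_id_assoc, hg]
  · rintro ⟨x, rfl⟩
    change T.mor₂ ≫ (T.mor₃ ≫ e.hom) ≫ x = 0
    rw [Category.assoc, reassoc_of% (comp_distTriang_mor_zero₂₃ T hT), zero_comp]

lemma exact_leftComp₁₃ (T : Triangle C) (hT : T ∈ distTriang C) (L : C) {Z Z' : C}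
    (e : T.obj₁⟦(1 : ℤ)⟧ ≅ Z) (e' : T.obj₂⟦(1 : ℤ)⟧ ≅ Z') (m : T.obj₃ ⟶ Z)
    (hm : m = T.mor₃ ≫ e.hom) (n : Z ⟶ Z') (hn : e.hom ≫ n = T.mor₁⟦(1 : ℤ)⟧' ≫ e'.hom) :
    Function.Exact (Preadditive.leftComp L n) (Preadditive.leftComp L m) := by
  subst hm
  intro y
  constructor
  · intro hy
    change (T.mor₃ ≫ e.hom) ≫ y = 0 at hy
    rw [Category.assoc] at hy
    obtain ⟨g, hg⟩ := yoneda_exact₁ T hT (e.hom ≫ y) hy
    refine ⟨e'.inv ≫ g, ?_⟩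
    change n ≫ e'.inv ≫ g = y
    have h1 : n = e.inv ≫ T.mor₁⟦(1 : ℤ)⟧' ≫ e'.hom := by
      rw [← hn, e.inv_hom_id_assoc]
    rw [h1, Category.assoc, Category.assoc, e'.hom_inv_id_assoc, ← hg, e.inv_hom_id_assoc]
  · rintro ⟨x, rfl⟩
    change (T.mor₃ ≫ e.hom) ≫ n ≫ x = 0
    rw [Category.assoc, reassoc_of% hn, reassoc_of% (comp_distTriang_mor_zero₃₁ T hT), zero_comp]

end Exact


section Five

variable [G.IsTriangulated]

omit [G.IsTriangulated] in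
lemma mor₃_aux (T : Triangle C) :
    G.map T.mor₃ = (G.mapTriangle.obj T).mor₃ ≫
      ((G.commShiftIso (1 : ℤ)).app T.obj₁).symm.hom := by
  change G.map T.mor₃ = (G.map T.mor₃ ≫ (G.commShiftIso (1 : ℤ)).hom.app T.obj₁) ≫
    (G.commShiftIso (1 : ℤ)).inv.app T.obj₁
  rw [Category.assoc, Iso.hom_inv_id_app]
  exact (Category.comp_id _).symm

/-- Five lemma in the second variable (third vertex of a distinguished triangle). -/
lemma Psi.obj₃_right (T : Triangle C) (hT : T ∈ distTriang C) (K : C)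
    (h₁ : Psi G K T.obj₁) (h₂ : Psi G K T.obj₂) (h₁' : Psi G K (T.obj₁⟦(1 : ℤ)⟧))
    (h₂' : Psi G K (T.obj₂⟦(1 : ℤ)⟧)) : Psi G K T.obj₃ := by
  have hT' := G.map_distinguished T hT
  refine AddMonoidHom.bijective_of_surjective_of_bijective_of_bijective_of_injective
    (Preadditive.rightComp K T.mor₁) (Preadditive.rightComp K T.mor₂)
    (Preadditive.rightComp K T.mor₃) (Preadditive.rightComp K (T.mor₁⟦(1 : ℤ)⟧'))
    (Preadditive.rightComp (G.obj K) (G.map T.mor₁)) (Preadditive.rightComp _ (G.map T.mor₂))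
    (Preadditive.rightComp _ (G.map T.mor₃)) (Preadditive.rightComp _ (G.map (T.mor₁⟦(1 : ℤ)⟧')))
    G.mapAddHom G.mapAddHom G.mapAddHom G.mapAddHom G.mapAddHom
    ?_ ?_ ?_ ?_ ?_ ?_ ?_ ?_ ?_ ?_ h₁.2 h₂ h₁' h₂'.1
  · ext x; exact (G.map_comp _ _).symm
  · ext x; exact (G.map_comp _ _).symm
  · ext x; exact (G.map_comp _ _).symm
  · ext x; exact (G.map_comp _ _).symm
  · exact exact_rightComp₁₂ T hT K
  · exact exact_rightComp₂₃ T hT K (Iso.refl _) T.mor₃ (Category.comp_id _).symm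
  · exact exact_rightComp₃₁ T hT K (Iso.refl _) (Iso.refl _) T.mor₃ (Category.comp_id _).symm
      (T.mor₁⟦(1 : ℤ)⟧') (by simp)
  · exact exact_rightComp₁₂ _ hT' (G.obj K)
  · exact exact_rightComp₂₃ _ hT' (G.obj K) ((G.commShiftIso (1 : ℤ)).app T.obj₁).symm
      (G.map T.mor₃) (mor₃_aux T)
  · refine exact_rightComp₃₁ _ hT' (G.obj K) ((G.commShiftIso (1 : ℤ)).app T.obj₁).symm
      ((G.commShiftIso (1 : ℤ)).app T.obj₂).symm (G.map T.mor₃) (mor₃_aux T)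
      (G.map (T.mor₁⟦(1 : ℤ)⟧')) ?_
    rw [map_shift]
    change (G.commShiftIso (1 : ℤ)).inv.app T.obj₁ ≫ (G.commShiftIso (1 : ℤ)).hom.app T.obj₁ ≫
      (G.map T.mor₁)⟦(1 : ℤ)⟧' ≫ (G.commShiftIso (1 : ℤ)).inv.app T.obj₂ =
      (G.map T.mor₁)⟦(1 : ℤ)⟧' ≫ (G.commShiftIso (1 : ℤ)).inv.app T.obj₂
    rw [Iso.inv_hom_id_app_assoc]

/-- Five lemma in the first variable (third vertex of a distinguished triangle). -/
lemma Psi.obj₃_left (T : Triangle C) (hT : T ∈ distTriang C) (L : C)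
    (h₁ : Psi G T.obj₁ L) (h₂ : Psi G T.obj₂ L) (h₁' : Psi G (T.obj₁⟦(1 : ℤ)⟧) L)
    (h₂' : Psi G (T.obj₂⟦(1 : ℤ)⟧) L) : Psi G T.obj₃ L := by
  have hT' := G.map_distinguished T hT
  refine AddMonoidHom.bijective_of_surjective_of_bijective_of_bijective_of_injective
    (Preadditive.leftComp L (T.mor₁⟦(1 : ℤ)⟧')) (Preadditive.leftComp L T.mor₃)
    (Preadditive.leftComp L T.mor₂) (Preadditive.leftComp L T.mor₁)
    (Preadditive.leftComp (G.obj L) (G.map (T.mor₁⟦(1 : ℤ)⟧')))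
    (Preadditive.leftComp _ (G.map T.mor₃))
    (Preadditive.leftComp _ (G.map T.mor₂)) (Preadditive.leftComp _ (G.map T.mor₁))
    G.mapAddHom G.mapAddHom G.mapAddHom G.mapAddHom G.mapAddHom
    ?_ ?_ ?_ ?_ ?_ ?_ ?_ ?_ ?_ ?_ h₂'.2 h₁' h₂ h₁.1
  · ext x; exact (G.map_comp _ _).symm
  · ext x; exact (G.map_comp _ _).symm
  · ext x; exact (G.map_comp _ _).symm
  · ext x; exact (G.map_comp _ _).symm
  · exact exact_leftComp₁₃ T hT L (Iso.refl _) (Iso.refl _) T.mor₃ (Category.comp_id _).symm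
      (T.mor₁⟦(1 : ℤ)⟧') (by simp)
  · exact exact_leftComp₃₂ T hT L (Iso.refl _) T.mor₃ (Category.comp_id _).symm
  · exact exact_leftComp₂₁ T hT L
  · refine exact_leftComp₁₃ _ hT' (G.obj L) ((G.commShiftIso (1 : ℤ)).app T.obj₁).symm
      ((G.commShiftIso (1 : ℤ)).app T.obj₂).symm (G.map T.mor₃) (mor₃_aux T)
      (G.map (T.mor₁⟦(1 : ℤ)⟧')) ?_
    rw [map_shift]
    change (G.commShiftIso (1 : ℤ)).inv.app T.obj₁ ≫ (G.commShiftIso (1 : ℤ)).hom.app T.obj₁ ≫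
      (G.map T.mor₁)⟦(1 : ℤ)⟧' ≫ (G.commShiftIso (1 : ℤ)).inv.app T.obj₂ =
      (G.map T.mor₁)⟦(1 : ℤ)⟧' ≫ (G.commShiftIso (1 : ℤ)).inv.app T.obj₂
    rw [Iso.inv_hom_id_app_assoc]
  · exact exact_leftComp₃₂ _ hT' (G.obj L) ((G.commShiftIso (1 : ℤ)).app T.obj₁).symm
      (G.map T.mor₃) (mor₃_aux T)
  · exact exact_leftComp₂₁ _ hT' (G.obj L)

/-- Surjectivity at the third vertex, for an element effaced by `T.mor₂`. -/
lemma surj_of_efface (T : Triangle C) (hT : T ∈ distTriang C) (L : C)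
    (h₁' : Function.Surjective (fun φ : T.obj₁⟦(1 : ℤ)⟧ ⟶ L => G.map φ))
    (t : G.obj T.obj₃ ⟶ G.obj L) (ht : G.map T.mor₂ ≫ t = 0) :
    ∃ ξ : T.obj₃ ⟶ L, G.map ξ = t := by
  have hT' := G.map_distinguished T hT
  have hex := exact_leftComp₃₂ _ hT' (G.obj L) ((G.commShiftIso (1 : ℤ)).app T.obj₁).symm
    (G.map T.mor₃) (mor₃_aux T)
  obtain ⟨t₁, ht₁⟩ := (hex t).1 ht
  obtain ⟨σ, hσ⟩ := h₁' t₁
  change G.map σ = t₁ at hσ
  change G.map T.mor₃ ≫ t₁ = t at ht₁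
  exact ⟨T.mor₃ ≫ σ, by rw [G.map_comp, hσ, ht₁]⟩

/-- Injectivity at the third vertex, for an element effaced by `T.mor₂`. -/
lemma inj_of_efface (T : Triangle C) (hT : T ∈ distTriang C) (L : C)
    (h₁' : Function.Injective (fun φ : T.obj₁⟦(1 : ℤ)⟧ ⟶ L => G.map φ))
    (h₂' : Function.Surjective (fun φ : T.obj₂⟦(1 : ℤ)⟧ ⟶ L => G.map φ))
    (ξ : T.obj₃ ⟶ L) (hξ : T.mor₂ ≫ ξ = 0) (h0 : G.map ξ = 0) : ξ = 0 := by
  have hT' := G.map_distinguished T hT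
  obtain ⟨σ, hσ⟩ := Triangle.yoneda_exact₃ T hT ξ hξ
  have hex := exact_leftComp₁₃ _ hT' (G.obj L) ((G.commShiftIso (1 : ℤ)).app T.obj₁).symm
      ((G.commShiftIso (1 : ℤ)).app T.obj₂).symm (G.map T.mor₃) (mor₃_aux T)
      (G.map (T.mor₁⟦(1 : ℤ)⟧')) (by
    rw [map_shift]
    change (G.commShiftIso (1 : ℤ)).inv.app T.obj₁ ≫ (G.commShiftIso (1 : ℤ)).hom.app T.obj₁ ≫
      (G.map T.mor₁)⟦(1 : ℤ)⟧' ≫ (G.commShiftIso (1 : ℤ)).inv.app T.obj₂ =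
      (G.map T.mor₁)⟦(1 : ℤ)⟧' ≫ (G.commShiftIso (1 : ℤ)).inv.app T.obj₂
    rw [Iso.inv_hom_id_app_assoc])
  obtain ⟨r, hr⟩ := (hex (G.map σ)).1 (by
    change G.map T.mor₃ ≫ G.map σ = 0
    rw [← G.map_comp, ← hσ, h0])
  change G.map (T.mor₁⟦(1 : ℤ)⟧') ≫ r = G.map σ at hr
  obtain ⟨ρ, hρ⟩ := h₂' r
  change G.map ρ = r at hρ
  have h3 : σ = T.mor₁⟦(1 : ℤ)⟧' ≫ ρ := h₁' (by
    change G.map σ = G.map (T.mor₁⟦(1 : ℤ)⟧' ≫ ρ)
    rw [G.map_comp, hρ, hr])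
  rw [hσ, h3, ← Category.assoc, comp_distTriang_mor_zero₃₁ T hT, zero_comp]

end Five


section Phi

variable (G) in
/-- `Psi` for all shifts in both variables. -/
def Phi (K L : C) : Prop := ∀ m n : ℤ, Psi G (K⟦m⟧) (L⟦n⟧)

lemma Phi.psi {K L : C} (h : Phi G K L) : Psi G K L :=
  (h 0 0).of_iso ((shiftFunctorZero C ℤ).app K) ((shiftFunctorZero C ℤ).app L)

lemma Phi.of_iso {K K' L L' : C} (e₁ : K ≅ K') (e₂ : L ≅ L') (h : Phi G K L) : Phi G K' L' :=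
  fun m n => (h m n).of_iso ((shiftFunctor C m).mapIso e₁) ((shiftFunctor C n).mapIso e₂)

lemma Phi.shift {K L : C} (a b : ℤ) (h : Phi G K L) : Phi G (K⟦a⟧) (L⟦b⟧) :=
  fun m n => (h (a + m) (b + n)).of_iso ((shiftFunctorAdd' C a m _ rfl).app K)
    ((shiftFunctorAdd' C b n _ rfl).app L)

lemma Phi.shift_right {K L : C} (b : ℤ) (h : Phi G K L) : Phi G K (L⟦b⟧) :=
  (h.shift 0 b).of_iso ((shiftFunctorZero C ℤ).app K) (Iso.refl _)

lemma Phi.shift_left {K L : C} (a : ℤ) (h : Phi G K L) : Phi G (K⟦a⟧) L :=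
  (h.shift a 0).of_iso (Iso.refl _) ((shiftFunctorZero C ℤ).app L)

lemma Phi.of_forall_shift {K L : C} (h : ∀ n : ℤ, Psi G K (L⟦n⟧)) : Phi G K L := by
  intro m n
  exact ((h (n - m)).shift m).of_iso (Iso.refl _)
    ((shiftFunctorAdd' C (n - m) m n (by omega)).app L).symm

variable [G.IsTriangulated]

omit [G.CommShift ℤ] [G.IsTriangulated] in
lemma Psi.of_isZero_left [G.PreservesZeroMorphisms] {K : C} (hK : IsZero K) (L : C) :
    Psi G K L :=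
  ⟨fun _ _ _ => hK.eq_of_src _ _, fun _ => ⟨0, (G.map_isZero hK).eq_of_src _ _⟩⟩

omit [G.CommShift ℤ] [G.IsTriangulated] in
lemma Psi.of_isZero_right [G.PreservesZeroMorphisms] (K : C) {L : C} (hL : IsZero L) :
    Psi G K L :=
  ⟨fun _ _ _ => hL.eq_of_tgt _ _, fun _ => ⟨0, (G.map_isZero hL).eq_of_tgt _ _⟩⟩

lemma Phi.of_isZero_left {K : C} (hK : IsZero K) (L : C) : Phi G K L :=
  fun m _ => Psi.of_isZero_left ((shiftFunctor C m).map_isZero hK) _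

lemma Phi.of_isZero_right (K : C) {L : C} (hL : IsZero L) : Phi G K L :=
  fun _ n => Psi.of_isZero_right _ ((shiftFunctor C n).map_isZero hL)

lemma Phi.ext₂_right (T : Triangle C) (hT : T ∈ distTriang C) (K : C)
    (h₁ : Phi G K T.obj₁) (h₃ : Phi G K T.obj₃) : Phi G K T.obj₂ := by
  intro m n
  have hT' : (Triangle.shiftFunctor C n).obj T.invRotate ∈ distTriang C :=
    Triangle.shift_distinguished _ (inv_rot_of_distTriang _ hT) n
  exact Psi.obj₃_right _ hT' (K⟦m⟧) ((h₃.shift_right (-1)) m n) (h₁ m n)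
    (((h₃.shift_right (-1)).shift_right n) m 1) ((h₁.shift_right n) m 1)

lemma Phi.ext₂_left (T : Triangle C) (hT : T ∈ distTriang C) (L : C)
    (h₁ : Phi G T.obj₁ L) (h₃ : Phi G T.obj₃ L) : Phi G T.obj₂ L := by
  intro m n
  have hT' : (Triangle.shiftFunctor C m).obj T.invRotate ∈ distTriang C :=
    Triangle.shift_distinguished _ (inv_rot_of_distTriang _ hT) m
  exact Psi.obj₃_left _ hT' (L⟦n⟧) ((h₃.shift_left (-1)) m n) (h₁ m n)
    (((h₃.shift_left (-1)).shift_left m) 1 n) ((h₁.shift_left m) 1 n)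

end Phi

end Groth.Agent.Lib.Helper32.Beilinson
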