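import Mathlib
import Groth.Agent.Lib.Helper32.Beilinson
import Groth.Agent.Lib.Helper32.WayOut2

/-!
# Beilinson dévissage on bounded objects of a derived category (helper32)
-/

set_option autoImplicit false
set_option linter.unusedSectionVars false

universe w₁ v₁ u₁
open CategoryTheory CategoryTheory.Limits CategoryTheory.Pretriangulated

namespace Groth.Agent.Lib.Helper32.BeilinsonD

open DerivedCategory Groth.Agent.Lib.Helper32.Beilinson Groth.Agent.Lib.Helper32.WayOut2

variable {A : Type u₁} [Category.{v₁} A] [Abelian A] [HasDerivedCategory.{w₁} A]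
  {D : Type*} [Category D] [Preadditive D] [HasZeroObject D] [HasShift D ℤ]
  [∀ n : ℤ, (shiftFunctor D n).Additive] [Pretriangulated D]
  (G : DerivedCategory A ⥤ D) [G.CommShift ℤ] [G.IsTriangulated]

/-- A version of `prop_of_bounded` with bounds `a ≤ b`. -/
theorem prop_of_bounded' (Pp : DerivedCategory A → Prop)
    (hiso : ∀ {X Y : DerivedCategory A}, (X ≅ Y) → Pp X → Pp Y)
    (hzero : ∀ Z : DerivedCategory A, IsZero Z → Pp Z)
    (hext : ∀ Δ : Triangle (DerivedCategory A), Δ ∈ distTriang _ → Pp Δ.obj₁ → Pp Δ.obj₃ → Pp Δ.obj₂)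
    (a b : ℤ) (Z : DerivedCategory A) (hGE : Z.IsGE a) (hLE : Z.IsLE b)
    (h : ∀ (q : ℤ), Pp ((singleFunctor A q).obj ((homologyFunctor A q).obj Z))) : Pp Z := by
  have hLE' : Z.IsLE (a + ((b - a + 1).toNat : ℤ) - 1) :=
    TStructure.t.isLE_of_le Z b _ (by omega)
  refine prop_of_bounded Pp hiso hzero hext (b - a + 1).toNat a Z hGE hLE' ?_
  rintro q M ⟨e⟩
  exact hiso ((singleFunctor A q).mapIso e.symm) (h q)

/-- **Beilinson's lemma**: if `G` is bijective on `Hom(M, N⟦n⟧)` for `M ∈ P`, `N ∈ Q` (objects of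
`A` placed in degree `0`), then `G` is bijective on `Hom(K⟦m⟧, L⟦n⟧)` for bounded `K`, `L` with
cohomology in `P`, resp. `Q`. -/
theorem phi_of_bounded (P Q : A → Prop)
    (h : ∀ M N : A, P M → Q N → ∀ n : ℤ,
      Psi G ((singleFunctor A 0).obj M) (((singleFunctor A 0).obj N)⟦n⟧))
    (K L : DerivedCategory A) (a b a' b' : ℤ) (hKa : K.IsGE a) (hKb : K.IsLE b)
    (hLa : L.IsGE a') (hLb : L.IsLE b')
    (hK : ∀ i : ℤ, P ((homologyFunctor A i).obj K)) (hL : ∀ i : ℤ, Q ((homologyFunctor A i).obj L)) :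
    Phi G K L := by
  -- stage 1
  have h1 : ∀ (M : A), P M → Phi G ((singleFunctor A 0).obj M) L := by
    intro M hM
    refine prop_of_bounded' (fun L => Phi G ((singleFunctor A 0).obj M) L)
      (fun e hX => hX.of_iso (Iso.refl _) e) (fun Z hZ => Phi.of_isZero_right _ hZ)
      (fun Δ hΔ h₁ h₃ => Phi.ext₂_right Δ hΔ _ h₁ h₃) a' b' L hLa hLb ?_
    intro q
    have h0 : Phi G ((singleFunctor A 0).obj M)
        ((singleFunctor A 0).obj ((homologyFunctor A q).obj L)) :=
      Phi.of_forall_shift (h M _ hM (hL q))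
    exact (h0.shift_right (-q)).of_iso (Iso.refl _)
      (((singleFunctors A).shiftIso (-q) q 0 (by omega)).app _)
  -- stage 2
  refine prop_of_bounded' (fun K => Phi G K L)
    (fun e hX => hX.of_iso e (Iso.refl _)) (fun Z hZ => Phi.of_isZero_left hZ _)
    (fun Δ hΔ h₁ h₃ => Phi.ext₂_left Δ hΔ _ h₁ h₃) a b K hKa hKb ?_
  intro q
  exact ((h1 _ (hK q)).shift_left (-q)).of_iso
    (((singleFunctors A).shiftIso (-q) q 0 (by omega)).app _) (Iso.refl _)

end Groth.Agent.Lib.Helper32.BeilinsonD
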