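import Mathlib

/-!
# Effaceability of `Ext` in the derived category (helper32)

For `ξ : X[0] ⟶ Y[0]⟦q⟧` in `D(A)` with `q ≠ 0`, there is an epimorphism `p : X' ⟶ X` in `A` with
`p[0] ≫ ξ = 0`.
-/

set_option autoImplicit false
set_option linter.unusedVariables false

universe w v u
open CategoryTheory CategoryTheory.Limits

namespace Groth.Agent.Lib.Helper32.ExtEfface

open DerivedCategory HomologicalComplex

variable {A : Type u} [Category.{v} A] [Abelian A]

/-- The map from `K⁰` (in degree `0`) to a complex `K` which is strictly `≤ 0`. -/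
noncomputable def fromSingleX0 (K : CochainComplex A ℤ) [K.IsStrictlyLE 0] :
    (HomologicalComplex.single A (ComplexShape.up ℤ) 0).obj (K.X 0) ⟶ K :=
  HomologicalComplex.mkHomFromSingle (𝟙 _) (by
    intro k hk
    have hk' : (0 : ℤ) + 1 = k := hk
    exact (K.isZero_of_isStrictlyLE 0 k (by omega)).eq_of_tgt _ _)

instance (K : CochainComplex A ℤ) [K.IsStrictlyLE 0] : IsIso ((fromSingleX0 K).f 0) := by
  rw [fromSingleX0, HomologicalComplex.mkHomFromSingle_f]
  infer_instance

lemma epi_homologyMap_fromSingleX0 (K : CochainComplex A ℤ) [K.IsStrictlyLE 0] :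
    Epi (HomologicalComplex.homologyMap (fromSingleX0 K) 0) := by
  have hd : K.d 0 1 = 0 := (K.isZero_of_isStrictlyLE 0 1 (by omega)).eq_of_tgt _ _
  have hd' : ((HomologicalComplex.single A (ComplexShape.up ℤ) 0).obj (K.X 0)).d 0 1 = 0 := by simp
  haveI := K.isIso_iCycles 0 1 (by simp) hd
  haveI := ((HomologicalComplex.single A (ComplexShape.up ℤ) 0).obj (K.X 0)).isIso_iCycles 0 1
    (by simp) hd'
  have h1 := HomologicalComplex.cyclesMap_i (fromSingleX0 K) 0
  haveI : IsIso (HomologicalComplex.cyclesMap (fromSingleX0 K) 0) := by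
    have : HomologicalComplex.cyclesMap (fromSingleX0 K) 0 =
        ((HomologicalComplex.single A (ComplexShape.up ℤ) 0).obj (K.X 0)).iCycles 0 ≫
          (fromSingleX0 K).f 0 ≫ inv (K.iCycles 0) := by
      rw [← Category.assoc, ← h1, Category.assoc, IsIso.hom_inv_id, Category.comp_id]
    rw [this]
    infer_instance
  have h2 := HomologicalComplex.homologyπ_naturality (fromSingleX0 K) 0
  exact epi_of_epi_fac h2

variable [HasDerivedCategory.{w} A]

theorem exists_epi_comp_eq_zero (X Y : A) (q : ℤ) (hq : q ≠ 0)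
    (ξ : (singleFunctor A 0).obj X ⟶ ((singleFunctor A 0).obj Y)⟦q⟧) :
    ∃ (X' : A) (p : X' ⟶ X), Epi p ∧ (singleFunctor A 0).map p ≫ ξ = 0 := by
  let SX : CochainComplex A ℤ := (HomologicalComplex.single A (ComplexShape.up ℤ) 0).obj X
  let SY : CochainComplex A ℤ := (HomologicalComplex.single A (ComplexShape.up ℤ) 0).obj Y
  let eY : ((singleFunctor A 0).obj Y)⟦q⟧ ≅ Q.obj (SY⟦q⟧) := ((Q.commShiftIso q).app SY).symm
  let ξ' : Q.obj SX ⟶ Q.obj (SY⟦q⟧) := ξ ≫ eY.hom
  have hξ : ξ = ξ' ≫ eY.inv := by
    simp only [ξ', Category.assoc, Iso.hom_inv_id, Category.comp_id]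
  obtain ⟨K, hK, s, hs, g, hfac⟩ := right_fac_of_isStrictlyLE ξ' 0
  let J := fromSingleX0 K
  have hJg : J ≫ g = 0 := by
    apply HomologicalComplex.from_single_hom_ext
    apply IsZero.eq_of_tgt
    change IsZero (SY.X (0 + q))
    exact HomologicalComplex.isZero_single_obj_X _ _ _ _ (by omega)
  let p : K.X 0 ⟶ X :=
    (HomologicalComplex.singleObjXSelf (ComplexShape.up ℤ) 0 (K.X 0)).inv ≫ (J ≫ s).f 0 ≫
      (HomologicalComplex.singleObjXSelf (ComplexShape.up ℤ) 0 X).hom
  have hp : (HomologicalComplex.single A (ComplexShape.up ℤ) 0).map p = J ≫ s := by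
    apply HomologicalComplex.from_single_hom_ext
    rw [HomologicalComplex.single_map_f_self]
    simp only [p, Category.assoc, Iso.hom_inv_id, Category.comp_id, Iso.hom_inv_id_assoc]
  refine ⟨K.X 0, p, ?_, ?_⟩
  · -- p is an epimorphism
    have hs' : QuasiIso s := by
      rw [← DerivedCategory.isIso_Q_map_iff_quasiIso]
      exact hs
    haveI : IsIso (HomologicalComplex.homologyMap s 0) := by
      have := hs'.quasiIsoAt 0
      rwa [quasiIsoAt_iff_isIso_homologyMap] at this
    haveI := epi_homologyMap_fromSingleX0 K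
    have h1 : HomologicalComplex.homologyMap
        ((HomologicalComplex.single A (ComplexShape.up ℤ) 0).map p) 0 =
        HomologicalComplex.homologyMap J 0 ≫ HomologicalComplex.homologyMap s 0 := by
      rw [hp, HomologicalComplex.homologyMap_comp]
    have h2 := HomologicalComplex.singleObjHomologySelfIso_hom_naturality (ComplexShape.up ℤ) 0 p
    have h3 : p = (HomologicalComplex.singleObjHomologySelfIso (ComplexShape.up ℤ) 0 (K.X 0)).inv ≫
        (HomologicalComplex.homologyMap J 0 ≫ HomologicalComplex.homologyMap s 0) ≫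
        (HomologicalComplex.singleObjHomologySelfIso (ComplexShape.up ℤ) 0 X).hom := by
      rw [← h1, h2, Iso.inv_hom_id_assoc]
    rw [h3]
    infer_instance
  · change Q.map ((HomologicalComplex.single A (ComplexShape.up ℤ) 0).map p) ≫ ξ = 0
    rw [hp, hξ, hfac, Functor.map_comp]
    simp only [Category.assoc, IsIso.hom_inv_id_assoc]
    rw [← Category.assoc, ← Functor.map_comp, hJg, Functor.map_zero, zero_comp]

end Groth.Agent.Lib.Helper32.ExtEfface
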