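import Mathlib
import Groth.Prelude.Def_W4stkfunctorsequivSib
import Groth.Agent.Lib.Helper32.BeilinsonD
import Groth.Agent.Lib.Helper32.ExtEfface

/-!
# Helpers for the bounded derived category `DerivedCategory.Bounded A` (helper32)
-/

set_option autoImplicit false
set_option linter.unusedSectionVars false

universe w v u
open CategoryTheory CategoryTheory.Limits CategoryTheory.Pretriangulated

namespace Groth.Agent.Lib.Helper32.BoundedDb

open DerivedCategory DerivedCategory.TStructure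

variable {A : Type u} [Category.{v} A] [Abelian A] [HasDerivedCategory.{w} A]

/-- Lift a triangle of `D(A)` with bounded vertices to `D^b(A)`. -/
noncomputable def liftTriangle (Δ : Triangle (DerivedCategory A))
    (h₁ : (t : Triangulated.TStructure (DerivedCategory A)).bounded Δ.obj₁)
    (h₂ : (t : Triangulated.TStructure (DerivedCategory A)).bounded Δ.obj₂)
    (h₃ : (t : Triangulated.TStructure (DerivedCategory A)).bounded Δ.obj₃) :
    Triangle (DerivedCategory.Bounded A) :=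
  Triangle.mk (X := (⟨Δ.obj₁, h₁⟩ : DerivedCategory.Bounded A)) (Y := ⟨Δ.obj₂, h₂⟩) (Z := ⟨Δ.obj₃, h₃⟩)
    (ObjectProperty.homMk Δ.mor₁) (ObjectProperty.homMk Δ.mor₂)
    (ObjectProperty.homMk (Δ.mor₃ ≫
      ((DerivedCategory.Bounded.ι (C := A)).commShiftIso (1 : ℤ)).inv.app ⟨Δ.obj₁, h₁⟩))

lemma liftTriangle_distinguished (Δ : Triangle (DerivedCategory A)) (hΔ : Δ ∈ distTriang _)
    (h₁ : (t : Triangulated.TStructure (DerivedCategory A)).bounded Δ.obj₁)
    (h₂ : (t : Triangulated.TStructure (DerivedCategory A)).bounded Δ.obj₂)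
    (h₃ : (t : Triangulated.TStructure (DerivedCategory A)).bounded Δ.obj₃) :
    liftTriangle Δ h₁ h₂ h₃ ∈ distTriang (DerivedCategory.Bounded A) := by
  change (DerivedCategory.Bounded.ι (C := A)).mapTriangle.obj (liftTriangle Δ h₁ h₂ h₃) ∈ distTriang _
  refine isomorphic_distinguished _ hΔ _ ?_
  refine Triangle.isoMk _ _ (Iso.refl _) (Iso.refl _) (Iso.refl _) ?_ ?_ ?_
  · change Δ.mor₁ ≫ 𝟙 _ = 𝟙 _ ≫ Δ.mor₁
    rw [Category.comp_id, Category.id_comp]
  · change Δ.mor₂ ≫ 𝟙 _ = 𝟙 _ ≫ Δ.mor₂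
    rw [Category.comp_id, Category.id_comp]
  · change ((Δ.mor₃ ≫ ((DerivedCategory.Bounded.ι (C := A)).commShiftIso (1 : ℤ)).inv.app
        ⟨Δ.obj₁, h₁⟩) ≫ ((DerivedCategory.Bounded.ι (C := A)).commShiftIso (1 : ℤ)).hom.app
        ⟨Δ.obj₁, h₁⟩) ≫ (𝟙 Δ.obj₁)⟦(1 : ℤ)⟧' = 𝟙 _ ≫ Δ.mor₃
    rw [Category.assoc, Category.assoc, Iso.inv_hom_id_app_assoc, Category.id_comp]
    have h : (𝟙 Δ.obj₁)⟦(1 : ℤ)⟧' = 𝟙 _ := (shiftFunctor (DerivedCategory A) (1 : ℤ)).map_id _
    exact (congrArg (fun x => Δ.mor₃ ≫ x) h).trans (Category.comp_id _)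


lemma isZero_mk (Z : DerivedCategory A) (hZ : IsZero Z)
    (h : (t : Triangulated.TStructure (DerivedCategory A)).bounded Z) :
    IsZero (⟨Z, h⟩ : DerivedCategory.Bounded A) := by
  rw [IsZero.iff_id_eq_zero]
  apply (DerivedCategory.Bounded.ι (C := A)).map_injective
  rw [CategoryTheory.Functor.map_id, Functor.map_zero]
  exact (IsZero.iff_id_eq_zero _).1 hZ

/-- Dévissage in `D^b(A)`. -/
theorem prop_of_boundedB (Q : DerivedCategory.Bounded A → Prop)
    (hiso : ∀ {X Y : DerivedCategory.Bounded A}, (X ≅ Y) → Q X → Q Y)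
    (hzero : ∀ Z : DerivedCategory.Bounded A, IsZero Z → Q Z)
    (hext : ∀ T : Triangle (DerivedCategory.Bounded A), T ∈ distTriang _ →
      Q T.obj₁ → Q T.obj₃ → Q T.obj₂)
    (hs : ∀ (M : A) (q : ℤ), Q (((DEquiv.singleB A).obj M)⟦q⟧))
    (K : DerivedCategory.Bounded A) : Q K := by
  obtain ⟨Z, hZ⟩ := K
  obtain ⟨⟨a, ha⟩, ⟨b, hb⟩⟩ := id hZ
  have key := Groth.Agent.Lib.Helper32.BeilinsonD.prop_of_bounded'
    (fun Z' => ∃ h : (t : Triangulated.TStructure (DerivedCategory A)).bounded Z',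
      Q (⟨Z', h⟩ : DerivedCategory.Bounded A)) ?_ ?_ ?_ a b Z ha hb ?_
  · obtain ⟨_, hq⟩ := key
    exact hq
  · rintro X Y e ⟨h, hq⟩
    refine ⟨(t : Triangulated.TStructure (DerivedCategory A)).bounded.prop_of_iso e h, ?_⟩
    exact hiso (ObjectProperty.isoMk _ e) hq
  · intro Z' hZ'
    have hb' : (t : Triangulated.TStructure (DerivedCategory A)).bounded Z' :=
      ⟨⟨0, t.isGE_of_isZero hZ' 0⟩, ⟨0, t.isLE_of_isZero hZ' 0⟩⟩
    exact ⟨hb', hzero _ (isZero_mk Z' hZ' hb')⟩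
  · rintro Δ hΔ ⟨h₁, q₁⟩ ⟨h₃, q₃⟩
    have h₂ : (t : Triangulated.TStructure (DerivedCategory A)).bounded Δ.obj₂ :=
      (t : Triangulated.TStructure (DerivedCategory A)).bounded.ext_of_isTriangulatedClosed₂
        Δ hΔ h₁ h₃
    exact ⟨h₂, hext _ (liftTriangle_distinguished Δ hΔ h₁ h₂ h₃) q₁ q₃⟩
  · intro q
    have hb' : (t : Triangulated.TStructure (DerivedCategory A)).bounded
        ((singleFunctor A q).obj ((homologyFunctor A q).obj Z)) :=
      ⟨⟨q, inferInstance⟩, ⟨q, inferInstance⟩⟩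
    refine ⟨hb', ?_⟩
    refine hiso ?_ (hs ((homologyFunctor A q).obj Z) (-q))
    exact (ObjectProperty.fullyFaithfulι _).preimageIso
      (((DerivedCategory.Bounded.ι (C := A)).commShiftIso (-q)).app _ ≪≫
      (((singleFunctors A).shiftIso (-q) q 0 (by omega)).app ((homologyFunctor A q).obj Z)))

lemma hom_eq_zero {K L : DerivedCategory.Bounded A} (n₀ n₁ : ℤ) (h : n₀ < n₁)
    (hK : K.obj.IsLE n₀) (hL : L.obj.IsGE n₁) (f : K ⟶ L) : f = 0 := by
  apply (DerivedCategory.Bounded.ι (C := A)).map_injective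
  rw [Functor.map_zero]
  haveI : t.IsLE ((DerivedCategory.Bounded.ι (C := A)).obj K) n₀ := hK
  haveI : t.IsGE ((DerivedCategory.Bounded.ι (C := A)).obj L) n₁ := hL
  exact t.zero _ n₀ n₁ h

instance : (DEquiv.singleB A).Full := by
  unfold DEquiv.singleB
  infer_instance

instance : (DEquiv.singleB A).Faithful := by
  unfold DEquiv.singleB
  infer_instance

instance : (DEquiv.singleB A).Additive := by
  unfold DEquiv.singleB
  infer_instance

lemma isLE_singleB_shift (M : A) (q : ℤ) :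
    ((((DEquiv.singleB A).obj M)⟦q⟧ : DerivedCategory.Bounded A).obj).IsLE (-q) := by
  have h0 : t.IsLE (((singleFunctor A 0).obj M)⟦q⟧) (-q) := t.isLE_shift _ 0 q (-q) (by omega)
  haveI : t.IsLE ((DerivedCategory.Bounded.ι (C := A) ⋙ shiftFunctor (DerivedCategory A) q).obj
    ((DEquiv.singleB A).obj M)) (-q) := h0
  exact t.isLE_of_iso (((DerivedCategory.Bounded.ι (C := A)).commShiftIso q).app
    ((DEquiv.singleB A).obj M)).symm (-q)

lemma isGE_singleB_shift (M : A) (q : ℤ) :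
    ((((DEquiv.singleB A).obj M)⟦q⟧ : DerivedCategory.Bounded A).obj).IsGE (-q) := by
  have h0 : t.IsGE (((singleFunctor A 0).obj M)⟦q⟧) (-q) := t.isGE_shift _ 0 q (-q) (by omega)
  haveI : t.IsGE ((DerivedCategory.Bounded.ι (C := A) ⋙ shiftFunctor (DerivedCategory A) q).obj
    ((DEquiv.singleB A).obj M)) (-q) := h0
  exact t.isGE_of_iso (((DerivedCategory.Bounded.ι (C := A)).commShiftIso q).app
    ((DEquiv.singleB A).obj M)).symm (-q)

/-- Effaceability of `Ext^q`, `q ≠ 0`, in `D^b(A)`. -/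
theorem exists_epi_comp_eq_zero (X Y : A) (q : ℤ) (hq : q ≠ 0)
    (ξ : (DEquiv.singleB A).obj X ⟶ ((DEquiv.singleB A).obj Y)⟦q⟧) :
    ∃ (X' : A) (p : X' ⟶ X), Epi p ∧ (DEquiv.singleB A).map p ≫ ξ = 0 := by
  obtain ⟨X', p, hp, h⟩ := Groth.Agent.Lib.Helper32.ExtEfface.exists_epi_comp_eq_zero X Y q hq
    ((DerivedCategory.Bounded.ι (C := A)).map ξ ≫
      ((DerivedCategory.Bounded.ι (C := A)).commShiftIso q).hom.app ((DEquiv.singleB A).obj Y))
  refine ⟨X', p, hp, ?_⟩
  apply (DerivedCategory.Bounded.ι (C := A)).map_injective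
  rw [Functor.map_zero, Functor.map_comp]
  have h2 : ((DerivedCategory.Bounded.ι (C := A)).map ((DEquiv.singleB A).map p) ≫
      (DerivedCategory.Bounded.ι (C := A)).map ξ) ≫
      ((DerivedCategory.Bounded.ι (C := A)).commShiftIso q).hom.app ((DEquiv.singleB A).obj Y) =
      0 ≫ ((DerivedCategory.Bounded.ι (C := A)).commShiftIso q).hom.app
        ((DEquiv.singleB A).obj Y) :=
    ((Category.assoc _ _ _).trans h).trans zero_comp.symm
  exact (cancel_mono _).1 h2


lemma bounded_single (M : A) :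
    (t : Triangulated.TStructure (DerivedCategory A)).bounded ((singleFunctor A 0).obj M) :=
  ⟨⟨0, inferInstance⟩, ⟨0, inferInstance⟩⟩

/-- The distinguished triangle of `D^b(A)` attached to an epimorphism in `A`. -/
theorem exists_triangle_of_epi {X' X : A} (p : X' ⟶ X) [Epi p] :
    ∃ (K : A) (i : K ⟶ X')
      (δ : (DEquiv.singleB A).obj X ⟶ ((DEquiv.singleB A).obj K)⟦(1 : ℤ)⟧),
      Triangle.mk ((DEquiv.singleB A).map i) ((DEquiv.singleB A).map p) δ ∈
        distTriang (DerivedCategory.Bounded A) := by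
  let S : ShortComplex A := ShortComplex.mk (kernel.ι p) p (kernel.condition p)
  have hS : S.ShortExact :=
    { exact := S.exact_of_f_is_kernel (kernelIsKernel p)
      mono_f := inferInstanceAs (Mono (kernel.ι p))
      epi_g := inferInstanceAs (Epi p) }
  exact ⟨kernel p, kernel.ι p, _,
    liftTriangle_distinguished hS.singleTriangle hS.singleTriangle_distinguished
      (bounded_single _) (bounded_single _) (bounded_single _)⟩

end Groth.Agent.Lib.Helper32.BoundedDb
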