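import Mathlib.CategoryTheory.Triangulated.Pretriangulated
import Mathlib.CategoryTheory.Triangulated.Triangulated

/-!
# Vanishing of Hom groups under shifts and in distinguished triangles (helper32)
-/

set_option autoImplicit false
universe v u
open CategoryTheory CategoryTheory.Limits

namespace Groth.Agent.Lib.Helper32

section
set_option linter.unusedSectionVars false
variable {D : Type u} [Category.{v} D] [Preadditive D] [HasShift D ℤ]
  [∀ n : ℤ, (shiftFunctor D n).Additive]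

/-- Transport vanishing of Hom along an equality of shifts. -/
theorem homs_zero_of_shift_eq {X Z : D} {m m' : ℤ} (e : m = m')
    (h : ∀ ψ : (shiftFunctor D m).obj X ⟶ Z, ψ = 0) :
    ∀ ψ : (shiftFunctor D m').obj X ⟶ Z, ψ = 0 := by
  subst e; exact h

/-- Transport vanishing of Hom along an equality of shifts on the target. -/
theorem homs_zero_of_shift_eq' {X Z : D} {m m' : ℤ} (e : m = m')
    (h : ∀ ψ : X ⟶ (shiftFunctor D m).obj Z, ψ = 0) :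
    ∀ ψ : X ⟶ (shiftFunctor D m').obj Z, ψ = 0 := by
  subst e; exact h

/-- `Hom(X⟦m⟧, W) = 0 → Hom(X⟦m+p⟧, W⟦p⟧) = 0`. -/
theorem homs_zero_shift {X W : D} {m p m' : ℤ} (e : m + p = m')
    (h : ∀ ψ : (shiftFunctor D m).obj X ⟶ W, ψ = 0) :
    ∀ ψ : (shiftFunctor D m').obj X ⟶ (shiftFunctor D p).obj W, ψ = 0 := by
  intro ψ
  rw [← cancel_epi ((shiftFunctorAdd' D m p m' e).inv.app X), comp_zero]
  obtain ⟨g, hg⟩ := (shiftFunctor D p).map_surjective ((shiftFunctorAdd' D m p m' e).inv.app X ≫ ψ)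
  rw [← hg, h g, Functor.map_zero]

/-- `Hom(X⟦m+p⟧, W⟦p⟧) = 0 → Hom(X⟦m⟧, W) = 0`. -/
theorem homs_zero_unshift {X W : D} {m p m' : ℤ} (e : m + p = m')
    (h : ∀ ψ : (shiftFunctor D m').obj X ⟶ (shiftFunctor D p).obj W, ψ = 0) :
    ∀ ψ : (shiftFunctor D m).obj X ⟶ W, ψ = 0 := by
  intro ψ
  apply (shiftFunctor D p).map_injective
  rw [Functor.map_zero, ← cancel_epi ((shiftFunctorAdd' D m p m' e).hom.app X), comp_zero]
  exact h _

/-- `Hom(X⟦0⟧, W) = 0 → Hom(X, W) = 0`. -/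
theorem homs_zero_of_shift_zero {X W : D}
    (h : ∀ ψ : (shiftFunctor D (0 : ℤ)).obj X ⟶ W, ψ = 0) : ∀ ψ : X ⟶ W, ψ = 0 := by
  intro ψ
  rw [← cancel_epi ((shiftFunctorZero D ℤ).hom.app X), comp_zero]
  exact h _

/-- `Hom(X, W) = 0 → Hom(X⟦0⟧, W) = 0`. -/
theorem homs_zero_shift_zero {X W : D}
    (h : ∀ ψ : X ⟶ W, ψ = 0) : ∀ ψ : (shiftFunctor D (0 : ℤ)).obj X ⟶ W, ψ = 0 := by
  intro ψ
  rw [← cancel_epi ((shiftFunctorZero D ℤ).inv.app X), comp_zero]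
  exact h _

/-- `Hom(X, W⟦0⟧) = 0 → Hom(X, W) = 0`. -/
theorem homs_zero_of_shift_zero' {X W : D}
    (h : ∀ ψ : X ⟶ (shiftFunctor D (0 : ℤ)).obj W, ψ = 0) : ∀ ψ : X ⟶ W, ψ = 0 := by
  intro ψ
  rw [← cancel_mono ((shiftFunctorZero D ℤ).inv.app W), zero_comp]
  exact h _

/-- `Hom(X, W) = 0 → Hom(X, W⟦0⟧) = 0`. -/
theorem homs_zero_shift_zero' {X W : D}
    (h : ∀ ψ : X ⟶ W, ψ = 0) : ∀ ψ : X ⟶ (shiftFunctor D (0 : ℤ)).obj W, ψ = 0 := by
  intro ψ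
  rw [← cancel_mono ((shiftFunctorZero D ℤ).hom.app W), zero_comp]
  exact h _

/-- `Hom(X, W⟦m⟧) = 0 → Hom(X⟦p⟧, W⟦m+p⟧) = 0`. -/
theorem homs_zero_shift' {X W : D} {m p m' : ℤ} (e : m + p = m')
    (h : ∀ ψ : X ⟶ (shiftFunctor D m).obj W, ψ = 0) :
    ∀ ψ : (shiftFunctor D p).obj X ⟶ (shiftFunctor D m').obj W, ψ = 0 := by
  intro ψ
  rw [← cancel_mono ((shiftFunctorAdd' D m p m' e).hom.app W), zero_comp]
  obtain ⟨g, hg⟩ := (shiftFunctor D p).map_surjective (ψ ≫ (shiftFunctorAdd' D m p m' e).hom.app W)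
  rw [← hg, h g, Functor.map_zero]

/-- `Hom(X⟦p⟧, W⟦m+p⟧) = 0 → Hom(X, W⟦m⟧) = 0`. -/
theorem homs_zero_unshift' {X W : D} {m p m' : ℤ} (e : m + p = m')
    (h : ∀ ψ : (shiftFunctor D p).obj X ⟶ (shiftFunctor D m').obj W, ψ = 0) :
    ∀ ψ : X ⟶ (shiftFunctor D m).obj W, ψ = 0 := by
  intro ψ
  apply (shiftFunctor D p).map_injective
  rw [Functor.map_zero, ← cancel_mono ((shiftFunctorAdd' D m p m' e).inv.app W), zero_comp]
  exact h _

end

section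
open CategoryTheory.Pretriangulated
variable {D : Type u} [Category.{v} D] [Preadditive D] [HasZeroObject D] [HasShift D ℤ]
  [∀ n : ℤ, (shiftFunctor D n).Additive] [Pretriangulated D]

/-- In a distinguished triangle, a morphism `f : X ⟶ T.obj₁` killed by `T.mor₁` vanishes as soon as
`Hom(X⟦1⟧, T.obj₃) = 0`. -/
theorem eq_zero_of_comp_mor₁ (T : Triangle D) (hT : T ∈ distinguishedTriangles) {X : D}
    (f : X ⟶ T.obj₁) (hf : f ≫ T.mor₁ = 0)
    (h3 : ∀ g : (shiftFunctor D (1 : ℤ)).obj X ⟶ T.obj₃, g = 0) : f = 0 := by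
  apply (shiftFunctor D (1 : ℤ)).map_injective
  rw [Functor.map_zero]
  obtain ⟨g, hg⟩ := Triangle.coyoneda_exact₁ T hT ((shiftFunctor D (1 : ℤ)).map f) (by
    rw [← Functor.map_comp, hf, Functor.map_zero])
  rw [hg, h3 g, zero_comp]

/-- In a distinguished triangle, a morphism `f : T.obj₁ ⟶ Z` with `T.mor₃ ≫ f⟦1⟧ = 0` vanishes as
soon as `Hom(T.obj₂, Z) = 0`. -/
theorem eq_zero_of_mor₃_comp_shift (T : Triangle D) (hT : T ∈ distinguishedTriangles) {Z : D}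
    (f : T.obj₁ ⟶ Z) (hf : T.mor₃ ≫ (shiftFunctor D (1 : ℤ)).map f = 0)
    (h2 : ∀ g : T.obj₂ ⟶ Z, g = 0) : f = 0 := by
  apply (shiftFunctor D (1 : ℤ)).map_injective
  rw [Functor.map_zero]
  obtain ⟨g, hg⟩ := Triangle.yoneda_exact₃ T.rotate (rot_of_distTriang _ hT)
    ((shiftFunctor D (1 : ℤ)).map f) hf
  obtain ⟨g', rfl⟩ := (shiftFunctor D (1 : ℤ)).map_surjective g
  have hg' : g' = 0 := h2 g'
  rw [hg, hg', Functor.map_zero, comp_zero]
  rfl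

end

section
variable {D : Type u} [Category.{v} D] [Preadditive D] [HasShift D ℤ]

/-- `Hom(X⟦p+q⟧, Z) = 0 → Hom(X⟦p⟧⟦q⟧, Z) = 0`. -/
theorem homs_zero_shift_shift {X Z : D} {p q m' : ℤ} (e : p + q = m')
    (h : ∀ ψ : (shiftFunctor D m').obj X ⟶ Z, ψ = 0) :
    ∀ ψ : (shiftFunctor D q).obj ((shiftFunctor D p).obj X) ⟶ Z, ψ = 0 := by
  intro ψ
  rw [← cancel_epi ((shiftFunctorAdd' D p q m' e).hom.app X), comp_zero]
  exact h _

/-- `Hom(X, Z⟦p+q⟧) = 0 → Hom(X, Z⟦p⟧⟦q⟧) = 0`. -/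
theorem homs_zero_shift_shift' {X Z : D} {p q m' : ℤ} (e : p + q = m')
    (h : ∀ ψ : X ⟶ (shiftFunctor D m').obj Z, ψ = 0) :
    ∀ ψ : X ⟶ (shiftFunctor D q).obj ((shiftFunctor D p).obj Z), ψ = 0 := by
  intro ψ
  rw [← cancel_mono ((shiftFunctorAdd' D p q m' e).inv.app Z), zero_comp]
  exact h _

end

section
open CategoryTheory.Pretriangulated
variable {D : Type u} [Category.{v} D] [Preadditive D] [HasZeroObject D] [HasShift D ℤ]
  [∀ n : ℤ, (shiftFunctor D n).Additive] [Pretriangulated D]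

/-- In a distinguished triangle, a morphism `f : T.obj₁ ⟶ Z` with `T.mor₃ ≫ f⟦1⟧ = 0` factors
through `T.mor₁`. -/
theorem exists_factor_of_mor₃_comp_shift (T : Triangle D) (hT : T ∈ distinguishedTriangles) {Z : D}
    (f : T.obj₁ ⟶ Z) (hf : T.mor₃ ≫ (shiftFunctor D (1 : ℤ)).map f = 0) :
    ∃ θ : T.obj₂ ⟶ Z, f = T.mor₁ ≫ θ := by
  obtain ⟨g, hg⟩ : ∃ g : (shiftFunctor D (1 : ℤ)).obj T.obj₂ ⟶ (shiftFunctor D (1 : ℤ)).obj Z,
      (shiftFunctor D (1 : ℤ)).map f = (-(shiftFunctor D (1 : ℤ)).map T.mor₁) ≫ g :=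
    Triangle.yoneda_exact₃ T.rotate (rot_of_distTriang _ hT) ((shiftFunctor D (1 : ℤ)).map f) hf
  obtain ⟨g', rfl⟩ := (shiftFunctor D (1 : ℤ)).map_surjective g
  refine ⟨-g', ?_⟩
  apply (shiftFunctor D (1 : ℤ)).map_injective
  rw [hg, Functor.map_comp, Functor.map_neg, Preadditive.neg_comp, Preadditive.comp_neg]

end

end Groth.Agent.Lib.Helper32
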