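import Mathlib
import Groth.Prelude.Def_DCoh3
import Groth.Agent.H57.RpushBound

/-!
# `Rg_*` vanishing bound by the number of affine opens covering the source (helper32)

For `g : Y ⟶ S` with `S` affine, `Y` covered by at most `t + 1` affine opens and such that the
intersection of two affine opens of `Y` is affine, `H^m(Rg_* E) = 0` for `m ≥ t + 1` and
`E ∈ D_QCoh^{≤ 0}(Y)`.
-/

set_option autoImplicit false
universe u
open CategoryTheory CategoryTheory.Limits AlgebraicGeometry
attribute [local instance] HasDerivedCategory.standard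

namespace Groth.Agent.Lib.Helper32.BoundAffines

open Groth.Agent.H57.RpushBound

theorem isAffine_of_card_le_one {Y : Scheme.{u}} (s : Finset Y.Opens) (hs : s.card ≤ 1)
    (haff : ∀ V ∈ s, IsAffineOpen V) (hcov : ∀ y : Y, ∃ V ∈ s, y ∈ V) : IsAffine Y := by
  obtain h0 | h1 : s.card = 0 ∨ s.card = 1 := by omega
  · have hs0 : s = ∅ := Finset.card_eq_zero.mp h0
    haveI : IsEmpty Y := ⟨fun y => by
      obtain ⟨V, hV, -⟩ := hcov y
      rw [hs0] at hV
      exact absurd hV (Finset.notMem_empty V)⟩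
    exact isAffine_of_isEmpty
  · obtain ⟨a, rfl⟩ := Finset.card_eq_one.mp h1
    have ha : a = ⊤ := by
      rw [eq_top_iff]
      intro y _
      obtain ⟨V, hV, hy⟩ := hcov y
      rw [Finset.mem_singleton] at hV
      exact hV ▸ hy
    have h : IsAffineOpen (⊤ : Y.Opens) := ha ▸ haff a (Finset.mem_singleton_self a)
    haveI : IsAffine ↑(⊤ : Y.Opens) := h
    exact .of_isIso (Scheme.topIso Y).inv

/-- transfer of "intersections of affine opens are affine" to an open subscheme -/
theorem hd_opens {Y : Scheme.{u}} (W : Y.Opens)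
    (hd : ∀ V V' : Y.Opens, IsAffineOpen V → IsAffineOpen V' → IsAffineOpen (V ⊓ V')) :
    ∀ V V' : (W : Scheme.{u}).Opens, IsAffineOpen V → IsAffineOpen V' → IsAffineOpen (V ⊓ V') := by
  intro V V' hV hV'
  have h := hd _ _ (hV.image_of_isOpenImmersion W.ι) (hV'.image_of_isOpenImmersion W.ι)
  have e : W.ι ''ᵁ V ⊓ W.ι ''ᵁ V' = W.ι ''ᵁ (V ⊓ V') := by
    apply TopologicalSpace.Opens.ext
    simp only [TopologicalSpace.Opens.coe_inf, Scheme.Hom.coe_image]
    exact (Set.image_inter W.ι.isOpenEmbedding.injective).symm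
  rw [e] at h
  exact (W.ι.isAffineOpen_iff_of_isOpenImmersion).mp h

theorem bound_of_finset_affine_cover {S : Scheme.{u}} [IsAffine S] (t : ℕ) :
    ∀ (Y : Scheme.{u}) (g : Y ⟶ S) (s : Finset Y.Opens), s.card ≤ t + 1 →
      (∀ V ∈ s, IsAffineOpen V) → (∀ y : Y, ∃ V ∈ s, y ∈ V) →
      (∀ V W : Y.Opens, IsAffineOpen V → IsAffineOpen W → IsAffineOpen (V ⊓ W)) →
      Bound g ((t : ℤ) + 1) := by
  induction t with
  | zero =>
    intro Y g s hs haff hcov hd
    haveI := isAffine_of_card_le_one s hs haff hcov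
    simpa using bound_of_isAffineHom g
  | succ t ih =>
    intro Y g s hs haff hcov hd
    classical
    rcases s.eq_empty_or_nonempty with rfl | ⟨a, ha⟩
    · haveI := isAffine_of_card_le_one ∅ (by simp) haff hcov
      exact (bound_of_isAffineHom g).mono _ (by push_cast; omega)
    · let s' := s.erase a
      have hs' : s'.card ≤ t + 1 := by
        rw [Finset.card_erase_of_mem ha]; omega
      let B : Y.Opens := ⨆ V ∈ s', V
      have hmemB : ∀ V ∈ s', V ≤ B := fun V hV => le_iSup₂ (f := fun V (_ : V ∈ s') => V) V hV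
      have hB : ∀ y : Y, y ∈ B → ∃ V ∈ s', y ∈ V := by
        intro y hy
        simp only [B, TopologicalSpace.Opens.mem_iSup] at hy
        obtain ⟨V, hV, hyV⟩ := hy
        exact ⟨V, hV, hyV⟩
      have hAB : a ⊔ B = ⊤ := by
        rw [eq_top_iff]
        intro y _
        obtain ⟨V, hV, hy⟩ := hcov y
        by_cases hVa : V = a
        · exact Or.inl (hVa ▸ hy)
        · exact Or.inr (hmemB V (Finset.mem_erase.mpr ⟨hVa, hV⟩) hy)
      have h1 : Bound (a.ι ≫ g) 1 := by
        haveI : IsAffine (a : Scheme.{u}) := haff a ha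
        exact bound_of_isAffineHom _
      have h2 : Bound (B.ι ≫ g) ((t : ℤ) + 1) := by
        refine ih (B : Scheme.{u}) (B.ι ≫ g) (s'.image (fun V => B.ι ⁻¹ᵁ V))
          (Finset.card_image_le.trans hs') ?_ ?_ (hd_opens B hd)
        · intro V hV
          obtain ⟨V₀, hV₀, rfl⟩ := Finset.mem_image.mp hV
          refine (haff V₀ (Finset.mem_of_mem_erase hV₀)).preimage_of_isOpenImmersion B.ι ?_
          rw [Scheme.Opens.opensRange_ι]
          exact hmemB V₀ hV₀
        · intro y
          obtain ⟨V, hV, hy⟩ := hB y.1 y.2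
          exact ⟨B.ι ⁻¹ᵁ V, Finset.mem_image_of_mem _ hV, hy⟩
      have h3 : Bound ((a ⊓ B).ι ≫ g) ((t : ℤ) + 1) := by
        refine ih ((a ⊓ B : Y.Opens) : Scheme.{u}) ((a ⊓ B).ι ≫ g)
          (s'.image (fun V => (a ⊓ B).ι ⁻¹ᵁ (a ⊓ V)))
          (Finset.card_image_le.trans hs') ?_ ?_ (hd_opens (a ⊓ B) hd)
        · intro V hV
          obtain ⟨V₀, hV₀, rfl⟩ := Finset.mem_image.mp hV
          refine (hd a V₀ (haff a ha) (haff V₀ (Finset.mem_of_mem_erase hV₀))).preimage_of_isOpenImmersion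
            (a ⊓ B).ι ?_
          rw [Scheme.Opens.opensRange_ι]
          exact inf_le_inf_left a (hmemB V₀ hV₀)
        · intro y
          obtain ⟨V, hV, hy⟩ := hB y.1 y.2.2
          exact ⟨(a ⊓ B).ι ⁻¹ᵁ (a ⊓ V), Finset.mem_image_of_mem _ hV, ⟨y.2.1, hy⟩⟩
      exact (bound_of_mv g a B hAB h1 h2 h3).mono _ (by push_cast; omega)

end Groth.Agent.Lib.Helper32.BoundAffines
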