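import Mathlib

/-!
# Brown representability for compactly generated triangulated categories (abstract form)

`T` pretriangulated with coproducts indexed by types in `Type v`, a `Type v`-indexed family of
generators `E i`, stable under `⟦1⟧`-desuspension up to iso, compact with respect to countable
coproducts, with `v`-small hom sets out of them.  Every homological functor
`H : Tᵒᵖ ⥤ AddCommGrpCat.{v}` sending coproducts to products is representable (elementwise form).
-/

set_option autoImplicit false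

namespace Groth.Agent.Lib.Helper32.BrownAbstract

open CategoryTheory CategoryTheory.Limits Opposite Pretriangulated
open CategoryTheory.Pretriangulated.Opposite

universe w v v₁ u₁

variable {T : Type u₁} [Category.{v₁} T]

section Elementwise

variable (H : Tᵒᵖ ⥤ AddCommGrpCat.{v})

lemma map_comp_apply {X Y Z : T} (f : X ⟶ Y) (g : Y ⟶ Z) (z : H.obj (op Z)) :
    H.map (f ≫ g).op z = H.map f.op (H.map g.op z) := by
  rw [op_comp, H.map_comp]; rfl

lemma map_id_apply {X : T} (z : H.obj (op X)) : H.map (𝟙 X).op z = z := by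
  rw [op_id, H.map_id]; rfl

/-- The fan in `Tᵒᵖ` associated to a cofan in `T` is a limit. -/
def isLimitOpFan {J : Type w} {Y : J → T} (c : Cofan Y) (hc : IsColimit c) :
    IsLimit (Fan.mk (op c.pt) (fun j => (c.inj j).op) : Fan (fun j => op (Y j))) :=
  Fan.IsLimit.mk _ (fun s => (Cofan.IsColimit.desc hc (fun j => (s.proj j).unop)).op)
    (fun s j => by
      apply Quiver.Hom.unop_inj
      simp)
    (fun s m hm => by
      apply Quiver.Hom.unop_inj
      apply Cofan.IsColimit.hom_ext hc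
      intro j
      have := congrArg Quiver.Hom.unop (hm j)
      simpa using this)

/-- Elementwise form of "`H` sends `J`-indexed coproducts to products". -/
structure ProdProp (J : Type w) : Prop where
  ex : ∀ (Y : J → T) (c : Cofan Y) (_ : IsColimit c) (y : ∀ j, H.obj (op (Y j))),
    ∃ z : H.obj (op c.pt), ∀ j, H.map (c.inj j).op z = y j
  ext : ∀ (Y : J → T) (c : Cofan Y) (_ : IsColimit c) (z z' : H.obj (op c.pt)),
    (∀ j, H.map (c.inj j).op z = H.map (c.inj j).op z') → z = z'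

lemma prodProp_of_preserves (J : Type w) [PreservesLimitsOfShape (Discrete J) H] :
    ProdProp H J := by
  have key : ∀ (Y : J → T) (c : Cofan Y) (_ : IsColimit c),
      IsLimit (Fan.mk (H.obj (op c.pt)) (fun j => H.map (c.inj j).op) :
        Fan (fun j => H.obj (op (Y j)))) := fun Y c hc =>
    (isLimitMapConeFanMkEquiv H _ _) (isLimitOfPreserves H (isLimitOpFan c hc))
  constructor
  · intro Y c hc y
    have hl := key Y c hc
    let s : Fan (fun j => H.obj (op (Y j))) :=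
      Fan.mk (AddCommGrpCat.of (ULift.{v} ℤ)) (fun j => AddCommGrpCat.ofHom
        ((zmultiplesHom _ (y j)).comp AddEquiv.ulift.toAddMonoidHom))
    refine ⟨hl.lift s (ULift.up 1), fun j => ?_⟩
    have := ConcreteCategory.congr_hom (hl.fac s ⟨j⟩) (ULift.up 1)
    refine Eq.trans ?_ (this.trans ?_)
    · rfl
    · change ((1 : ℤ) • y j) = y j
      exact one_smul _ _
  · intro Y c hc z z' h
    have hl := key Y c hc
    refine Concrete.isLimit_ext _ hl z z' ?_
    rintro ⟨j⟩
    exact h j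

lemma ProdProp.ex' {J : Type w} [HasCoproductsOfShape J T] {H : Tᵒᵖ ⥤ AddCommGrpCat.{v}}
    (h : ProdProp H J) (Y : J → T) (y : ∀ j, H.obj (op (Y j))) :
    ∃ z : H.obj (op (∐ Y)), ∀ j, H.map (Sigma.ι Y j).op z = y j :=
  h.ex Y _ (coproductIsCoproduct Y) y

lemma ProdProp.ext' {J : Type w} [HasCoproductsOfShape J T] {H : Tᵒᵖ ⥤ AddCommGrpCat.{v}}
    (h : ProdProp H J) (Y : J → T) (z z' : H.obj (op (∐ Y)))
    (hz : ∀ j, H.map (Sigma.ι Y j).op z = H.map (Sigma.ι Y j).op z') : z = z' :=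
  h.ext Y _ (coproductIsCoproduct Y) z z' hz

end Elementwise

section Main

variable [Preadditive T] [HasZeroObject T] [HasShift T ℤ]
  [∀ n : ℤ, (shiftFunctor T n).Additive] [Pretriangulated T]

lemma exact_of_dist (H : Tᵒᵖ ⥤ AddCommGrpCat.{v}) [H.IsHomological] (Tr : Triangle T)
    (hTr : Tr ∈ distTriang T) (y : H.obj (op Tr.obj₂)) (hy : H.map Tr.mor₁.op y = 0) :
    ∃ z : H.obj (op Tr.obj₃), H.map Tr.mor₂.op z = y := by
  have h := H.map_distinguished_exact _ (op_distinguished Tr hTr)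
  rw [ShortComplex.ab_exact_iff] at h
  exact h y hy

lemma map_sub_apply (H : Tᵒᵖ ⥤ AddCommGrpCat.{v}) [H.Additive] {X Y : T} (f g : X ⟶ Y)
    (y : H.obj (op Y)) : H.map (f - g).op y = H.map f.op y - H.map g.op y := by
  rw [op_sub, H.map_sub]
  rfl

variable [∀ J : Type v, HasCoproductsOfShape J T] [HasCoproductsOfShape ℕ T]

/-- The hypotheses of Brown representability, in elementwise form. -/
structure Data (H : Tᵒᵖ ⥤ AddCommGrpCat.{v}) {ι : Type v} (E : ι → T) : Prop where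
  exact : ∀ (Tr : Triangle T), Tr ∈ distTriang T → ∀ y : H.obj (op Tr.obj₂),
    H.map Tr.mor₁.op y = 0 → ∃ z : H.obj (op Tr.obj₃), H.map Tr.mor₂.op z = y
  add : ∀ {X Y : T} (f g : X ⟶ Y) (y : H.obj (op Y)),
    H.map (f - g).op y = H.map f.op y - H.map g.op y
  prodV : ∀ J : Type v, ProdProp H J
  prodN : ProdProp H ℕ
  small : ∀ i X, Small.{v} (E i ⟶ X)
  shift : ∀ i, ∃ j, Nonempty ((E j)⟦(1 : ℤ)⟧ ≅ E i)
  gen : ∀ X : T, (∀ i (f : E i ⟶ X), f = 0) → IsZero X
  cpt : ∀ i (Y : ℕ → T) (e : E i ⟶ ∐ Y),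
    ∃ N : ℕ, e = ∑ n ∈ Finset.range N, e ≫ Sigma.π Y n ≫ Sigma.ι Y n

variable {H : Tᵒᵖ ⥤ AddCommGrpCat.{v}} {ι : Type v} {E : ι → T} (hD : Data H E)
include hD

lemma map_zero_apply {X Y : T} (y : H.obj (op Y)) : H.map (0 : X ⟶ Y).op y = 0 := by
  have := hD.add (0 : X ⟶ Y) 0 y
  rwa [sub_zero, sub_self] at this

lemma shift_inj {A B : T} (ψ : A ⟶ B) (h : ∀ i (b : E i ⟶ A), b ≫ ψ = 0 → b = 0) :
    ∀ i (a : E i ⟶ A⟦(1 : ℤ)⟧), a ≫ ψ⟦(1 : ℤ)⟧' = 0 → a = 0 := by
  intro i a ha
  obtain ⟨j, ⟨θ⟩⟩ := hD.shift i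
  obtain ⟨b, hb⟩ := (shiftFunctor T (1 : ℤ)).map_surjective (θ.hom ≫ a)
  have h1 : b ≫ ψ = 0 := (shiftFunctor T (1 : ℤ)).map_injective (by
    rw [Functor.map_comp, hb, Category.assoc, ha, comp_zero, Functor.map_zero])
  have hb0 := h j b h1
  have h2 : θ.hom ≫ a = 0 := by rw [← hb, hb0, Functor.map_zero]
  exact (cancel_epi θ.hom).1 (by rw [h2, comp_zero])

lemma exists_lift (Tr : Triangle T) (hTr : Tr ∈ distTriang T)
    (h : ∀ i (b : E i ⟶ Tr.obj₁), b ≫ Tr.mor₁ = 0 → b = 0) (i : ι) (e : E i ⟶ Tr.obj₃) :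
    ∃ e' : E i ⟶ Tr.obj₂, e = e' ≫ Tr.mor₂ := by
  have h0 : e ≫ Tr.mor₃ = 0 := by
    apply shift_inj hD Tr.mor₁ h
    rw [Category.assoc, comp_distTriang_mor_zero₃₁ _ hTr, comp_zero]
  exact Triangle.coyoneda_exact₃ _ hTr e h0

lemma isIso_of_bijective {X X' : T} (φ : X ⟶ X')
    (h : ∀ i, Function.Bijective (fun f : E i ⟶ X => f ≫ φ)) : IsIso φ := by
  obtain ⟨C, g, δ, hT⟩ := distinguished_cocone_triangle φ
  have hC : IsZero C := by
    apply hD.gen
    intro i e
    obtain ⟨e', h4⟩ : ∃ e' : E i ⟶ X', e = e' ≫ g := exists_lift hD _ hT (fun i b hb => by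
      apply (h i).1
      change b ≫ φ = 0 ≫ φ
      rw [zero_comp]
      exact hb) i e
    obtain ⟨e'', he''⟩ := (h i).2 e'
    have h3 : e'' ≫ φ = e' := he''
    have h5 : φ ≫ g = 0 := comp_distTriang_mor_zero₁₂ _ hT
    rw [h4, ← h3, Category.assoc, h5, comp_zero]
  exact (Triangle.isZero₃_iff_isIso₁ _ hT).1 hC

/-- A pair `(X, x)` with `x ∈ H(X)`. -/
structure St (H : Tᵒᵖ ⥤ AddCommGrpCat.{v}) where
  X : T
  x : H.obj (op X)

lemma exists_next (s : St H) :
    ∃ (s' : St H) (j : s.X ⟶ s'.X), H.map j.op s'.x = s.x ∧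
      ∀ i (f : E i ⟶ s.X), H.map f.op s.x = 0 → f ≫ j = 0 := by
  obtain ⟨X, x⟩ := s
  haveI := hD.small
  let U := Σ i : ι, {s : Shrink.{v} (E i ⟶ X) // H.map ((equivShrink _).symm s).op x = 0}
  let k : (∐ (fun u : U => E u.1)) ⟶ X := Sigma.desc (fun u : U => (equivShrink _).symm u.2.1)
  obtain ⟨X', j, δ, hT⟩ := distinguished_cocone_triangle k
  have hk : H.map k.op x = 0 := by
    apply (hD.prodV U).ext' (fun u : U => E u.1)
    intro u
    rw [← map_comp_apply, map_zero]
    have : Sigma.ι (fun u : U => E u.1) u ≫ k = (equivShrink _).symm u.2.1 :=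
      Sigma.ι_desc _ _
    rw [this]
    exact u.2.2
  obtain ⟨x', hx'⟩ := hD.exact _ hT x hk
  refine ⟨⟨X', x'⟩, j, hx', fun i f hf => ?_⟩
  let u : U := ⟨i, equivShrink _ f, by rw [Equiv.symm_apply_apply]; exact hf⟩
  have h1 : Sigma.ι (fun u : U => E u.1) u ≫ k = f := by
    have : Sigma.ι (fun u : U => E u.1) u ≫ k = (equivShrink _).symm u.2.1 :=
      Sigma.ι_desc _ _
    rw [this]
    exact Equiv.symm_apply_apply _ _
  have h2 : k ≫ j = 0 := comp_distTriang_mor_zero₁₂ _ hT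
  change f ≫ j = 0
  rw [← h1, Category.assoc, h2, comp_zero]

lemma hocolim (X : ℕ → T) (x : ∀ n, H.obj (op (X n))) (j : ∀ n, X n ⟶ X (n + 1))
    (hj : ∀ n, H.map (j n).op (x (n + 1)) = x n) :
    ∃ (L : T) (xL : H.obj (op L)) (g : ∀ n, X n ⟶ L), (∀ n, H.map (g n).op xL = x n) ∧
      (∀ n, j n ≫ g (n + 1) = g n) ∧
      (∀ i (e : E i ⟶ L), ∃ (N : ℕ) (e' : E i ⟶ X N), e = e' ≫ g N) := by
  let sh : (∐ X) ⟶ ∐ X := Sigma.desc (fun n => j n ≫ Sigma.ι X (n + 1))
  let D : (∐ X) ⟶ ∐ X := 𝟙 _ - sh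
  have hιD : ∀ n, Sigma.ι X n ≫ D = Sigma.ι X n - j n ≫ Sigma.ι X (n + 1) := by
    intro n
    simp only [D, sh, Preadditive.comp_sub, Category.comp_id, Sigma.ι_desc]
  obtain ⟨L, gL, δ, hT⟩ := distinguished_cocone_triangle D
  obtain ⟨xs, hxs⟩ := hD.prodN.ex' X x
  have hDxs : H.map D.op xs = 0 := by
    apply hD.prodN.ext' X
    intro n
    rw [← map_comp_apply, map_zero, hιD, hD.add, map_comp_apply, hxs, hxs, hj, sub_self]
  obtain ⟨xL, hxL⟩ := hD.exact _ hT xs hDxs
  have hDg : D ≫ gL = 0 := comp_distTriang_mor_zero₁₂ _ hT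
  refine ⟨L, xL, fun n => Sigma.ι X n ≫ gL, fun n => ?_, fun n => ?_, fun i e => ?_⟩
  · rw [map_comp_apply]
    have : H.map gL.op xL = xs := hxL
    rw [this, hxs]
  · have := hιD n
    have h2 : (Sigma.ι X n - j n ≫ Sigma.ι X (n + 1)) ≫ gL = 0 := by
      rw [← this, Category.assoc, hDg, comp_zero]
    rw [Preadditive.sub_comp, sub_eq_zero, Category.assoc] at h2
    exact h2.symm
  · -- `D` is injective on maps from generators
    have hπ0 : D ≫ Sigma.π X 0 = Sigma.π X 0 := by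
      apply Sigma.hom_ext
      intro m
      rw [← Category.assoc, hιD, Preadditive.sub_comp, Category.assoc,
        Sigma.ι_π_of_ne X (Nat.succ_ne_zero m), comp_zero, sub_zero]
    have hπs : ∀ n, D ≫ Sigma.π X (n + 1) = Sigma.π X (n + 1) - Sigma.π X n ≫ j n := by
      intro n
      apply Sigma.hom_ext
      intro m
      rw [← Category.assoc, hιD, Preadditive.sub_comp, Preadditive.comp_sub, Category.assoc]
      congr 1
      by_cases hmn : m = n
      · subst hmn
        rw [Sigma.ι_π_eq_id, Sigma.ι_π_eq_id_assoc, Category.comp_id]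
      · rw [Sigma.ι_π_of_ne X (fun h => hmn (Nat.succ_injective h)), comp_zero,
          Sigma.ι_π_of_ne_assoc X hmn, zero_comp]
    have hinj : ∀ i (b : E i ⟶ ∐ X), b ≫ D = 0 → b = 0 := by
      intro i b hb
      have hall : ∀ n, b ≫ Sigma.π X n = 0 := by
        intro n
        induction n with
        | zero => rw [← hπ0, ← Category.assoc, hb, zero_comp]
        | succ n ih =>
          have := hπs n
          have h3 : b ≫ D ≫ Sigma.π X (n + 1) = 0 := by rw [← Category.assoc, hb, zero_comp]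
          rw [this, Preadditive.comp_sub, ← Category.assoc, ih, zero_comp, sub_zero] at h3
          exact h3
      obtain ⟨N, hN⟩ := hD.cpt i X b
      rw [hN]
      apply Finset.sum_eq_zero
      intro n _
      rw [← Category.assoc, hall n, zero_comp]
    obtain ⟨e', he'⟩ : ∃ e' : E i ⟶ ∐ X, e = e' ≫ gL := exists_lift hD _ hT hinj i e
    obtain ⟨N, hN⟩ := hD.cpt i X e'
    have key : ∀ (M : ℕ) (c : ∀ n, E i ⟶ X n), ∃ e'' : E i ⟶ X M,
        ∑ n ∈ Finset.range (M + 1), c n ≫ Sigma.ι X n ≫ gL = e'' ≫ Sigma.ι X M ≫ gL := by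
      intro M c
      induction M with
      | zero => exact ⟨c 0, by simp⟩
      | succ M ih =>
        obtain ⟨e'', he''⟩ := ih
        refine ⟨e'' ≫ j M + c (M + 1), ?_⟩
        rw [Finset.sum_range_succ, he'', Preadditive.add_comp, Category.assoc]
        congr 1
        have h4 := hιD M
        have h2 : (Sigma.ι X M - j M ≫ Sigma.ι X (M + 1)) ≫ gL = 0 := by
          rw [← h4, Category.assoc, hDg, comp_zero]
        rw [Preadditive.sub_comp, sub_eq_zero, Category.assoc] at h2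
        rw [h2]
    obtain ⟨e'', he''⟩ := key N (fun n => if n < N then e' ≫ Sigma.π X n else 0)
    refine ⟨N, e'', ?_⟩
    rw [← he'', Finset.sum_range_succ, if_neg (lt_irrefl N), zero_comp, add_zero, he']
    conv_lhs => rw [hN, Preadditive.sum_comp]
    apply Finset.sum_congr rfl
    intro n hn
    rw [if_pos (Finset.mem_range.1 hn)]
    simp only [Category.assoc]

lemma exists_stage {J : Type v} (W : J → T) (w : ∀ j, H.obj (op (W j))) :
    ∃ (X : T) (x : H.obj (op X)) (φ : ∀ j, W j ⟶ X), (∀ j, H.map (φ j).op x = w j) ∧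
      ∀ i, Function.Bijective (fun f : E i ⟶ X => H.map f.op x) := by
  let U₀ := Σ i : ι, H.obj (op (E i))
  let Y₀ : J ⊕ U₀ → T := Sum.elim W (fun p => E p.1)
  let y₀ : ∀ o, H.obj (op (Y₀ o)) := fun o => match o with
    | Sum.inl j => w j
    | Sum.inr p => p.2
  obtain ⟨x₀, hx₀⟩ := (hD.prodV (J ⊕ U₀)).ex' Y₀ y₀
  choose nxt jm h1 h2 using (fun s : St H => exists_next hD s)
  let seq : ℕ → St H := fun n => Nat.rec ⟨∐ Y₀, x₀⟩ (fun _ s => nxt s) n
  obtain ⟨L, xL, g, hg, hjg, hfac⟩ := hocolim hD (fun n => (seq n).X) (fun n => (seq n).x)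
    (fun n => jm (seq n)) (fun n => h1 (seq n))
  have hg0 : H.map (g 0).op xL = x₀ := hg 0
  refine ⟨L, xL, fun j => Sigma.ι Y₀ (Sum.inl j) ≫ g 0, fun j => ?_, fun i => ⟨?_, ?_⟩⟩
  · rw [map_comp_apply, hg0]
    exact hx₀ (Sum.inl j)
  · intro f f' hff
    have hff' : H.map f.op xL = H.map f'.op xL := hff
    have h0 : H.map (f - f').op xL = 0 := by rw [hD.add, hff', sub_self]
    obtain ⟨N, e', he'⟩ := hfac i (f - f')
    have h3 : H.map e'.op (seq N).x = 0 := by
      have := hg N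
      dsimp only at this
      rw [← this, ← map_comp_apply, ← he']
      exact h0
    have h4 : e' ≫ jm (seq N) = 0 := h2 (seq N) i e' h3
    have h5 : f - f' = 0 := by
      have := hjg N
      rw [he', ← this, ← Category.assoc, h4, zero_comp]
    exact sub_eq_zero.1 h5
  · intro a
    refine ⟨Sigma.ι Y₀ (Sum.inr ⟨i, a⟩) ≫ g 0, ?_⟩
    change H.map (Sigma.ι Y₀ (Sum.inr ⟨i, a⟩) ≫ g 0).op xL = a
    rw [map_comp_apply, hg0]
    exact hx₀ (Sum.inr ⟨i, a⟩)

/-- **Brown representability** (elementwise form). -/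
theorem exists_representing : ∃ (X : T) (x : H.obj (op X)), ∀ Y : T,
    Function.Bijective (fun f : Y ⟶ X => H.map f.op x) := by
  obtain ⟨X, x, -, -, hX⟩ := exists_stage hD (J := PEmpty.{v + 1}) (fun j => j.elim)
    (fun j => j.elim)
  -- a map compatible with the classes, between objects good on generators, is an iso
  have iso_of : ∀ (X' : T) (x' : H.obj (op X')) (φ : X ⟶ X'),
      (∀ i, Function.Bijective (fun f : E i ⟶ X' => H.map f.op x')) →
      H.map φ.op x' = x → IsIso φ := by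
    intro X' x' φ hX' hφ
    apply isIso_of_bijective hD
    intro i
    refine ((hX' i).of_comp_iff' (fun f : E i ⟶ X => f ≫ φ)).1 ?_
    convert hX i using 1
    funext f
    change H.map (f ≫ φ).op x' = H.map f.op x
    rw [map_comp_apply, hφ]
  have surj : ∀ (Y : T) (y : H.obj (op Y)), ∃ f : Y ⟶ X, H.map f.op x = y := by
    intro Y y
    let W : ULift.{v} Bool → T := fun b => cond b.down X Y
    let w : ∀ b, H.obj (op (W b)) := fun b => match b with
      | ⟨true⟩ => x
      | ⟨false⟩ => y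
    obtain ⟨X', x', φ, hφ, hX'⟩ := exists_stage hD W w
    let φX : X ⟶ X' := φ ⟨true⟩
    let φY : Y ⟶ X' := φ ⟨false⟩
    have hφX : H.map φX.op x' = x := hφ ⟨true⟩
    have hφY : H.map φY.op x' = y := hφ ⟨false⟩
    haveI : IsIso φX := iso_of X' x' φX hX' hφX
    refine ⟨φY ≫ inv φX, ?_⟩
    rw [map_comp_apply]
    have : H.map (inv φX).op x = x' := by
      rw [← hφX, ← map_comp_apply, IsIso.inv_hom_id, map_id_apply]
    rw [this, hφY]
  refine ⟨X, x, fun Y => ⟨?_, fun y => surj Y y⟩⟩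
  intro f f' hff
  have hff' : H.map f.op x = H.map f'.op x := hff
  have h0 : H.map (f - f').op x = 0 := by rw [hD.add, hff', sub_self]
  obtain ⟨Z, g, δ, hT⟩ := distinguished_cocone_triangle (f - f')
  obtain ⟨z, hz⟩ := hD.exact _ hT x h0
  have hz' : H.map g.op z = x := hz
  obtain ⟨h, hh⟩ := surj Z z
  have hgh : H.map (g ≫ h).op x = x := by rw [map_comp_apply, hh, hz']
  haveI : IsIso (g ≫ h) := iso_of X x (g ≫ h) hX hgh
  have h1 : (f - f') ≫ g = 0 := comp_distTriang_mor_zero₁₂ _ hT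
  have h2 : (f - f') ≫ (g ≫ h) = 0 := by rw [← Category.assoc, h1, zero_comp]
  have h3 : f - f' = 0 := by
    rw [← cancel_mono (g ≫ h), h2, zero_comp]
  exact sub_eq_zero.1 h3

end Main

section Wrapper

variable [Preadditive T] [HasZeroObject T] [HasShift T ℤ]
  [∀ n : ℤ, (shiftFunctor T n).Additive] [Pretriangulated T]
  [∀ J : Type v, HasCoproductsOfShape J T] [HasCoproductsOfShape ℕ T]

/-- The hypotheses on the generators alone. -/
structure Gens {ι : Type v} (E : ι → T) : Prop where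
  small : ∀ i X, Small.{v} (E i ⟶ X)
  shift : ∀ i, ∃ j, Nonempty ((E j)⟦(1 : ℤ)⟧ ≅ E i)
  gen : ∀ X : T, (∀ i (f : E i ⟶ X), f = 0) → IsZero X
  cpt : ∀ i (Y : ℕ → T) (e : E i ⟶ ∐ Y),
    ∃ N : ℕ, e = ∑ n ∈ Finset.range N, e ≫ Sigma.π Y n ≫ Sigma.ι Y n

theorem brown {ι : Type v} {E : ι → T} (hE : Gens E) (H : Tᵒᵖ ⥤ AddCommGrpCat.{v})
    [H.IsHomological] [∀ J : Type v, PreservesLimitsOfShape (Discrete J) H] :
    ∃ (X : T) (x : H.obj (op X)), ∀ Y : T,
      Function.Bijective (fun f : Y ⟶ X => H.map f.op x) := by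
  haveI : PreservesLimitsOfShape (Discrete ℕ) H :=
    preservesLimitsOfShape_of_equiv (Discrete.equivalence Equiv.ulift.{v, 0}) H
  apply exists_representing (E := E)
  exact
    { exact := fun Tr hTr y hy => exact_of_dist H Tr hTr y hy
      add := fun f g y => map_sub_apply H f g y
      prodV := fun J => prodProp_of_preserves H J
      prodN := prodProp_of_preserves H ℕ
      small := hE.small
      shift := hE.shift
      gen := hE.gen
      cpt := hE.cpt }

end Wrapper

end Groth.Agent.Lib.Helper32.BrownAbstract
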