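import Mathlib
import Groth.Agent.Lib.Helper32.DCoprod
import Groth.Agent.Lib.Helper32.BrownAbstract

/-!
# `D(Mod R)` is compactly generated by the shifts of `R`

We verify the hypotheses `BrownAbstract.Gens` for the derived category of `ModuleCat R`
and the generators `Q (R[-k])`.
-/

set_option autoImplicit false

namespace Groth.Agent.Lib.Helper32.BrownMod

open CategoryTheory CategoryTheory.Limits DerivedCategory
open Groth.Agent.Lib.Helper32.DCoprod
open scoped ZeroObject

universe w v

variable (R : Type v) [Ring R]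

/-- The complex `R` placed in degree `k`. -/
noncomputable abbrev P (k : ℤ) : CochainComplex (ModuleCat.{v} R) ℤ :=
  (CochainComplex.singleFunctor (ModuleCat.{v} R) k).obj (ModuleCat.of R R)

instance isKProjective_P (k : ℤ) : (P R k).IsKProjective := by
  haveI : ∀ n, Projective ((P R k).X n) := fun n => by
    by_cases h : n = k
    · subst h
      exact Projective.of_iso (HomologicalComplex.singleObjXSelf (ComplexShape.up ℤ) n
        (ModuleCat.of R R)).symm inferInstance
    · have hz : IsZero ((P R k).X n) :=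
        HomologicalComplex.isZero_single_obj_X (ComplexShape.up ℤ) k (ModuleCat.of R R) n h
      exact ⟨fun f e _ => ⟨0, hz.eq_of_src _ _⟩⟩
  exact CochainComplex.isKProjective_of_projective _ k

/-- The generator of `(P R k).X k`. -/
noncomputable def gen (k : ℤ) : (P R k).X k :=
  (HomologicalComplex.singleObjXSelf (ComplexShape.up ℤ) k (ModuleCat.of R R)).inv (1 : R)

variable {R}

/-- Chain maps out of `P R k` are determined by the image of the generator. -/
lemma hom_ext_P {k : ℤ} {K : CochainComplex (ModuleCat.{v} R) ℤ} (f g : P R k ⟶ K)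
    (h : (f.f k) (gen R k) = (g.f k) (gen R k)) : f = g := by
  apply HomologicalComplex.from_single_hom_ext
  rw [← cancel_epi (HomologicalComplex.singleObjXSelf (ComplexShape.up ℤ) k
    (ModuleCat.of R R)).inv]
  ext
  exact h

section Module

/-- Every element of a countable coproduct of modules is a finite sum of its components. -/
lemma exists_finite_sum (M : ℕ → ModuleCat.{v} R) (p : ∀ n, (∐ M) ⟶ M n)
    (h1 : ∀ n, Sigma.ι M n ≫ p n = 𝟙 _) (h2 : ∀ m n, m ≠ n → Sigma.ι M m ≫ p n = 0)
    (z : (∐ M : ModuleCat.{v} R)) :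
    ∃ N : ℕ, z = ∑ n ∈ Finset.range N, (Sigma.ι M n) ((p n) z) := by
  let S : Submodule R (∐ M : ModuleCat.{v} R) :=
    { carrier := {z | ∃ N : ℕ, ∀ N' ≥ N, z = ∑ n ∈ Finset.range N', (Sigma.ι M n) ((p n) z)}
      zero_mem' := ⟨0, fun N' _ => by simp⟩
      add_mem' := by
        rintro a b ⟨Na, ha⟩ ⟨Nb, hb⟩
        refine ⟨max Na Nb, fun N' hN' => ?_⟩
        have h3 := ha N' (le_trans (le_max_left _ _) hN')
        have h4 := hb N' (le_trans (le_max_right _ _) hN')
        simp only [map_add, Finset.sum_add_distrib]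
        rw [← h3, ← h4]
      smul_mem' := by
        rintro r a ⟨Na, ha⟩
        refine ⟨Na, fun N' hN' => ?_⟩
        have h3 := ha N' hN'
        simp only [map_smul, ← Finset.smul_sum]
        rw [← h3] }
  have hι : ∀ m (x : M m), (Sigma.ι M m) x ∈ S := by
    intro m x
    refine ⟨m + 1, fun N' hN' => ?_⟩
    rw [Finset.sum_eq_single m]
    · have : (p m) ((Sigma.ι M m) x) = x := by
        have := ConcreteCategory.congr_hom (h1 m) x
        simpa using this
      rw [this]
    · intro n _ hn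
      have : (p n) ((Sigma.ι M m) x) = 0 := by
        have := ConcreteCategory.congr_hom (h2 m n (Ne.symm hn)) x
        simpa using this
      rw [this, map_zero]
    · intro hm
      exact absurd (Finset.mem_range.2 (lt_of_lt_of_le (Nat.lt_succ_self m) hN')) hm
  let q : (∐ M) ⟶ ModuleCat.of R ((∐ M : ModuleCat.{v} R) ⧸ S) := ModuleCat.ofHom S.mkQ
  have hq : q = 0 := by
    apply Sigma.hom_ext
    intro m
    rw [comp_zero]
    ext x
    change S.mkQ ((Sigma.ι M m) x) = 0
    rw [Submodule.mkQ_apply, Submodule.Quotient.mk_eq_zero]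
    exact hι m x
  have hz : z ∈ S := by
    have : S.mkQ z = 0 := by
      have := ConcreteCategory.congr_hom hq z
      exact this
    rwa [Submodule.mkQ_apply, Submodule.Quotient.mk_eq_zero] at this
  obtain ⟨N, hN⟩ := hz
  exact ⟨N, hN N le_rfl⟩

end Module

section Cpt

variable (K : ℕ → CochainComplex (ModuleCat.{v} R) ℤ)

/-- The chain-level projection of a coproduct onto a summand. -/
noncomputable def projS (n : ℕ) : sigmaCx K ⟶ K n :=
  sigmaDesc (fun m => if h : m = n then eqToHom (congrArg K h) else 0)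

lemma ι_projS_self (n : ℕ) : sigmaι K n ≫ projS K n = 𝟙 _ := by
  rw [projS, ι_sigmaDesc, dif_pos rfl]; rfl

lemma ι_projS_ne (m n : ℕ) (h : m ≠ n) : sigmaι K m ≫ projS K n = 0 := by
  rw [projS, ι_sigmaDesc, dif_neg h]

lemma sum_f_apply {A B : CochainComplex (ModuleCat.{v} R) ℤ} (s : Finset ℕ)
    (φ : ℕ → (A ⟶ B)) (k : ℤ) (x : A.X k) :
    ((∑ n ∈ s, φ n).f k) x = ∑ n ∈ s, ((φ n).f k) x := by
  have h1 : (∑ n ∈ s, φ n).f k = ∑ n ∈ s, (φ n).f k :=
    map_sum (HomologicalComplex.Hom.fAddMonoidHom (C₁ := A) (C₂ := B) k) φ s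
  rw [h1]
  change (∑ n ∈ s, (φ n).f k).hom x = _
  rw [ModuleCat.hom_sum, LinearMap.sum_apply]

lemma exists_finite_sum_hom {k : ℤ} (g : P R k ⟶ sigmaCx K) :
    ∃ N : ℕ, g = ∑ n ∈ Finset.range N, (g ≫ projS K n) ≫ sigmaι K n := by
  obtain ⟨N, hN⟩ := exists_finite_sum (fun n => (K n).X k) (fun n => (projS K n).f k)
    (fun n => by
      have := congrArg (fun φ => φ.f k) (ι_projS_self K n)
      exact this)
    (fun m n h => by
      have := congrArg (fun φ => φ.f k) (ι_projS_ne K m n h)
      exact this) ((g.f k) (gen R k))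
  refine ⟨N, hom_ext_P _ _ ?_⟩
  rw [sum_f_apply]
  exact hN

end Cpt

section Abstract

lemma sum_π_ι_of_eq {T : Type*} [Category T] [Preadditive T] {Y : ℕ → T} [HasCoproduct Y] {A : T}
    (e : A ⟶ ∐ Y) (N : ℕ) (a : ∀ n, A ⟶ Y n)
    (h : e = ∑ n ∈ Finset.range N, a n ≫ Sigma.ι Y n) :
    e = ∑ n ∈ Finset.range N, e ≫ Sigma.π Y n ≫ Sigma.ι Y n := by
  have h2 : ∀ n ∈ Finset.range N, e ≫ Sigma.π Y n = a n := by
    intro n hn
    rw [h, Preadditive.sum_comp, Finset.sum_eq_single n]
    · rw [Category.assoc, Sigma.ι_π_eq_id, Category.comp_id]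
    · intro m _ hm
      rw [Category.assoc, Sigma.ι_π_of_ne _ hm, comp_zero]
    · intro hn'
      exact absurd hn hn'
  conv_lhs => rw [h]
  apply Finset.sum_congr rfl
  intro n hn
  rw [← Category.assoc, h2 n hn]

end Abstract

section Derived

variable [HasDerivedCategory.{w} (ModuleCat.{v} R)]

lemma exists_rep {k : ℤ} (K : CochainComplex (ModuleCat.{v} R) ℤ)
    (e : Q.obj (P R k) ⟶ Q.obj K) : ∃ g : P R k ⟶ K, e = Q.map g := by
  obtain ⟨g', hg'⟩ := (CochainComplex.IsKProjective.Qh_map_bijective (P R k)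
    ((HomotopyCategory.quotient _ _).obj K)).2 e
  obtain ⟨g, rfl⟩ := (HomotopyCategory.quotient _ _).map_surjective g'
  exact ⟨g, hg'.symm⟩

lemma homotopy_of_Q_map_eq_zero {k : ℤ} {K : CochainComplex (ModuleCat.{v} R) ℤ}
    (g : P R k ⟶ K) (h : Q.map g = 0) : Nonempty (Homotopy g 0) := by
  have := (CochainComplex.IsKProjective.Qh_map_bijective (P R k)
    ((HomotopyCategory.quotient _ _).obj K)).1
    (a₁ := (HomotopyCategory.quotient _ _).map g) (a₂ := 0) (by
      rw [Functor.map_zero]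
      exact h)
  exact ⟨HomotopyCategory.homotopyOfEq _ _ (by rw [this, Functor.map_zero])⟩

instance hasCoproductsOfShape_D (J : Type v) :
    HasCoproductsOfShape J (DerivedCategory (ModuleCat.{v} R)) :=
  hasCoproductsOfShape_derivedCategory

instance hasCoproductsOfShape_D_nat :
    HasCoproductsOfShape ℕ (DerivedCategory (ModuleCat.{v} R)) :=
  hasCoproductsOfShape_derivedCategory

lemma cpt (k : ℤ) (Y : ℕ → DerivedCategory (ModuleCat.{v} R)) (e : Q.obj (P R k) ⟶ ∐ Y) :
    ∃ N : ℕ, e = ∑ n ∈ Finset.range N, e ≫ Sigma.π Y n ≫ Sigma.ι Y n := by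
  let K : ℕ → CochainComplex (ModuleCat.{v} R) ℤ := fun n => Q.objPreimage (Y n)
  let α : ∀ n, Q.obj (K n) ≅ Y n := fun n => Q.objObjPreimageIso (Y n)
  let c : Cofan Y := Cofan.mk (Q.obj (sigmaCx K)) (fun n => (α n).inv ≫ Q.map (sigmaι K n))
  let hc : IsColimit c := Cofan.IsColimit.mk c
    (fun s => Cofan.IsColimit.desc (isColimitCofanQ K) (fun n => (α n).hom ≫ s.inj n))
    (fun s n => by
      have h1 := Cofan.IsColimit.fac (isColimitCofanQ K) (fun n => (α n).hom ≫ s.inj n) n
      change ((α n).inv ≫ Q.map (sigmaι K n)) ≫ _ = _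
      rw [Category.assoc]
      erw [h1]
      rw [Iso.inv_hom_id_assoc])
    (fun s m hm => by
      apply Cofan.IsColimit.hom_ext (isColimitCofanQ K)
      intro n
      have h1 := Cofan.IsColimit.fac (isColimitCofanQ K) (fun n => (α n).hom ≫ s.inj n) n
      rw [h1]
      have h2 := hm n
      change ((α n).inv ≫ Q.map (sigmaι K n)) ≫ m = _ at h2
      rw [← h2, Category.assoc, Iso.hom_inv_id_assoc]
      rfl)
  let θ : ∐ Y ≅ Q.obj (sigmaCx K) := (coproductIsCoproduct Y).coconePointUniqueUpToIso hc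
  have hθ : ∀ n, ((α n).inv ≫ Q.map (sigmaι K n)) ≫ θ.inv = Sigma.ι Y n := fun n =>
    IsColimit.comp_coconePointUniqueUpToIso_inv (coproductIsCoproduct Y) hc ⟨n⟩
  obtain ⟨g, hg⟩ := exists_rep _ (e ≫ θ.hom)
  obtain ⟨N, hN⟩ := exists_finite_sum_hom K g
  have h1 : e = ∑ n ∈ Finset.range N, (Q.map (g ≫ projS K n) ≫ (α n).hom) ≫ Sigma.ι Y n := by
    have h3 : e = Q.map g ≫ θ.inv := by
      rw [← hg, Category.assoc, Iso.hom_inv_id, Category.comp_id]
    rw [h3]
    conv_lhs => rw [hN]
    rw [Functor.map_sum, Preadditive.sum_comp]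
    apply Finset.sum_congr rfl
    intro n _
    rw [Functor.map_comp, ← hθ n]
    simp only [Category.assoc, Iso.hom_inv_id_assoc]
  exact ⟨N, sum_π_ι_of_eq _ _ _ h1⟩

lemma isZero_of_forall_eq_zero (X : DerivedCategory (ModuleCat.{v} R))
    (h : ∀ (k : ℤ) (f : Q.obj (P R k) ⟶ X), f = 0) : IsZero X := by
  let K := Q.objPreimage X
  let α : Q.obj K ≅ X := Q.objObjPreimageIso X
  have hex : ∀ k, K.ExactAt k := by
    intro k
    rw [HomologicalComplex.exactAt_iff' K (k - 1) k (k + 1) (by simp) (by simp),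
      ShortComplex.moduleCat_exact_iff]
    intro z hz
    have hz' : (K.d k (k + 1)) z = 0 := hz
    let φ : ModuleCat.of R R ⟶ K.X k := ModuleCat.ofHom (LinearMap.toSpanSingleton R _ z)
    have hφ : ∀ k', (ComplexShape.up ℤ).Rel k k' → φ ≫ K.d k k' = 0 := by
      intro k' hk'
      obtain rfl : k + 1 = k' := hk'
      ext
      simp [φ, hz']
    let g : P R k ⟶ K := HomologicalComplex.mkHomFromSingle φ hφ
    have hg : Q.map g = 0 := by
      have := h k (Q.map g ≫ α.hom)
      rw [← cancel_mono α.hom, this, zero_comp]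
    obtain ⟨ho⟩ := homotopy_of_Q_map_eq_zero g hg
    have hcomm := ho.comm k
    rw [dNext_eq ho.hom (show (ComplexShape.up ℤ).Rel k (k + 1) from rfl),
      prevD_eq ho.hom (show (ComplexShape.up ℤ).Rel (k - 1) k by simp),
      HomologicalComplex.zero_f, add_zero] at hcomm
    have hd : (P R k).d k (k + 1) = 0 := rfl
    rw [hd, zero_comp, zero_add] at hcomm
    refine ⟨(ho.hom k (k - 1)) (gen R k), ?_⟩
    have h3 := ConcreteCategory.congr_hom hcomm (gen R k)
    have h4 : (g.f k) (gen R k) = z := by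
      rw [HomologicalComplex.mkHomFromSingle_f]
      have h5 : (HomologicalComplex.singleObjXSelf (ComplexShape.up ℤ) k (ModuleCat.of R R)).hom
          ((HomologicalComplex.singleObjXSelf (ComplexShape.up ℤ) k (ModuleCat.of R R)).inv
            (1 : R)) = (1 : R) := by
        have := ConcreteCategory.congr_hom
          (HomologicalComplex.singleObjXSelf (ComplexShape.up ℤ) k (ModuleCat.of R R)).inv_hom_id
          (1 : R)
        exact this
      change (LinearMap.toSpanSingleton R _ z)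
        ((HomologicalComplex.singleObjXSelf (ComplexShape.up ℤ) k (ModuleCat.of R R)).hom
          ((HomologicalComplex.singleObjXSelf (ComplexShape.up ℤ) k (ModuleCat.of R R)).inv
            (1 : R))) = z
      rw [h5]
      simp
    rw [h4] at h3
    exact h3.symm
  have hq : QuasiIso (0 : K ⟶ 0) :=
    ⟨fun n => (quasiIsoAt_iff_exactAt _ n (hex n)).2
      (HomologicalComplex.acyclic_of_isZero _ (isZero_zero _) n)⟩
  haveI : IsIso (Q.map (0 : K ⟶ 0)) := (isIso_Q_map_iff_quasiIso _ _).2 hq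
  have h0 : IsZero (Q.obj (0 : CochainComplex (ModuleCat.{v} R) ℤ)) :=
    Functor.map_isZero Q (isZero_zero _)
  exact IsZero.of_iso (IsZero.of_iso h0 (asIso (Q.map (0 : K ⟶ 0)))) α.symm

lemma small_hom (k : ℤ) (X : DerivedCategory (ModuleCat.{v} R)) :
    Small.{v} (Q.obj (P R k) ⟶ X) := by
  let K := Q.objPreimage X
  let α : Q.obj K ≅ X := Q.objObjPreimageIso X
  apply small_of_surjective (f := fun g : P R k ⟶ K => Q.map g ≫ α.hom)
  intro e
  obtain ⟨g, hg⟩ := exists_rep K (e ≫ α.inv)
  exact ⟨g, by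
    change Q.map g ≫ α.hom = e
    rw [← hg, Category.assoc, Iso.inv_hom_id, Category.comp_id]⟩

lemma shift_iso (k : ℤ) :
    Nonempty ((Q.obj (P R (k + 1)))⟦(1 : ℤ)⟧ ≅ Q.obj (P R k)) :=
  ⟨((Q.commShiftIso (1 : ℤ)).symm.app (P R (k + 1))) ≪≫
    Q.mapIso (((CochainComplex.singleFunctors (ModuleCat.{v} R)).shiftIso 1 k (k + 1)
      (by omega)).app (ModuleCat.of R R))⟩

/-- `D(Mod R)` is compactly generated by the `R[-k]`. -/
theorem gens : BrownAbstract.Gens (T := DerivedCategory (ModuleCat.{v} R))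
    (fun k : ULift.{v} ℤ => Q.obj (P R k.down)) where
  small i X := small_hom i.down X
  shift i := ⟨⟨i.down + 1⟩, shift_iso i.down⟩
  gen X h := isZero_of_forall_eq_zero X (fun k f => h ⟨k⟩ f)
  cpt i Y e := cpt i.down Y e

open CategoryTheory.Pretriangulated.Opposite Opposite in
/-- **Brown representability** for `D(Mod R)`. -/
theorem brown_mod (H : (DerivedCategory (ModuleCat.{v} R))ᵒᵖ ⥤ AddCommGrpCat.{v})
    [H.IsHomological] [∀ J : Type v, PreservesLimitsOfShape (Discrete J) H] :
    ∃ (X : DerivedCategory (ModuleCat.{v} R)) (x : H.obj (op X)), ∀ Y,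
      Function.Bijective (fun f : Y ⟶ X => H.map f.op x) :=
  BrownAbstract.brown gens H

end Derived

end Groth.Agent.Lib.Helper32.BrownMod
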