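import Mathlib.Algebra.Homology.Homotopy
import Mathlib.Algebra.Homology.Embedding.CochainComplex
import Mathlib.Algebra.Homology.HomologicalComplexBiprod
import Mathlib.Algebra.Homology.HomotopyCategory.Pretriangulated
import Mathlib.Algebra.Homology.HomotopyCategory.MappingCocone
import Mathlib.CategoryTheory.Limits.Shapes.BinaryBiproducts

/-!
# Factorization of a morphism of cochain complexes as a termwise split injection followed by a
homotopy equivalence (helper32)
-/

set_option autoImplicit false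
universe v u
open CategoryTheory CategoryTheory.Limits

namespace Groth.Agent.Lib.Helper32

/-- Abstract shear isomorphism: a split mono with an explicit complement is isomorphic to `biprod.inl`. -/
theorem exists_iso_biprod_inl {V : Type u} [Category.{v} V] [Preadditive V] [HasBinaryBiproducts V]
    {A B P : V} (i : A ⟶ B) (r : B ⟶ A) (q : B ⟶ P) (j : P ⟶ B)
    (hir : i ≫ r = 𝟙 A) (hiq : i ≫ q = 0) (hjr : j ≫ r = 0) (hjq : j ≫ q = 𝟙 P)
    (htot : r ≫ i + q ≫ j = 𝟙 B) : ∃ (C : V) (e : B ≅ A ⊞ C), i ≫ e.hom = biprod.inl := by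
  refine ⟨P, ⟨biprod.lift r q, biprod.desc i j, ?_, ?_⟩, ?_⟩
  · rw [biprod.lift_desc, htot]
  · apply biprod.hom_ext' <;> apply biprod.hom_ext <;> simp [hir, hiq, hjr, hjq]
  · apply biprod.hom_ext <;> simp [hir, hiq]

/-- Abstract shear isomorphism, dual form: a split epi with an explicit complement is isomorphic to
`biprod.snd`. -/
theorem exists_iso_biprod_snd {V : Type u} [Category.{v} V] [Preadditive V] [HasBinaryBiproducts V]
    {A B P : V} (p : B ⟶ A) (s : A ⟶ B) (q : B ⟶ P) (j : P ⟶ B)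
    (hsp : s ≫ p = 𝟙 A) (hjp : j ≫ p = 0) (hsq : s ≫ q = 0) (hjq : j ≫ q = 𝟙 P)
    (htot : q ≫ j + p ≫ s = 𝟙 B) : ∃ (C : V) (e : B ≅ C ⊞ A), e.inv ≫ p = biprod.snd := by
  refine ⟨P, ⟨biprod.lift q p, biprod.desc j s, ?_, ?_⟩, ?_⟩
  · rw [biprod.lift_desc, htot]
  · apply biprod.hom_ext' <;> apply biprod.hom_ext <;> simp [hsp, hjp, hsq, hjq]
  · apply biprod.hom_ext' <;> simp [hsp, hjp]

open CochainComplex HomologicalComplex CategoryTheory.Category in
set_option backward.defeqAttrib.useBackward true in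
set_option backward.isDefEq.respectTransparency false in
/-- Factorization `α = α' ≫ π` with `α'` a termwise split injection into `L ⊞ cone(𝟙 K)` and
`π` a homotopy equivalence with section. -/
theorem exists_split_injective_factorization {V : Type u} [Category.{v} V] [Preadditive V]
    [HasBinaryBiproducts V] [HasZeroObject V]
    (K L : CochainComplex V ℤ) (α : K ⟶ L) :
    ∃ (L' : CochainComplex V ℤ) (α' : K ⟶ L') (π : L' ⟶ L) (s : L ⟶ L'),
      α' ≫ π = α ∧ s ≫ π = 𝟙 L ∧ Nonempty (Homotopy (π ≫ s) (𝟙 L')) ∧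
      (∀ n : ℤ, ∃ (C : V) (e : L'.X n ≅ K.X n ⊞ C), α'.f n ≫ e.hom = biprod.inl) ∧
      (∀ a : ℤ, K.IsStrictlyGE a → L.IsStrictlyGE a → L'.IsStrictlyGE (a - 1)) ∧
      (∀ a : ℤ, K.IsStrictlyLE a → L.IsStrictlyLE a → L'.IsStrictlyLE a) := by
  let M := mappingCone (𝟙 K)
  refine ⟨L ⊞ M, biprod.lift α (mappingCone.inr (𝟙 K)), biprod.fst, biprod.inl,
    biprod.lift_fst _ _, biprod.inl_fst, ⟨?_⟩, ?_, ?_, ?_⟩
  · -- homotopy
    have h0 : Homotopy ((biprod.snd : L ⊞ M ⟶ M) ≫ 𝟙 M ≫ biprod.inr) 0 :=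
      (((mappingCone.homotopyToZeroOfId K).compRight (biprod.inr : M ⟶ L ⊞ M)).compLeft
        (biprod.snd : L ⊞ M ⟶ M)).trans (Homotopy.ofEq (by simp))
    have h1 : (biprod.fst : L ⊞ M ⟶ L) ≫ (biprod.inl : L ⟶ L ⊞ M) =
        (biprod.fst : L ⊞ M ⟶ L) ≫ (biprod.inl : L ⟶ L ⊞ M) + 0 := (add_zero _).symm
    have h2 : (biprod.fst : L ⊞ M ⟶ L) ≫ (biprod.inl : L ⟶ L ⊞ M) +
        (biprod.snd : L ⊞ M ⟶ M) ≫ 𝟙 M ≫ (biprod.inr : M ⟶ L ⊞ M) = 𝟙 (L ⊞ M) := by
      rw [id_comp, biprod.total]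
    exact (Homotopy.ofEq h1).trans
      (((Homotopy.refl _).add h0.symm).trans (Homotopy.ofEq h2))
  · intro n
    -- notation
    let pL := (biprod.fst : L ⊞ M ⟶ L).f n
    let pM := (biprod.snd : L ⊞ M ⟶ M).f n
    let iL := (biprod.inl : L ⟶ L ⊞ M).f n
    let iM := (biprod.inr : M ⟶ L ⊞ M).f n
    let fM : M.X n ⟶ K.X (n + 1) := (mappingCone.fst (𝟙 K)).1.v n (n + 1) rfl
    let sM : M.X n ⟶ K.X n := (mappingCone.snd (𝟙 K)).v n n (add_zero n)
    let jl : K.X (n + 1) ⟶ M.X n := (mappingCone.inl (𝟙 K)).v (n + 1) n (by omega)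
    let jr : K.X n ⟶ M.X n := (mappingCone.inr (𝟙 K)).f n
    let i := (biprod.lift α (mappingCone.inr (𝟙 K)) : K ⟶ L ⊞ M).f n
    have hiL : i ≫ pL = α.f n := by
      dsimp [i, pL]; rw [← comp_f, biprod.lift_fst]
    have hiM : i ≫ pM = jr := by
      dsimp [i, pM]; rw [← comp_f, biprod.lift_snd]
    have e1 : iL ≫ pL = 𝟙 _ := biprod_inl_fst_f _ _ _
    have e2 : iL ≫ pM = 0 := biprod_inl_snd_f _ _ _
    have e3 : iM ≫ pL = 0 := biprod_inr_fst_f _ _ _
    have e4 : iM ≫ pM = 𝟙 _ := biprod_inr_snd_f _ _ _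
    have e5 : pL ≫ iL + pM ≫ iM = 𝟙 _ := biprod_total_f _ _ _
    have m1 : jl ≫ fM = 𝟙 _ := mappingCone.inl_v_fst_v _ _ _ _
    have m2 : jl ≫ sM = 0 := mappingCone.inl_v_snd_v _ _ _ _
    have m3 : jr ≫ fM = 0 := mappingCone.inr_f_fst_v _ _ _ _
    have m4 : jr ≫ sM = 𝟙 _ := mappingCone.inr_f_snd_v _ _
    have m5 : fM ≫ jl + sM ≫ jr = 𝟙 _ := mappingCone.id_X _ _ _ _
    have hi : i = α.f n ≫ iL + jr ≫ iM := by
      rw [← comp_id i, ← e5, Preadditive.comp_add, reassoc_of% hiL, reassoc_of% hiM]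
    refine exists_iso_biprod_inl i (pM ≫ sM)
      (biprod.lift (pL - pM ≫ sM ≫ α.f n) (pM ≫ fM)) (biprod.desc iL (jl ≫ iM)) ?_ ?_ ?_ ?_ ?_
    · rw [reassoc_of% hiM, m4]
    · apply biprod.hom_ext
      · simp only [assoc, biprod.lift_fst, zero_comp, Preadditive.comp_sub, hiL, reassoc_of% hiM,
          reassoc_of% m4, sub_self]
      · simp only [assoc, biprod.lift_snd, zero_comp, reassoc_of% hiM, m3]
    · apply biprod.hom_ext'
      · simp only [biprod.inl_desc_assoc, comp_zero, reassoc_of% e2, zero_comp]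
      · simp only [biprod.inr_desc_assoc, comp_zero, assoc, reassoc_of% e4, m2]
    · apply biprod.hom_ext' <;> apply biprod.hom_ext
      · simp only [biprod.inl_desc_assoc, assoc, biprod.lift_fst, Preadditive.comp_sub, e1,
          reassoc_of% e2, zero_comp, sub_zero, comp_id, biprod.inl_fst]
      · simp only [biprod.inl_desc_assoc, assoc, biprod.lift_snd, reassoc_of% e2, zero_comp,
          comp_id, biprod.inl_snd]
      · simp only [biprod.inr_desc_assoc, assoc, biprod.lift_fst, Preadditive.comp_sub, e3,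
          comp_zero, reassoc_of% e4, reassoc_of% m2, zero_comp, sub_self, comp_id, biprod.inr_fst]
      · simp only [biprod.inr_desc_assoc, assoc, biprod.lift_snd, reassoc_of% e4, m1, comp_id,
          biprod.inr_snd]
    · rw [biprod.lift_desc, hi]
      simp only [Preadditive.comp_add, Preadditive.sub_comp, assoc]
      rw [← e5]
      have : pM ≫ iM = pM ≫ (fM ≫ jl + sM ≫ jr) ≫ iM := by rw [m5, id_comp]
      rw [this]
      simp only [Preadditive.comp_add, Preadditive.add_comp, assoc]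
      abel
  · intro a hK hL
    rw [isStrictlyGE_iff]
    intro i hi
    have hM : IsZero (M.X i) := by
      rw [mappingCone.isZero_X_iff]
      exact ⟨K.isZero_of_isStrictlyGE a _ (by omega), K.isZero_of_isStrictlyGE a _ (by omega)⟩
    rw [IsZero.iff_id_eq_zero, ← biprod_total_f,
      (L.isZero_of_isStrictlyGE a i (by omega)).eq_of_tgt ((biprod.fst : L ⊞ M ⟶ L).f i) 0,
      hM.eq_of_tgt ((biprod.snd : L ⊞ M ⟶ M).f i) 0,
      zero_comp, zero_comp, add_zero]
  · intro a hK hL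
    rw [isStrictlyLE_iff]
    intro i hi
    have hM : IsZero (M.X i) := by
      rw [mappingCone.isZero_X_iff]
      exact ⟨K.isZero_of_isStrictlyLE a _ (by omega), K.isZero_of_isStrictlyLE a _ (by omega)⟩
    rw [IsZero.iff_id_eq_zero, ← biprod_total_f,
      (L.isZero_of_isStrictlyLE a i (by omega)).eq_of_tgt ((biprod.fst : L ⊞ M ⟶ L).f i) 0,
      hM.eq_of_tgt ((biprod.snd : L ⊞ M ⟶ M).f i) 0,
      zero_comp, zero_comp, add_zero]

open CochainComplex HomologicalComplex CategoryTheory.Category in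
set_option backward.defeqAttrib.useBackward true in
set_option backward.isDefEq.respectTransparency false in
/-- The mapping cocone of an identity is contractible. -/
noncomputable def mappingCoconeIdHomotopyToZero {V : Type u} [Category.{v} V] [Preadditive V]
    [HasBinaryBiproducts V] [HasZeroObject V] (L : CochainComplex V ℤ) :
    Homotopy (𝟙 (mappingCocone (𝟙 L))) 0 :=
  (Homotopy.ofEq (by
    change 𝟙 _ = (CategoryTheory.shiftFunctor (CochainComplex V ℤ) (-1 : ℤ)).map (𝟙 (mappingCone (𝟙 L)))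
    rw [CategoryTheory.Functor.map_id])).trans
    (((mappingCone.homotopyToZeroOfId L).shift (-1)).trans
      (Homotopy.ofEq (CategoryTheory.Functor.map_zero _ _ _)))

open CochainComplex HomologicalComplex CategoryTheory.Category in
set_option backward.defeqAttrib.useBackward true in
set_option backward.isDefEq.respectTransparency false in
theorem isZero_mappingCocone_X_iff {V : Type u} [Category.{v} V] [Preadditive V]
    [HasBinaryBiproducts V] [HasZeroObject V] {K L : CochainComplex V ℤ} (φ : K ⟶ L) (n : ℤ) :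
    IsZero ((mappingCocone φ).X n) ↔ IsZero (K.X n) ∧ IsZero (L.X (n - 1)) := by
  change IsZero ((mappingCone φ).X (n + -1)) ↔ _
  rw [mappingCone.isZero_X_iff]
  have h1 : n + -1 + 1 = n := by omega
  have h2 : n + -1 = n - 1 := by omega
  rw [h1, h2]

open CochainComplex HomologicalComplex CategoryTheory.Category in
set_option backward.defeqAttrib.useBackward true in
set_option backward.isDefEq.respectTransparency false in
/-- Factorization `α = i ≫ α'` with `α'` a termwise split surjection from `K ⊞ cocone(𝟙 L)` and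
`i` a homotopy equivalence with retraction. -/
theorem exists_split_surjective_factorization {V : Type u} [Category.{v} V] [Preadditive V]
    [HasBinaryBiproducts V] [HasZeroObject V]
    (K L : CochainComplex V ℤ) (α : K ⟶ L) :
    ∃ (K' : CochainComplex V ℤ) (i : K ⟶ K') (α' : K' ⟶ L) (s : K' ⟶ K),
      i ≫ α' = α ∧ i ≫ s = 𝟙 K ∧ Nonempty (Homotopy (s ≫ i) (𝟙 K')) ∧
      (∀ n : ℤ, ∃ (C : V) (e : K'.X n ≅ C ⊞ L.X n), e.inv ≫ α'.f n = biprod.snd) ∧
      (∀ a : ℤ, K.IsStrictlyGE a → L.IsStrictlyGE a → K'.IsStrictlyGE a) ∧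
      (∀ a : ℤ, K.IsStrictlyLE a → L.IsStrictlyLE a → K'.IsStrictlyLE (a + 1)) := by
  let N := mappingCocone (𝟙 L)
  refine ⟨K ⊞ N, biprod.inl, biprod.desc α (mappingCocone.fst (𝟙 L)), biprod.fst,
    biprod.inl_desc _ _, biprod.inl_fst, ⟨?_⟩, ?_, ?_, ?_⟩
  · -- homotopy
    have h0 : Homotopy ((biprod.snd : K ⊞ N ⟶ N) ≫ 𝟙 N ≫ biprod.inr) 0 :=
      (((mappingCoconeIdHomotopyToZero L).compRight (biprod.inr : N ⟶ K ⊞ N)).compLeft
        (biprod.snd : K ⊞ N ⟶ N)).trans (Homotopy.ofEq (by simp))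
    have h1 : (biprod.fst : K ⊞ N ⟶ K) ≫ (biprod.inl : K ⟶ K ⊞ N) =
        (biprod.fst : K ⊞ N ⟶ K) ≫ (biprod.inl : K ⟶ K ⊞ N) + 0 := (add_zero _).symm
    have h2 : (biprod.fst : K ⊞ N ⟶ K) ≫ (biprod.inl : K ⟶ K ⊞ N) +
        (biprod.snd : K ⊞ N ⟶ N) ≫ 𝟙 N ≫ (biprod.inr : N ⟶ K ⊞ N) = 𝟙 (K ⊞ N) := by
      rw [id_comp, biprod.total]
    exact (Homotopy.ofEq h1).trans
      (((Homotopy.refl _).add h0.symm).trans (Homotopy.ofEq h2))
  · intro n
    let pK := (biprod.fst : K ⊞ N ⟶ K).f n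
    let pN := (biprod.snd : K ⊞ N ⟶ N).f n
    let iK := (biprod.inl : K ⟶ K ⊞ N).f n
    let iN := (biprod.inr : N ⟶ K ⊞ N).f n
    let fstN : N.X n ⟶ L.X n := (mappingCocone.fst (𝟙 L)).f n
    let sndN : N.X n ⟶ L.X (n - 1) := (mappingCocone.snd (𝟙 L)).v n (n - 1) (by omega)
    let inlN : L.X n ⟶ N.X n := (mappingCocone.inl (𝟙 L)).v n n (add_zero n)
    let inrN : L.X (n - 1) ⟶ N.X n := (mappingCocone.inr (𝟙 L)).1.v (n - 1) n (by omega)
    let p := (biprod.desc α (mappingCocone.fst (𝟙 L)) : K ⊞ N ⟶ L).f n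
    have hKp : iK ≫ p = α.f n := by
      dsimp [iK, p]; rw [← comp_f, biprod.inl_desc]
    have hNp : iN ≫ p = fstN := by
      dsimp [iN, p]; rw [← comp_f, biprod.inr_desc]
    have e1 : iK ≫ pK = 𝟙 _ := biprod_inl_fst_f _ _ _
    have e2 : iK ≫ pN = 0 := biprod_inl_snd_f _ _ _
    have e3 : iN ≫ pK = 0 := biprod_inr_fst_f _ _ _
    have e4 : iN ≫ pN = 𝟙 _ := biprod_inr_snd_f _ _ _
    have e5 : pK ≫ iK + pN ≫ iN = 𝟙 _ := biprod_total_f _ _ _
    have m1 : inlN ≫ fstN = 𝟙 _ := mappingCocone.inl_v_fst_f _ _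
    have m2 : inlN ≫ sndN = 0 := mappingCocone.inl_v_snd_v _ _ _ _
    have m3 : inrN ≫ fstN = 0 := mappingCocone.inr_v_fst_f _ _ _ _
    have m4 : inrN ≫ sndN = 𝟙 _ := mappingCocone.inr_v_snd_v _ _ _ _
    have m5 : fstN ≫ inlN + sndN ≫ inrN = 𝟙 _ := mappingCocone.id_X _ _ _ _
    have hp : p = pK ≫ α.f n + pN ≫ fstN := by
      rw [← id_comp p, ← e5, Preadditive.add_comp, assoc, assoc, hKp, hNp]
    refine exists_iso_biprod_snd p (inlN ≫ iN)
      (biprod.lift pK (pN ≫ sndN)) (biprod.desc (iK - α.f n ≫ inlN ≫ iN) (inrN ≫ iN))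
      ?_ ?_ ?_ ?_ ?_
    · rw [assoc, hNp, m1]
    · apply biprod.hom_ext'
      · simp only [biprod.inl_desc_assoc, comp_zero, Preadditive.sub_comp, assoc, hKp, hNp, m1,
          comp_id, sub_self]
      · simp only [biprod.inr_desc_assoc, comp_zero, assoc, hNp, m3]
    · apply biprod.hom_ext
      · simp only [assoc, biprod.lift_fst, zero_comp, e3, comp_zero]
      · simp only [assoc, biprod.lift_snd, zero_comp, reassoc_of% e4, m2]
    · apply biprod.hom_ext' <;> apply biprod.hom_ext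
      · simp only [biprod.inl_desc_assoc, assoc, biprod.lift_fst, Preadditive.sub_comp, e1, e3,
          comp_zero, sub_zero, comp_id, biprod.inl_fst]
      · simp only [biprod.inl_desc_assoc, assoc, biprod.lift_snd, Preadditive.sub_comp,
          reassoc_of% e2, zero_comp, reassoc_of% e4, m2, comp_zero, sub_self, comp_id,
          biprod.inl_snd]
      · simp only [biprod.inr_desc_assoc, assoc, biprod.lift_fst, e3, comp_zero, comp_id,
          biprod.inr_fst]
      · simp only [biprod.inr_desc_assoc, assoc, biprod.lift_snd, reassoc_of% e4, m4, comp_id,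
          biprod.inr_snd]
    · rw [biprod.lift_desc, hp]
      simp only [Preadditive.comp_sub, Preadditive.add_comp, assoc]
      rw [← e5]
      have : pN ≫ iN = pN ≫ (fstN ≫ inlN + sndN ≫ inrN) ≫ iN := by rw [m5, id_comp]
      rw [this]
      simp only [Preadditive.comp_add, Preadditive.add_comp, assoc]
      abel
  · intro a hK hL
    rw [isStrictlyGE_iff]
    intro i hi
    have hN : IsZero (N.X i) := by
      rw [isZero_mappingCocone_X_iff]
      exact ⟨L.isZero_of_isStrictlyGE a _ (by omega), L.isZero_of_isStrictlyGE a _ (by omega)⟩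
    rw [IsZero.iff_id_eq_zero, ← biprod_total_f,
      (K.isZero_of_isStrictlyGE a i (by omega)).eq_of_tgt ((biprod.fst : K ⊞ N ⟶ K).f i) 0,
      hN.eq_of_tgt ((biprod.snd : K ⊞ N ⟶ N).f i) 0,
      zero_comp, zero_comp, add_zero]
  · intro a hK hL
    rw [isStrictlyLE_iff]
    intro i hi
    have hN : IsZero (N.X i) := by
      rw [isZero_mappingCocone_X_iff]
      exact ⟨L.isZero_of_isStrictlyLE a _ (by omega), L.isZero_of_isStrictlyLE a _ (by omega)⟩
    rw [IsZero.iff_id_eq_zero, ← biprod_total_f,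
      (K.isZero_of_isStrictlyLE a i (by omega)).eq_of_tgt ((biprod.fst : K ⊞ N ⟶ K).f i) 0,
      hN.eq_of_tgt ((biprod.snd : K ⊞ N ⟶ N).f i) 0,
      zero_comp, zero_comp, add_zero]

end Groth.Agent.Lib.Helper32
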