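import Mathlib
import Groth.Agent.Lib.Helper32.KInjTower
import Groth.Agent.Lib.Helper32.DProd
import Groth.Agent.Lib.Helper32.DCoprod

/-!
# Countable products in `D(A)` when countable products are exact (helper32)

Dual of `DCoprod` (for `ℕ`-indexed products, based on `KInjTower.prodCx`).
-/

set_option autoImplicit false

universe w v u
open CategoryTheory CategoryTheory.Limits

namespace Groth.Agent.Lib.Helper32.DProdExact

open Groth.Agent.Lib.Helper32.KInjTower Groth.Agent.Lib.Helper32.DProd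
open Groth.Agent.Lib.Helper32.DCoprod (famCx famMap quasiIso_famMap)

section Exact

variable {A : Type u} [Category.{v} A] [Abelian A] [HasLimitsOfShape (Discrete ℕ) A]

/-- product of morphisms of complexes -/
noncomputable def prodMap {X X' : ℕ → CochainComplex A ℤ} (s : ∀ n, X n ⟶ X' n) :
    prodCx X ⟶ prodCx X' :=
  prodLift (fun n => prodπ X n ≫ s n)

@[reassoc (attr := simp)]
lemma prodMap_π {X X' : ℕ → CochainComplex A ℤ} (s : ∀ n, X n ⟶ X' n) (n : ℕ) :
    prodMap s ≫ prodπ X' n = prodπ X n ≫ s n :=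
  prodLift_π _ _

attribute [local instance] preservesBinaryBiproducts_of_preservesBinaryProducts in
instance additive_lim : (lim (J := Discrete ℕ) (C := A)).Additive :=
  Functor.additive_of_preservesBinaryBiproducts _

/-- exactness of countable products follows from preservation of epimorphisms -/
lemma hasExactLimitsOfShape_of_preservesEpi
    [(lim : (Discrete ℕ ⥤ A) ⥤ A).PreservesEpimorphisms] :
    HasExactLimitsOfShape (Discrete ℕ) A := by
  have : (lim (J := Discrete ℕ) (C := A)).PreservesHomology :=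
    Functor.preservesHomology_of_preservesEpis_and_kernels _
  exact ⟨Functor.preservesFiniteColimits_of_preservesHomology _⟩

variable [HasExactLimitsOfShape (Discrete ℕ) A]

lemma prodMap_eq {X X' : ℕ → CochainComplex A ℤ} (s : ∀ n, X n ⟶ X' n) :
    prodMap s = ((lim (J := Discrete ℕ) (C := A)).mapHomologicalComplex
      (ComplexShape.up ℤ)).map (famMap s) := by
  ext q
  apply Pi.hom_ext
  intro n
  have h1 : (prodMap s).f q ≫ (prodπ X' n).f q = (prodπ X n).f q ≫ (s n).f q := by
    rw [← HomologicalComplex.comp_f, prodMap_π, HomologicalComplex.comp_f]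
  refine h1.trans ?_
  exact (limMap_π (Discrete.natTrans (fun n => (s n.as).f q) :
    Discrete.functor (fun n => (X n).X q) ⟶ Discrete.functor (fun n => (X' n).X q)) ⟨n⟩).symm

/-- A countable product of quasi-isomorphisms is a quasi-isomorphism (AB4*). -/
lemma quasiIso_prodMap {X X' : ℕ → CochainComplex A ℤ} (s : ∀ n, X n ⟶ X' n)
    [∀ n, QuasiIso (s n)] : QuasiIso (prodMap s) := by
  have := quasiIso_famMap s
  rw [prodMap_eq]
  haveI : (lim (J := Discrete ℕ) (C := A)).IsRightAdjoint := ⟨_, ⟨constLimAdj⟩⟩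
  haveI : PreservesFiniteColimits (lim (J := Discrete ℕ) (C := A)) := inferInstance
  haveI : PreservesFiniteLimits (lim (J := Discrete ℕ) (C := A)) := inferInstance
  haveI : (lim (J := Discrete ℕ) (C := A)).PreservesHomology := inferInstance
  exact HomologicalComplex.quasiIso_map_of_preservesHomology (famMap s)
    (lim (J := Discrete ℕ) (C := A))

end Exact

section Derived

variable {A : Type u} [Category.{v} A] [Abelian A] [HasDerivedCategory.{w} A]

open DerivedCategory

/-- If `Q.map f = 0` then `f` becomes null-homotopic after postcomposition with a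
quasi-isomorphism. -/
lemma exists_quasiIso_comp_homotopy_zero {K L : CochainComplex A ℤ} (f : K ⟶ L)
    (hf : Q.map f = 0) :
    ∃ (L' : CochainComplex A ℤ) (s : L ⟶ L'), QuasiIso s ∧ Nonempty (Homotopy (f ≫ s) 0) := by
  have h1 : Qh.map ((HomotopyCategory.quotient A (ComplexShape.up ℤ)).map f) =
      Qh.map (0 : (HomotopyCategory.quotient A (ComplexShape.up ℤ)).obj K ⟶ _) := by
    rw [Functor.map_zero]
    have := (quotientCompQhIso A).hom.naturality f
    dsimp at this
    rw [← cancel_mono ((quotientCompQhIso A).hom.app L), this, hf, comp_zero, zero_comp]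
  rw [MorphismProperty.map_eq_iff_postcomp Qh
    (HomotopyCategory.quasiIso A (ComplexShape.up ℤ))] at h1
  obtain ⟨Z, s, hs, fac⟩ := h1
  obtain ⟨L', rfl⟩ := HomotopyCategory.quotient_obj_surjective Z
  obtain ⟨s, rfl⟩ := (HomotopyCategory.quotient _ _).map_surjective s
  rw [HomotopyCategory.quotient_map_mem_quasiIso_iff] at hs
  refine ⟨L', s, hs, ⟨HomotopyCategory.homotopyOfEq _ _ ?_⟩⟩
  rw [Functor.map_comp, fac, zero_comp, Functor.map_zero]

variable [HasLimitsOfShape (Discrete ℕ) A] [HasExactLimitsOfShape (Discrete ℕ) A]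

lemma exists_lift (X : ℕ → CochainComplex A ℤ) (Y : CochainComplex A ℤ)
    (φ : ∀ n, Q.obj Y ⟶ Q.obj (X n)) :
    ∃ ψ : Q.obj Y ⟶ Q.obj (prodCx X), ∀ n, ψ ≫ Q.map (prodπ X n) = φ n := by
  choose X' g s hs hg using fun n => left_fac (φ n)
  haveI : ∀ n, QuasiIso (s n) := fun n => (isIso_Q_map_iff_quasiIso A _).1 (hs n)
  haveI : IsIso (Q.map (prodMap s)) := (isIso_Q_map_iff_quasiIso A _).2 (quasiIso_prodMap s)
  refine ⟨Q.map (prodLift g) ≫ inv (Q.map (prodMap s)), fun n => ?_⟩
  haveI := hs n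
  rw [hg n, ← cancel_mono (Q.map (s n)), Category.assoc, Category.assoc, Category.assoc,
    IsIso.inv_hom_id, Category.comp_id, ← Functor.map_comp, ← prodMap_π, Functor.map_comp,
    IsIso.inv_hom_id_assoc, ← Functor.map_comp, prodLift_π]

lemma eq_zero_of_comp_π (X : ℕ → CochainComplex A ℤ) (Y : CochainComplex A ℤ)
    (χ : Q.obj Y ⟶ Q.obj (prodCx X)) (h : ∀ n, χ ≫ Q.map (prodπ X n) = 0) : χ = 0 := by
  obtain ⟨Y', t, ht, g, rfl⟩ := right_fac χ
  have h0 : ∀ n, Q.map (g ≫ prodπ X n) = 0 := by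
    intro n
    have := h n
    rw [Category.assoc, ← Functor.map_comp] at this
    rw [← cancel_epi (inv (Q.map t)), this, comp_zero]
  choose X' s hs hh using fun n => exists_quasiIso_comp_homotopy_zero _ (h0 n)
  haveI : ∀ n, QuasiIso (s n) := hs
  haveI : IsIso (Q.map (prodMap s)) := (isIso_Q_map_iff_quasiIso A _).2 (quasiIso_prodMap s)
  have h1 : Nonempty (Homotopy (g ≫ prodMap s) 0) := by
    apply homotopy_zero_of_comp_prodπ
    intro n
    rw [Category.assoc, prodMap_π, ← Category.assoc]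
    exact hh n
  have h2 : Q.map (g ≫ prodMap s) = 0 := by
    rw [Q_map_eq_of_homotopy A h1.some, Functor.map_zero]
  rw [Functor.map_comp] at h2
  have h3 : Q.map g = 0 := by
    rw [← cancel_mono (Q.map (prodMap s)), h2, zero_comp]
  rw [h3, comp_zero]

/-- The product fan in `D(A)`. -/
noncomputable def fanQ (X : ℕ → CochainComplex A ℤ) : Fan (fun n => Q.obj (X n)) :=
  Fan.mk (Q.obj (prodCx X)) (fun n => Q.map (prodπ X n))

lemma existsUnique_lift (X : ℕ → CochainComplex A ℤ) (T : DerivedCategory A)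
    (φ : ∀ n, T ⟶ Q.obj (X n)) :
    ∃! ψ : T ⟶ Q.obj (prodCx X), ∀ n, ψ ≫ Q.map (prodπ X n) = φ n := by
  obtain ⟨Y, ⟨e⟩⟩ : ∃ Y : CochainComplex A ℤ, Nonempty (Q.obj Y ≅ T) :=
    ⟨_, ⟨Q.objObjPreimageIso T⟩⟩
  obtain ⟨ψ, hψ⟩ := exists_lift X Y (fun n => e.hom ≫ φ n)
  refine ⟨e.inv ≫ ψ, fun n => ?_, fun m hm => ?_⟩
  · rw [Category.assoc, hψ, Iso.inv_hom_id_assoc]
  · have h0 : e.hom ≫ (m - e.inv ≫ ψ) = 0 := by
      apply eq_zero_of_comp_π X Y
      intro n
      rw [Preadditive.comp_sub, Preadditive.sub_comp, Category.assoc, hm,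
        Iso.hom_inv_id_assoc, hψ, sub_self]
    have h1 : m - e.inv ≫ ψ = 0 := by
      rw [← cancel_epi e.hom, h0, comp_zero]
    exact sub_eq_zero.1 h1

/-- `Q (∏ X)` is the product of the `Q (X n)` in `D(A)`. -/
noncomputable def isLimitFanQ (X : ℕ → CochainComplex A ℤ) : IsLimit (fanQ X) :=
  Fan.IsLimit.mk _ (fun s => (existsUnique_lift X s.pt s.proj).choose)
    (fun s n => (existsUnique_lift X s.pt s.proj).choose_spec.1 n)
    (fun s m hm => (existsUnique_lift X s.pt s.proj).choose_spec.2 m hm)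

end Derived

end Groth.Agent.Lib.Helper32.DProdExact
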