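import Groth.Agent.Lib.Helper32.CoconeSES
import Groth.Agent.Lib.Helper32.RelRes
import Mathlib.Algebra.Homology.Augment
import Mathlib.Algebra.Homology.Single

/-!
# Finite resolutions by a class `P` and unbounded right resolutions (helper32)

Hartshorne, Residues and Duality, I.4.6 (2).
-/

set_option autoImplicit false
universe v u
open CategoryTheory CategoryTheory.Limits

namespace Groth.Agent.Lib.Helper32.FinPRes

variable {A : Type u} [Category.{v} A] [Abelian A]

section Chain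

variable (Z C : ℕ → A) (c : ∀ j, Z j ⟶ C j) (π : ∀ j, C j ⟶ Z (j + 1))
  (w : ∀ j, c j ≫ π j = 0)

/-- auxiliary structure -/
structure Stage (Y : A) where
  K : CochainComplex A ℕ
  ι : Y ⟶ K.X 0
  w : ι ≫ K.d 0 1 = 0

/-- The complex `C j → C (j+1) → ⋯ → C (j+t-1) → Z (j+t) → 0`. -/
noncomputable def stage : ∀ (_ j : ℕ), Stage (Z j)
  | 0, j => ⟨(CochainComplex.single₀ A).obj (Z j), 𝟙 _, by
      rw [HomologicalComplex.single_obj_d, comp_zero]⟩
  | t + 1, j => ⟨CochainComplex.augment (stage t (j + 1)).K (π j ≫ (stage t (j + 1)).ι)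
      (by rw [Category.assoc, (stage t (j + 1)).w, comp_zero]), c j, by
        change c j ≫ π j ≫ _ = 0
        rw [reassoc_of% (w j), zero_comp]⟩

variable (hSE : ∀ j, (ShortComplex.mk (c j) (π j) (w j)).ShortExact)

include hSE in
lemma stage_props (P : ObjectProperty A) (hC : ∀ j, P (C j)) :
    ∀ (t j : ℕ),
      Mono (stage Z C c π w t j).ι ∧
      (ShortComplex.mk _ _ (stage Z C c π w t j).w).Exact ∧
      (∀ i, 1 ≤ i → i ≤ t → (stage Z C c π w t j).K.ExactAt i) ∧
      (∀ i, t < i → IsZero ((stage Z C c π w t j).K.X i)) ∧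
      (∀ i, i < t → P ((stage Z C c π w t j).K.X i)) ∧
      Nonempty ((stage Z C c π w t j).K.X t ≅ Z (j + t)) ∧
      (1 ≤ t → Epi ((stage Z C c π w t j).K.d (t - 1) t)) := by
  intro t
  induction t with
  | zero =>
    intro j
    refine ⟨?_, ?_, ?_, ?_, ?_, ?_, ?_⟩
    · change Mono (𝟙 (Z j))
      infer_instance
    · refine (ShortComplex.exact_iff_epi _ ?_).2 ?_
      · rfl
      · change Epi (𝟙 (Z j))
        infer_instance
    · intro i h1 h2
      omega
    · intro i hi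
      exact HomologicalComplex.isZero_single_obj_X _ _ _ _ (by omega)
    · intro i hi
      omega
    · exact ⟨Iso.refl _⟩
    · intro h
      omega
  | succ t ih =>
    intro j
    obtain ⟨hm, hex, hexi, hz, hP, ⟨e⟩, hepi⟩ := ih (j + 1)
    have hπ : Epi (π j) := (hSE j).epi_g
    refine ⟨?_, ?_, ?_, ?_, ?_, ?_, ?_⟩
    · change Mono (c j)
      exact (hSE j).mono_f
    · let φ : ShortComplex.mk (c j) (π j) (w j) ⟶
          ShortComplex.mk _ _ (stage Z C c π w (t + 1) j).w :=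
        { τ₁ := 𝟙 _
          τ₂ := 𝟙 _
          τ₃ := (stage Z C c π w t (j + 1)).ι
          comm₁₂ := by
            change 𝟙 _ ≫ c j = c j ≫ 𝟙 (C j)
            simp
          comm₂₃ := by
            change 𝟙 (C j) ≫ (π j ≫ (stage Z C c π w t (j + 1)).ι) =
              π j ≫ (stage Z C c π w t (j + 1)).ι
            simp }
      have : Epi φ.τ₁ := (inferInstance : Epi (𝟙 (Z j)))
      have : IsIso φ.τ₂ := (inferInstance : IsIso (𝟙 (C j)))
      have : Mono φ.τ₃ := hm
      exact (ShortComplex.exact_iff_of_epi_of_isIso_of_mono φ).1 (hSE j).exact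
    · intro i h1 h2
      obtain ⟨i', rfl⟩ : ∃ i', i = i' + 1 := ⟨i - 1, by omega⟩
      rw [HomologicalComplex.exactAt_iff' _ i' (i' + 1) (i' + 2) (by simp) (by simp)]
      rcases Nat.eq_zero_or_pos i' with rfl | hi'
      · let φ : ((stage Z C c π w (t + 1) j).K.sc' 0 1 2) ⟶
            ShortComplex.mk _ _ (stage Z C c π w t (j + 1)).w :=
          { τ₁ := π j
            τ₂ := 𝟙 _
            τ₃ := 𝟙 _
            comm₁₂ := by
              change π j ≫ (stage Z C c π w t (j + 1)).ι =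
                (π j ≫ (stage Z C c π w t (j + 1)).ι) ≫ 𝟙 _
              simp
            comm₂₃ := by
              change 𝟙 _ ≫ (stage Z C c π w t (j + 1)).K.d 0 1 =
                (stage Z C c π w t (j + 1)).K.d 0 1 ≫ 𝟙 _
              simp }
        have : Epi φ.τ₁ := hπ
        have : IsIso φ.τ₂ := (inferInstance : IsIso (𝟙 ((stage Z C c π w t (j + 1)).K.X 0)))
        have : Mono φ.τ₃ := (inferInstance : Mono (𝟙 ((stage Z C c π w t (j + 1)).K.X 1)))
        exact (ShortComplex.exact_iff_of_epi_of_isIso_of_mono φ).2 hex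
      · obtain ⟨i'', rfl⟩ : ∃ i'', i' = i'' + 1 := ⟨i' - 1, by omega⟩
        have := hexi (i'' + 1) (by omega) (by omega)
        rw [HomologicalComplex.exactAt_iff' _ i'' (i'' + 1) (i'' + 2) (by simp) (by simp)] at this
        exact this
    · intro i hi
      obtain ⟨i', rfl⟩ : ∃ i', i = i' + 1 := ⟨i - 1, by omega⟩
      exact hz i' (by omega)
    · intro i hi
      rcases Nat.eq_zero_or_pos i with rfl | hi'
      · exact hC j
      · obtain ⟨i', rfl⟩ : ∃ i', i = i' + 1 := ⟨i - 1, by omega⟩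
        exact hP i' (by omega)
    · exact ⟨e ≪≫ eqToIso (by congr 1; omega)⟩
    · intro _
      rcases Nat.eq_zero_or_pos t with rfl | ht
      · change Epi (π j ≫ 𝟙 _)
        infer_instance
      · obtain ⟨t', rfl⟩ : ∃ t', t = t' + 1 := ⟨t - 1, by omega⟩
        exact hepi (by omega)

include hSE in
/-- If `0 → Z j → C j → Z (j+1) → 0` are short exact with `C j ∈ P`, then `Z n ∈ P`
under hypothesis (iii). -/
lemma prop_Z (P : ObjectProperty A) [P.IsClosedUnderIsomorphisms] (hC : ∀ j, P (C j))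
    (n : ℕ) (hn : 1 ≤ n)
    (h3 : ∀ K : CochainComplex A ℕ, (∀ i : ℕ, 1 ≤ i → i ≤ n → K.ExactAt i) →
      (∀ i : ℕ, n < i → IsZero (K.X i)) →
      Epi (K.d (n - 1) n) → (∀ i : ℕ, i < n → P (K.X i)) → P (K.X n)) : P (Z n) := by
  obtain ⟨-, -, hexi, hz, hP, ⟨e⟩, hepi⟩ := stage_props Z C c π w hSE P hC n 0
  have := h3 _ hexi hz (hepi hn) hP
  exact P.prop_of_iso (e ≪≫ eqToIso (by congr 1; omega)) this

end Chain

section Closure

open ZeroObject

variable (P : ObjectProperty A)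
  (h1 : ∀ X : A, ∃ (Y : A) (i : X ⟶ Y), P Y ∧ Mono i)
  (h2 : ∀ S : ShortComplex A, S.ShortExact → P S.X₁ → (P S.X₂ ↔ P S.X₃))

include h1 h2 in
lemma prop_zero : P (0 : A) := by
  obtain ⟨Y, -, hY, -⟩ := h1 0
  have hS : (ShortComplex.mk (𝟙 Y) (0 : Y ⟶ 0) (by simp)).ShortExact :=
    (ShortComplex.Splitting.ofIsIsoOfIsZero _ (by dsimp; infer_instance)
      (isZero_zero A)).shortExact
  exact (h2 _ hS hY).1 hY

include h1 h2 in
lemma prop_of_iso {X Y : A} (e : X ≅ Y) (hX : P X) : P Y := by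
  have hS : (ShortComplex.mk (0 : (0 : A) ⟶ X) e.hom (by simp)).ShortExact :=
    (ShortComplex.Splitting.ofIsZeroOfIsIso _ (isZero_zero A)
      (by dsimp; infer_instance)).shortExact
  exact (h2 _ hS (prop_zero P h1 h2)).1 hX

include h1 h2 in
lemma isClosedUnderIsomorphisms : P.IsClosedUnderIsomorphisms :=
  ⟨fun e hX => prop_of_iso P h1 h2 e hX⟩

include h2 in
lemma prop_biprod {X Y : A} (hX : P X) (hY : P Y) : P (X ⊞ Y) :=
  (h2 _ (ShortComplex.Splitting.ofHasBinaryBiproduct X Y).shortExact hX).2 hY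

end Closure

section Main

open CochainComplex

variable (P : ObjectProperty A)
  (h1 : ∀ X : A, ∃ (Y : A) (i : X ⟶ Y), P Y ∧ Mono i)

/-- chosen `P`-envelope -/
noncomputable def E (X : A) : A := (h1 X).choose

/-- the embedding into the chosen envelope -/
noncomputable def e (X : A) : X ⟶ E P h1 X := (h1 X).choose_spec.choose

lemma prop_E (X : A) : P (E P h1 X) := (h1 X).choose_spec.choose_spec.1

instance mono_e (X : A) : Mono (e P h1 X) := (h1 X).choose_spec.choose_spec.2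

/-- A contractible complex with terms in `P` containing `M`. -/
noncomputable def Ccx (M : CochainComplex A ℤ) : CochainComplex A ℤ :=
  CochainComplex.of (fun k => E P h1 (M.X k) ⊞ E P h1 (M.X (k + 1)))
    (fun _ => biprod.snd ≫ biprod.inl) (fun n => by simp)

/-- The embedding `M ⟶ Ccx M`. -/
noncomputable def cc (M : CochainComplex A ℤ) : M ⟶ Ccx P h1 M :=
  CochainComplex.ofHom (fun k => biprod.lift (e P h1 (M.X k))
    (M.d k (k + 1) ≫ e P h1 (M.X (k + 1)))) (fun k => by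
      simp [Ccx]
      ext <;> simp)

instance mono_cc_f (M : CochainComplex A ℤ) (k : ℤ) : Mono ((cc P h1 M).f k) :=
  mono_of_mono_fac (g := (cc P h1 M).f k) (f := biprod.fst) (h := e P h1 (M.X k))
    (by simp [cc])

/-- The quotient `Ccx M / M`. -/
noncomputable def Qcx (M : CochainComplex A ℤ) : CochainComplex A ℤ := cokernel (cc P h1 M)

/-- The projection. -/
noncomputable def πQ (M : CochainComplex A ℤ) : Ccx P h1 M ⟶ Qcx P h1 M :=
  cokernel.π (cc P h1 M)

lemma cc_πQ (M : CochainComplex A ℤ) : cc P h1 M ≫ πQ P h1 M = 0 := cokernel.condition _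

lemma shortExact_cc (M : CochainComplex A ℤ) :
    (ShortComplex.mk (cc P h1 M) (πQ P h1 M) (cc_πQ P h1 M)).ShortExact := by
  have : Mono (cc P h1 M) := HomologicalComplex.mono_of_mono_f _ inferInstance
  exact ShortComplex.ShortExact.mk' (ShortComplex.exact_of_g_is_cokernel _
    (cokernelIsCokernel (cc P h1 M))) this (inferInstanceAs (Epi (cokernel.π (cc P h1 M))))

variable (h2 : ∀ S : ShortComplex A, S.ShortExact → P S.X₁ → (P S.X₂ ↔ P S.X₃))

include h2 in
lemma prop_Ccx (M : CochainComplex A ℤ) (k : ℤ) : P ((Ccx P h1 M).X k) :=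
  prop_biprod P h2 (prop_E P h1 _) (prop_E P h1 _)

/-- The iterated quotients. -/
noncomputable def Qs (X : CochainComplex A ℤ) : ℕ → CochainComplex A ℤ
  | 0 => X
  | j + 1 => Qcx P h1 (Qs X j)

include h2 in
lemma prop_Qs (X : CochainComplex A ℤ) (n : ℕ) (hn : 1 ≤ n)
    (h3 : ∀ K : CochainComplex A ℕ, (∀ i : ℕ, 1 ≤ i → i ≤ n → K.ExactAt i) →
      (∀ i : ℕ, n < i → IsZero (K.X i)) →
      Epi (K.d (n - 1) n) → (∀ i : ℕ, i < n → P (K.X i)) → P (K.X n)) (k : ℤ) :
    P ((Qs P h1 X n).X k) := by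
  have := isClosedUnderIsomorphisms P h1 h2
  refine prop_Z (fun j => (Qs P h1 X j).X k) (fun j => (Ccx P h1 (Qs P h1 X j)).X k)
    (fun j => (cc P h1 (Qs P h1 X j)).f k) (fun j => (πQ P h1 (Qs P h1 X j)).f k)
    (fun j => HomologicalComplex.congr_hom (cc_πQ P h1 (Qs P h1 X j)) k)
    (fun j => ?_) P (fun j => prop_Ccx P h1 h2 _ k) n hn h3
  exact (HomologicalComplex.shortExact_iff_degreewise_shortExact _).1
    (shortExact_cc P h1 (Qs P h1 X j)) k

include h2 in
lemma exists_res (X : CochainComplex A ℤ) (n : ℕ)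
    (hPn : ∀ k, P ((Qs P h1 X n).X k)) :
    ∀ (t j : ℕ), j + t = n → ∃ (I : CochainComplex A ℤ) (a : Qs P h1 X j ⟶ I),
      QuasiIso a ∧ ∀ k, P (I.X k) := by
  intro t
  induction t with
  | zero =>
    intro j hj
    obtain rfl : j = n := by omega
    exact ⟨_, 𝟙 _, inferInstance, hPn⟩
  | succ t ih =>
    intro j hj
    obtain ⟨I', a', ha', hI'⟩ := ih (j + 1) (by omega)
    let M := Qs P h1 X j
    let π : Ccx P h1 M ⟶ Qs P h1 X (j + 1) := πQ P h1 M
    let φ : Ccx P h1 M ⟶ I' := π ≫ a'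
    have comm : π ≫ a' = 𝟙 _ ≫ φ := by simp [φ]
    have hq1 : QuasiIso (CoconeSES.liftSES (cc P h1 M) π (cc_πQ P h1 M)) :=
      CoconeSES.quasiIso_liftSES _ _ _ (shortExact_cc P h1 M)
    have hq2 : QuasiIso (mappingCone.map π φ (𝟙 _) a' comm) :=
      RelRes.quasiIso_mappingCone_map π φ (𝟙 _) a' comm
    have hq3 : QuasiIso ((mappingCone.map π φ (𝟙 _) a' comm)⟦(-1 : ℤ)⟧') :=
      (CochainComplex.quasiIso_shift_iff _ _).2 hq2
    refine ⟨(mappingCone φ)⟦(-1 : ℤ)⟧,
      CoconeSES.liftSES (cc P h1 M) π (cc_πQ P h1 M) ≫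
        (mappingCone.map π φ (𝟙 _) a' comm)⟦(-1 : ℤ)⟧', ?_, ?_⟩
    · exact @quasiIso_comp _ _ _ _ _ _ _ _ _ _ _ _ _ hq1 hq3
    · intro k
      have e : ((mappingCone φ)⟦(-1 : ℤ)⟧).X k ≅
          (Ccx P h1 M).X (k + -1 + 1) ⊞ I'.X (k + -1) :=
        HomologicalComplex.homotopyCofiber.XIsoBiprod φ (k + -1) (k + -1 + 1) rfl
      exact prop_of_iso P h1 h2 e.symm (prop_biprod P h2 (prop_Ccx P h1 h2 _ _) (hI' _))

include h1 h2 in
/-- Hartshorne I.4.6 (2): unbounded right resolutions by a class of finite dimension. -/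
theorem exists_quasiIso (n : ℕ) (hn : 1 ≤ n)
    (h3 : ∀ K : CochainComplex A ℕ, (∀ i : ℕ, 1 ≤ i → i ≤ n → K.ExactAt i) →
      (∀ i : ℕ, n < i → IsZero (K.X i)) →
      Epi (K.d (n - 1) n) → (∀ i : ℕ, i < n → P (K.X i)) → P (K.X n))
    (X : CochainComplex A ℤ) :
    ∃ (I : CochainComplex A ℤ) (f : X ⟶ I), QuasiIso f ∧ ∀ k : ℤ, P (I.X k) :=
  exists_res P h1 h2 X n (prop_Qs P h1 h2 X n hn h3) n 0 (by omega)

end Main

end Groth.Agent.Lib.Helper32.FinPRes
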