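import Groth.Agent.Lib.Helper83.DerivedLES
import Groth.Agent.Lib.Helper32.FinPRes
import Groth.Agent.Lib.Helper32.RDPlus

/-!
# `F`-acyclic objects for a left exact functor of finite cohomological dimension (helper32)
-/

set_option autoImplicit false
universe v u v' u'
open CategoryTheory CategoryTheory.Limits

namespace Groth.Agent.Lib.Helper32.FAcyclic

open Groth.Agent.Lib.Helper83

variable {A : Type u} [Category.{v} A] [Abelian A] [HasInjectiveResolutions A]
  {B : Type u'} [Category.{v'} B] [Abelian B] (F : A ⥤ B) [F.Additive]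

/-- the `F`-acyclic objects -/
def acyc : ObjectProperty A := fun X => ∀ i : ℕ, 0 < i → IsZero ((F.rightDerived i).obj X)

instance : (acyc F).IsClosedUnderIsomorphisms where
  of_iso e h i hi := (h i hi).of_iso ((F.rightDerived i).mapIso e.symm)

lemma acyc_of_injective (X : A) [Injective X] : acyc F X := fun i hi => by
  obtain ⟨j, rfl⟩ : ∃ j, i = j + 1 := ⟨i - 1, by omega⟩
  exact Functor.isZero_rightDerived_obj_injective_succ F j X

open ZeroObject in
instance : (acyc F).ContainsZero where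
  exists_zero := ⟨0, isZero_zero A, acyc_of_injective F 0⟩

lemma exists_embedding (X : A) : ∃ (Y : A) (i : X ⟶ Y), acyc F Y ∧ Mono i := by
  let I := injectiveResolution X
  haveI : Injective (I.cocomplex.X 0) := I.injective 0
  have hm : Mono (I.ι.f 0) := inferInstance
  exact ⟨I.cocomplex.X 0, I.ι.f 0, acyc_of_injective F _, hm⟩

lemma isZero_of_exact {S : ShortComplex B} (hS : S.Exact) (h₁ : IsZero S.X₁) (h₃ : IsZero S.X₃) :
    IsZero S.X₂ :=
  hS.isZero_of_both_zeros (h₁.eq_of_src _ _) (h₃.eq_of_tgt _ _)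

lemma two_of_three (S : ShortComplex A) (hS : S.ShortExact) (h₁ : acyc F S.X₁) :
    acyc F S.X₂ ↔ acyc F S.X₃ := by
  constructor
  · intro h₂ i hi
    exact isZero_of_exact ((derivedLES F).exact₃ S hS i (i + 1) rfl) (h₂ i hi) (h₁ (i + 1) (by omega))
  · intro h₃ i hi
    exact isZero_of_exact ((derivedLES F).exact₂ S hS i) (h₁ i hi) (h₃ i hi)

/-- vanishing of `RⁿF` propagates upwards -/
lemma isZero_rightDerived_of_le (n : ℕ) (hn : ∀ X : A, IsZero ((F.rightDerived n).obj X)) :
    ∀ (m : ℕ), n ≤ m → ∀ X : A, IsZero ((F.rightDerived m).obj X) := by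
  intro m hm
  induction m, hm using Nat.le_induction with
  | base => exact hn
  | succ m _ ih =>
    intro X
    obtain ⟨Y, i, hY, hi⟩ := exists_embedding F X
    have hS : (ShortComplex.mk i (cokernel.π i) (cokernel.condition i)).ShortExact :=
      ShortComplex.ShortExact.mk' (ShortComplex.exact_of_g_is_cokernel _ (cokernelIsCokernel i))
        hi inferInstance
    exact isZero_of_exact ((derivedLES F).exact₁ _ hS m (m + 1) rfl) (ih _) (hY (m + 1) (by omega))

section Chain

variable (Z C : ℕ → A) (c : ∀ j, Z j ⟶ C j) (π : ∀ j, C j ⟶ Z (j + 1))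
  (w : ∀ j, c j ≫ π j = 0)
  (hSE : ∀ j, (ShortComplex.mk (c j) (π j) (w j)).ShortExact)
  (hC : ∀ j, acyc F (C j))
  (n : ℕ) (hn : ∀ (m : ℕ), n ≤ m → ∀ X : A, IsZero ((F.rightDerived m).obj X))

include hSE hC hn in
lemma chain_aux : ∀ (j m : ℕ), 1 ≤ m → n ≤ m + j → IsZero ((F.rightDerived m).obj (Z j)) := by
  intro j
  induction j with
  | zero =>
    intro m _ hm
    exact hn m (by omega) _
  | succ j ih =>
    intro m hm1 hm
    exact isZero_of_exact ((derivedLES F).exact₃ _ (hSE j) m (m + 1) rfl) (hC j m (by omega))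
      (ih (m + 1) (by omega) (by omega))

include hSE hC hn in
lemma acyc_chain : acyc F (Z n) := fun i hi =>
  chain_aux F Z C c π w hSE hC n hn n i hi (by omega)

end Chain

section Resolution

variable (n : ℕ) (hn : ∀ X : A, IsZero ((F.rightDerived n).obj X))

include hn in
/-- unbounded resolutions by `F`-acyclic objects when `RⁿF = 0` -/
lemma exists_resolution (X : CochainComplex A ℤ) :
    ∃ (I : CochainComplex A ℤ) (f : X ⟶ I), QuasiIso f ∧ ∀ k : ℤ, acyc F (I.X k) := by
  have hn' := isZero_rightDerived_of_le F n hn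
  have h1 := exists_embedding F
  have h2 := two_of_three F
  refine FinPRes.exists_res (acyc F) h1 h2 X n (fun k => ?_) n 0 (by omega)
  exact acyc_chain F (fun j => (FinPRes.Qs (acyc F) h1 X j).X k)
    (fun j => (FinPRes.Ccx (acyc F) h1 (FinPRes.Qs (acyc F) h1 X j)).X k)
    (fun j => (FinPRes.cc (acyc F) h1 (FinPRes.Qs (acyc F) h1 X j)).f k)
    (fun j => (FinPRes.πQ (acyc F) h1 (FinPRes.Qs (acyc F) h1 X j)).f k)
    (fun j => HomologicalComplex.congr_hom (FinPRes.cc_πQ (acyc F) h1 (FinPRes.Qs (acyc F) h1 X j)) k)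
    (fun j => (HomologicalComplex.shortExact_iff_degreewise_shortExact _).1
      (FinPRes.shortExact_cc (acyc F) h1 (FinPRes.Qs (acyc F) h1 X j)) k)
    (fun j => FinPRes.prop_Ccx (acyc F) h1 h2 _ k) n hn'

end Resolution

section Acyclic

variable [PreservesFiniteLimits F]

lemma epi_map_of_acyc (S : ShortComplex A) (hS : S.ShortExact) (h₁ : acyc F S.X₁) :
    Epi (F.map S.g) := by
  have h := ((derivedLES F).exact₃ S hS 0 1 rfl).epi_f ((h₁ 1 (by omega)).eq_of_tgt _ _)
  dsimp at h
  let e := Functor.rightDerivedZeroIsoSelf F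
  have : F.map S.g = e.inv.app _ ≫ (F.rightDerived 0).map S.g ≫ e.hom.app _ := by
    rw [e.hom.naturality, Iso.inv_hom_id_app_assoc]
  rw [this]
  infer_instance

variable (K : CochainComplex A ℤ)

/-- the short complex `Zᵃ ⟶ Kᵃ ⟶ Zᵇ` -/
noncomputable def cyclesSC (a b : ℤ) : ShortComplex A :=
  ShortComplex.mk (K.iCycles a) (K.toCycles a b) (by
    rw [← cancel_mono (K.iCycles b), Category.assoc, K.toCycles_i, K.iCycles_d, zero_comp])

lemma cyclesSC_shortExact (a b : ℤ) (hab : a + 1 = b) (hb : K.ExactAt b) :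
    (cyclesSC K a b).ShortExact := by
  have hepi : Epi (K.toCycles a b) := by
    have hi : (ComplexShape.up ℤ).prev b = a := by simp [← hab]
    have hk : (ComplexShape.up ℤ).next b = b + 1 := by simp
    have h1 := (K.exactAt_iff' a b (b + 1) hi hk).1 hb
    rw [ShortComplex.exact_iff_epi_toCycles] at h1
    have h2 := K.toCycles_cyclesIsoSc'_hom a b (b + 1) hi hk
    have h3 : Epi (K.toCycles a b ≫ (K.cyclesIsoSc' a b (b + 1) hi hk).hom) := by
      rw [h2]
      exact h1
    have h4 : K.toCycles a b = (K.toCycles a b ≫ (K.cyclesIsoSc' a b (b + 1) hi hk).hom) ≫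
        (K.cyclesIsoSc' a b (b + 1) hi hk).inv := by
      rw [Category.assoc, Iso.hom_inv_id, Category.comp_id]
    rw [h4]
    exact epi_comp _ _
  have hex : (cyclesSC K a b).Exact := by
    let φ : cyclesSC K a b ⟶ ShortComplex.mk (K.iCycles a) (K.d a b) (K.iCycles_d a b) :=
      { τ₁ := 𝟙 _
        τ₂ := 𝟙 _
        τ₃ := K.iCycles b
        comm₁₂ := by simp [cyclesSC]
        comm₂₃ := by simp [cyclesSC] }
    haveI : Epi φ.τ₁ := inferInstanceAs (Epi (𝟙 _))
    haveI : IsIso φ.τ₂ := inferInstanceAs (IsIso (𝟙 _))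
    haveI : Mono φ.τ₃ := inferInstanceAs (Mono (K.iCycles b))
    rw [ShortComplex.exact_iff_of_epi_of_isIso_of_mono φ]
    exact ShortComplex.exact_of_f_is_kernel _ (K.cyclesIsKernel a b (by simp [← hab]))
  exact ShortComplex.ShortExact.mk' hex (by dsimp [cyclesSC]; infer_instance) hepi

variable (n : ℕ) (hn : ∀ X : A, IsZero ((F.rightDerived n).obj X))
  (hK : K.Acyclic) (hP : ∀ k, acyc F (K.X k))

include hn hK hP in
lemma acyc_cycles (i : ℤ) : acyc F (K.cycles i) := by
  have hn' := isZero_rightDerived_of_le F n hn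
  have h := acyc_chain F (fun j : ℕ => K.cycles (i - n + j)) (fun j : ℕ => K.X (i - n + j))
    (fun j => K.iCycles _) (fun j => K.toCycles (i - n + j) (i - n + (j + 1 : ℕ)))
    (fun j => (cyclesSC K _ _).zero)
    (fun j => cyclesSC_shortExact K _ _ (by push_cast; ring) (hK _))
    (fun j => hP _) n hn'
  have e : i - (n : ℤ) + (n : ℤ) = i := by ring
  simpa only [e] using h

include hn hK hP in
/-- `F` maps acyclic complexes of `F`-acyclic objects to acyclic complexes -/
lemma acyclic_map : ((F.mapHomologicalComplex (ComplexShape.up ℤ)).obj K).Acyclic := by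
  intro i
  rw [HomologicalComplex.exactAt_iff' _ (i - 1) i (i + 1) (by simp) (by simp)]
  have hepi : Epi (F.map (K.toCycles (i - 1) i)) :=
    epi_map_of_acyc F _ (cyclesSC_shortExact K (i - 1) i (by ring) (hK i))
      (acyc_cycles F K n hn hK hP (i - 1))
  let T : ShortComplex B := ShortComplex.mk (F.map (K.iCycles i)) (F.map (K.d i (i + 1)))
    (by rw [← F.map_comp, K.iCycles_d, F.map_zero])
  have hT : T.Exact := ShortComplex.exact_of_f_is_kernel _
    (KernelFork.mapIsLimit _ (K.cyclesIsKernel i (i + 1) (by simp)) F)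
  let φ : ((F.mapHomologicalComplex (ComplexShape.up ℤ)).obj K).sc' (i - 1) i (i + 1) ⟶ T :=
    { τ₁ := F.map (K.toCycles (i - 1) i)
      τ₂ := 𝟙 _
      τ₃ := 𝟙 _
      comm₁₂ := by
        change F.map (K.toCycles (i - 1) i) ≫ F.map (K.iCycles i) =
          F.map (K.d (i - 1) i) ≫ 𝟙 (F.obj (K.X i))
        rw [Category.comp_id, ← F.map_comp, K.toCycles_i]
      comm₂₃ := by
        change 𝟙 (F.obj (K.X i)) ≫ F.map (K.d i (i + 1)) =
          F.map (K.d i (i + 1)) ≫ 𝟙 (F.obj (K.X (i + 1)))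
        rw [Category.comp_id, Category.id_comp] }
  haveI : Epi φ.τ₁ := hepi
  haveI : IsIso φ.τ₂ := inferInstanceAs (IsIso (𝟙 _))
  haveI : Mono φ.τ₃ := inferInstanceAs (Mono (𝟙 _))
  rw [ShortComplex.exact_iff_of_epi_of_isIso_of_mono φ]
  exact hT

include hn in
/-- `F` preserves quasi-isomorphisms between complexes of `F`-acyclic objects -/
lemma quasiIso_map {K L : CochainComplex A ℤ} (f : K ⟶ L) [QuasiIso f]
    (hK : ∀ k, acyc F (K.X k)) (hL : ∀ k, acyc F (L.X k)) :
    QuasiIso ((F.mapHomologicalComplex (ComplexShape.up ℤ)).map f) := by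
  rw [ConeAcyclic.quasiIso_map_iff_acyclic_map_mappingCone]
  refine acyclic_map F _ n hn ((ConeAcyclic.quasiIso_iff_acyclic_mappingCone f).1 inferInstance)
    (fun k => ?_)
  have e : (CochainComplex.mappingCone f).X k ≅ K.X (k + 1) ⊞ L.X k :=
    HomologicalComplex.homotopyCofiber.XIsoBiprod f k (k + 1) rfl
  exact (acyc F).prop_of_iso e.symm
    (FinPRes.prop_biprod (acyc F) (two_of_three F) (hK _) (hL _))

end Acyclic

end Groth.Agent.Lib.Helper32.FAcyclic
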