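import Groth.Agent.Lib.Helper32.TriDeriv
import Mathlib.Algebra.Homology.HomotopyCategory.Plus
import Mathlib.Algebra.Homology.DerivedCategory.Basic

/-!
# The derivability structure of complexes with terms in a class `P` (helper32)

Let `P` be a class of objects of an abelian category `A` containing zero, stable by isomorphisms and finite
direct sums, such that every cochain complex admits a quasi-isomorphism to a complex with terms in `P`.
Then the inclusion of the full subcategory of the homotopy category of complexes with terms in `P` is a
right derivability structure with respect to quasi-isomorphisms.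
-/

set_option autoImplicit false
universe v u
open CategoryTheory CategoryTheory.Limits CategoryTheory.Pretriangulated ZeroObject

namespace Groth.Agent.Lib.Helper32.TermwiseDeriv

variable {A : Type u} [Category.{v} A] [Abelian A] (P : ObjectProperty A)

/-- complexes (up to homotopy) with terms in `P` -/
def termwise : ObjectProperty (HomotopyCategory A (ComplexShape.up ℤ)) :=
  fun X => ∀ k : ℤ, P (X.as.X k)

lemma termwise_quotient_obj_iff (K : CochainComplex A ℤ) :
    termwise P ((HomotopyCategory.quotient A (ComplexShape.up ℤ)).obj K) ↔ ∀ k : ℤ, P (K.X k) :=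
  Iff.rfl

variable [P.IsClosedUnderIsomorphisms] [P.ContainsZero]
  (hbi : ∀ X Y : A, P X → P Y → P (X ⊞ Y))

instance : (termwise P).ContainsZero where
  exists_zero :=
    ⟨(HomotopyCategory.quotient _ _).obj 0, Functor.map_isZero _ (isZero_zero _), fun k =>
      P.prop_of_isZero ((HomologicalComplex.eval A (ComplexShape.up ℤ) k).map_isZero
        (isZero_zero _))⟩

instance : (termwise P).IsStableUnderShift ℤ where
  isStableUnderShiftBy n :=
    { le_shift K hK := by
        obtain ⟨K : CochainComplex _ _, rfl⟩ := K.quotient_obj_surjective
        rw [ObjectProperty.prop_shift_iff, HomotopyCategory.shift_quotient_obj]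
        intro k
        exact hK (k + n) }

include hbi in
lemma isTriangulatedClosed₃ : (termwise P).IsTriangulatedClosed₃ where
  ext₃' T hT h₁ h₂ := by
    obtain ⟨f : T.obj₁.as ⟶ T.obj₂.as, hf⟩ := (HomotopyCategory.quotient _ _).map_surjective T.mor₁
    refine ⟨_, ?_,
      ⟨Triangle.π₃.mapIso (isoTriangleOfIso₁₂ T _ hT
        (HomotopyCategory.mappingCone_triangleh_distinguished f)
        (Iso.refl _) (Iso.refl _) ?_)⟩⟩
    · intro k
      have e : (CochainComplex.mappingCone f).X k ≅ T.obj₁.as.X (k + 1) ⊞ T.obj₂.as.X k :=
        HomologicalComplex.homotopyCofiber.XIsoBiprod f k (k + 1) rfl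
      exact P.prop_of_iso e.symm (hbi _ _ (h₁ _) (h₂ _))
    · exact (Category.comp_id _).trans (hf.symm.trans (Category.id_comp _).symm)

include hbi in
lemma isTriangulated : (termwise P).IsTriangulated :=
  haveI := isTriangulatedClosed₃ P hbi
  { toIsTriangulatedClosed₂ := .of_isTriangulatedClosed₃ }

variable (hres : ∀ X : CochainComplex A ℤ, ∃ (I : CochainComplex A ℤ) (f : X ⟶ I),
  QuasiIso f ∧ ∀ k : ℤ, P (I.X k))

include hres in
lemma exists_resolution (X : HomotopyCategory A (ComplexShape.up ℤ)) :
    ∃ (Y : HomotopyCategory A (ComplexShape.up ℤ)) (w : X ⟶ Y),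
      termwise P Y ∧ (HomotopyCategory.subcategoryAcyclic A).trW w := by
  obtain ⟨X : CochainComplex _ _, rfl⟩ := X.quotient_obj_surjective
  obtain ⟨I, f, hf, hI⟩ := hres X
  refine ⟨(HomotopyCategory.quotient _ _).obj I, (HomotopyCategory.quotient _ _).map f, hI, ?_⟩
  rw [← HomotopyCategory.quasiIso_eq_trW_subcategoryAcyclic,
    HomotopyCategory.quotient_map_mem_quasiIso_iff]
  exact hf

include hbi hres in
/-- the inclusion of complexes with terms in `P` is a right derivability structure -/
theorem isRightDerivabilityStructure :
    haveI := isTriangulated P hbi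
    ((termwise P).triangulatedLocalizerMorphism
      (HomotopyCategory.subcategoryAcyclic A)).IsRightDerivabilityStructure :=
  haveI := isTriangulated P hbi
  TriDeriv.isRightDerivabilityStructure _ _ (exists_resolution P hres)

end Groth.Agent.Lib.Helper32.TermwiseDeriv
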