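import Groth.Agent.Lib.Helper32.FAcyclic
import Groth.Agent.Lib.Helper32.TermwiseDeriv

/-!
# The unbounded right derived functor of a left exact functor of finite cohomological dimension (helper32)

Hartshorne, Residues and Duality, I.5.3 γ.
-/

set_option autoImplicit false
universe w w' v u v' u'
open CategoryTheory CategoryTheory.Limits

namespace Groth.Agent.Lib.Helper32.FAcyclicDeriv

open Groth.Agent.Lib.Helper32

variable {A : Type u} [Category.{v} A] [Abelian A] [HasInjectiveResolutions A]
  {B : Type u'} [Category.{v'} B] [Abelian B] [HasDerivedCategory.{w'} B]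
  (F : A ⥤ B) [F.Additive] [PreservesFiniteLimits F]
  (n : ℕ) (hn : ∀ X : A, IsZero ((F.rightDerived n).obj X))

lemma prop_biprod (X Y : A) (hX : FAcyclic.acyc F X) (hY : FAcyclic.acyc F Y) :
    FAcyclic.acyc F (X ⊞ Y) :=
  FinPRes.prop_biprod (FAcyclic.acyc F) (FAcyclic.two_of_three F) hX hY

instance : (TermwiseDeriv.termwise (FAcyclic.acyc F)).IsTriangulated :=
  TermwiseDeriv.isTriangulated _ (prop_biprod F)

/-- the localizer morphism given by the inclusion of complexes of `F`-acyclic objects -/
noncomputable abbrev Φ := (TermwiseDeriv.termwise (FAcyclic.acyc F)).triangulatedLocalizerMorphism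
  (HomotopyCategory.subcategoryAcyclic A)

include hn in
theorem isRightDerivabilityStructure : (Φ F).IsRightDerivabilityStructure :=
  TermwiseDeriv.isRightDerivabilityStructure _ (prop_biprod F) (FAcyclic.exists_resolution F n hn)

include hn in
theorem derives :
    (Φ F).Derives (F.mapHomotopyCategory (ComplexShape.up ℤ) ⋙ DerivedCategory.Qh) := by
  intro X Y f hf
  have hq : (HomotopyCategory.subcategoryAcyclic A).trW f.hom := (Φ F).map _ hf
  rw [← HomotopyCategory.quasiIso_eq_trW_subcategoryAcyclic] at hq
  obtain ⟨X, hX⟩ := X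
  obtain ⟨Y, hY⟩ := Y
  obtain ⟨X : CochainComplex _ _, rfl⟩ := X.quotient_obj_surjective
  obtain ⟨Y : CochainComplex _ _, rfl⟩ := Y.quotient_obj_surjective
  obtain ⟨φ, hφ⟩ := (HomotopyCategory.quotient _ _).map_surjective f.hom
  rw [← hφ, HomotopyCategory.quotient_map_mem_quasiIso_iff] at hq
  haveI : QuasiIso φ := hq
  have h := FAcyclic.quasiIso_map F n hn φ hX hY
  change IsIso (DerivedCategory.Qh.map ((F.mapHomotopyCategory _).map f.hom))
  rw [← hφ]
  change IsIso (DerivedCategory.Qh.map ((HomotopyCategory.quotient _ _).map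
    ((F.mapHomologicalComplex _).map φ)))
  rw [DerivedCategory.isIso_Qh_map_iff, HomotopyCategory.quotient_map_mem_quasiIso_iff]
  exact h

include hn in
theorem hasRightDerivedFunctor :
    (F.mapHomotopyCategory (ComplexShape.up ℤ) ⋙ DerivedCategory.Qh).HasRightDerivedFunctor
      (HomotopyCategory.quasiIso A (ComplexShape.up ℤ)) := by
  rw [HomotopyCategory.quasiIso_eq_trW_subcategoryAcyclic]
  haveI := isRightDerivabilityStructure F n hn
  haveI := (derives F n hn).hasPointwiseRightDerivedFunctor
  infer_instance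

variable [HasDerivedCategory.{w} A]

include hn in
theorem isIso_unit_aux (W : MorphismProperty (HomotopyCategory A (ComplexShape.up ℤ)))
    (hW : W = (HomotopyCategory.subcategoryAcyclic A).trW)
    [DerivedCategory.Qh.IsLocalization W]
    [(F.mapHomotopyCategory (ComplexShape.up ℤ) ⋙ DerivedCategory.Qh).HasRightDerivedFunctor W]
    (K : CochainComplex A ℤ) (hK : ∀ k : ℤ, FAcyclic.acyc F (K.X k)) :
    IsIso (((F.mapHomotopyCategory (ComplexShape.up ℤ) ⋙ DerivedCategory.Qh).totalRightDerivedUnit
      DerivedCategory.Qh W).app ((HomotopyCategory.quotient A (ComplexShape.up ℤ)).obj K)) := by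
  subst hW
  haveI := isRightDerivabilityStructure F n hn
  exact (derives F n hn).isIso_of_isRightDerivedFunctor
    ((F.mapHomotopyCategory (ComplexShape.up ℤ) ⋙ DerivedCategory.Qh).totalRightDerivedUnit
      DerivedCategory.Qh _) ⟨(HomotopyCategory.quotient A (ComplexShape.up ℤ)).obj K, hK⟩

end Groth.Agent.Lib.Helper32.FAcyclicDeriv
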