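import Groth.Prelude.Def_CohTop
import Groth.Agent.S6857
import Groth.Agent.S0459
import Groth.Agent.S0458
import Groth.Agent.Lib.Helper80.GV.Closure

/-!
# Grothendieck vanishing for abelian sheaves supported on a closed Noetherian subspace (helper32)
-/

set_option autoImplicit false
universe u
open CategoryTheory CategoryTheory.Limits TopologicalSpace

namespace Groth.Agent.Lib.Helper32.GVSupport

/-- an abelian sheaf on `X` whose stalks vanish outside the image of a closed embedding
`i : Z ⟶ X`, with `Z` a Noetherian space of dimension `≤ d`, has no cohomology above degree `d`. -/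
theorem subsingleton_H_of_closedEmbedding {Z X : TopCat.{u}} (i : Z ⟶ X)
    (hi : Topology.IsClosedEmbedding i)
    [NoetherianSpace Z] (d : ℕ) (hd : topologicalKrullDim Z ≤ d) (G : CohTop.Ab X)
    (hG : ∀ x : X, x ∉ Set.range i → IsZero (CohTop.stalk G x)) (p : ℕ) (hp : d < p) :
    Subsingleton (CohTop.H G p) := by
  obtain ⟨-, -, -, hess, -⟩ := Groth.Agent.S6857.result i hi
  have h1 : (CohTop.push i).essImage G := by
    rw [hess]
    exact hG
  obtain ⟨G', ⟨e⟩⟩ := h1
  obtain ⟨e2⟩ := Groth.Agent.S0459.result i hi G' p
  have h3 : Subsingleton (CohTop.H G' p) := Groth.Agent.S0458.result d hd G' p hp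
  have h4 : Subsingleton (CohTop.H ((CohTop.push i).obj G') p) := e2.symm.toEquiv.subsingleton
  exact Groth.Agent.Lib.Helper80.GV.subsingleton_H_of_iso e p h4

/-- an abelian sheaf on `X` whose stalks vanish outside a closed subset `Z` which is a Noetherian
space of dimension `≤ d` has no cohomology above degree `d`. -/
theorem subsingleton_H_of_support {X : TopCat.{u}} (Z : Set X) (hZ : IsClosed Z)
    [NoetherianSpace Z] (d : ℕ) (hd : topologicalKrullDim Z ≤ d) (G : CohTop.Ab X)
    (hG : ∀ x : X, x ∉ Z → IsZero (CohTop.stalk G x)) (p : ℕ) (hp : d < p) :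
    Subsingleton (CohTop.H G p) := by
  let i : TopCat.of Z ⟶ X := TopCat.ofHom ⟨Subtype.val, continuous_subtype_val⟩
  have hi : Topology.IsClosedEmbedding i := hZ.isClosedEmbedding_subtypeVal
  have hrange : Set.range i = Z := Subtype.range_coe
  haveI : NoetherianSpace (TopCat.of Z) := inferInstanceAs (NoetherianSpace Z)
  exact subsingleton_H_of_closedEmbedding i hi d hd G
    (fun x hx => hG x (by rwa [hrange] at hx)) p hp

end Groth.Agent.Lib.Helper32.GVSupport
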