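import Mathlib
import Groth.Prelude.Def_Formal
import Groth.Agent.Lib.Helper32.GVSupport
import Groth.Agent.Lib.Helper50.ZC1

/-!
# Vanishing of `H^p(X₁, G/m^n G)` above the fibre dimension (helper32)

`X₁ = X ×_Y Spec O_{Y,y}`; the modules `G / m_y^n G` are supported on the closed fibre, which is
homeomorphic to `f.fiber y`.
-/

set_option autoImplicit false
universe u
open CategoryTheory CategoryTheory.Limits AlgebraicGeometry TopologicalSpace Opposite

namespace Groth.Agent.Lib.Helper32.FibreVanish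

/-- stalks vanish where all local sections vanish -/
theorem isZero_stalk_of_subsingleton_sections {X : TopCat.{u}} (F : CohTop.Ab X) (x : X)
    (U : Opens X) (hx : x ∈ U)
    (h : ∀ V : Opens X, V ≤ U → Subsingleton (F.obj.obj (op V))) : IsZero (CohTop.stalk F x) := by
  have hs : Subsingleton ↑(CohTop.stalk F x) := by
    refine ⟨fun s t => ?_⟩
    have h0 : ∀ s : ↑(CohTop.stalk F x), s = 0 := by
      intro s
      obtain ⟨V, hxV, t, rfl⟩ := TopCat.Presheaf.germ_exist F.obj (x := x) s
      have hle : V ⊓ U ≤ V := inf_le_left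
      have hxVU : x ∈ V ⊓ U := ⟨hxV, hx⟩
      rw [← TopCat.Presheaf.germ_res_apply F.obj (homOfLE hle) x hxVU t]
      haveI := h (V ⊓ U) inf_le_right
      rw [Subsingleton.elim ((ConcreteCategory.hom (F.obj.map (homOfLE hle).op)) t) 0, map_zero]
    rw [h0 s, h0 t]
  exact AddCommGrpCat.isZero_of_subsingleton _

section

variable {X Y : Scheme.{u}} (f : X ⟶ Y) (y : Y)
  {X₁ : Scheme.{u}} [X₁.Over (Spec (CommRingCat.of (Y.presheaf.stalk y)))] (g : X₁ ⟶ X)
  (hsq : IsPullback g (X₁ ↘ Spec (CommRingCat.of (Y.presheaf.stalk y))) f (Y.fromSpecStalk y))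

/-- the closed fibre of `X₁ ⟶ Spec O_{Y,y}`, as a morphism from `f.fiber y` -/
noncomputable def kFib : f.fiber y ⟶ X₁ :=
  hsq.lift (f.fiberι y) (f.fiberToSpecResidueField y ≫ Spec.map (Y.residue y)) (by
    rw [f.fiber_fac y, Category.assoc]
    rfl)

lemma kFib_fst : kFib f y g hsq ≫ g = f.fiberι y := hsq.lift_fst _ _ _

lemma kFib_snd : kFib f y g hsq ≫ (X₁ ↘ Spec (CommRingCat.of (Y.presheaf.stalk y))) =
    f.fiberToSpecResidueField y ≫ Spec.map (Y.residue y) := hsq.lift_snd _ _ _

lemma isPullback_kFib : IsPullback (kFib f y g hsq) (f.fiberToSpecResidueField y)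
    (X₁ ↘ Spec (CommRingCat.of (Y.presheaf.stalk y))) (Spec.map (Y.residue y)) := by
  refine IsPullback.of_right ?_ (kFib_snd f y g hsq) hsq
  rw [kFib_fst]
  exact IsPullback.of_hasPullback f (Y.fromSpecResidueField y)

instance isClosedImmersion_kFib : IsClosedImmersion (kFib f y g hsq) := by
  have h1 : IsClosedImmersion (Spec.map (Y.residue y)) :=
    IsClosedImmersion.spec_of_surjective _ (Y.residue_surjective y)
  exact MorphismProperty.of_isPullback (isPullback_kFib f y g hsq).flip h1

open Groth.Agent.Lib.Helper50.ZC1 in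
lemma mem_range_kFib_of_mem_C (x : X₁)
    (hx : x ∈ C (X := X₁) (IsLocalRing.maximalIdeal (Y.presheaf.stalk y))) :
    x ∈ Set.range (kFib f y g hsq) := by
  have h2 : x ∈ Set.range (pullback.fst (X₁ ↘ Spec (CommRingCat.of (Y.presheaf.stalk y)))
      (Spec.map (Y.residue y))) := by
    rw [Scheme.Pullback.range_fst]
    let pt : Spec (Y.residueField y) := IsLocalRing.closedPoint (Y.residueField y)
    refine ⟨pt, ?_⟩
    have h3 : (Spec.map (Y.residue y)) pt = IsLocalRing.closedPoint (Y.presheaf.stalk y) :=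
      IsLocalRing.PrimeSpectrum.comap_residue _ pt
    rw [h3]
    have h4 : IsLocalRing.maximalIdeal (Y.presheaf.stalk y) ≤
        ((X₁ ↘ Spec (CommRingCat.of (Y.presheaf.stalk y))) x).asIdeal := hx
    apply PrimeSpectrum.ext
    exact ((IsLocalRing.maximalIdeal.isMaximal _).eq_of_le
      ((X₁ ↘ Spec (CommRingCat.of (Y.presheaf.stalk y))) x).isPrime.ne_top h4)
  obtain ⟨z, hz⟩ := h2
  set iso := (isPullback_kFib f y g hsq).isoPullback with hiso
  refine ⟨iso.inv z, ?_⟩
  have h5 : (iso.hom ≫ pullback.fst _ _) (iso.inv z) = (kFib f y g hsq) (iso.inv z) := by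
    rw [hiso, IsPullback.isoPullback_hom_fst]
  rw [← h5, Scheme.Hom.comp_apply, ← Scheme.Hom.comp_apply iso.inv iso.hom, Iso.inv_hom_id]
  exact hz

include g hsq in
open Groth.Agent.Lib.Helper50.ZC1 in
/-- `H^p(X₁, G/m^n G) = 0` above the dimension of the fibre -/
theorem subsingleton_HH_modPow [LocallyOfFiniteType f] [QuasiCompact f] (d : ℕ)
    (hd : topologicalKrullDim ↥(f.fiber y) ≤ d)
    (G : X₁.Modules) (n p : ℕ) (hp : d < p) :
    Subsingleton (Coh.HH X₁
      (Formal.modPow (IsLocalRing.maximalIdeal (Y.presheaf.stalk y)) n G) p) := by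
  haveI : LocallyOfFiniteType (f.fiberToSpecResidueField y) :=
    MorphismProperty.pullback_snd _ _ inferInstance
  haveI : IsLocallyNoetherian (f.fiber y) :=
    LocallyOfFiniteType.isLocallyNoetherian (f.fiberToSpecResidueField y)
  haveI : IsNoetherian (f.fiber y) := {}
  haveI : NoetherianSpace ↑(f.fiber y).toTopCat := IsNoetherian.noetherianSpace (X := f.fiber y)
  let m := IsLocalRing.maximalIdeal (Y.presheaf.stalk y)
  have hCclosed : IsClosed (C (X := X₁) m) :=
    (PrimeSpectrum.isClosed_zeroLocus _).preimage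
      (X₁ ↘ Spec (CommRingCat.of (Y.presheaf.stalk y))).continuous
  refine Groth.Agent.Lib.Helper32.GVSupport.subsingleton_H_of_closedEmbedding
    (Z := (f.fiber y).toTopCat) (X := X₁.toTopCat) (kFib f y g hsq).base
    (kFib f y g hsq).isClosedEmbedding d hd (Coh.toAb (Formal.modPow m n G)) ?_ p hp
  intro x hx
  have hxC : x ∉ C (X := X₁) m := fun h => hx (mem_range_kFib_of_mem_C f y g hsq x h)
  refine isZero_stalk_of_subsingleton_sections _ x ⟨(C (X := X₁) m)ᶜ, hCclosed.isOpen_compl⟩ hxC ?_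
  intro V hV
  let V' : X₁.Opens := V
  have hdisj : Disjoint (V' : Set X₁) (C (X := X₁) m) :=
    Set.disjoint_left.mpr (fun z hz hzC => hV hz hzC)
  exact subsingleton_sections_of_disjoint m G n (U := V') hdisj

end

end Groth.Agent.Lib.Helper32.FibreVanish
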