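import Mathlib
import Groth.Prelude.Def_Formal
import Groth.Prelude.Def_CohB1
import Groth.Agent.S0036
import Groth.Agent.Lib.Helper1.SupportClosed
import Groth.Agent.Lib.Helper11.SupportTensor
import Groth.Agent.Lib.Helper45.ModulesBasic

/-!
# From the completed stalk to vanishing near a point (helper32)
-/

set_option autoImplicit false
universe u
open CategoryTheory CategoryTheory.Limits AlgebraicGeometry TopologicalSpace Opposite

namespace Groth.Agent.Lib.Helper32.StalkVanishNhd

/-- a finite module over a Noetherian local ring with trivial completion is trivial -/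
theorem subsingleton_of_subsingleton_adicCompletion {R : Type u} [CommRing R] [IsLocalRing R]
    [IsNoetherianRing R] (M : Type u) [AddCommGroup M] [Module R M] [Module.Finite R M]
    (h : Subsingleton (AdicCompletion (IsLocalRing.maximalIdeal R) M)) : Subsingleton M :=
  (AdicCompletion.of_injective (I := IsLocalRing.maximalIdeal R) (M := M)).subsingleton

/-- a finite type module whose stalk at `s` vanishes is zero on a neighbourhood of `s` -/
theorem exists_nhd_isZero_restrict {S : Scheme.{u}} (N : S.Modules)
    (hN : SheafOfModules.IsFiniteType (R := S.ringCatSheaf) N) (s : S)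
    (hs : Subsingleton (N.presheaf.stalk s)) :
    ∃ V : S.Opens, s ∈ V ∧ IsZero (N.restrict V.ι) := by
  have hcl := Groth.Agent.Lib.Helper1.isClosed_support_of_isFiniteType N hN
  let V : S.Opens := ⟨(CohB1.support N)ᶜ, hcl.isOpen_compl⟩
  refine ⟨V, fun h => h hs, ?_⟩
  rw [Groth.Agent.Lib.Helper45.isZero_iff_stalk_subsingleton]
  intro z
  rw [Groth.Agent.Lib.Helper11.SupportTensor.subsingleton_stalk_restrict]
  by_contra h
  exact z.2 h

end Groth.Agent.Lib.Helper32.StalkVanishNhd
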