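import Mathlib
import Groth.Prelude.Def_Formal
import Groth.Prelude.Def_CohB1
import Groth.Agent.Lib.Helper32.FibreVanish
import Groth.Agent.Lib.Helper32.StalkVanishNhd
import Groth.Agent.S11319

/-!
# Consequences of the completed-stalk form of the theorem on formal functions (helper32)

`S4467Stmt` is the statement of S4467 (the completion of `(R^p f_* F)_y` is `lim_k H^p(X₁, F₁/m^k)`).
From it we deduce S7844 (vanishing of the limit ⇒ `R^p f_* F` vanishes near `y`) and S0042
(vanishing of `(R^p f_* F)_y` above the dimension of the fibre).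
-/

set_option autoImplicit false
universe u
open CategoryTheory CategoryTheory.Limits AlgebraicGeometry TopologicalSpace Opposite

namespace Groth.Agent.Lib.Helper32.FibreDimStalk

open Groth.Agent.Lib.Helper32.FibreVanish Groth.Agent.Lib.Helper32.StalkVanishNhd

/-- the statement of S4467 -/
def S4467Stmt : Prop :=
  ∀ {X Y : Scheme.{u}} (f : X ⟶ Y)
    [IsProper f] [IsLocallyNoetherian Y] [CategoryTheory.HasInjectiveResolutions X.Modules]
    (F : X.Modules) (_ : Coh.IsCoh F) (y : Y) (p : ℕ)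
    (X₁ : Scheme.{u}) [X₁.Over (Spec (CommRingCat.of (Y.presheaf.stalk y)))] (g : X₁ ⟶ X)
    (_ : IsPullback g (X₁ ↘ Spec (CommRingCat.of (Y.presheaf.stalk y))) f (Y.fromSpecStalk y)),
    Module.Finite (Y.presheaf.stalk y) (((Coh.Rpush f p).obj F).presheaf.stalk y) ∧
    Nonempty (AdicCompletion (IsLocalRing.maximalIdeal (Y.presheaf.stalk y))
        (((Coh.Rpush f p).obj F).presheaf.stalk y) ≃+
      Formal.HHlim (IsLocalRing.maximalIdeal (Y.presheaf.stalk y)) ((Scheme.Modules.pullback g).obj F) p)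

/-- S7844 from S4467 -/
theorem nhd_vanishing_of_limit_zero (H : S4467Stmt.{u}) {X S : Scheme.{u}} (f : X ⟶ S)
    [IsProper f] [IsLocallyNoetherian S] [CategoryTheory.HasInjectiveResolutions X.Modules]
    (F : X.Modules) (hF : Coh.IsCoh F) (s : S) (p : ℕ)
    (X₁ : Scheme.{u}) [X₁.Over (Spec (CommRingCat.of (S.presheaf.stalk s)))] (g : X₁ ⟶ X)
    (hsq : IsPullback g (X₁ ↘ Spec (CommRingCat.of (S.presheaf.stalk s))) f (S.fromSpecStalk s))
    (hlim : Subsingleton (Formal.HHlim (IsLocalRing.maximalIdeal (S.presheaf.stalk s))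
      ((Scheme.Modules.pullback g).obj F) p)) :
    ∃ V : S.Opens, s ∈ V ∧ Limits.IsZero ((((Coh.Rpush f p).obj F)).restrict V.ι) := by
  obtain ⟨hfin, ⟨e⟩⟩ := H f F hF s p X₁ g hsq
  haveI := hfin
  have h2 : Subsingleton (AdicCompletion (IsLocalRing.maximalIdeal (S.presheaf.stalk s))
      (((Coh.Rpush f p).obj F).presheaf.stalk s)) := e.toEquiv.subsingleton
  have h3 : Subsingleton (((Coh.Rpush f p).obj F).presheaf.stalk s) :=
    subsingleton_of_subsingleton_adicCompletion _ h2
  exact exists_nhd_isZero_restrict _ (Groth.Agent.S0036.result f F hF p).2 s h3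

/-- S0042 from S4467 -/
theorem stalk_vanishing_above_fibre_dim (H : S4467Stmt.{u}) {X Y : Scheme.{u}} (f : X ⟶ Y)
    [IsProper f] [IsLocallyNoetherian Y] (y : Y) (d : ℕ) (hd : topologicalKrullDim ↥(f.fiber y) ≤ d)
    (M : X.Modules) (hM : Coh.IsCoh M) (p : ℕ) (hp : d < p) :
    Limits.IsZero (TopCat.Presheaf.stalk ((Coh.RpushAb f p).obj (Coh.toAb M)).obj y) := by
  haveI : HasInjectiveResolutions X.Modules := inferInstance
  let X₁ : Scheme.{u} := pullback f (Y.fromSpecStalk y)
  letI : X₁.Over (Spec (CommRingCat.of (Y.presheaf.stalk y))) :=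
    ⟨pullback.snd f (Y.fromSpecStalk y)⟩
  let g : X₁ ⟶ X := pullback.fst f (Y.fromSpecStalk y)
  have hsq : IsPullback g (X₁ ↘ Spec (CommRingCat.of (Y.presheaf.stalk y))) f (Y.fromSpecStalk y) :=
    IsPullback.of_hasPullback f (Y.fromSpecStalk y)
  obtain ⟨hfin, ⟨e⟩⟩ := H f M hM y p X₁ g hsq
  haveI := hfin
  have h1 : Subsingleton (Formal.HHlim (IsLocalRing.maximalIdeal (Y.presheaf.stalk y))
      ((Scheme.Modules.pullback g).obj M) p) := by
    refine ⟨fun a b => Subtype.ext (funext fun n => ?_)⟩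
    haveI := subsingleton_HH_modPow f y g hsq d hd ((Scheme.Modules.pullback g).obj M) (n + 1) p hp
    exact Subsingleton.elim _ _
  have h2 : Subsingleton (AdicCompletion (IsLocalRing.maximalIdeal (Y.presheaf.stalk y))
      (((Coh.Rpush f p).obj M).presheaf.stalk y)) := e.toEquiv.subsingleton
  have h3 : Subsingleton (((Coh.Rpush f p).obj M).presheaf.stalk y) :=
    subsingleton_of_subsingleton_adicCompletion _ h2
  obtain ⟨e'⟩ := Groth.Agent.S11319.result f M p
  have e'' : TopCat.Presheaf.stalk ((Coh.RpushAb f p).obj (Coh.toAb M)).obj y ≅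
      ((Coh.Rpush f p).obj M).presheaf.stalk y :=
    (TopCat.Presheaf.stalkFunctor AddCommGrpCat.{u} y).mapIso
      ((sheafToPresheaf _ _).mapIso e'.symm)
  exact IsZero.of_iso (AddCommGrpCat.isZero_of_subsingleton _) e''

end Groth.Agent.Lib.Helper32.FibreDimStalk
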