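import Groth.Prelude.Def_FilD
import Mathlib.CategoryTheory.Preadditive.Biproducts

/-! `FilD.FilF A` has binary biproducts, computed levelwise (helper32). -/

set_option autoImplicit false
universe v u
open CategoryTheory CategoryTheory.Limits Opposite

namespace Groth.Agent.Lib.Helper32.FilBiprod

variable {A : Type u} [Category.{v} A] [Abelian A]

/-- the levelwise biproduct of two `ℤᵒᵖ`-diagrams. -/
noncomputable def biprodFunctor (F G : ℤᵒᵖ ⥤ A) : ℤᵒᵖ ⥤ A where
  obj p := F.obj p ⊞ G.obj p
  map f := biprod.map (F.map f) (G.map f)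
  map_id p := by ext <;> simp
  map_comp f g := by ext <;> simp

lemma isFinFil_biprodFunctor (F G : ℤᵒᵖ ⥤ A) (hF : FilD.IsFinFil A F) (hG : FilD.IsFinFil A G) :
    FilD.IsFinFil A (biprodFunctor F G) := by
  obtain ⟨hF1, ⟨bF, hbF⟩, ⟨aF, haF⟩⟩ := hF
  obtain ⟨hG1, ⟨bG, hbG⟩, ⟨aG, haG⟩⟩ := hG
  refine ⟨fun p q f => ?_, ⟨max bF bG, fun p hp => ?_⟩, ⟨min aF aG, fun p q f hp => ?_⟩⟩
  · haveI := hF1 f
    haveI := hG1 f
    exact (inferInstance : Mono (biprod.map (F.map f) (G.map f)))
  · have h1 := hbF p ((le_max_left _ _).trans hp)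
    have h2 := hbG p ((le_max_right _ _).trans hp)
    change IsZero (F.obj (op p) ⊞ G.obj (op p))
    rw [IsZero.iff_id_eq_zero, ← biprod.total, h1.eq_of_tgt biprod.fst 0, h2.eq_of_tgt biprod.snd 0]
    simp
  · haveI : IsIso (F.map f) := haF f (hp.trans (min_le_left _ _))
    haveI : IsIso (G.map f) := haG f (hp.trans (min_le_right _ _))
    have h1 : biprod.map (F.map f) (G.map f) ≫ biprod.map (inv (F.map f)) (inv (G.map f)) =
        𝟙 (F.obj p ⊞ G.obj p) := by ext <;> simp
    have h2 : biprod.map (inv (F.map f)) (inv (G.map f)) ≫ biprod.map (F.map f) (G.map f) =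
        𝟙 (F.obj q ⊞ G.obj q) := by ext <;> simp
    exact ⟨⟨biprod.map (inv (F.map f)) (inv (G.map f)), h1, h2⟩⟩

/-- the biproduct in `FilF A`. -/
noncomputable def biprodObj (F G : FilD.FilF A) : FilD.FilF A :=
  ⟨biprodFunctor F.obj G.obj, isFinFil_biprodFunctor _ _ F.property G.property⟩

/-- the projections and inclusions. -/
noncomputable def fstNat (F G : ℤᵒᵖ ⥤ A) : biprodFunctor F G ⟶ F where
  app p := biprod.fst
  naturality p q f := by simp [biprodFunctor]

noncomputable def sndNat (F G : ℤᵒᵖ ⥤ A) : biprodFunctor F G ⟶ G where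
  app p := biprod.snd
  naturality p q f := by simp [biprodFunctor]

noncomputable def inlNat (F G : ℤᵒᵖ ⥤ A) : F ⟶ biprodFunctor F G where
  app p := biprod.inl
  naturality p q f := by simp [biprodFunctor]

noncomputable def inrNat (F G : ℤᵒᵖ ⥤ A) : G ⟶ biprodFunctor F G where
  app p := biprod.inr
  naturality p q f := by simp [biprodFunctor]

/-- the binary bicone. -/
noncomputable def bicone (F G : FilD.FilF A) : BinaryBicone F G where
  pt := biprodObj F G
  fst := ObjectProperty.homMk (fstNat F.obj G.obj)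
  snd := ObjectProperty.homMk (sndNat F.obj G.obj)
  inl := ObjectProperty.homMk (inlNat F.obj G.obj)
  inr := ObjectProperty.homMk (inrNat F.obj G.obj)
  inl_fst := by
    apply ObjectProperty.hom_ext
    ext p
    exact biprod.inl_fst
  inl_snd := by
    apply ObjectProperty.hom_ext
    ext p
    exact biprod.inl_snd
  inr_fst := by
    apply ObjectProperty.hom_ext
    ext p
    exact biprod.inr_fst
  inr_snd := by
    apply ObjectProperty.hom_ext
    ext p
    exact biprod.inr_snd

instance : HasBinaryBiproducts (FilD.FilF A) where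
  has_binary_biproduct F G := HasBinaryBiproduct.mk
    { bicone := bicone F G
      isBilimit := isBinaryBilimitOfTotal _ (by
        apply ObjectProperty.hom_ext
        ext p
        exact biprod.total) }

end Groth.Agent.Lib.Helper32.FilBiprod
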