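import Groth.Agent.Lib.Helper32.RightRes
import Mathlib.Algebra.Homology.HomotopyCategory.Shift

/-!
# Right resolutions relative to a family of additive functors (helper32)

`𝓒` is a preadditive category with binary biproducts, `G q : 𝓒 ⥤ A` a family of additive functors to an
abelian category.  A sequence `ψ, φ` of `𝓒` is `GExact` if all `G q` send it to an exact sequence.
Assuming that every object of `𝓒` admits a `G`-monomorphism into an object of a class `I` and that
`G`-cokernels exist for the second map of a `GExact` sequence, every complex `K` of `𝓒` vanishing in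
negative degrees admits a morphism `K ⟶ M` to a complex with terms in `I`, vanishing in negative degrees,
which is a termwise `G`-monomorphism and a `G`-quasi-isomorphism.
-/

set_option autoImplicit false
universe w v u v' u'
open CategoryTheory CategoryTheory.Limits

namespace Groth.Agent.Lib.Helper32.GrRes

variable {𝓒 : Type u'} [Category.{v'} 𝓒] [Preadditive 𝓒] [HasBinaryBiproducts 𝓒]
  {A : Type u} [Category.{v} A] [Abelian A] {ι : Type w} (G : ι → 𝓒 ⥤ A) [∀ q, (G q).Additive]

/-- exactness after applying all `G q`, in terms of refinements. -/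
def GExact {P X Y : 𝓒} (ψ : P ⟶ X) (φ : X ⟶ Y) : Prop :=
  ∀ (q : ι) ⦃W : A⦄ (z : W ⟶ (G q).obj X), z ≫ (G q).map φ = 0 →
    ∃ (W' : A) (π : W' ⟶ W) (_ : Epi π) (w : W' ⟶ (G q).obj P), π ≫ z = w ≫ (G q).map ψ

variable (I : 𝓒 → Prop) (K : CochainComplex 𝓒 ℤ)

/-- the "differential of the cone". -/
noncomputable def phi {Tprev T : 𝓒} (dprev : Tprev ⟶ T) {k : ℕ} (α : K.X (Int.ofNat k) ⟶ T) :
    Tprev ⊞ K.X (Int.ofNat k) ⟶ T ⊞ K.X (Int.ofNat (k + 1)) :=
  biprod.desc (dprev ≫ biprod.inl)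
    (α ≫ biprod.inl - K.d (Int.ofNat k) (Int.ofNat (k + 1)) ≫ biprod.inr)

lemma phi_fst {Tprev T : 𝓒} (dprev : Tprev ⟶ T) {k : ℕ} (α : K.X (Int.ofNat k) ⟶ T) :
    phi K dprev α ≫ biprod.fst = biprod.fst ≫ dprev + biprod.snd ≫ α := by
  apply biprod.hom_ext' <;> simp [phi]

lemma phi_snd {Tprev T : 𝓒} (dprev : Tprev ⟶ T) {k : ℕ} (α : K.X (Int.ofNat k) ⟶ T) :
    phi K dprev α ≫ biprod.snd = -(biprod.snd ≫ K.d (Int.ofNat k) (Int.ofNat (k + 1))) := by
  apply biprod.hom_ext' <;> simp [phi]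

/-- The data at stage `k` of the inductive construction. -/
structure Stage (k : ℕ) where
  /-- the term before the previous term -/
  P : 𝓒
  /-- the previous term -/
  Tprev : 𝓒
  /-- the current term -/
  T : 𝓒
  /-- the differential -/
  dprev : Tprev ⟶ T
  /-- the comparison map -/
  α : K.X (Int.ofNat k) ⟶ T
  /-- the previous differential of the cone -/
  ψ : P ⟶ Tprev ⊞ K.X (Int.ofNat k)
  hT : I T
  mono_α : ∀ q, Mono ((G q).map α)
  inv : ∀ (q : ι) ⦃W : A⦄ (x : W ⟶ (G q).obj (K.X (Int.ofNat k))) (t : W ⟶ (G q).obj Tprev),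
    x ≫ (G q).map α = t ≫ (G q).map dprev →
    ∃ (i : ℤ) (W' : A) (π : W' ⟶ W) (_ : Epi π) (x' : W' ⟶ (G q).obj (K.X i)),
      π ≫ x = x' ≫ (G q).map (K.d i (Int.ofNat k))
  hψ : ψ ≫ phi K dprev α = 0
  exact_ψ : GExact G ψ (phi K dprev α)

variable {G I K}
variable (hI : ∀ X : 𝓒, ∃ (Y : 𝓒) (j : X ⟶ Y), I Y ∧ ∀ q, Mono ((G q).map j))
  (hcok : ∀ (P X Y : 𝓒) (ψ : P ⟶ X) (φ : X ⟶ Y), ψ ≫ φ = 0 → GExact G ψ φ →
    ∃ (B : 𝓒) (π : Y ⟶ B), φ ≫ π = 0 ∧ GExact G φ π)

namespace Stage

variable {k : ℕ} (st : Stage G I K k)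

/-- the differential of the cone at this stage. -/
noncomputable abbrev φ : st.Tprev ⊞ K.X (Int.ofNat k) ⟶ st.T ⊞ K.X (Int.ofNat (k + 1)) :=
  phi K st.dprev st.α

omit [∀ q, (G q).Additive] in
include hcok in
lemma hB : ∃ (B : 𝓒) (π : st.T ⊞ K.X (Int.ofNat (k + 1)) ⟶ B), st.φ ≫ π = 0 ∧ GExact G st.φ π :=
  hcok _ _ _ st.ψ st.φ st.hψ st.exact_ψ

/-- The `G`-cokernel of `φ`. -/
noncomputable def B : 𝓒 := (st.hB hcok).choose

/-- the projection to the `G`-cokernel of `φ`. -/
noncomputable def π : st.T ⊞ K.X (Int.ofNat (k + 1)) ⟶ st.B hcok := (st.hB hcok).choose_spec.choose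

lemma φ_π : st.φ ≫ st.π hcok = 0 := (st.hB hcok).choose_spec.choose_spec.1

lemma exact_π : GExact G st.φ (st.π hcok) := (st.hB hcok).choose_spec.choose_spec.2

/-- `T ⟶ B`. -/
noncomputable def inl' : st.T ⟶ st.B hcok := biprod.inl ≫ st.π hcok

/-- `K^{k+1} ⟶ B`. -/
noncomputable def inr' : K.X (Int.ofNat (k + 1)) ⟶ st.B hcok := biprod.inr ≫ st.π hcok

lemma fst_inl'_add : biprod.fst ≫ st.inl' hcok + biprod.snd ≫ st.inr' hcok = st.π hcok := by
  rw [inl', inr', ← Category.assoc, ← Category.assoc, ← Preadditive.add_comp, biprod.total,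
    Category.id_comp]

lemma dprev_inl' : st.dprev ≫ st.inl' hcok = 0 := by
  have h : biprod.inl ≫ st.φ = st.dprev ≫ biprod.inl := by simp [φ, phi]
  rw [inl', ← Category.assoc, ← h, Category.assoc, φ_π, comp_zero]

lemma α_inl' : st.α ≫ st.inl' hcok = K.d (Int.ofNat k) (Int.ofNat (k + 1)) ≫ st.inr' hcok := by
  have h : biprod.inr ≫ st.φ =
      st.α ≫ biprod.inl - K.d (Int.ofNat k) (Int.ofNat (k + 1)) ≫ biprod.inr := by simp [φ, phi]
  have h2 := st.φ_π hcok
  rw [← sub_eq_zero, inl', inr', ← Category.assoc, ← Category.assoc, ← Preadditive.sub_comp, ← h,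
    Category.assoc, h2, comp_zero]

/-- Exactness of `Tprev ⊞ K^k ⟶ T ⊞ K^{k+1} ⟶ B` after applying `G q`, in terms of refinements. -/
lemma exact (q : ι) {W : A} (y : W ⟶ (G q).obj st.T) (x : W ⟶ (G q).obj (K.X (Int.ofNat (k + 1))))
    (h : y ≫ (G q).map (st.inl' hcok) + x ≫ (G q).map (st.inr' hcok) = 0) :
    ∃ (W' : A) (π : W' ⟶ W) (_ : Epi π) (t : W' ⟶ (G q).obj st.Tprev)
      (x₀ : W' ⟶ (G q).obj (K.X (Int.ofNat k))),
      π ≫ y = t ≫ (G q).map st.dprev + x₀ ≫ (G q).map st.α ∧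
      π ≫ x = -(x₀ ≫ (G q).map (K.d (Int.ofNat k) (Int.ofNat (k + 1)))) := by
  obtain ⟨W', π, hπ, w, hw⟩ := st.exact_π hcok q
    (y ≫ (G q).map biprod.inl + x ≫ (G q).map biprod.inr) (by
      rw [← h, Preadditive.add_comp, Category.assoc, Category.assoc, ← Functor.map_comp,
        ← Functor.map_comp]
      rfl)
  have h11 : (G q).map (biprod.inl : st.T ⟶ st.T ⊞ K.X (Int.ofNat (k + 1))) ≫
      (G q).map biprod.fst = 𝟙 _ := by
    rw [← Functor.map_comp, biprod.inl_fst, CategoryTheory.Functor.map_id]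
  have h12 : (G q).map (biprod.inl : st.T ⟶ st.T ⊞ K.X (Int.ofNat (k + 1))) ≫
      (G q).map biprod.snd = 0 := by
    rw [← Functor.map_comp, biprod.inl_snd, Functor.map_zero]
  have h21 : (G q).map (biprod.inr : K.X (Int.ofNat (k + 1)) ⟶ st.T ⊞ K.X (Int.ofNat (k + 1))) ≫
      (G q).map biprod.fst = 0 := by
    rw [← Functor.map_comp, biprod.inr_fst, Functor.map_zero]
  have h22 : (G q).map (biprod.inr : K.X (Int.ofNat (k + 1)) ⟶ st.T ⊞ K.X (Int.ofNat (k + 1))) ≫
      (G q).map biprod.snd = 𝟙 _ := by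
    rw [← Functor.map_comp, biprod.inr_snd, CategoryTheory.Functor.map_id]
  refine ⟨W', π, hπ, w ≫ (G q).map biprod.fst, w ≫ (G q).map biprod.snd, ?_, ?_⟩
  · have := hw =≫ (G q).map biprod.fst
    rw [Category.assoc, Preadditive.add_comp, Category.assoc, Category.assoc, h11, h21, comp_zero,
      add_zero, Category.comp_id, Category.assoc, ← Functor.map_comp, phi_fst, Functor.map_add,
      Functor.map_comp, Functor.map_comp, Preadditive.comp_add] at this
    rw [this, Category.assoc, Category.assoc]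
  · have := hw =≫ (G q).map biprod.snd
    rw [Category.assoc, Preadditive.add_comp, Category.assoc, Category.assoc, h12, h22, comp_zero,
      zero_add, Category.comp_id, Category.assoc, ← Functor.map_comp, phi_snd, Functor.map_neg,
      Functor.map_comp, Preadditive.comp_neg] at this
    rw [this, Category.assoc]

/-- the next term. -/
noncomputable def T' : 𝓒 := (hI (st.B hcok)).choose

/-- the embedding of `B` in the next term. -/
noncomputable def j : st.B hcok ⟶ st.T' hI hcok := (hI (st.B hcok)).choose_spec.choose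

omit [∀ q, (G q).Additive] in
lemma hT' : I (st.T' hI hcok) := (hI (st.B hcok)).choose_spec.choose_spec.1

omit [∀ q, (G q).Additive] in
lemma mono_j (q : ι) : Mono ((G q).map (st.j hI hcok)) :=
  (hI (st.B hcok)).choose_spec.choose_spec.2 q

lemma mono_inr' (q : ι) : Mono ((G q).map (st.inr' hcok)) := by
  apply Preadditive.mono_of_cancel_zero
  intro W x hx
  obtain ⟨W', π, hπ, t, x₀, h1, h2⟩ := st.exact hcok q 0 x (by rw [zero_comp, zero_add, hx])
  rw [comp_zero] at h1
  obtain ⟨i, W'', π', hπ', x', h3⟩ := st.inv q x₀ (-t) (by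
    rw [Preadditive.neg_comp]
    exact eq_neg_of_add_eq_zero_right h1.symm)
  rw [← cancel_epi π, ← cancel_epi π', comp_zero, comp_zero, h2, Preadditive.comp_neg,
    reassoc_of% h3, ← Functor.map_comp, K.d_comp_d, Functor.map_zero, comp_zero, neg_zero]

/-- The next stage. -/
noncomputable def next : Stage G I K (k + 1) where
  P := st.Tprev ⊞ K.X (Int.ofNat k)
  Tprev := st.T
  T := st.T' hI hcok
  dprev := st.inl' hcok ≫ st.j hI hcok
  α := st.inr' hcok ≫ st.j hI hcok
  ψ := st.φ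
  hT := st.hT' hI hcok
  mono_α q := by
    rw [Functor.map_comp]
    haveI := st.mono_inr' hcok q
    haveI := st.mono_j hI hcok q
    exact mono_comp _ _
  inv := by
    intro q W x t hxt
    haveI := st.mono_j hI hcok q
    rw [Functor.map_comp, Functor.map_comp, ← Category.assoc, ← Category.assoc, cancel_mono] at hxt
    obtain ⟨W', π, hπ, t', x₀, h1, h2⟩ := st.exact hcok q (-t) x (by
      rw [Preadditive.neg_comp, hxt, neg_add_cancel])
    exact ⟨Int.ofNat k, W', π, hπ, -x₀, by rw [h2, Preadditive.neg_comp]⟩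
  hψ := by
    apply biprod.hom_ext
    · rw [Category.assoc, phi_fst, zero_comp, ← Category.assoc, ← Category.assoc,
        ← Preadditive.add_comp, fst_inl'_add, ← Category.assoc, φ_π, zero_comp]
    · rw [Category.assoc, phi_snd, zero_comp, Preadditive.comp_neg, ← Category.assoc, phi_snd,
        Preadditive.neg_comp, Category.assoc, K.d_comp_d, comp_zero, neg_zero, neg_zero]
  exact_ψ := by
    intro q W z hz
    have h1 : phi K (st.inl' hcok ≫ st.j hI hcok) (st.inr' hcok ≫ st.j hI hcok) ≫ biprod.fst =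
        st.π hcok ≫ st.j hI hcok := by
      rw [phi_fst, ← Category.assoc, ← Category.assoc, ← Preadditive.add_comp, fst_inl'_add]
    have h2 : z ≫ (G q).map (st.π hcok) = 0 := by
      haveI := st.mono_j hI hcok q
      rw [← cancel_mono ((G q).map (st.j hI hcok)), zero_comp, Category.assoc, ← Functor.map_comp,
        ← h1, Functor.map_comp, ← Category.assoc, hz, zero_comp]
    exact st.exact_π hcok q z h2

lemma next_comm : st.α ≫ (st.next hI hcok).dprev =
    K.d (Int.ofNat k) (Int.ofNat (k + 1)) ≫ (st.next hI hcok).α := by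
  change st.α ≫ st.inl' hcok ≫ _ = _ ≫ st.inr' hcok ≫ _
  rw [← Category.assoc, ← Category.assoc, st.α_inl']

lemma next_dd : st.dprev ≫ (st.next hI hcok).dprev = 0 := by
  change st.dprev ≫ st.inl' hcok ≫ _ = 0
  rw [← Category.assoc, st.dprev_inl', zero_comp]

lemma next_surj (q : ι) {W : A} (y : W ⟶ (G q).obj st.T)
    (hy : y ≫ (G q).map (st.next hI hcok).dprev = 0) :
    ∃ (W' : A) (π : W' ⟶ W) (_ : Epi π) (x : W' ⟶ (G q).obj (K.X (Int.ofNat k)))
      (_ : x ≫ (G q).map (K.d (Int.ofNat k) (Int.ofNat (k + 1))) = 0)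
      (t : W' ⟶ (G q).obj st.Tprev),
      π ≫ y = x ≫ (G q).map st.α + t ≫ (G q).map st.dprev := by
  haveI := st.mono_j hI hcok q
  change y ≫ (G q).map (st.inl' hcok ≫ st.j hI hcok) = 0 at hy
  rw [Functor.map_comp, ← Category.assoc] at hy
  replace hy := zero_of_comp_mono _ hy
  obtain ⟨W', π, hπ, t, x₀, h1, h2⟩ := st.exact hcok q y 0 (by rw [hy, zero_comp, add_zero])
  refine ⟨W', π, hπ, x₀, ?_, t, by rw [h1, add_comm]⟩
  rw [comp_zero] at h2
  exact neg_eq_zero.1 h2.symm

end Stage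

section Construction

variable (G I K) (Z : 𝓒) (hZ : IsZero Z)

/-- The initial stage. -/
noncomputable def init : Stage G I K 0 where
  P := Z
  Tprev := Z
  T := (hI (K.X (Int.ofNat 0))).choose
  dprev := 0
  α := (hI (K.X (Int.ofNat 0))).choose_spec.choose
  ψ := 0
  hT := (hI (K.X (Int.ofNat 0))).choose_spec.choose_spec.1
  mono_α := (hI (K.X (Int.ofNat 0))).choose_spec.choose_spec.2
  inv := by
    intro q W x t h
    have : Mono ((G q).map (hI (K.X (Int.ofNat 0))).choose_spec.choose) :=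
      (hI (K.X (Int.ofNat 0))).choose_spec.choose_spec.2 q
    rw [Functor.map_zero, comp_zero] at h
    have hx := zero_of_comp_mono _ h
    exact ⟨0, W, 𝟙 W, inferInstance, 0, by rw [hx, comp_zero, zero_comp]⟩
  hψ := zero_comp
  exact_ψ := by
    intro q W z hz
    have : Mono ((G q).map (hI (K.X (Int.ofNat 0))).choose_spec.choose) :=
      (hI (K.X (Int.ofNat 0))).choose_spec.choose_spec.2 q
    refine ⟨W, 𝟙 W, inferInstance, 0, ?_⟩
    rw [Category.id_comp, zero_comp]
    have h1 : z ≫ (G q).map (biprod.fst : Z ⊞ K.X (Int.ofNat 0) ⟶ Z) = 0 :=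
      ((G q).map_isZero hZ).eq_of_tgt _ _
    have h2 : z ≫ (G q).map (biprod.snd : Z ⊞ K.X (Int.ofNat 0) ⟶ K.X (Int.ofNat 0)) = 0 := by
      rw [← cancel_mono ((G q).map (hI (K.X (Int.ofNat 0))).choose_spec.choose), zero_comp,
        Category.assoc, ← Functor.map_comp]
      have h3 := congrArg (fun f => z ≫ (G q).map f)
        (phi_fst K (0 : Z ⟶ _) (hI (K.X (Int.ofNat 0))).choose_spec.choose)
      rw [Functor.map_comp, ← Category.assoc, hz, zero_comp, comp_zero, zero_add] at h3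
      exact h3.symm
    have h3 : z = z ≫ (G q).map (𝟙 _) := by
      rw [CategoryTheory.Functor.map_id, Category.comp_id]
    rw [h3, ← biprod.total, Functor.map_add, Functor.map_comp, Functor.map_comp,
      Preadditive.comp_add, ← Category.assoc, ← Category.assoc, h1, h2, zero_comp, zero_comp,
      add_zero]

/-- The sequence of stages. -/
noncomputable def seq : (k : ℕ) → Stage G I K k
  | 0 => init G I K hI Z hZ
  | k + 1 => (seq k).next hI hcok

/-- The terms of the resolution. -/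
noncomputable def X' : ℤ → 𝓒
  | Int.ofNat k => (seq G I K hI hcok Z hZ k).T
  | Int.negSucc _ => Z

/-- The differentials of the resolution. -/
noncomputable def d' : (m : ℤ) → (X' G I K hI hcok Z hZ m ⟶ X' G I K hI hcok Z hZ (m + 1))
  | Int.ofNat k => (seq G I K hI hcok Z hZ (k + 1)).dprev
  | Int.negSucc 0 => 0
  | Int.negSucc (_ + 1) => 0

lemma d'_comp_d' (m : ℤ) : d' G I K hI hcok Z hZ m ≫ d' G I K hI hcok Z hZ (m + 1) = 0 := by
  match m with
  | Int.ofNat k => exact (seq G I K hI hcok Z hZ (k + 1)).next_dd hI hcok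
  | Int.negSucc 0 => exact zero_comp
  | Int.negSucc (j + 1) => exact zero_comp

/-- The resolution. -/
noncomputable def M : CochainComplex 𝓒 ℤ :=
  CochainComplex.of (X' G I K hI hcok Z hZ) (d' G I K hI hcok Z hZ) (d'_comp_d' G I K hI hcok Z hZ)

/-- The components of the comparison map. -/
noncomputable def f' : (m : ℤ) → (K.X m ⟶ X' G I K hI hcok Z hZ m)
  | Int.ofNat k => (seq G I K hI hcok Z hZ k).α
  | Int.negSucc _ => 0

variable [K.IsStrictlyGE 0]

lemma f'_comm (m : ℤ) : f' G I K hI hcok Z hZ m ≫ d' G I K hI hcok Z hZ m =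
    K.d m (m + 1) ≫ f' G I K hI hcok Z hZ (m + 1) := by
  match m with
  | Int.ofNat k => exact (seq G I K hI hcok Z hZ k).next_comm hI hcok
  | Int.negSucc 0 =>
    exact (zero_comp).trans ((K.isZero_of_isStrictlyGE 0 (Int.negSucc 0) (by lia)).eq_of_src _ _)
  | Int.negSucc (j + 1) =>
    exact (zero_comp).trans ((K.isZero_of_isStrictlyGE 0 (Int.negSucc (j + 1)) (by lia)).eq_of_src _ _)

/-- The comparison map. -/
noncomputable def α : K ⟶ M G I K hI hcok Z hZ where
  f := f' G I K hI hcok Z hZ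
  comm' i j hij := by
    obtain rfl : i + 1 = j := hij
    dsimp [M]
    rw [CochainComplex.of_d]
    exact f'_comm G I K hI hcok Z hZ i

omit [K.IsStrictlyGE 0] in
lemma isStrictlyGE_M : (M G I K hI hcok Z hZ).IsStrictlyGE 0 := by
  rw [CochainComplex.isStrictlyGE_iff]
  intro i hi
  match i with
  | Int.ofNat k => exact absurd hi (by simp)
  | Int.negSucc _ => exact hZ

omit [K.IsStrictlyGE 0] in
lemma prop_M (hIZ : I Z) (n : ℤ) : I ((M G I K hI hcok Z hZ).X n) := by
  match n with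
  | Int.ofNat k => exact (seq G I K hI hcok Z hZ k).hT
  | Int.negSucc _ => exact hIZ

lemma mono_α_f (n : ℤ) (q : ι) : Mono ((G q).map ((α G I K hI hcok Z hZ).f n)) := by
  match n with
  | Int.ofNat k => exact (seq G I K hI hcok Z hZ k).mono_α q
  | Int.negSucc j =>
    exact ⟨fun _ _ _ => ((G q).map_isZero
      (K.isZero_of_isStrictlyGE 0 (Int.negSucc j) (by lia))).eq_of_tgt _ _⟩

omit [K.IsStrictlyGE 0] in
lemma M_d (m : ℤ) : (M G I K hI hcok Z hZ).d m (m + 1) = d' G I K hI hcok Z hZ m :=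
  CochainComplex.of_d (X' G I K hI hcok Z hZ) (d' G I K hI hcok Z hZ) m

lemma quasiIsoAt_α_ofNat (q : ι) (k : ℕ) :
    QuasiIsoAt (((G q).mapHomologicalComplex (ComplexShape.up ℤ)).map (α G I K hI hcok Z hZ))
      (Int.ofNat k) := by
  match k with
  | 0 =>
    refine quasiIsoAt_of_refinements _ (Int.negSucc 0) (Int.ofNat 0) (Int.ofNat 1)
      (by rfl) (by rfl) ?_ ?_
    · intro W x t h
      refine (seq G I K hI hcok Z hZ 0).inv q x t ?_
      refine h.trans ?_
      congr 1
      exact congrArg (G q).map (M_d G I K hI hcok Z hZ (Int.negSucc 0))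
    · intro W y hy
      have hy' : y ≫ (G q).map (seq G I K hI hcok Z hZ 1).dprev = 0 := by
        refine Eq.trans ?_ hy
        congr 1
        exact congrArg (G q).map (M_d G I K hI hcok Z hZ (Int.ofNat 0)).symm
      obtain ⟨W', π, hπ, x, hx, t, h⟩ := (seq G I K hI hcok Z hZ 0).next_surj hI hcok q y hy'
      refine ⟨W', π, hπ, x, hx, t, h.trans ?_⟩
      congr 2
      exact congrArg (G q).map (M_d G I K hI hcok Z hZ (Int.negSucc 0)).symm
  | k + 1 =>
    refine quasiIsoAt_of_refinements _ (Int.ofNat k) (Int.ofNat (k + 1)) (Int.ofNat (k + 2))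
      (by rfl) (by rfl) ?_ ?_
    · intro W x t h
      refine (seq G I K hI hcok Z hZ (k + 1)).inv q x t ?_
      refine h.trans ?_
      congr 1
      exact congrArg (G q).map (M_d G I K hI hcok Z hZ (Int.ofNat k))
    · intro W y hy
      have hy' : y ≫ (G q).map (seq G I K hI hcok Z hZ (k + 2)).dprev = 0 := by
        refine Eq.trans ?_ hy
        congr 1
        exact congrArg (G q).map (M_d G I K hI hcok Z hZ (Int.ofNat (k + 1))).symm
      obtain ⟨W', π, hπ, x, hx, t, h⟩ := (seq G I K hI hcok Z hZ (k + 1)).next_surj hI hcok q y hy'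
      refine ⟨W', π, hπ, x, hx, t, h.trans ?_⟩
      congr 2
      exact congrArg (G q).map (M_d G I K hI hcok Z hZ (Int.ofNat k)).symm

lemma quasiIso_α (q : ι) :
    QuasiIso (((G q).mapHomologicalComplex (ComplexShape.up ℤ)).map (α G I K hI hcok Z hZ)) := by
  rw [quasiIso_iff]
  intro n
  match n with
  | Int.ofNat k => exact quasiIsoAt_α_ofNat G I K hI hcok Z hZ q k
  | Int.negSucc j =>
    have h1 : IsZero ((((G q).mapHomologicalComplex (ComplexShape.up ℤ)).obj K).X (Int.negSucc j)) :=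
      (G q).map_isZero (K.isZero_of_isStrictlyGE 0 (Int.negSucc j) (by lia))
    have h2 : IsZero ((((G q).mapHomologicalComplex (ComplexShape.up ℤ)).obj
        (M G I K hI hcok Z hZ)).X (Int.negSucc j)) :=
      (G q).map_isZero hZ
    rw [quasiIsoAt_iff_exactAt _ _ (HomologicalComplex.ExactAt.of_isZero h1)]
    exact HomologicalComplex.ExactAt.of_isZero h2

end Construction

include hI hcok in
/-- Right `G`-resolutions for complexes vanishing in negative degrees. -/
theorem exists_zero (hI0 : ∃ Z : 𝓒, IsZero Z ∧ I Z) (K : CochainComplex 𝓒 ℤ) [K.IsStrictlyGE 0] :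
    ∃ (L : CochainComplex 𝓒 ℤ) (α : K ⟶ L), L.IsStrictlyGE 0 ∧ (∀ n, I (L.X n)) ∧
      (∀ n q, Mono ((G q).map (α.f n))) ∧
      ∀ q, QuasiIso (((G q).mapHomologicalComplex (ComplexShape.up ℤ)).map α) := by
  obtain ⟨Z, hZ, hIZ⟩ := hI0
  exact ⟨M G I K hI hcok Z hZ, α G I K hI hcok Z hZ, isStrictlyGE_M G I K hI hcok Z hZ,
    prop_M G I K hI hcok Z hZ hIZ, mono_α_f G I K hI hcok Z hZ, quasiIso_α G I K hI hcok Z hZ⟩

include hI hcok in
/-- Right `G`-resolutions for bounded below complexes. -/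
theorem exists_of_isStrictlyGE (hI0 : ∃ Z : 𝓒, IsZero Z ∧ I Z) (K : CochainComplex 𝓒 ℤ) (a : ℤ)
    [K.IsStrictlyGE a] :
    ∃ (L : CochainComplex 𝓒 ℤ) (α : K ⟶ L), L.IsStrictlyGE a ∧ (∀ n, I (L.X n)) ∧
      (∀ n q, Mono ((G q).map (α.f n))) ∧
      ∀ q, QuasiIso (((G q).mapHomologicalComplex (ComplexShape.up ℤ)).map α) := by
  have : (K⟦a⟧).IsStrictlyGE 0 := K.isStrictlyGE_shift a a 0 (by lia)
  obtain ⟨M, α', hM, hIM, hmono, hqis⟩ := exists_zero hI hcok hI0 (K⟦a⟧)
  refine ⟨M⟦-a⟧, ((shiftEquiv (CochainComplex 𝓒 ℤ) a).unitIso.app K).hom ≫ α'⟦-a⟧',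
    M.isStrictlyGE_shift 0 (-a) a (by lia), fun n => hIM (n + -a), fun n q => ?_, fun q => ?_⟩
  · rw [HomologicalComplex.comp_f, Functor.map_comp]
    have h1 : Mono ((G q).map ((α'⟦-a⟧').f n)) := hmono (n + -a) q
    have h2 : IsIso ((G q).map (((shiftEquiv (CochainComplex 𝓒 ℤ) a).unitIso.app K).hom.f n)) :=
      inferInstance
    exact @mono_comp _ _ _ _ _ _ inferInstance _ h1
  · rw [Functor.map_comp]
    have h2 : QuasiIso (((G q).mapHomologicalComplex (ComplexShape.up ℤ)).map
        ((shiftEquiv (CochainComplex 𝓒 ℤ) a).unitIso.app K).hom) := inferInstance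
    have h1 : QuasiIso (((G q).mapHomologicalComplex (ComplexShape.up ℤ)).map (α'⟦-a⟧')) := by
      have e := ((G q).mapHomologicalComplex (ComplexShape.up ℤ)).commShiftIso (-a)
      have hn := e.hom.naturality α'
      have := hqis q
      have h4 : QuasiIso ((((G q).mapHomologicalComplex (ComplexShape.up ℤ)).map α')⟦-a⟧') :=
        inferInstance
      have h3 : ((G q).mapHomologicalComplex (ComplexShape.up ℤ)).map (α'⟦-a⟧') =
          e.hom.app _ ≫ (((G q).mapHomologicalComplex (ComplexShape.up ℤ)).map α')⟦-a⟧' ≫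
            e.inv.app _ := by
        have hn' : ((G q).mapHomologicalComplex (ComplexShape.up ℤ)).map (α'⟦-a⟧') ≫ e.hom.app _ =
            e.hom.app _ ≫ (((G q).mapHomologicalComplex (ComplexShape.up ℤ)).map α')⟦-a⟧' := hn
        rw [← Category.assoc, ← hn', Category.assoc, Iso.hom_inv_id_app]
        exact (Category.comp_id _).symm
      rw [h3]
      infer_instance
    exact @quasiIso_comp _ _ _ _ _ _ _ _ _ _ _ _ _ h2 h1

end Groth.Agent.Lib.Helper32.GrRes
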