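import Groth.Agent.Lib.Helper32.FilStrict
import Groth.Agent.Lib.Helper32.GrRes

/-! Cokernels in `FilD.FilF A` of the second map of a `gr`-exact sequence (helper32). -/

set_option autoImplicit false
universe v u
open CategoryTheory CategoryTheory.Limits Opposite

namespace Groth.Agent.Lib.Helper32.FilCok

open FilExt FilLevels FilStrict

variable {A : Type u} [Category.{v} A] [Abelian A]

section Functor

variable {X Y : ℤᵒᵖ ⥤ A} (φ : X ⟶ Y)

/-- the levelwise cokernel. -/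
noncomputable def cok : ℤᵒᵖ ⥤ A where
  obj q := cokernel (φ.app q)
  map {q r} f := cokernel.map (φ.app q) (φ.app r) (X.map f) (Y.map f) (φ.naturality f).symm
  map_id q := by ext; simp
  map_comp f g := by ext; simp

/-- the projection to the levelwise cokernel. -/
noncomputable def cokπ (q : ℤᵒᵖ) : Y.obj q ⟶ (cok φ).obj q := cokernel.π (φ.app q)

instance (q : ℤᵒᵖ) : Epi (cokπ φ q) := coequalizer.π_epi

lemma app_cokπ (q : ℤᵒᵖ) : φ.app q ≫ cokπ φ q = 0 := cokernel.condition _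

lemma cokπ_map {q r : ℤᵒᵖ} (f : q ⟶ r) : cokπ φ q ≫ (cok φ).map f = Y.map f ≫ cokπ φ r :=
  cokernel.π_desc _ _ _

lemma cok_exact (q : ℤᵒᵖ) : (ShortComplex.mk (φ.app q) (cokπ φ q) (app_cokπ φ q)).Exact :=
  ShortComplex.exact_cokernel _

/-- the projection to the levelwise cokernel, as a natural transformation. -/
noncomputable def cokπNat : Y ⟶ cok φ where
  app q := cokπ φ q
  naturality _ _ f := (cokπ_map φ f).symm

lemma mono_map_of_mono_step (F : ℤᵒᵖ ⥤ A) (h : ∀ q : ℤ, Mono (F.map (FilD.stepHom q)))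
    ⦃p q : ℤᵒᵖ⦄ (f : p ⟶ q) : Mono (F.map f) := by
  have key : ∀ (a b : ℤ) (hab : a ≤ b), Mono (tr F hab) := by
    intro a b hab
    induction b, hab using Int.leInduction with
    | base => rw [tr_self]; infer_instance
    | succ b hab ih =>
      rw [← tr_comp F hab (by omega : b ≤ b + 1)]
      haveI : Mono (tr F (by omega : b ≤ b + 1)) := h b
      exact mono_comp _ _
  rw [map_eq_tr F f]
  exact key _ _ _

end Functor

section FilF

variable {P X Y : FilD.FilF A} (ψ : P ⟶ X) (φ : X ⟶ Y) (h : ψ ≫ φ = 0)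
  (hex : GrRes.GExact (fun q : ℤ => FilD.grF A q) ψ φ)

include h hex in
lemma mono_cok_step (q : ℤ) : Mono ((cok φ.hom).map (FilD.stepHom q)) := by
  let S : ShortComplex (FilD.FilF A) := ShortComplex.mk ψ φ h
  have hS : ∀ p : ℤ, (S.map (FilD.grF A p)).Exact := fun p => by
    rw [ShortComplex.exact_iff_exact_up_to_refinements]
    intro W z hz
    exact hex p z hz
  haveI : Mono (Y.obj.map (FilD.stepHom q)) := Y.property.1 _
  apply Preadditive.mono_of_cancel_zero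
  intro Z z hz
  obtain ⟨Z1, π1, hπ1, y, hy⟩ := surjective_up_to_refinements_of_epi (cokπ φ.hom (op (q + 1))) z
  have h2 : (y ≫ Y.obj.map (FilD.stepHom q)) ≫ cokπ φ.hom (op q) = 0 := by
    rw [Category.assoc, ← cokπ_map, ← Category.assoc, ← hy, Category.assoc, hz, comp_zero]
  obtain ⟨Z2, π2, hπ2, (x : Z2 ⟶ X.obj.obj (op q)),
    (hx : π2 ≫ y ≫ Y.obj.map (FilD.stepHom q) = x ≫ φ.hom.app (op q))⟩ :=
    (cok_exact φ.hom (op q)).exact_up_to_refinements _ h2
  obtain ⟨Z3, π3, hπ3, (x0 : Z3 ⟶ P.obj.obj (op q)), (x1 : Z3 ⟶ X.obj.obj (op (q + 1))),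
    (h3 : π3 ≫ x = x0 ≫ ψ.hom.app (op q) + x1 ≫ X.obj.map (FilD.stepHom q))⟩ :=
    descent S hS q x (by
      change x ≫ φ.hom.app (op q) ≫ grπ Y q = 0
      rw [← Category.assoc, ← hx, Category.assoc, Category.assoc, step_grπ, comp_zero, comp_zero])
  have h0 : ψ.hom.app (op q) ≫ φ.hom.app (op q) = 0 := app_comp_app S q
  have h4 : x1 ≫ φ.hom.app (op (q + 1)) = π3 ≫ π2 ≫ y := by
    rw [← cancel_mono (Y.obj.map (FilD.stepHom q)), Category.assoc, ← step_naturality φ q,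
      ← Category.assoc]
    have h5 : x1 ≫ X.obj.map (FilD.stepHom q) = π3 ≫ x - x0 ≫ ψ.hom.app (op q) := by
      rw [h3]; abel
    rw [h5, Preadditive.sub_comp, Category.assoc, Category.assoc, h0, comp_zero, sub_zero, ← hx,
      Category.assoc, Category.assoc]
  rw [← cancel_epi π1, ← cancel_epi π2, ← cancel_epi π3, comp_zero, comp_zero, comp_zero, hy,
    ← Category.assoc π2, ← Category.assoc π3, ← h4, Category.assoc, app_cokπ, comp_zero]

include h hex in
lemma isFinFil_cok : FilD.IsFinFil A (cok φ.hom) := by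
  refine ⟨mono_map_of_mono_step _ (mono_cok_step ψ φ h hex), ?_, ?_⟩
  · obtain ⟨b, hb⟩ := Y.property.2.1
    exact ⟨b, fun p hp => IsZero.of_epi (cokπ φ.hom (op p)) (hb p hp)⟩
  · obtain ⟨a1, ha1⟩ := X.property.2.2
    obtain ⟨a2, ha2⟩ := Y.property.2.2
    refine ⟨min a1 a2, fun p q f hp => ?_⟩
    haveI := ha1 f (hp.trans (min_le_left _ _))
    haveI := ha2 f (hp.trans (min_le_right _ _))
    exact (cokernel.mapIso (φ.hom.app p) (φ.hom.app q) (asIso (X.obj.map f)) (asIso (Y.obj.map f))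
      (φ.hom.naturality f).symm).isIso_hom

/-- the cokernel of `φ` in `FilF A`. -/
noncomputable def cokF : FilD.FilF A := ⟨cok φ.hom, isFinFil_cok ψ φ h hex⟩

/-- the projection to the cokernel. -/
noncomputable def cokFπ : Y ⟶ cokF ψ φ h hex := ObjectProperty.homMk (cokπNat φ.hom)

lemma comp_cokFπ : φ ≫ cokFπ ψ φ h hex = 0 := by
  apply ObjectProperty.hom_ext
  ext q
  exact app_cokπ φ.hom q

lemma gExact_cokFπ : GrRes.GExact (fun q : ℤ => FilD.grF A q) φ (cokFπ ψ φ h hex) := by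
  intro q Z y hy
  obtain ⟨Z1, π1, hπ1, (y' : Z1 ⟶ Y.obj.obj (op q)), (h1 : π1 ≫ y = y' ≫ grπ Y q)⟩ :=
    surjective_up_to_refinements_of_epi (grπ Y q) y
  have h2 : (y' ≫ cokπ φ.hom (op q)) ≫ grπ (cokF ψ φ h hex) q = 0 := by
    have := pi_naturality (cokFπ ψ φ h hex) q
    change cokπ φ.hom (op q) ≫ grπ (cokF ψ φ h hex) q = _ at this
    rw [Category.assoc, this, ← Category.assoc, ← h1, Category.assoc]
    exact (congrArg (fun k => π1 ≫ k) hy).trans comp_zero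
  obtain ⟨Z2, π2, hπ2, (b : Z2 ⟶ (cok φ.hom).obj (op (q + 1))),
    (hb : π2 ≫ y' ≫ cokπ φ.hom (op q) = b ≫ (cok φ.hom).map (FilD.stepHom q))⟩ :=
    (grπ_exact (cokF ψ φ h hex) q).exact_up_to_refinements _ h2
  obtain ⟨Z3, π3, hπ3, (y1 : Z3 ⟶ Y.obj.obj (op (q + 1))), (h3 : π3 ≫ b = y1 ≫ cokπ φ.hom (op (q + 1)))⟩ :=
    surjective_up_to_refinements_of_epi (cokπ φ.hom (op (q + 1))) b
  have h4 : (π3 ≫ π2 ≫ y' - y1 ≫ Y.obj.map (FilD.stepHom q)) ≫ cokπ φ.hom (op q) = 0 := by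
    rw [Preadditive.sub_comp, Category.assoc, Category.assoc, hb, ← Category.assoc, h3,
      Category.assoc, Category.assoc, cokπ_map, sub_self]
  obtain ⟨Z4, π4, hπ4, (x : Z4 ⟶ X.obj.obj (op q)),
    (hx : π4 ≫ (π3 ≫ π2 ≫ y' - y1 ≫ Y.obj.map (FilD.stepHom q)) = x ≫ φ.hom.app (op q))⟩ :=
    (cok_exact φ.hom (op q)).exact_up_to_refinements _ h4
  refine ⟨Z4, π4 ≫ π3 ≫ π2 ≫ π1, epi_comp' hπ4 (epi_comp' hπ3 (epi_comp' hπ2 hπ1)),
    x ≫ grπ X q, ?_⟩
  have e1 : (x ≫ grπ X q) ≫ (FilD.grF A q).map φ = (x ≫ φ.hom.app (op q)) ≫ grπ Y q := by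
    rw [Category.assoc, Category.assoc, pi_naturality]
  have e2 : (π3 ≫ π2 ≫ y' - y1 ≫ Y.obj.map (FilD.stepHom q)) ≫ grπ Y q =
      π3 ≫ π2 ≫ π1 ≫ y := by
    rw [Preadditive.sub_comp, Category.assoc, Category.assoc, Category.assoc, step_grπ, comp_zero,
      sub_zero, h1]
  refine Eq.trans ?_ e1.symm
  rw [← hx, Category.assoc π4 _ (grπ Y q), e2]
  simp only [Category.assoc]

include h hex in
/-- cokernels in `FilF A` along `gr`-exact sequences. -/
theorem exists_grCokernel : ∃ (B : FilD.FilF A) (π : Y ⟶ B), φ ≫ π = 0 ∧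
    GrRes.GExact (fun q : ℤ => FilD.grF A q) φ π :=
  ⟨cokF ψ φ h hex, cokFπ ψ φ h hex, comp_cokFπ ψ φ h hex, gExact_cokFπ ψ φ h hex⟩

end FilF

end Groth.Agent.Lib.Helper32.FilCok
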