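import Groth.Agent.Lib.Helper32.FilStrict
import Groth.Agent.Lib.Helper32.FilBiprod

/-! Costandard filtered objects and strict monos into filtered injectives (helper32).

* `FilCost.costF J p`: the filtered object with `J` in levels `≤ p` and `0` above.
* `FilCost.toCost X J p e`: the morphism `X ⟶ costF J p` induced by `e : gr^p X ⟶ J` (`J` injective).
* `FilCost.mono_of_gr_mono`: a morphism that is mono on all graded pieces is a strict mono.
* `FilCost.exists_strictMono`: enough filtered injectives.
-/

set_option autoImplicit false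
universe v u
open CategoryTheory CategoryTheory.Limits Opposite ZeroObject

namespace Groth.Agent.Lib.Helper32.FilCost

open FilExt FilLevels FilStrict

variable {A : Type u} [Category.{v} A] [Abelian A]

/-- the endomorphism of `J` whose kernel is `J` in levels `≤ p` and `0` in levels `> p`. -/
noncomputable def cmap (J : A) (p q : ℤ) : J ⟶ J := if q ≤ p then 0 else 𝟙 J

lemma cmap_pos (J : A) {p q : ℤ} (h : q ≤ p) : cmap J p q = 0 := if_pos h
lemma cmap_neg (J : A) {p q : ℤ} (h : ¬ q ≤ p) : cmap J p q = 𝟙 J := if_neg h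

lemma kernel_ι_cmap (J : A) (p : ℤ) {q q' : ℤ} (h : q' ≤ q) :
    kernel.ι (cmap J p q) ≫ cmap J p q' = 0 := by
  by_cases hq : q ≤ p
  · rw [cmap_pos J (h.trans hq), comp_zero]
  · have h1 : kernel.ι (cmap J p q) ≫ cmap J p q = 0 := kernel.condition _
    have h2 : kernel.ι (cmap J p q) = 0 :=
      ((Category.comp_id _).symm.trans
        (congrArg (fun g => kernel.ι (cmap J p q) ≫ g) (cmap_neg J hq).symm)).trans h1
    rw [h2, zero_comp]

/-- the costandard functor: `J` in levels `≤ p`, `0` in levels `> p`. -/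
noncomputable def cost (J : A) (p : ℤ) : ℤᵒᵖ ⥤ A where
  obj q := kernel (cmap J p q.unop)
  map {q r} f := kernel.lift _ (kernel.ι (cmap J p q.unop)) (kernel_ι_cmap J p (leOfHom f.unop))
  map_id q := by ext; simp
  map_comp f g := by ext; simp

/-- the inclusion of `cost J p` in the constant functor. -/
noncomputable def costι (J : A) (p : ℤ) (q : ℤ) : (cost J p).obj (op q) ⟶ J :=
  kernel.ι (cmap J p q)

instance (J : A) (p q : ℤ) : Mono (costι J p q) := equalizer.ι_mono

lemma cost_map_ι (J : A) (p : ℤ) {q r : ℤᵒᵖ} (f : q ⟶ r) :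
    (cost J p).map f ≫ costι J p r.unop = costι J p q.unop :=
  kernel.lift_ι _ _ _

lemma isZero_cost (J : A) {p q : ℤ} (h : ¬ q ≤ p) : IsZero ((cost J p).obj (op q)) := by
  have h1 : costι J p q ≫ cmap J p q = 0 := kernel.condition _
  have h0 : costι J p q = 0 :=
    ((Category.comp_id _).symm.trans
      (congrArg (fun g => costι J p q ≫ g) (cmap_neg J h).symm)).trans h1
  rw [IsZero.iff_id_eq_zero, ← cancel_mono (costι J p q), h0, comp_zero, comp_zero]

lemma isIso_kernel_ι_of_eq_zero {X Y : A} (g : X ⟶ Y) (h : g = 0) : IsIso (kernel.ι g) := by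
  subst h
  infer_instance

lemma isIso_costι (J : A) {p q : ℤ} (h : q ≤ p) : IsIso (costι J p q) :=
  isIso_kernel_ι_of_eq_zero _ (cmap_pos J h)

lemma isFinFil_cost (J : A) (p : ℤ) : FilD.IsFinFil A (cost J p) := by
  refine ⟨fun q r f => ?_, ⟨p + 1, fun q hq => isZero_cost J (by omega)⟩, ⟨p, fun q r f hq => ?_⟩⟩
  · haveI : Mono ((cost J p).map f ≫ costι J p r.unop) := by
      rw [cost_map_ι]; infer_instance
    exact mono_of_mono _ (costι J p r.unop)
  · haveI := isIso_costι J hq
    haveI := isIso_costι J ((leOfHom f.unop).trans hq)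
    haveI : IsIso ((cost J p).map f ≫ costι J p r.unop) := by
      rw [cost_map_ι]; infer_instance
    exact IsIso.of_isIso_comp_right _ (costι J p r.unop)

/-- the costandard filtered object. -/
noncomputable def costF (J : A) (p : ℤ) : FilD.FilF A := ⟨cost J p, isFinFil_cost J p⟩

lemma isIso_cost_map (J : A) (p : ℤ) {q r : ℤᵒᵖ} (f : q ⟶ r) (hq : q.unop ≤ p) :
    IsIso ((cost J p).map f) := by
  haveI := isIso_costι J hq
  haveI := isIso_costι J ((leOfHom f.unop).trans hq)
  haveI : IsIso ((cost J p).map f ≫ costι J p r.unop) := by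
    rw [cost_map_ι]; infer_instance
  exact IsIso.of_isIso_comp_right _ (costι J p r.unop)

lemma isIso_cokernel_π_of_eq_zero {X Y : A} (g : X ⟶ Y) (h : g = 0) : IsIso (cokernel.π g) := by
  subst h
  infer_instance

lemma isFilteredInjective_costF (J : A) [Injective J] (p : ℤ) :
    FilD.IsFilteredInjective (costF J p) := by
  intro q
  change Injective (cokernel ((cost J p).map (FilD.stepHom q)))
  rcases lt_trichotomy q p with h | h | h
  · haveI := isIso_cost_map J p (FilD.stepHom q) (by change q + 1 ≤ p; omega)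
    exact (isZero_cokernel_of_epi _).injective
  · subst h
    have h0 : (cost J q).map (FilD.stepHom q) = 0 :=
      (isZero_cost J (by omega : ¬ q + 1 ≤ q)).eq_of_src _ _
    haveI := isIso_cokernel_π_of_eq_zero _ h0
    haveI := isIso_costι J (le_refl q)
    haveI : Injective ((cost J q).obj (op q)) := Injective.of_iso (asIso (costι J q q)).symm inferInstance
    exact Injective.of_iso (asIso (cokernel.π ((cost J q).map (FilD.stepHom q)))) inferInstance
  · exact (IsZero.of_epi (cokernel.π ((cost J p).map (FilD.stepHom q)))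
      (isZero_cost J (by omega))).injective

section toCost

variable (X : FilD.FilF A) (J : A) [Injective J] (p : ℤ) (e : (FilD.grF A p).obj X ⟶ J)

instance (q : ℤ) : Mono (tr X.obj (sub_one_lt q).le) := X.property.1 _

/-- the compatible family of maps `X_q ⟶ J`. -/
noncomputable def psi (q : ℤ) : X.obj.obj (op q) ⟶ J :=
  Int.inductionOn' (motive := fun q => X.obj.obj (op q) ⟶ J) q p (grπ X p ≫ e)
    (fun _ _ _ => 0) (fun k _ ψk => Injective.factorThru ψk (tr X.obj (sub_one_lt k).le))

lemma psi_self : psi X J p e p = grπ X p ≫ e := Int.inductionOn'_self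

lemma psi_eq_zero (q : ℤ) (hq : p < q) : psi X J p e q = 0 := by
  obtain ⟨k, rfl⟩ : ∃ k, q = k + 1 := ⟨q - 1, by ring⟩
  exact Int.inductionOn'_add_one (by omega)

lemma psi_sub_one (q : ℤ) (hq : q ≤ p) :
    psi X J p e (q - 1) = Injective.factorThru (psi X J p e q) (tr X.obj (sub_one_lt q).le) :=
  Int.inductionOn'_sub_one hq

lemma psi_compat (a b : ℤ) (h : a + 1 = b) :
    tr X.obj (by omega : a ≤ b) ≫ psi X J p e a = psi X J p e b := by
  by_cases hb : b ≤ p
  · obtain rfl : a = b - 1 := by omega
    rw [psi_sub_one X J p e b hb, Injective.comp_factorThru]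
  · obtain rfl : b = a + 1 := h.symm
    rw [psi_eq_zero X J p e (a + 1) (by omega)]
    by_cases ha : a = p
    · subst ha
      rw [psi_self, ← Category.assoc]
      have : tr X.obj (by omega : a ≤ a + 1) ≫ grπ X a = 0 := step_grπ X a
      rw [this, zero_comp]
    · rw [psi_eq_zero X J p e a (by omega), comp_zero]

lemma psi_cmap (q : ℤ) : psi X J p e q ≫ cmap J p q = 0 := by
  by_cases hq : q ≤ p
  · rw [cmap_pos J hq, comp_zero]
  · rw [psi_eq_zero X J p e q (by omega), zero_comp]

/-- the levelwise components of `toCost`. -/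
noncomputable def toCostApp (q : ℤ) : X.obj.obj (op q) ⟶ (cost J p).obj (op q) :=
  kernel.lift (cmap J p q) (psi X J p e q) (psi_cmap X J p e q)

lemma toCostApp_ι (q : ℤ) : toCostApp X J p e q ≫ costι J p q = psi X J p e q :=
  kernel.lift_ι _ _ _

lemma toCostApp_compat (q : ℤ) :
    tr X.obj (sub_one_lt q).le ≫ toCostApp X J p e (q - 1) =
      toCostApp X J p e q ≫ tr (cost J p) (sub_one_lt q).le := by
  apply (cancel_mono (costι J p (q - 1))).1
  have h2 : tr (cost J p) (sub_one_lt q).le ≫ costι J p (q - 1) = costι J p q :=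
    cost_map_ι J p _
  rw [Category.assoc, Category.assoc, toCostApp_ι, h2, toCostApp_ι]
  exact psi_compat X J p e (q - 1) q (by ring)

/-- the morphism `X ⟶ costF J p` induced by `e : gr^p X ⟶ J`. -/
noncomputable def toCost : X ⟶ costF J p :=
  ObjectProperty.homMk (natTransOfSteps (F := X.obj) (G := cost J p)
    (toCostApp X J p e) (toCostApp_compat X J p e))

lemma toCost_app_ι (q : ℤ) :
    (toCost X J p e).hom.app (op q) ≫ costι J p q = psi X J p e q :=
  toCostApp_ι X J p e q

/-- the canonical map `gr^p (costF J p) ⟶ J`. -/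
noncomputable def grCostTo : (FilD.grF A p).obj (costF J p) ⟶ J :=
  cokernel.desc ((cost J p).map (FilD.stepHom p)) (costι J p p)
    ((isZero_cost J (by omega : ¬ p + 1 ≤ p)).eq_of_src _ _)

omit [Injective J] in
lemma grπ_grCostTo : grπ (costF J p) p ≫ grCostTo J p = costι J p p :=
  cokernel.π_desc _ _ _

lemma gr_toCost_grCostTo : (FilD.grF A p).map (toCost X J p e) ≫ grCostTo J p = e := by
  rw [← cancel_epi (grπ X p), ← Category.assoc, ← pi_naturality, Category.assoc, grπ_grCostTo,
    toCost_app_ι, psi_self]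

lemma mono_gr_toCost [Mono e] : Mono ((FilD.grF A p).map (toCost X J p e)) := by
  haveI : Mono ((FilD.grF A p).map (toCost X J p e) ≫ grCostTo J p) := by
    rw [gr_toCost_grCostTo]; infer_instance
  exact mono_of_mono _ (grCostTo J p)

end toCost

section Main

variable [EnoughInjectives A]

lemma exists_partial (X : FilD.FilF A) (a : ℤ) (n : ℕ) :
    ∃ (I : FilD.FilF A) (u : X ⟶ I), FilD.IsFilteredInjective I ∧
      ∀ q : ℤ, a ≤ q → q < a + n → Mono ((FilD.grF A q).map u) := by
  induction n with
  | zero =>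
    refine ⟨0, 0, fun q => ?_, fun q h1 h2 => by omega⟩
    exact ((FilD.grF A q).map_isZero (isZero_zero _)).injective
  | succ n ih =>
    obtain ⟨I, u, hI, hu⟩ := ih
    obtain ⟨p, hp⟩ : ∃ p : ℤ, p = a + n := ⟨_, rfl⟩
    obtain ⟨J, hJ⟩ : ∃ J : A, J = Injective.under ((FilD.grF A p).obj X) := ⟨_, rfl⟩
    haveI : Injective J := hJ ▸ inferInstance
    obtain ⟨e, he⟩ : ∃ e : (FilD.grF A p).obj X ⟶ J, Mono e := by
      subst hJ
      exact ⟨Injective.ι _, inferInstance⟩
    refine ⟨I ⊞ costF J p, biprod.lift u (toCost X J p e), fun q => ?_, fun q h1 h2 => ?_⟩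
    · haveI := hI q
      haveI := isFilteredInjective_costF J p q
      haveI : PreservesBinaryBiproducts (FilD.grF A q) :=
        preservesBinaryBiproducts_of_preservesBiproducts _
      exact Injective.of_iso ((FilD.grF A q).mapBiprod I (costF J p)).symm inferInstance
    · by_cases hq : q = p
      · subst hq
        haveI := mono_gr_toCost X J q e
        haveI : Mono ((FilD.grF A q).map (biprod.lift u (toCost X J q e)) ≫
            (FilD.grF A q).map biprod.snd) := by
          rw [← Functor.map_comp, biprod.lift_snd]; infer_instance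
        exact mono_of_mono _ ((FilD.grF A q).map biprod.snd)
      · haveI := hu q h1 (by push_cast at h2; omega)
        haveI : Mono ((FilD.grF A q).map (biprod.lift u (toCost X J p e)) ≫
            (FilD.grF A q).map biprod.fst) := by
          rw [← Functor.map_comp, biprod.lift_fst]; infer_instance
        exact mono_of_mono _ ((FilD.grF A q).map biprod.fst)

omit [EnoughInjectives A] in
lemma mono_of_gr_mono {X I : FilD.FilF A} (u : X ⟶ I)
    (hu : ∀ q : ℤ, Mono ((FilD.grF A q).map u)) : Mono u ∧ FilD.IsStrict u := by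
  let S : ShortComplex (FilD.FilF A) := ShortComplex.mk (0 : 0 ⟶ X) u zero_comp
  have hS : ∀ p : ℤ, (S.map (FilD.grF A p)).Exact := by
    intro p
    haveI : Mono (S.map (FilD.grF A p)).g := hu p
    exact (ShortComplex.exact_iff_mono _ ((FilD.grF A p).map_zero _ _)).2 inferInstance
  refine ⟨?_, isStrict_g S hS⟩
  have hm : ∀ p : ℤ, Mono (u.hom.app (op p)) := fun p =>
    (ShortComplex.exact_iff_mono _ ((ev (A := A) p).map_zero _ _)).1 (levels_exact S hS p)
  constructor
  intro W f g hfg
  apply ObjectProperty.hom_ext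
  ext ⟨p⟩
  haveI := hm p
  rw [← cancel_mono (u.hom.app (op p))]
  exact congrArg (fun k => k.hom.app (op p)) hfg

theorem exists_strictMono (X : FilD.FilF A) :
    ∃ (I : FilD.FilF A) (u : X ⟶ I), FilD.IsFilteredInjective I ∧ Mono u ∧ FilD.IsStrict u := by
  obtain ⟨b, hb⟩ := X.property.2.1
  obtain ⟨a, ha⟩ := X.property.2.2
  obtain ⟨I, u, hI, hu⟩ := exists_partial X a (b - a).toNat
  refine ⟨I, u, hI, mono_of_gr_mono u (fun q => ?_)⟩
  by_cases h1 : a ≤ q
  · by_cases h2 : q < b
    · exact hu q h1 (by omega)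
    · have hz : IsZero ((FilD.grF A q).obj X) :=
        IsZero.of_epi (grπ X q) (hb q (by omega))
      exact ⟨fun f g _ => hz.eq_of_tgt _ _⟩
  · haveI : IsIso (X.obj.map (FilD.stepHom q)) := ha _ (by change q + 1 ≤ a; omega)
    have hz : IsZero ((FilD.grF A q).obj X) :=
      @isZero_cokernel_of_epi _ _ _ _ _ (X.obj.map (FilD.stepHom q)) inferInstance _
    exact ⟨fun f g _ => hz.eq_of_tgt _ _⟩

end Main

end Groth.Agent.Lib.Helper32.FilCost

namespace Groth.Agent.Lib.Helper32.FilCost

open FilExt FilLevels FilStrict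

variable {A : Type u} [Category.{v} A] [Abelian A] [EnoughInjectives A]

/-- enough filtered injectives, with the embedding a monomorphism on all graded pieces. -/
theorem exists_grMono (X : FilD.FilF A) :
    ∃ (I : FilD.FilF A) (u : X ⟶ I), FilD.IsFilteredInjective I ∧
      ∀ q : ℤ, Mono ((FilD.grF A q).map u) := by
  obtain ⟨b, hb⟩ := X.property.2.1
  obtain ⟨a, ha⟩ := X.property.2.2
  obtain ⟨I, u, hI, hu⟩ := exists_partial X a (b - a).toNat
  refine ⟨I, u, hI, fun q => ?_⟩
  by_cases h1 : a ≤ q
  · by_cases h2 : q < b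
    · exact hu q h1 (by omega)
    · have hz : IsZero ((FilD.grF A q).obj X) :=
        IsZero.of_epi (grπ X q) (hb q (by omega))
      exact ⟨fun f g _ => hz.eq_of_tgt _ _⟩
  · haveI : IsIso (X.obj.map (FilD.stepHom q)) := ha _ (by change q + 1 ≤ a; omega)
    have hz : IsZero ((FilD.grF A q).obj X) :=
      @isZero_cokernel_of_epi _ _ _ _ _ (X.obj.map (FilD.stepHom q)) inferInstance _
    exact ⟨fun f g _ => hz.eq_of_tgt _ _⟩

end Groth.Agent.Lib.Helper32.FilCost
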