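import Groth.Prelude.Def_FilD
import Mathlib.CategoryTheory.Abelian.Injective.Basic
import Mathlib.Algebra.Homology.ShortComplex.ShortExact
import Mathlib.CategoryTheory.Limits.FunctorCategory.EpiMono

/-! Extension of morphisms into "levelwise injective" `ℤᵒᵖ`-diagrams along filtered-strict maps
(helper32).

* `FilExt.natTransOfSteps`: a natural transformation of functors `ℤᵒᵖ ⥤ A` from levelwise maps
  compatible with the steps `(q - 1, q)`.
* `FilExt.exists_extension`: the main extension lemma.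
* `FilExt.mono_app_of_mono`: a mono of `FilD.FilF A` is levelwise mono.
* `FilExt.injective_obj`: the levels of a filtered injective object are injective.
* `FilExt.strict_star`: the pullback property of a strict (levelwise) mono.
-/

set_option autoImplicit false
universe v u
open CategoryTheory CategoryTheory.Limits Opposite

namespace Groth.Agent.Lib.Helper32.FilExt

variable {A : Type u} [Category.{v} A]

/-- transition map of a `ℤᵒᵖ`-diagram. -/
abbrev tr (F : ℤᵒᵖ ⥤ A) {p q : ℤ} (h : p ≤ q) : F.obj (op q) ⟶ F.obj (op p) :=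
  F.map (homOfLE h).op

lemma tr_self (F : ℤᵒᵖ ⥤ A) (p : ℤ) : tr F (le_refl p) = 𝟙 _ := by
  have : (homOfLE (le_refl p)).op = 𝟙 (op p) := Subsingleton.elim _ _
  simp [tr]

lemma tr_comp (F : ℤᵒᵖ ⥤ A) {p q r : ℤ} (h : p ≤ q) (h' : q ≤ r) :
    tr F h' ≫ tr F h = tr F (h.trans h') := by
  have : (homOfLE (h.trans h')).op = (homOfLE h').op ≫ (homOfLE h).op := Subsingleton.elim _ _
  simp [tr, this]

lemma map_eq_tr (F : ℤᵒᵖ ⥤ A) {p q : ℤᵒᵖ} (f : p ⟶ q) :
    F.map f = tr F (leOfHom f.unop) := by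
  congr 1

lemma naturality_tr {F G : ℤᵒᵖ ⥤ A} (φ : F ⟶ G) {p q : ℤ} (h : p ≤ q) :
    tr F h ≫ φ.app (op p) = φ.app (op q) ≫ tr G h := φ.naturality _

/-- A natural transformation from levelwise maps compatible with the steps. -/
def natTransOfSteps {F G : ℤᵒᵖ ⥤ A} (g : ∀ p : ℤ, F.obj (op p) ⟶ G.obj (op p))
    (hg : ∀ q : ℤ, tr F (sub_one_lt q).le ≫ g (q - 1) = g q ≫ tr G (sub_one_lt q).le) : F ⟶ G where
  app p := g p.unop
  naturality := by
    have hsucc : ∀ (p q : ℤ) (h : p + 1 = q),
        tr F (by omega : p ≤ q) ≫ g p = g q ≫ tr G (by omega : p ≤ q) := by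
      intro p q h
      obtain rfl : p = q - 1 := by omega
      exact hg q
    have key : ∀ (p q : ℤ) (h : p ≤ q), tr F h ≫ g p = g q ≫ tr G h := by
      intro p q h
      induction q, h using Int.leInduction with
      | base => rw [tr_self, tr_self, Category.id_comp, Category.comp_id]
      | succ q h ih =>
        rw [← tr_comp F h (by omega : q ≤ q + 1), Category.assoc, ih, ← Category.assoc,
          hsucc q (q + 1) rfl, Category.assoc, tr_comp]
    intro p q f
    rw [map_eq_tr F f, map_eq_tr G f]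
    exact key _ _ _

section Ext

variable [Abelian A] {K0 K1 K2 I : ℤᵒᵖ ⥤ A} (d0 : K0 ⟶ K1) (d1 : K1 ⟶ K2)
  (hI : ∀ p : ℤ, Injective (I.obj (op p)))
  (star : ∀ (p q : ℤ) (h : p ≤ q) (W : A) (x : W ⟶ K1.obj (op p)) (y : W ⟶ K2.obj (op q)),
    x ≫ d1.app (op p) = y ≫ tr K2 h →
    ∃ (W' : A) (π : W' ⟶ W) (_ : Epi π) (x' : W' ⟶ K1.obj (op q)) (w : W' ⟶ K0.obj (op p)),
      π ≫ y = x' ≫ d1.app (op q) ∧ π ≫ x = x' ≫ tr K1 h + w ≫ d0.app (op p))
  (ψ : K1 ⟶ I) (hψ : d0 ≫ ψ = 0)

include hI star hψ in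
lemma exists_step (p q : ℤ) (h : p ≤ q) (hq : K2.obj (op q) ⟶ I.obj (op q))
    (hhq : d1.app (op q) ≫ hq = ψ.app (op q)) :
    ∃ hp : K2.obj (op p) ⟶ I.obj (op p), d1.app (op p) ≫ hp = ψ.app (op p) ∧
      tr K2 h ≫ hp = hq ≫ tr I h := by
  let σ : K1.obj (op p) ⊞ K2.obj (op q) ⟶ K2.obj (op p) := biprod.desc (d1.app (op p)) (tr K2 h)
  let τ : K1.obj (op p) ⊞ K2.obj (op q) ⟶ I.obj (op p) :=
    biprod.desc (ψ.app (op p)) (hq ≫ tr I h)
  have hψ0 : ∀ p : ℤ, d0.app (op p) ≫ ψ.app (op p) = 0 := fun p => by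
    rw [← NatTrans.comp_app, hψ]; rfl
  have hk : kernel.ι σ ≫ τ = 0 := by
    let k := kernel.ι σ
    let x := k ≫ biprod.fst
    let y := -(k ≫ biprod.snd)
    have hxy : x ≫ d1.app (op p) = y ≫ tr K2 h := by
      have h0 : k ≫ σ = 0 := kernel.condition σ
      have hσeq : σ = biprod.fst ≫ d1.app (op p) + biprod.snd ≫ tr K2 h := by
        ext <;> simp [σ]
      have h1 : k ≫ σ = x ≫ d1.app (op p) + (k ≫ biprod.snd) ≫ tr K2 h := by
        refine (congrArg (fun f => k ≫ f) hσeq).trans ?_
        simp only [x, Category.assoc, Preadditive.comp_add]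
      rw [h1] at h0
      simp only [y, Preadditive.neg_comp]
      exact eq_neg_of_add_eq_zero_left h0
    obtain ⟨W', π, hπ, x', w, h1, h2⟩ := star p q h _ x y hxy
    have hτeq : τ = biprod.fst ≫ ψ.app (op p) + biprod.snd ≫ hq ≫ tr I h := by
      ext <;> simp [τ]
    have hτ : k ≫ τ = x ≫ ψ.app (op p) - y ≫ hq ≫ tr I h := by
      refine (congrArg (fun f => k ≫ f) hτeq).trans ?_
      simp only [x, y, Category.assoc, Preadditive.neg_comp, sub_neg_eq_add, Preadditive.comp_add]
    rw [← cancel_epi π, comp_zero]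
    change π ≫ k ≫ τ = 0
    rw [hτ, Preadditive.comp_sub, ← Category.assoc, h2, ← Category.assoc π, h1,
      Preadditive.add_comp, Category.assoc, Category.assoc, hψ0, comp_zero, add_zero,
      naturality_tr ψ h, Category.assoc, ← Category.assoc (d1.app (op q)), hhq, sub_self]
  let τ' : Abelian.coimage σ ⟶ I.obj (op p) := cokernel.desc (kernel.ι σ) τ hk
  haveI := hI p
  let hp := Injective.factorThru τ' (Abelian.factorThruCoimage σ)
  have hσ : σ ≫ hp = τ := by
    rw [← Abelian.coimage.fac σ, Category.assoc, Injective.comp_factorThru]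
    exact cokernel.π_desc _ _ _
  refine ⟨hp, ?_, ?_⟩
  · have := congrArg (fun f => biprod.inl ≫ f) hσ
    simpa [σ, τ] using this
  · have := congrArg (fun f => biprod.inr ≫ f) hσ
    simpa [σ, τ] using this

include hI star hψ in
/-- The extension lemma: a morphism `ψ : K1 ⟶ I` into a levelwise injective diagram, killed by
`d0`, extends along `d1 : K1 ⟶ K2` provided the "strictness" condition `star` holds, `K2` vanishes
in high levels and `ψ` vanishes in high levels. -/
theorem exists_extension (b : ℤ) (hb : ∀ p : ℤ, b ≤ p → IsZero (K2.obj (op p)))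
    (hψb : ∀ p : ℤ, b ≤ p → ψ.app (op p) = 0) : ∃ h : K2 ⟶ I, d1 ≫ h = ψ := by
  let Good : ℤ → Type v := fun p =>
    {h : K2.obj (op p) ⟶ I.obj (op p) // d1.app (op p) ≫ h = ψ.app (op p)}
  let zeroGood : ∀ p : ℤ, b ≤ p → Good p := fun p hp => ⟨0, by rw [comp_zero, hψb p hp]⟩
  let pred : ∀ k : ℤ, k ≤ b → Good k → Good (k - 1) := fun k _ g =>
    ⟨(exists_step d0 d1 hI star ψ hψ (k - 1) k (sub_one_lt k).le g.1 g.2).choose,
      (exists_step d0 d1 hI star ψ hψ (k - 1) k (sub_one_lt k).le g.1 g.2).choose_spec.1⟩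
  let fam : ∀ z : ℤ, Good z := fun z =>
    Int.inductionOn' (motive := Good) z b (zeroGood b le_rfl)
      (fun k hk _ => zeroGood (k + 1) (by omega)) pred
  have compat : ∀ q : ℤ, tr K2 (sub_one_lt q).le ≫ (fam (q - 1)).1 =
      (fam q).1 ≫ tr I (sub_one_lt q).le := by
    intro q
    by_cases hq : q ≤ b
    · have : fam (q - 1) = pred q hq (fam q) := Int.inductionOn'_sub_one hq
      rw [this]
      exact (exists_step d0 d1 hI star ψ hψ (q - 1) q (sub_one_lt q).le (fam q).1
        (fam q).2).choose_spec.2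
    · exact (hb q (by omega)).eq_of_src _ _
  refine ⟨natTransOfSteps (fun p => (fam p).1) compat, ?_⟩
  ext ⟨p⟩
  exact (fam p).2

end Ext

section FilF

variable [Abelian A]

/-- The levels of a filtered injective object are injective objects. -/
lemma injective_obj (I : FilD.FilF A) (hI : FilD.IsFilteredInjective I) (p : ℤ) :
    Injective (I.obj.obj (op p)) := by
  obtain ⟨b, hb⟩ := I.property.2.1
  suffices H : ∀ (n : ℕ) (p : ℤ), b ≤ p + n → Injective (I.obj.obj (op p)) from
    H (b - p).toNat p (by omega)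
  intro n
  induction n with
  | zero =>
    intro p hp
    exact (hb p (by simpa using hp)).injective
  | succ n ih =>
    intro p hp
    haveI : Injective (I.obj.obj (op (p + 1))) := ih (p + 1) (by push_cast at hp; omega)
    haveI : Injective (cokernel (I.obj.map (FilD.stepHom p))) := hI p
    haveI : Mono (I.obj.map (FilD.stepHom p)) := I.property.1 _
    let S := ShortComplex.mk (I.obj.map (FilD.stepHom p)) (cokernel.π _) (cokernel.condition _)
    have hS : S.ShortExact :=
      { exact := ShortComplex.exact_cokernel _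
        mono_f := (inferInstance : Mono (I.obj.map (FilD.stepHom p)))
        epi_g := (inferInstance : Epi (cokernel.π (I.obj.map (FilD.stepHom p)))) }
    haveI : Injective S.X₁ := (inferInstance : Injective (I.obj.obj (op (p + 1))))
    let s := hS.splittingOfInjective
    haveI : Injective (S.X₁ ⊞ S.X₃) := inferInstance
    exact Injective.of_iso s.isoBinaryBiproduct.symm inferInstance

/-- A monomorphism of `FilF A` is levelwise a monomorphism. -/
lemma mono_app_of_mono {X Y : FilD.FilF A} (u : X ⟶ Y) [Mono u] (p : ℤ) :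
    Mono (u.hom.app (op p)) := by
  let K : ℤᵒᵖ ⥤ A := kernel u.hom
  let ι : K ⟶ X.obj := kernel.ι u.hom
  haveI : Mono ι := (inferInstance : Mono (kernel.ι u.hom))
  have hιmono : ∀ q : ℤᵒᵖ, Mono (ι.app q) := fun q => inferInstance
  have hιu : ∀ q : ℤᵒᵖ, ι.app q ≫ u.hom.app q = 0 := fun q => by
    rw [← NatTrans.comp_app, kernel.condition]; rfl
  have hlim : ∀ q : ℤᵒᵖ, IsLimit (KernelFork.ofι (ι.app q) (hιu q)) := fun q =>
    KernelFork.mapIsLimit _ (kernelIsKernel u.hom) ((evaluation ℤᵒᵖ A).obj q)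
  have hKmono : ∀ ⦃q r : ℤᵒᵖ⦄ (f : q ⟶ r), Mono (K.map f) := fun q r f => by
    haveI := hιmono q
    haveI : Mono (X.obj.map f) := X.property.1 f
    haveI : Mono (K.map f ≫ ι.app r) := by
      rw [ι.naturality f]
      infer_instance
    exact mono_of_mono (K.map f) (ι.app r)
  obtain ⟨bX, hbX⟩ := X.property.2.1
  obtain ⟨aX, haX⟩ := X.property.2.2
  obtain ⟨aY, haY⟩ := Y.property.2.2
  have hK : FilD.IsFinFil A K := by
    refine ⟨hKmono, ⟨bX, fun q hq => ?_⟩, ⟨min aX aY, fun q r f hq => ?_⟩⟩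
    · haveI := hιmono (op q)
      exact IsZero.of_mono (ι.app (op q)) (hbX q hq)
    · haveI : IsIso (X.obj.map f) := haX f (hq.trans (min_le_left _ _))
      haveI : IsIso (Y.obj.map f) := haY f (hq.trans (min_le_right _ _))
      haveI := hKmono f
      haveI := hιmono r
      have h0 : (ι.app r ≫ inv (X.obj.map f)) ≫ u.hom.app q = 0 := by
        have hn : inv (X.obj.map f) ≫ u.hom.app q = u.hom.app r ≫ inv (Y.obj.map f) := by
          rw [IsIso.inv_comp_eq, ← Category.assoc, IsIso.eq_comp_inv]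
          exact (u.hom.naturality f).symm
        rw [Category.assoc, hn, ← Category.assoc, hιu, zero_comp]
      obtain ⟨l, hl⟩ := KernelFork.IsLimit.lift' (hlim q) _ h0
      have hl' : l ≫ ι.app q = ι.app r ≫ inv (X.obj.map f) := hl
      haveI : IsSplitEpi (K.map f) := ⟨⟨l, by
        rw [← cancel_mono (ι.app r), Category.assoc, ι.naturality f, ← Category.assoc, hl',
          Category.assoc, IsIso.inv_hom_id, Category.comp_id, Category.id_comp]⟩⟩
      exact isIso_of_mono_of_epi _
  let Kf : FilD.FilF A := ⟨K, hK⟩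
  let ιf : Kf ⟶ X := ObjectProperty.homMk ι
  have hz : ιf ≫ u = 0 ≫ u := by
    apply ObjectProperty.hom_ext
    rw [zero_comp]
    exact kernel.condition u.hom
  have hιf : ιf = 0 := (cancel_mono u).1 hz
  have hι0 : ι = 0 := congrArg (fun f => f.hom) hιf
  apply Preadditive.mono_of_cancel_zero
  intro W g hg
  let l : W ⟶ K.obj (op p) := (KernelFork.IsLimit.lift' (hlim (op p)) g hg).1
  have hl' : l ≫ ι.app (op p) = g := (KernelFork.IsLimit.lift' (hlim (op p)) g hg).2
  have hιp : ι.app (op p) = 0 := by rw [hι0]; rfl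
  exact hl'.symm.trans ((congrArg (fun f => l ≫ f) hιp).trans comp_zero)

/-- The pullback property of a strict levelwise monomorphism, up to refinements. -/
lemma strict_star {X Y : FilD.FilF A} (u : X ⟶ Y) (hmono : ∀ p : ℤ, Mono (u.hom.app (op p)))
    (hu : FilD.IsStrict u) (p q : ℤ) (h : p ≤ q) (W : A) (x : W ⟶ X.obj.obj (op p))
    (y : W ⟶ Y.obj.obj (op q)) (hxy : x ≫ u.hom.app (op p) = y ≫ tr Y.obj h) :
    ∃ (W' : A) (π : W' ⟶ W) (_ : Epi π) (x' : W' ⟶ X.obj.obj (op q)),
      π ≫ y = x' ≫ u.hom.app (op q) ∧ π ≫ x = x' ≫ tr X.obj h := by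
  haveI : Mono (Y.obj.map (homOfLE h).op) := Y.property.1 _
  haveI := hmono p
  have hstr := hu p q h
  let m := x ≫ u.hom.app (op p)
  have f1 : (imageSubobject (u.hom.app (op p))).Factors m := by
    have : m = (x ≫ factorThruImageSubobject (u.hom.app (op p))) ≫
        (imageSubobject (u.hom.app (op p))).arrow := by
      rw [Category.assoc, imageSubobject_arrow_comp]
    rw [this]
    exact Subobject.factors_comp_arrow _
  have f2 : (Subobject.mk (Y.obj.map (homOfLE h).op)).Factors m := by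
    change (Subobject.mk (Y.obj.map (homOfLE h).op)).Factors (x ≫ u.hom.app (op p))
    rw [hxy]
    exact Subobject.factors_of_factors_right _ (Subobject.mk_factors_self _)
  have f3 : (imageSubobject (u.hom.app (op q) ≫ Y.obj.map (homOfLE h).op)).Factors m := by
    rw [hstr]
    exact (Subobject.inf_factors m).2 ⟨f1, f2⟩
  let z := (imageSubobject (u.hom.app (op q) ≫ Y.obj.map (homOfLE h).op)).factorThru m f3
  have hz : z ≫ (imageSubobject (u.hom.app (op q) ≫ Y.obj.map (homOfLE h).op)).arrow = m :=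
    Subobject.factorThru_arrow _ _ _
  let e := factorThruImageSubobject (u.hom.app (op q) ≫ Y.obj.map (homOfLE h).op)
  have he : e ≫ (imageSubobject (u.hom.app (op q) ≫ Y.obj.map (homOfLE h).op)).arrow =
      u.hom.app (op q) ≫ Y.obj.map (homOfLE h).op := imageSubobject_arrow_comp _
  refine ⟨pullback z e, pullback.fst z e, inferInstance, pullback.snd z e, ?_, ?_⟩
  · have h1 : pullback.fst z e ≫ m = pullback.snd z e ≫ u.hom.app (op q) ≫ tr Y.obj h := by
      rw [← hz, ← Category.assoc, pullback.condition, Category.assoc, he]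
    rw [← cancel_mono (tr Y.obj h), Category.assoc, Category.assoc, ← hxy]
    exact h1
  · have h1 : pullback.fst z e ≫ m = pullback.snd z e ≫ u.hom.app (op q) ≫ tr Y.obj h := by
      rw [← hz, ← Category.assoc, pullback.condition, Category.assoc, he]
    rw [← cancel_mono (u.hom.app (op p)), Category.assoc, Category.assoc, naturality_tr u.hom h]
    exact h1

/-- Extension of a morphism into a filtered injective object along a strict monomorphism. -/
theorem exists_desc {X Y I : FilD.FilF A} (u : X ⟶ Y) [Mono u] (hu : FilD.IsStrict u)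
    (hI : FilD.IsFilteredInjective I) (f : X ⟶ I) : ∃ g : Y ⟶ I, u ≫ g = f := by
  have hmono := mono_app_of_mono u
  obtain ⟨b, hb⟩ := Y.property.2.1
  have star : ∀ (p q : ℤ) (h : p ≤ q) (W : A) (x : W ⟶ X.obj.obj (op p))
      (y : W ⟶ Y.obj.obj (op q)), x ≫ u.hom.app (op p) = y ≫ tr Y.obj h →
      ∃ (W' : A) (π : W' ⟶ W) (_ : Epi π) (x' : W' ⟶ X.obj.obj (op q))
        (w : W' ⟶ X.obj.obj (op p)),
        π ≫ y = x' ≫ u.hom.app (op q) ∧
          π ≫ x = x' ≫ tr X.obj h + w ≫ (0 : X.obj ⟶ X.obj).app (op p) := by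
    intro p q h W x y hxy
    obtain ⟨W', π, hπ, x', h1, h2⟩ := strict_star u hmono hu p q h W x y hxy
    refine ⟨W', π, hπ, x', 0, h1, ?_⟩
    rw [h2, zero_comp, add_zero]
  have hψb : ∀ p : ℤ, b ≤ p → f.hom.app (op p) = 0 := by
    intro p hp
    haveI := hmono p
    exact (IsZero.of_mono (u.hom.app (op p)) (hb p hp)).eq_of_src _ _
  obtain ⟨h, hh⟩ := exists_extension (0 : X.obj ⟶ X.obj) u.hom (injective_obj I hI) star f.hom
    zero_comp b hb hψb
  exact ⟨ObjectProperty.homMk h, ObjectProperty.hom_ext _ hh⟩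

end FilF

end Groth.Agent.Lib.Helper32.FilExt
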