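import Groth.Agent.Lib.Helper32.FilTruncLE
import Groth.Agent.Lib.Helper32.FilBiprod
import Mathlib.Algebra.Homology.Refinements

/-! The horseshoe lemma for filtered injective resolutions (helper32). -/

set_option autoImplicit false
universe v u
open CategoryTheory CategoryTheory.Limits Opposite ZeroObject

namespace Groth.Agent.Lib.Helper32.FilHorseshoe

open FilExt FilLevels FilStrict

variable {A : Type u} [Category.{v} A] [Abelian A]

section GrSES

variable (S : ShortComplex (FilD.FilF A))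
  (hS : ∀ p : ℤ, (S.map ((FilD.IsFinFil A).ι ⋙ (evaluation ℤᵒᵖ A).obj (op p))).ShortExact)

include hS in
lemma mono_f_app (p : ℤ) : Mono (S.f.hom.app (op p)) := (hS p).mono_f

include hS in
lemma epi_g_app (p : ℤ) : Epi (S.g.hom.app (op p)) := (hS p).epi_g

include hS in
lemma exact_app (p : ℤ) {W : A} (y : W ⟶ S.X₂.obj.obj (op p)) (hy : y ≫ S.g.hom.app (op p) = 0) :
    ∃ (W' : A) (π : W' ⟶ W) (_ : Epi π) (x : W' ⟶ S.X₁.obj.obj (op p)),
      π ≫ y = x ≫ S.f.hom.app (op p) :=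
  (hS p).exact.exact_up_to_refinements y hy

include hS in
lemma epi_gr_g (p : ℤ) : Epi ((FilD.grF A p).map S.g) := by
  haveI := epi_g_app S hS p
  haveI : Epi (grπ S.X₂ p ≫ (FilD.grF A p).map S.g) := by
    rw [← pi_naturality]
    exact epi_comp _ _
  exact epi_of_epi (grπ S.X₂ p) _

include hS in
lemma gr_exact (p : ℤ) {W : A} (z : W ⟶ (FilD.grF A p).obj S.X₂)
    (hz : z ≫ (FilD.grF A p).map S.g = 0) :
    ∃ (W' : A) (π : W' ⟶ W) (_ : Epi π) (x : W' ⟶ (FilD.grF A p).obj S.X₁),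
      π ≫ z = x ≫ (FilD.grF A p).map S.f := by
  obtain ⟨W1, π1, hπ1, y, hy⟩ := surjective_up_to_refinements_of_epi (grπ S.X₂ p) z
  have h1 : (y ≫ S.g.hom.app (op p)) ≫ grπ S.X₃ p = 0 := by
    rw [Category.assoc, pi_naturality S.g p, ← Category.assoc, ← hy, Category.assoc, hz, comp_zero]
  obtain ⟨W2, π2, hπ2, (z1 : W2 ⟶ S.X₃.obj.obj (op (p + 1))),
    (hz1 : π2 ≫ y ≫ S.g.hom.app (op p) = z1 ≫ S.X₃.obj.map (FilD.stepHom p))⟩ :=
    (grπ_exact S.X₃ p).exact_up_to_refinements _ h1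
  haveI := epi_g_app S hS (p + 1)
  obtain ⟨W3, π3, hπ3, y1, hy1⟩ := surjective_up_to_refinements_of_epi
    (S.g.hom.app (op (p + 1))) z1
  have h2 : (π3 ≫ π2 ≫ y - y1 ≫ S.X₂.obj.map (FilD.stepHom p)) ≫ S.g.hom.app (op p) = 0 := by
    rw [Preadditive.sub_comp, Category.assoc, Category.assoc, hz1, Category.assoc,
      step_naturality S.g p, ← Category.assoc y1, ← hy1, Category.assoc, sub_self]
  obtain ⟨W4, π4, hπ4, x, hx⟩ := exact_app S hS p _ h2
  refine ⟨W4, π4 ≫ π3 ≫ π2 ≫ π1, epi_comp' hπ4 (epi_comp' hπ3 (epi_comp' hπ2 hπ1)),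
    x ≫ grπ S.X₁ p, ?_⟩
  have e1 : (x ≫ grπ S.X₁ p) ≫ (FilD.grF A p).map S.f = (x ≫ S.f.hom.app (op p)) ≫ grπ S.X₂ p := by
    rw [Category.assoc, Category.assoc, pi_naturality]
  have e2 : (π3 ≫ π2 ≫ y - y1 ≫ S.X₂.obj.map (FilD.stepHom p)) ≫ grπ S.X₂ p =
      π3 ≫ π2 ≫ π1 ≫ z := by
    rw [Preadditive.sub_comp, Category.assoc, Category.assoc, Category.assoc, step_grπ, comp_zero,
      sub_zero, hy]
  refine Eq.trans ?_ e1.symm
  rw [← hx, Category.assoc π4 _ (grπ S.X₂ p), e2]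
  simp only [Category.assoc]

include hS in
lemma mono_gr_f (p : ℤ) : Mono ((FilD.grF A p).map S.f) := by
  haveI : Mono (S.X₃.obj.map (FilD.stepHom p)) := S.X₃.property.1 _
  haveI := mono_f_app S hS p
  apply Preadditive.mono_of_cancel_zero
  intro W xbar hxbar
  obtain ⟨W1, π1, hπ1, x, hx⟩ := surjective_up_to_refinements_of_epi (grπ S.X₁ p) xbar
  have h1 : (x ≫ S.f.hom.app (op p)) ≫ grπ S.X₂ p = 0 := by
    rw [Category.assoc, pi_naturality S.f p, ← Category.assoc, ← hx, Category.assoc, hxbar,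
      comp_zero]
  obtain ⟨W2, π2, hπ2, (y1 : W2 ⟶ S.X₂.obj.obj (op (p + 1))),
    (hy1 : π2 ≫ x ≫ S.f.hom.app (op p) = y1 ≫ S.X₂.obj.map (FilD.stepHom p))⟩ :=
    (grπ_exact S.X₂ p).exact_up_to_refinements _ h1
  have h2 : y1 ≫ S.g.hom.app (op (p + 1)) = 0 := by
    rw [← cancel_mono (S.X₃.obj.map (FilD.stepHom p)), Category.assoc, ← step_naturality S.g p,
      ← Category.assoc, ← hy1, Category.assoc, Category.assoc, app_comp_app, comp_zero, comp_zero,
      zero_comp]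
  obtain ⟨W3, π3, hπ3, x1, hx1⟩ := exact_app S hS (p + 1) y1 h2
  have h3 : π3 ≫ π2 ≫ x = x1 ≫ S.X₁.obj.map (FilD.stepHom p) := by
    rw [← cancel_mono (S.f.hom.app (op p)), Category.assoc, Category.assoc, hy1, Category.assoc,
      step_naturality S.f p, ← Category.assoc x1, ← hx1, Category.assoc]
  rw [← cancel_epi π1, ← cancel_epi π2, ← cancel_epi π3, comp_zero, comp_zero, comp_zero, hx,
    ← Category.assoc π2, ← Category.assoc π3, h3, Category.assoc, step_grπ, comp_zero]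

end GrSES

section Resolution

variable {Z : FilD.FilF A} {J : CochainComplex (FilD.FilF A) ℤ} [J.IsStrictlyGE 0]
  (c : (CochainComplex.singleFunctor (FilD.FilF A) 0).obj Z ⟶ J) (hc : FilD.IsFilteredQuasiIso c)

/-- the identification of the degree `0` term of `Z[0]`. -/
noncomputable def sIso (Z : FilD.FilF A) :
    ((CochainComplex.singleFunctor (FilD.FilF A) 0).obj Z).X 0 ≅ Z :=
  HomologicalComplex.singleObjXSelf (ComplexShape.up ℤ) 0 Z

/-- the augmentation `Z ⟶ J⁰`. -/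
noncomputable def aug : Z ⟶ J.X 0 := (sIso Z).inv ≫ c.f 0

omit [J.IsStrictlyGE 0] in
lemma aug_d : aug c ≫ J.d 0 1 = 0 := by
  have h1 : c.f 0 ≫ J.d 0 1 =
      ((CochainComplex.singleFunctor (FilD.FilF A) 0).obj Z).d 0 1 ≫ c.f 1 := c.comm 0 1
  have h2 : c.f 0 ≫ J.d 0 1 = 0 := h1.trans zero_comp
  rw [aug, Category.assoc, h2, comp_zero]

omit [J.IsStrictlyGE 0] in
lemma hom_aug : (sIso Z).hom ≫ aug c = c.f 0 := by
  rw [aug, Iso.hom_inv_id_assoc]

omit [J.IsStrictlyGE 0] in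
lemma gr_hom_aug (p : ℤ) :
    (FilD.grF A p).map (sIso Z).hom ≫ (FilD.grF A p).map (aug c) = (FilD.grF A p).map (c.f 0) := by
  rw [← Functor.map_comp, hom_aug]

omit [J.IsStrictlyGE 0] in
lemma gr_inv_f (p : ℤ) :
    (FilD.grF A p).map (sIso Z).inv ≫ (FilD.grF A p).map (c.f 0) = (FilD.grF A p).map (aug c) := by
  rw [← Functor.map_comp]; rfl

include hc in
omit [J.IsStrictlyGE 0] in
lemma exactAt_of_pos (p n : ℤ) (hn : 0 < n) : ((FilD.grCx p).obj J).ExactAt n := by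
  have h1 : ((FilD.grCx p).obj ((CochainComplex.singleFunctor (FilD.FilF A) 0).obj Z)).ExactAt n :=
    HomologicalComplex.ExactAt.of_isZero ((FilD.grF A p).map_isZero
      (HomologicalComplex.isZero_single_obj_X (ComplexShape.up ℤ) 0 Z n (by lia)))
  have h2 : QuasiIsoAt ((FilD.grCx p).map c) n := by
    haveI := hc p
    infer_instance
  exact (quasiIsoAt_iff_exactAt _ _ h1).1 h2

include hc in
omit [J.IsStrictlyGE 0] in
lemma mono_gr_aug (p : ℤ) : Mono ((FilD.grF A p).map (aug c)) := by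
  have h2 : QuasiIsoAt ((FilD.grCx p).map c) 0 := by
    haveI := hc p
    infer_instance
  rw [quasiIsoAt_iff_isIso_homologyMap] at h2
  have h3 : Mono (HomologicalComplex.homologyMap ((FilD.grCx p).map c) 0) := inferInstance
  rw [HomologicalComplex.mono_homologyMap_iff_up_to_refinements _ (-1) 0 1 (by simp) (by simp)] at h3
  apply Preadditive.mono_of_cancel_zero
  intro W w hw
  obtain ⟨W', π, hπ, x₁, hx₁⟩ := h3 (w ≫ (FilD.grF A p).map (sIso Z).inv)
    (by
      have : ((FilD.grCx p).obj ((CochainComplex.singleFunctor (FilD.FilF A) 0).obj Z)).d 0 1 = 0 :=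
        (FilD.grF A p).map_zero _ _
      rw [this, comp_zero]) 0 (by
      rw [zero_comp, Category.assoc]
      exact (congrArg (fun k => w ≫ k) (gr_inv_f c p)).trans hw)
  have hx0 : x₁ = 0 := ((FilD.grF A p).map_isZero
    (HomologicalComplex.isZero_single_obj_X (ComplexShape.up ℤ) 0 Z (-1) (by lia))).eq_of_tgt _ _
  rw [hx0, zero_comp] at hx₁
  have h4 : w ≫ (FilD.grF A p).map (sIso Z).inv = 0 := by
    rw [← cancel_epi π, comp_zero]
    exact hx₁
  have h5 : (w ≫ (FilD.grF A p).map (sIso Z).inv) ≫ (FilD.grF A p).map (sIso Z).hom = w := by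
    rw [Category.assoc, ← Functor.map_comp, Iso.inv_hom_id, CategoryTheory.Functor.map_id,
      Category.comp_id]
  rw [← h5, h4, zero_comp]

include hc in
lemma surj_gr_aug (p : ℤ) {W : A} (z : W ⟶ (FilD.grF A p).obj (J.X 0))
    (hz : z ≫ (FilD.grF A p).map (J.d 0 1) = 0) :
    ∃ (W' : A) (π : W' ⟶ W) (_ : Epi π) (w : W' ⟶ (FilD.grF A p).obj Z),
      π ≫ z = w ≫ (FilD.grF A p).map (aug c) := by
  have h2 : QuasiIsoAt ((FilD.grCx p).map c) 0 := by
    haveI := hc p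
    infer_instance
  rw [quasiIsoAt_iff_isIso_homologyMap] at h2
  have h3 : Epi (HomologicalComplex.homologyMap ((FilD.grCx p).map c) 0) := inferInstance
  rw [HomologicalComplex.epi_homologyMap_iff_up_to_refinements _ (-1) 0 1 (by simp) (by simp)] at h3
  obtain ⟨W', π, hπ, x₂, _, y₁, h⟩ := h3 z hz
  have hy0 : y₁ = 0 := ((FilD.grF A p).map_isZero
    (J.isZero_of_isStrictlyGE 0 (-1) (by lia))).eq_of_tgt _ _
  rw [hy0, zero_comp, add_zero] at h
  refine ⟨W', π, hπ, x₂ ≫ (FilD.grF A p).map (sIso Z).hom, ?_⟩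
  refine h.trans ?_
  exact ((congrArg (fun k => x₂ ≫ k) (gr_hom_aug c p)).symm).trans (Category.assoc _ _ _).symm

end Resolution

section E

variable (S : ShortComplex (FilD.FilF A))
  (hS : ∀ p : ℤ, (S.map ((FilD.IsFinFil A).ι ⋙ (evaluation ℤᵒᵖ A).obj (op p))).ShortExact)
  {J : CochainComplex (FilD.FilF A) ℤ} [J.IsStrictlyGE 0]
  (c : (CochainComplex.singleFunctor (FilD.FilF A) 0).obj S.X₃ ⟶ J) (hc : FilD.IsFilteredQuasiIso c)

/-- the terms of the augmented complex `X ⟶ Y ⟶ J⁰ ⟶ J¹ ⟶ ⋯` (with `X` in degree `0`). -/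
noncomputable def EX (J : CochainComplex (FilD.FilF A) ℤ) : ℤ → FilD.FilF A
  | Int.ofNat 0 => S.X₁
  | Int.ofNat 1 => S.X₂
  | Int.ofNat (k + 2) => J.X (Int.ofNat k)
  | Int.negSucc _ => 0

/-- the differentials of the augmented complex. -/
noncomputable def Ed : (m : ℤ) → (EX S J m ⟶ EX S J (m + 1))
  | Int.ofNat 0 => S.f
  | Int.ofNat 1 => S.g ≫ aug c
  | Int.ofNat (k + 2) => J.d (Int.ofNat k) (Int.ofNat (k + 1))
  | Int.negSucc 0 => 0
  | Int.negSucc (_ + 1) => 0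

omit [J.IsStrictlyGE 0] in
lemma Ed_comp (m : ℤ) : Ed S c m ≫ Ed S c (m + 1) = 0 := by
  match m with
  | Int.ofNat 0 =>
    exact (Category.assoc _ _ _).symm.trans
      ((congrArg (fun k => k ≫ aug c) S.zero).trans zero_comp)
  | Int.ofNat 1 =>
    exact (Category.assoc _ _ _).trans
      ((congrArg (fun k => S.g ≫ k) (aug_d c)).trans comp_zero)
  | Int.ofNat (k + 2) => exact J.d_comp_d _ _ _
  | Int.negSucc 0 => exact zero_comp
  | Int.negSucc (j + 1) => exact zero_comp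

/-- the augmented complex. -/
noncomputable def E : CochainComplex (FilD.FilF A) ℤ :=
  CochainComplex.of (EX S J) (Ed S c) (Ed_comp S c)

omit [J.IsStrictlyGE 0] in
lemma E_d (m : ℤ) : (E S c).d m (m + 1) = Ed S c m :=
  CochainComplex.of_d (EX S J) (Ed S c) m

include hS in
omit [J.IsStrictlyGE 0] in
lemma E_exact0 (p : ℤ) {W : A} (z : W ⟶ (FilD.grF A p).obj S.X₁)
    (hz : z ≫ (FilD.grF A p).map S.f = 0) : z = 0 := by
  haveI := mono_gr_f S hS p
  rw [← cancel_mono ((FilD.grF A p).map S.f), zero_comp]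
  exact hz

include hS hc in
omit [J.IsStrictlyGE 0] in
lemma E_exact1 (p : ℤ) {W : A} (z : W ⟶ (FilD.grF A p).obj S.X₂)
    (hz : z ≫ (FilD.grF A p).map (S.g ≫ aug c) = 0) :
    ∃ (W' : A) (π : W' ⟶ W) (_ : Epi π) (x : W' ⟶ (FilD.grF A p).obj S.X₁),
      π ≫ z = x ≫ (FilD.grF A p).map S.f := by
  haveI := mono_gr_aug c hc p
  have hz1 : z ≫ (FilD.grF A p).map S.g = 0 := by
    rw [← cancel_mono ((FilD.grF A p).map (aug c)), zero_comp, Category.assoc, ← Functor.map_comp]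
    exact hz
  exact gr_exact S hS p z hz1

include hS hc in
lemma E_exact2 (p : ℤ) {W : A} (z : W ⟶ (FilD.grF A p).obj (J.X 0))
    (hz : z ≫ (FilD.grF A p).map (J.d 0 1) = 0) :
    ∃ (W' : A) (π : W' ⟶ W) (_ : Epi π) (y : W' ⟶ (FilD.grF A p).obj S.X₂),
      π ≫ z = y ≫ (FilD.grF A p).map (S.g ≫ aug c) := by
  obtain ⟨W1, π1, hπ1, w, hw⟩ := surj_gr_aug c hc p z hz
  haveI := epi_gr_g S hS p
  obtain ⟨W2, π2, hπ2, y, hy⟩ := surjective_up_to_refinements_of_epi ((FilD.grF A p).map S.g) w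
  refine ⟨W2, π2 ≫ π1, epi_comp' hπ2 hπ1, y, ?_⟩
  rw [Category.assoc, hw, ← Category.assoc, hy, Category.assoc, ← Functor.map_comp]

include hS hc in
lemma isFilteredAcyclic_E : FilD.IsFilteredAcyclic (E S c) := by
  intro p n
  match n with
  | Int.negSucc j =>
    exact HomologicalComplex.ExactAt.of_isZero ((FilD.grF A p).map_isZero (isZero_zero _))
  | Int.ofNat 0 =>
    rw [HomologicalComplex.exactAt_iff' _ (Int.negSucc 0) (Int.ofNat 0) (Int.ofNat 1)
      (by simp) (by simp), ShortComplex.exact_iff_exact_up_to_refinements]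
    intro W z hz
    have hz' : z ≫ (FilD.grF A p).map S.f = 0 := by
      refine Eq.trans ?_ hz
      congr 1
      exact congrArg (FilD.grF A p).map (E_d S c (Int.ofNat 0)).symm
    have hz0 : z = 0 := E_exact0 S hS p z hz'
    exact ⟨W, 𝟙 W, inferInstance, 0, by rw [hz0, comp_zero, zero_comp]⟩
  | Int.ofNat 1 =>
    rw [HomologicalComplex.exactAt_iff' _ (Int.ofNat 0) (Int.ofNat 1) (Int.ofNat 2)
      (by simp) (by simp), ShortComplex.exact_iff_exact_up_to_refinements]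
    intro W z hz
    have hz' : z ≫ (FilD.grF A p).map (S.g ≫ aug c) = 0 := by
      refine Eq.trans ?_ hz
      congr 1
      exact congrArg (FilD.grF A p).map (E_d S c (Int.ofNat 1)).symm
    obtain ⟨W', π, hπ, x, hx⟩ := E_exact1 S hS c hc p z hz'
    refine ⟨W', π, hπ, x, hx.trans ?_⟩
    congr 1
    exact congrArg (FilD.grF A p).map (E_d S c (Int.ofNat 0)).symm
  | Int.ofNat 2 =>
    rw [HomologicalComplex.exactAt_iff' _ (Int.ofNat 1) (Int.ofNat 2) (Int.ofNat 3)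
      (by simp) (by simp), ShortComplex.exact_iff_exact_up_to_refinements]
    intro W z hz
    have hz' : z ≫ (FilD.grF A p).map (J.d 0 1) = 0 := by
      refine Eq.trans ?_ hz
      congr 1
      exact congrArg (FilD.grF A p).map (E_d S c (Int.ofNat 2)).symm
    obtain ⟨W', π, hπ, y, hy⟩ := E_exact2 S hS c hc p z hz'
    refine ⟨W', π, hπ, y, hy.trans ?_⟩
    congr 1
    exact congrArg (FilD.grF A p).map (E_d S c (Int.ofNat 1)).symm
  | Int.ofNat (k + 3) =>
    have h1 := exactAt_of_pos c hc p (Int.ofNat (k + 1)) (by simp)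
    rw [HomologicalComplex.exactAt_iff' _ (Int.ofNat k) (Int.ofNat (k + 1)) (Int.ofNat (k + 2))
      (by simp) (by simp <;> lia), ShortComplex.exact_iff_exact_up_to_refinements] at h1
    rw [HomologicalComplex.exactAt_iff' _ (Int.ofNat (k + 2)) (Int.ofNat (k + 3)) (Int.ofNat (k + 4))
      (by simp <;> lia) (by simp <;> lia), ShortComplex.exact_iff_exact_up_to_refinements]
    intro W z hz
    have hz' : z ≫ (FilD.grF A p).map (J.d (Int.ofNat (k + 1)) (Int.ofNat (k + 2))) = 0 := by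
      refine Eq.trans ?_ hz
      congr 1
      exact congrArg (FilD.grF A p).map (E_d S c (Int.ofNat (k + 3))).symm
    obtain ⟨W', π, hπ, x, hx⟩ := h1 z hz'
    refine ⟨W', π, hπ, x, hx.trans ?_⟩
    congr 1
    exact congrArg (FilD.grF A p).map (E_d S c (Int.ofNat (k + 2))).symm

end E

section Phi

variable (S : ShortComplex (FilD.FilF A))
  {J : CochainComplex (FilD.FilF A) ℤ}
  (c : (CochainComplex.singleFunctor (FilD.FilF A) 0).obj S.X₃ ⟶ J)
  {I : CochainComplex (FilD.FilF A) ℤ}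
  (a : (CochainComplex.singleFunctor (FilD.FilF A) 0).obj S.X₁ ⟶ I)

/-- the components of `Φ : E ⟶ I`. -/
noncomputable def Φf : (m : ℤ) → (EX S J m ⟶ I.X m)
  | Int.ofNat 0 => aug a
  | Int.ofNat (_ + 1) => 0
  | Int.negSucc _ => 0

lemma Φf_comm (m : ℤ) : Φf S a m ≫ I.d m (m + 1) = Ed S c m ≫ Φf S a (m + 1) := by
  match m with
  | Int.ofNat 0 => exact (aug_d a).trans comp_zero.symm
  | Int.ofNat (k + 1) => exact zero_comp.trans comp_zero.symm
  | Int.negSucc 0 => exact zero_comp.trans zero_comp.symm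
  | Int.negSucc (j + 1) => exact zero_comp.trans zero_comp.symm

/-- the morphism `E ⟶ I` given by `a` in degree `0`. -/
noncomputable def Φ : E S c ⟶ I where
  f := Φf S a
  comm' i j hij := by
    obtain rfl : i + 1 = j := hij
    dsimp [E]
    rw [CochainComplex.of_d]
    exact Φf_comm S c a i

end Phi

section Data

variable (S : ShortComplex (FilD.FilF A))
  (hS : ∀ p : ℤ, (S.map ((FilD.IsFinFil A).ι ⋙ (evaluation ℤᵒᵖ A).obj (op p))).ShortExact)
  {J : CochainComplex (FilD.FilF A) ℤ} [J.IsStrictlyGE 0]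
  (c : (CochainComplex.singleFunctor (FilD.FilF A) 0).obj S.X₃ ⟶ J) (hc : FilD.IsFilteredQuasiIso c)
  {I : CochainComplex (FilD.FilF A) ℤ} [I.IsStrictlyGE 0]
  (hI : ∀ n, FilD.IsFilteredInjective (I.X n))
  (a : (CochainComplex.singleFunctor (FilD.FilF A) 0).obj S.X₁ ⟶ I)

/-- the twisting maps extracted from a homotopy. -/
noncomputable def τOf (h : Homotopy (Φ S c a) 0) : (n : ℤ) → (J.X n ⟶ I.X (n + 1))
  | Int.ofNat k => h.hom (Int.ofNat (k + 2)) (Int.ofNat (k + 1))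
  | Int.negSucc _ => 0

include hS hc hI in
lemma exists_data :
    ∃ (at' : S.X₂ ⟶ I.X 0) (τ : ∀ n : ℤ, J.X n ⟶ I.X (n + 1)),
      S.f ≫ at' = aug a ∧
      (S.g ≫ aug c) ≫ τ 0 + at' ≫ I.d 0 (0 + 1) = 0 ∧
      ∀ n : ℤ, τ n ≫ I.d (n + 1) (n + 1 + 1) + J.d n (n + 1) ≫ τ (n + 1) = 0 := by
  obtain ⟨h⟩ := FilLevels.nonempty_homotopy_zero (E S c) I (isFilteredAcyclic_E S hS c hc) 0 hI
    (Φ S c a)
  refine ⟨h.hom (Int.ofNat 1) (Int.ofNat 0), τOf S c a h, ?_, ?_, ?_⟩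
  · have h0 := h.comm (Int.ofNat 0)
    rw [dNext_eq h.hom (show (ComplexShape.up ℤ).Rel (Int.ofNat 0) (Int.ofNat 1) by simp),
      prevD_eq h.hom (show (ComplexShape.up ℤ).Rel (Int.negSucc 0) (Int.ofNat 0) by simp)] at h0
    have hz : h.hom (Int.ofNat 0) (Int.negSucc 0) = 0 :=
      (I.isZero_of_isStrictlyGE 0 (Int.negSucc 0) (by simp)).eq_of_tgt _ _
    rw [hz, zero_comp, add_zero] at h0
    have h1 : (E S c).d (Int.ofNat 0) (Int.ofNat 1) = S.f := E_d S c (Int.ofNat 0)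
    rw [h1] at h0
    exact (h0.trans (add_zero _)).symm
  · have h0 := h.comm (Int.ofNat 1)
    rw [dNext_eq h.hom (show (ComplexShape.up ℤ).Rel (Int.ofNat 1) (Int.ofNat 2) by simp),
      prevD_eq h.hom (show (ComplexShape.up ℤ).Rel (Int.ofNat 0) (Int.ofNat 1) by simp)] at h0
    have h1 : (E S c).d (Int.ofNat 1) (Int.ofNat 2) = S.g ≫ aug c := E_d S c (Int.ofNat 1)
    rw [h1] at h0
    exact ((h0.trans (add_zero _)).symm)
  · intro n
    match n with
    | Int.ofNat k =>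
      have h0 := h.comm (Int.ofNat (k + 2))
      rw [dNext_eq h.hom (show (ComplexShape.up ℤ).Rel (Int.ofNat (k + 2)) (Int.ofNat (k + 3)) by
          simp <;> lia),
        prevD_eq h.hom (show (ComplexShape.up ℤ).Rel (Int.ofNat (k + 1)) (Int.ofNat (k + 2)) by
          simp <;> lia)] at h0
      have h1 : (E S c).d (Int.ofNat (k + 2)) (Int.ofNat (k + 3)) =
          J.d (Int.ofNat k) (Int.ofNat (k + 1)) := E_d S c (Int.ofNat (k + 2))
      rw [h1] at h0
      exact (add_comm _ _).trans ((h0.trans (add_zero _)).symm)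
    | Int.negSucc j =>
      exact (J.isZero_of_isStrictlyGE 0 (Int.negSucc j) (by simp)).eq_of_src _ _

end Data

section Twist

variable {𝓒 : Type*} [Category 𝓒] [Preadditive 𝓒] [HasBinaryBiproducts 𝓒]
  (I J : CochainComplex 𝓒 ℤ) (τ : ∀ n : ℤ, J.X n ⟶ I.X (n + 1))
  (hτ : ∀ n : ℤ, τ n ≫ I.d (n + 1) (n + 1 + 1) + J.d n (n + 1) ≫ τ (n + 1) = 0)

/-- the differential of the twisted direct sum. -/
noncomputable def twD (n : ℤ) : I.X n ⊞ J.X n ⟶ I.X (n + 1) ⊞ J.X (n + 1) :=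
  biprod.desc (I.d n (n + 1) ≫ biprod.inl) (τ n ≫ biprod.inl + J.d n (n + 1) ≫ biprod.inr)

include hτ in
lemma twD_comp (n : ℤ) : twD I J τ n ≫ twD I J τ (n + 1) = 0 := by
  apply biprod.hom_ext'
  · simp [twD]
  · simp only [twD, biprod.inr_desc_assoc, Preadditive.add_comp, Category.assoc, biprod.inl_desc,
      biprod.inr_desc, Preadditive.comp_add, HomologicalComplex.d_comp_d_assoc, zero_comp,
      comp_zero, add_zero]
    rw [← Category.assoc, ← Category.assoc, ← Preadditive.add_comp, hτ, zero_comp]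

/-- the twisted direct sum. -/
noncomputable def tw : CochainComplex 𝓒 ℤ :=
  CochainComplex.of (fun n => I.X n ⊞ J.X n) (twD I J τ) (twD_comp I J τ hτ)

lemma tw_d (n : ℤ) : (tw I J τ hτ).d n (n + 1) = twD I J τ n :=
  CochainComplex.of_d (fun n => I.X n ⊞ J.X n) (twD I J τ) n

lemma inl_twD (n : ℤ) : biprod.inl ≫ twD I J τ n = I.d n (n + 1) ≫ biprod.inl :=
  biprod.inl_desc _ _

lemma twD_snd (n : ℤ) : twD I J τ n ≫ biprod.snd = biprod.snd ≫ J.d n (n + 1) := by
  apply biprod.hom_ext'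
  · rw [biprod.inl_snd_assoc, zero_comp, ← Category.assoc, inl_twD, Category.assoc,
      biprod.inl_snd, comp_zero]
  · rw [biprod.inr_snd_assoc, twD, biprod.inr_desc_assoc, Preadditive.add_comp, Category.assoc,
      Category.assoc, biprod.inl_snd, comp_zero, zero_add, biprod.inr_snd, Category.comp_id]

/-- the inclusion of `I`. -/
noncomputable def twInl : I ⟶ tw I J τ hτ where
  f n := biprod.inl
  comm' i j hij := by
    obtain rfl : i + 1 = j := hij
    exact (congrArg (fun k => (biprod.inl : I.X i ⟶ I.X i ⊞ J.X i) ≫ k) (tw_d I J τ hτ i)).trans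
      (inl_twD I J τ i)

/-- the projection to `J`. -/
noncomputable def twSnd : tw I J τ hτ ⟶ J where
  f n := biprod.snd
  comm' i j hij := by
    obtain rfl : i + 1 = j := hij
    exact (twD_snd I J τ i).symm.trans
      (congrArg (fun k => k ≫ (biprod.snd : I.X (i + 1) ⊞ J.X (i + 1) ⟶ J.X (i + 1)))
        (tw_d I J τ hτ i)).symm

lemma lift_twD (n : ℤ) {T : 𝓒} (u : T ⟶ I.X n) (v : T ⟶ J.X n) :
    biprod.lift u v ≫ twD I J τ n =
      (u ≫ I.d n (n + 1) + v ≫ τ n) ≫ biprod.inl + (v ≫ J.d n (n + 1)) ≫ biprod.inr := by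
  rw [twD, biprod.lift_desc, Preadditive.comp_add, Preadditive.add_comp]
  simp only [Category.assoc]
  abel

end Twist

section Main

variable (S : ShortComplex (FilD.FilF A))
  (hS : ∀ p : ℤ, (S.map ((FilD.IsFinFil A).ι ⋙ (evaluation ℤᵒᵖ A).obj (op p))).ShortExact)
  (I : CochainComplex (FilD.FilF A) ℤ) [I.IsStrictlyGE 0]
  (hI : ∀ n, FilD.IsFilteredInjective (I.X n))
  (a : (CochainComplex.singleFunctor (FilD.FilF A) 0).obj S.X₁ ⟶ I)
  (J : CochainComplex (FilD.FilF A) ℤ) [J.IsStrictlyGE 0]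
  (c : (CochainComplex.singleFunctor (FilD.FilF A) 0).obj S.X₃ ⟶ J) (hc : FilD.IsFilteredQuasiIso c)

include hS hI hc in
theorem horseshoe :
    ∃ (M : CochainComplex (FilD.FilF A) ℤ) (α : I ⟶ M) (β : M ⟶ J)
      (b : (CochainComplex.singleFunctor (FilD.FilF A) 0).obj S.X₂ ⟶ M),
      (∀ n, ∃ (r : M.X n ⟶ I.X n) (s : J.X n ⟶ M.X n), α.f n ≫ r = 𝟙 _ ∧ s ≫ β.f n = 𝟙 _ ∧
        α.f n ≫ β.f n = 0 ∧ r ≫ α.f n + β.f n ≫ s = 𝟙 _) ∧
      a ≫ α = (CochainComplex.singleFunctor (FilD.FilF A) 0).map S.f ≫ b ∧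
      b ≫ β = (CochainComplex.singleFunctor (FilD.FilF A) 0).map S.g ≫ c := by
  obtain ⟨at', τ, h1, h2, h3⟩ := exists_data S hS c hc hI a
  have t1 : at' ≫ I.d 0 (0 + 1) + (S.g ≫ aug c) ≫ τ 0 = 0 := (add_comm _ _).trans h2
  have t2 : (S.g ≫ aug c) ≫ J.d 0 (0 + 1) = 0 :=
    (Category.assoc _ _ _).trans ((congrArg (fun k => S.g ≫ k) (aug_d c)).trans comp_zero)
  have hb0 : (biprod.lift at' (S.g ≫ aug c) : S.X₂ ⟶ I.X 0 ⊞ J.X 0) ≫ twD I J τ 0 = 0 := by
    rw [lift_twD, t1, t2, zero_comp, zero_comp, add_zero]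
  let b : (CochainComplex.singleFunctor (FilD.FilF A) 0).obj S.X₂ ⟶ tw I J τ h3 :=
    HomologicalComplex.mkHomFromSingle (biprod.lift at' (S.g ≫ aug c)) (by
      intro k hk
      obtain rfl : 0 + 1 = k := hk
      exact (congrArg (fun k => (biprod.lift at' (S.g ≫ aug c) : S.X₂ ⟶ I.X 0 ⊞ J.X 0) ≫ k)
        (tw_d I J τ h3 0)).trans hb0)
  have hbf : b.f 0 = (sIso S.X₂).hom ≫ biprod.lift at' (S.g ≫ aug c) :=
    HomologicalComplex.mkHomFromSingle_f _ _
  refine ⟨tw I J τ h3, twInl I J τ h3, twSnd I J τ h3, b, fun n => ?_, ?_, ?_⟩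
  · exact ⟨biprod.fst, biprod.inr, biprod.inl_fst, biprod.inr_snd, biprod.inl_snd, biprod.total⟩
  · apply HomologicalComplex.from_single_hom_ext
    have e1 : ((CochainComplex.singleFunctor (FilD.FilF A) 0).map S.f).f 0 =
        (sIso S.X₁).hom ≫ S.f ≫ (sIso S.X₂).inv :=
      HomologicalComplex.single_map_f_self _ _ _
    have key1 : aug a ≫ (biprod.inl : I.X 0 ⟶ I.X 0 ⊞ J.X 0) =
        S.f ≫ biprod.lift at' (S.g ≫ aug c) := by
      apply biprod.hom_ext
      · rw [Category.assoc, biprod.inl_fst, Category.comp_id, Category.assoc, biprod.lift_fst, h1]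
      · rw [Category.assoc, biprod.inl_snd, comp_zero, Category.assoc, biprod.lift_snd,
          ← Category.assoc, S.zero, zero_comp]
    have e4 : a.f 0 ≫ (biprod.inl : I.X 0 ⟶ I.X 0 ⊞ J.X 0) =
        ((sIso S.X₁).hom ≫ S.f ≫ (sIso S.X₂).inv) ≫
          ((sIso S.X₂).hom ≫ biprod.lift at' (S.g ≫ aug c)) := by
      rw [← hom_aug a, Category.assoc, key1]
      simp only [Category.assoc, Iso.inv_hom_id_assoc]
    exact e4.trans (congrArg₂ (fun x y => x ≫ y) e1.symm hbf.symm)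
  · apply HomologicalComplex.from_single_hom_ext
    have e1 : ((CochainComplex.singleFunctor (FilD.FilF A) 0).map S.g).f 0 =
        (sIso S.X₂).hom ≫ S.g ≫ (sIso S.X₃).inv :=
      HomologicalComplex.single_map_f_self _ _ _
    have e4 : ((sIso S.X₂).hom ≫ biprod.lift at' (S.g ≫ aug c)) ≫
        (biprod.snd : I.X 0 ⊞ J.X 0 ⟶ J.X 0) =
        ((sIso S.X₂).hom ≫ S.g ≫ (sIso S.X₃).inv) ≫ c.f 0 := by
      rw [Category.assoc, biprod.lift_snd]
      simp only [Category.assoc]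
      rfl
    exact (congrArg (fun x => x ≫ (biprod.snd : I.X 0 ⊞ J.X 0 ⟶ J.X 0)) hbf).trans
      (e4.trans (congrArg (fun x => x ≫ c.f 0) e1.symm))

end Main

end Groth.Agent.Lib.Helper32.FilHorseshoe
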