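import Mathlib

/-!
# Injective objects of functor categories over a thin category (helper32)

Let `T` be a thin category (at most one morphism between two objects) and `A` an abelian category
with coproducts.
* `exists_section`: for an injective object `F` of `T ⥤ A` every transition map `F.map f` is a split
  epimorphism.
* `injective_obj`: evaluation preserves injective objects.
* `isKInjective_eval`: evaluation preserves K-injective complexes.
-/

set_option autoImplicit false
universe w v u
open CategoryTheory CategoryTheory.Limits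

namespace Groth.Agent.Lib.Helper32.FunCatInj

variable {T : Type w} [Category.{v} T]
  {A : Type u} [Category.{v} A] [Abelian A] [∀ a b : T, HasCoproductsOfShape (a ⟶ b) A]

/-- a coproduct indexed by an empty type is zero -/
lemma isZero_sigma_of_isEmpty {ι : Type v} [IsEmpty ι] [HasCoproductsOfShape ι A] (M : ι → A) :
    IsZero (∐ M) := by
  rw [IsZero.iff_id_eq_zero]
  apply Sigma.hom_ext
  intro i
  exact (IsEmpty.false i).elim

/-- the left adjoint of evaluation at `a` -/
noncomputable def L (a : T) (M : A) : T ⥤ A := (evaluationLeftAdjoint A a).obj M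

/-- the inclusion of the summand indexed by `h` -/
noncomputable def Lι (a : T) (M : A) {k : T} (h : a ⟶ k) : M ⟶ (L a M).obj k :=
  Sigma.ι (fun _ : a ⟶ k => M) h

@[reassoc (attr := simp)]
lemma Lι_map (a : T) (M : A) {k k' : T} (h : a ⟶ k) (g : k ⟶ k') :
    Lι a M h ≫ (L a M).map g = Lι a M (h ≫ g) :=
  Sigma.ι_desc _ _

lemma L_hom_ext (a : T) (M : A) {k : T} {W : A} (x y : (L a M).obj k ⟶ W)
    (h : ∀ h : a ⟶ k, Lι a M h ≫ x = Lι a M h ≫ y) : x = y :=
  Sigma.hom_ext _ _ h

/-- descent from the coproduct -/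
noncomputable def Ldesc (a : T) (M : A) {k : T} {W : A} (x : (a ⟶ k) → (M ⟶ W)) :
    (L a M).obj k ⟶ W :=
  Sigma.desc x

@[reassoc (attr := simp)]
lemma Lι_desc (a : T) (M : A) {k : T} {W : A} (x : (a ⟶ k) → (M ⟶ W)) (h : a ⟶ k) :
    Lι a M h ≫ Ldesc a M x = x h :=
  Sigma.ι_desc _ _

variable [Quiver.IsThin T]

/-- For an injective object `F` of `T ⥤ A` every transition map is a split epimorphism. -/
theorem exists_section (F : T ⥤ A) [Injective F] {a b : T} (f : a ⟶ b) :
    ∃ s : F.obj b ⟶ F.obj a, s ≫ F.map f = 𝟙 _ := by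
  let M := F.obj b
  let γ : L b M ⟶ L a M :=
    { app := fun k => Ldesc b M (fun h : b ⟶ k => Lι a M (f ≫ h))
      naturality := by
        intro k k' g
        apply L_hom_ext
        intro h
        simp }
  have hγ : Mono γ := by
    haveI : ∀ k, Mono (γ.app k) := by
      intro k
      by_cases hne : Nonempty (b ⟶ k)
      · obtain ⟨h₀⟩ := hne
        let r : (L a M).obj k ⟶ (L b M).obj k := Ldesc a M (fun _ : a ⟶ k => Lι b M h₀)
        have hr : γ.app k ≫ r = 𝟙 _ := by
          apply L_hom_ext
          intro h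
          simp only [γ, r, Lι_desc_assoc, Lι_desc, Category.comp_id]
          rw [Subsingleton.elim h h₀]
        exact mono_of_mono_fac hr
      · haveI : IsEmpty (b ⟶ k) := not_nonempty_iff.1 hne
        exact (isZero_sigma_of_isEmpty (fun _ : b ⟶ k => M)).mono _
    exact NatTrans.mono_of_mono_app γ
  let v : L b M ⟶ F :=
    { app := fun k => Ldesc b M (fun h : b ⟶ k => F.map h)
      naturality := by
        intro k k' g
        apply L_hom_ext
        intro h
        simp [M] }
  let u : L a M ⟶ F := Injective.factorThru v γ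
  have hu : γ ≫ u = v := Injective.comp_factorThru v γ
  refine ⟨Lι a M (𝟙 a) ≫ u.app a, ?_⟩
  have h1 : Lι a M (𝟙 a) ≫ u.app a ≫ F.map f = Lι a M f ≫ u.app b := by
    rw [← u.naturality f, Lι_map_assoc, Category.id_comp]
  have h2 : Lι a M f ≫ u.app b = Lι b M (𝟙 b) ≫ (γ ≫ u).app b := by
    simp [γ]
  rw [Category.assoc, h1, h2, hu]
  simp [v, M]

/-- when `a ⟶ k` is inhabited, `(L a M).obj k ≅ M` -/
lemma isIso_Ldesc_id (a : T) (M : A) {k : T} (h₀ : a ⟶ k) :
    IsIso (Ldesc a M (fun _ : a ⟶ k => 𝟙 M)) := by
  refine ⟨⟨Lι a M h₀, ?_, by simp⟩⟩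
  apply L_hom_ext
  intro h
  rw [Lι_desc_assoc, Category.id_comp, Category.comp_id, Subsingleton.elim h h₀]

/-- functoriality of `L a` in `M` -/
noncomputable def Lmap (a : T) {M M' : A} (g : M ⟶ M') : L a M ⟶ L a M' :=
  (evaluationLeftAdjoint A a).map g

@[reassoc]
lemma L_map_app (a : T) {M M' : A} (g : M ⟶ M') {k : T} (h : a ⟶ k) :
    Lι a M h ≫ (Lmap a g).app k = g ≫ Lι a M' h :=
  Sigma.ι_desc _ _

lemma mono_Lmap (a : T) {M M' : A} (g : M ⟶ M') [Mono g] : Mono (Lmap a g) := by
  haveI : ∀ k, Mono ((Lmap a g).app k) := by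
    intro k
    by_cases hne : Nonempty (a ⟶ k)
    · obtain ⟨h₀⟩ := hne
      haveI := isIso_Ldesc_id a M h₀
      have hc : (Lmap a g).app k ≫ Ldesc a M' (fun _ : a ⟶ k => 𝟙 M') =
          Ldesc a M (fun _ : a ⟶ k => 𝟙 M) ≫ g := by
        apply L_hom_ext
        intro h
        rw [L_map_app_assoc, Lι_desc, Lι_desc_assoc, Category.comp_id, Category.id_comp]
      haveI : Mono ((Lmap a g).app k ≫ Ldesc a M' (fun _ : a ⟶ k => 𝟙 M')) := by
        rw [hc]
        infer_instance
      exact mono_of_mono _ (Ldesc a M' (fun _ : a ⟶ k => 𝟙 M'))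
    · haveI : IsEmpty (a ⟶ k) := not_nonempty_iff.1 hne
      exact (isZero_sigma_of_isEmpty (fun _ : a ⟶ k => M)).mono _
  exact NatTrans.mono_of_mono_app _

instance preservesMonomorphisms_L (a : T) :
    (evaluationLeftAdjoint A a).PreservesMonomorphisms where
  preserves {M M'} g hg := by
    haveI := hg
    exact mono_Lmap a g

instance additive_L (a : T) : (evaluationLeftAdjoint A a).Additive :=
  (evaluationAdjunctionRight A a).left_adjoint_additive

instance preservesFiniteColimits_L (a : T) : PreservesFiniteColimits (evaluationLeftAdjoint A a) :=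
  ⟨fun _ _ _ => (evaluationAdjunctionRight A a).leftAdjoint_preservesColimits.preservesColimitsOfShape⟩

instance preservesFiniteLimits_L (a : T) : PreservesFiniteLimits (evaluationLeftAdjoint A a) := by
  rw [Functor.preservesFiniteLimits_iff_forall_exact_map_and_mono]
  intro S hS
  have h0 : PreservesFiniteColimits (evaluationLeftAdjoint A a) := inferInstance
  have h := (Functor.preservesFiniteColimits_iff_forall_exact_map_and_epi
    (evaluationLeftAdjoint A a)).mp h0 S hS
  have := hS.mono_f
  exact ⟨h.1, inferInstance⟩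

/-- evaluation preserves injective objects -/
theorem injective_obj (F : T ⥤ A) [Injective F] (a : T) : Injective (F.obj a) :=
  Injective.injective_of_adjoint (evaluationAdjunctionRight A a) F

/-- A right adjoint of an exact functor preserves K-injective complexes (universe-general version
of `S0481`). -/
theorem isKInjective_map_of_adj {A₁ : Type*} [Category A₁] [Abelian A₁]
    {B₁ : Type*} [Category B₁] [Abelian B₁] (G : A₁ ⥤ B₁) (F : B₁ ⥤ A₁) (adj : F ⊣ G)
    [G.Additive] [F.Additive] [PreservesFiniteLimits F] [PreservesFiniteColimits F]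
    (I : CochainComplex A₁ ℤ) (h : I.IsKInjective) :
    CochainComplex.IsKInjective ((G.mapHomologicalComplex (ComplexShape.up ℤ)).obj I) := by
  refine ⟨fun {K} f hK => ?_⟩
  let g : (F.mapHomologicalComplex (ComplexShape.up ℤ)).obj K ⟶ I :=
    { f := fun n => (adj.homEquiv (K.X n) (I.X n)).symm (f.f n)
      comm' := fun i j _ => by
        show (adj.homEquiv (K.X i) (I.X i)).symm (f.f i) ≫ I.d i j =
          F.map (K.d i j) ≫ (adj.homEquiv (K.X j) (I.X j)).symm (f.f j)
        rw [← adj.homEquiv_naturality_left_symm, ← adj.homEquiv_naturality_right_symm]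
        congr 1
        exact (f.comm i j) }
  have hwK : ((F.mapHomologicalComplex (ComplexShape.up ℤ)).obj K).Acyclic := by
    intro i
    have := hK i
    rw [HomologicalComplex.exactAt_iff] at this ⊢
    exact this.map F
  obtain ⟨H⟩ := h.nonempty_homotopy_zero g hwK
  let η : K ⟶ (G.mapHomologicalComplex (ComplexShape.up ℤ)).obj
      ((F.mapHomologicalComplex (ComplexShape.up ℤ)).obj K) :=
    { f := fun n => adj.unit.app (K.X n)
      comm' := fun i j _ => by
        exact (adj.unit.naturality (K.d i j)).symm }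
  have key : ∀ {X : B₁} {Y : A₁} (φ : X ⟶ G.obj Y),
      φ = adj.unit.app X ≫ G.map ((adj.homEquiv X Y).symm φ) := by
    intro X Y φ
    have := adj.homEquiv_unit (X := X) (Y := Y) (f := (adj.homEquiv X Y).symm φ)
    rw [← this]
    simp
  have hf : f = η ≫ (G.mapHomologicalComplex (ComplexShape.up ℤ)).map g := by
    ext n
    exact key (X := K.X n) (Y := I.X n) (f.f n)
  have H' := (G.mapHomotopy H).compLeft η
  refine ⟨(Homotopy.ofEq hf).trans (H'.trans (Homotopy.ofEq ?_))⟩
  simp

/-- evaluation preserves K-injective complexes -/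
theorem isKInjective_eval (J : CochainComplex (T ⥤ A) ℤ) (hJ : J.IsKInjective) (a : T) :
    CochainComplex.IsKInjective
      ((((evaluation T A).obj a).mapHomologicalComplex (ComplexShape.up ℤ)).obj J) :=
  isKInjective_map_of_adj ((evaluation T A).obj a) (evaluationLeftAdjoint A a)
    (evaluationAdjunctionRight A a) J hJ

end Groth.Agent.Lib.Helper32.FunCatInj
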