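import Mathlib.Algebra.Homology.HomologySequenceLemmas
import Mathlib.Algebra.Homology.Embedding.CochainComplex

set_option autoImplicit false
universe v u
open CategoryTheory CategoryTheory.Limits ComposableArrows

namespace Groth.Agent.Lib.Helper32.SESQis

variable {A : Type u} [Category.{v} A] [Abelian A]

open HomologicalComplex HomologySequence in
lemma quasiIso_τ₁ {S₁ S₂ : ShortComplex (CochainComplex A ℤ)} (φ : S₁ ⟶ S₂)
    (hS₁ : S₁.ShortExact) (hS₂ : S₂.ShortExact) (h₂ : QuasiIso φ.τ₂) (h₃ : QuasiIso φ.τ₃) :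
    QuasiIso φ.τ₁ := by
  rw [quasiIso_iff]
  intro j
  rw [quasiIsoAt_iff_isIso_homologyMap]
  have hij : (ComplexShape.up ℤ).Rel (j - 1) j := by simp
  have e := Abelian.isIso_of_epi_of_isIso_of_isIso_of_mono
    (composableArrows₅_exact hS₁ (j - 1) j hij).δ₀ (composableArrows₅_exact hS₂ (j - 1) j hij).δ₀
    (δ₀Functor.map (mapComposableArrows₅ φ hS₁ hS₂ (j - 1) j hij))
  apply e
  · change Epi (homologyMap φ.τ₂ (j - 1))
    infer_instance
  · change IsIso (homologyMap φ.τ₃ (j - 1))
    infer_instance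
  · change IsIso (homologyMap φ.τ₂ j)
    infer_instance
  · change Mono (homologyMap φ.τ₃ j)
    infer_instance

end Groth.Agent.Lib.Helper32.SESQis
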