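import Mathlib
import Groth.Agent.Lib.Helper32.FunCatInj
import Groth.Agent.Lib.Helper32.SplitSESKInj
import Groth.Agent.Lib.Helper32.SESQis
import Groth.Prelude.Def_SpSeq

/-!
# Tools for filtered K-injective resolutions (helper32)

* `quotFunctor G hG : Iᵒᵖ ⥤ B`, `x ↦ X / G x` for an antitone family of subobjects.
* `toCx Φ`: a functor to complexes as a complex of functors.
* short exact sequences attached to kernels and cokernels, K-injectivity of cokernels of monos
  with injective terms.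
-/

set_option autoImplicit false
universe w v u
open CategoryTheory CategoryTheory.Limits

namespace Groth.Agent.Lib.Helper32.FilKInj

section General

variable {B : Type u} [Category.{v} B] [Abelian B]

lemma isIso_cokernel_π_of_eq_zero {X Y : B} {f : X ⟶ Y} (h : f = 0) : IsIso (cokernel.π f) := by
  subst h
  infer_instance

/-- (helper33) -/
lemma le_pullback_iff {X Y : B} (f : X ⟶ Y) (S : Subobject X) (S' : Subobject Y) :
    S ≤ (Subobject.pullback f).obj S' ↔ S'.Factors (S.arrow ≫ f) := by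
  constructor
  · intro h
    have h1 : ((Subobject.pullback f).obj S').Factors S.arrow :=
      Subobject.factors_of_le _ h (Subobject.factors_self S)
    rw [Subobject.pullback_obj, Subobject.mk_factors_iff] at h1
    obtain ⟨(g : (S : B) ⟶ pullback S'.arrow f),
      (hg : g ≫ pullback.snd S'.arrow f = S.arrow)⟩ := h1
    rw [← hg, Category.assoc, ← pullback.condition, ← Category.assoc]
    exact Subobject.factors_comp_arrow _
  · intro h
    apply Subobject.le_of_factors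
    rw [Subobject.pullback_obj, Subobject.mk_factors_iff]
    exact ⟨pullback.lift (S'.factorThru _ h) S.arrow (by simp), pullback.lift_snd _ _ _⟩

lemma shortExact_kernelSubobject {X Y : B} (π : X ⟶ Y) [Epi π] :
    (ShortComplex.mk (kernelSubobject π).arrow π (kernelSubobject_arrow_comp π)).ShortExact := by
  have h1 : (ShortComplex.mk (kernel.ι π) π (kernel.condition π)).Exact :=
    ShortComplex.exact_of_f_is_kernel _ (kernelIsKernel π)
  let e : ShortComplex.mk (kernel.ι π) π (kernel.condition π) ≅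
      ShortComplex.mk (kernelSubobject π).arrow π (kernelSubobject_arrow_comp π) :=
    ShortComplex.isoMk (kernelSubobjectIso π).symm (Iso.refl _) (Iso.refl _)
      (by simp) (by simp)
  exact ShortComplex.ShortExact.mk' (ShortComplex.exact_of_iso e h1)
    (inferInstance : Mono (kernelSubobject π).arrow) (inferInstance : Epi π)

lemma shortExact_cokernel {X Y : B} (m : X ⟶ Y) [Mono m] :
    (ShortComplex.mk m (cokernel.π m) (cokernel.condition m)).ShortExact :=
  ShortComplex.ShortExact.mk' (ShortComplex.exact_of_g_is_cokernel _ (cokernelIsCokernel m))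
    (inferInstance : Mono m) (inferInstance : Epi (cokernel.π m))

lemma injective_cokernel_of_mono {U V : B} (m : U ⟶ V) [Mono m] [Injective U] [Injective V] :
    Injective (cokernel m) := by
  let r : V ⟶ U := Injective.factorThru (𝟙 U) m
  have hr : m ≫ r = 𝟙 U := Injective.comp_factorThru _ _
  let i : cokernel m ⟶ V := cokernel.desc m (𝟙 V - r ≫ m) (by
    rw [Preadditive.comp_sub, Category.comp_id, ← Category.assoc, hr, Category.id_comp, sub_self])
  have hi : i ≫ cokernel.π m = 𝟙 _ := by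
    rw [← cancel_epi (cokernel.π m), cokernel.π_desc_assoc, Preadditive.sub_comp, Category.id_comp,
      Category.assoc, cokernel.condition, comp_zero, sub_zero, Category.comp_id]
  exact SplitSESKInj.injective_of_retract i (cokernel.π m) hi

section Quot

variable {I : Type w} [Preorder I] {X : B} (G : I → Subobject X) (hG : Antitone G)

/-- the functor `x ↦ X / G x` -/
noncomputable def quotFunctor : Iᵒᵖ ⥤ B where
  obj x := cokernel (G x.unop).arrow
  map {x y} f := cokernel.desc _ (cokernel.π (G y.unop).arrow) (by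
    have h : G x.unop ≤ G y.unop := hG (leOfHom f.unop)
    rw [← Subobject.ofLE_arrow h, Category.assoc, cokernel.condition, comp_zero])
  map_id x := by
    apply coequalizer.hom_ext
    simp
  map_comp f g := by
    apply coequalizer.hom_ext
    simp

@[reassoc (attr := simp)]
lemma π_quotFunctor_map {x y : Iᵒᵖ} (f : x ⟶ y) :
    cokernel.π (G x.unop).arrow ≫ (quotFunctor G hG).map f = cokernel.π (G y.unop).arrow :=
  cokernel.π_desc _ _ _

end Quot

end General

section Cx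

variable {T : Type w} [Category.{v} T] {A : Type u} [Category.{v} A] [Abelian A]

/-- a functor to complexes, as a complex of functors -/
def toCx (Φ : T ⥤ CochainComplex A ℤ) : CochainComplex (T ⥤ A) ℤ where
  X n := Φ ⋙ HomologicalComplex.eval A (ComplexShape.up ℤ) n
  d n m :=
    { app := fun t => (Φ.obj t).d n m
      naturality := fun s t f => (Φ.map f).comm n m }
  shape n m h := by
    ext t
    exact (Φ.obj t).shape n m h
  d_comp_d' n m k _ _ := by
    ext t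
    exact (Φ.obj t).d_comp_d n m k

variable (J : CochainComplex (T ⥤ A) ℤ)

/-- evaluation of a complex of functors -/
noncomputable abbrev evCx (t : T) : CochainComplex A ℤ :=
  (((evaluation T A).obj t).mapHomologicalComplex (ComplexShape.up ℤ)).obj J

/-- transition maps -/
noncomputable def evMap {s t : T} (f : s ⟶ t) : evCx J s ⟶ evCx J t where
  f n := (J.X n).map f
  comm' n m _ := (J.d n m).naturality f

@[simp] lemma evMap_f {s t : T} (f : s ⟶ t) (n : ℤ) : (evMap J f).f n = (J.X n).map f := rfl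

lemma evMap_comp {s t r : T} (f : s ⟶ t) (g : t ⟶ r) : evMap J (f ≫ g) = evMap J f ≫ evMap J g := by
  ext n
  exact (J.X n).map_comp f g

/-- evaluation of a morphism out of `toCx Φ` -/
noncomputable def evHom (Φ : T ⥤ CochainComplex A ℤ) (φ : toCx Φ ⟶ J) (t : T) :
    Φ.obj t ⟶ evCx J t where
  f n := (φ.f n).app t
  comm' n m _ := by
    have := congr_app (φ.comm n m) t
    exact this

@[simp] lemma evHom_f (Φ : T ⥤ CochainComplex A ℤ) (φ : toCx Φ ⟶ J) (t : T) (n : ℤ) :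
    (evHom J Φ φ t).f n = (φ.f n).app t := rfl

lemma evHom_naturality (Φ : T ⥤ CochainComplex A ℤ) (φ : toCx Φ ⟶ J) {s t : T} (f : s ⟶ t) :
    Φ.map f ≫ evHom J Φ φ t = evHom J Φ φ s ≫ evMap J f := by
  ext n
  exact (φ.f n).naturality f

lemma quasiIso_evHom (Φ : T ⥤ CochainComplex A ℤ) (φ : toCx Φ ⟶ J) [QuasiIso φ] (t : T) :
    QuasiIso (evHom J Φ φ t) := by
  have h : QuasiIso ((((evaluation T A).obj t).mapHomologicalComplex (ComplexShape.up ℤ)).map φ) :=
    inferInstance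
  exact h

end Cx

section KInj

variable {A : Type u} [Category.{v} A] [Abelian A]

lemma isKInjective_cokernel {U V : CochainComplex A ℤ} (m : U ⟶ V) [Mono m]
    (hU : U.IsKInjective) (hV : V.IsKInjective) (hUn : ∀ n, Injective (U.X n)) :
    (cokernel m).IsKInjective :=
  SplitSESKInj.isKInjective_X₃ _
    (SplitSESKInj.splittingOfInjective _ (shortExact_cokernel m) hUn) hU hV

lemma injective_cokernel_X {U V : CochainComplex A ℤ} (m : U ⟶ V) [Mono m]
    (hUn : ∀ n, Injective (U.X n)) (n : ℤ) (hV : Injective (V.X n)) :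
    Injective ((cokernel m).X n) :=
  SplitSESKInj.injective_X₃ _
    (SplitSESKInj.splittingOfInjective _ (shortExact_cokernel m) hUn) n hV

end KInj

section Main

open Opposite

variable {A : Type u} [Category.{v} A] [Abelian A]

/-- the index type `ℤ ∪ {⊤}`, in the universe `v` -/
abbrev Idx : Type v := ULift.{v} (WithTop ℤ)

/-- the top element -/
def top : Idx.{v} := ⟨⊤⟩
/-- the integers -/
def fin (p : ℤ) : Idx.{v} := ⟨(p : WithTop ℤ)⟩

lemma fin_le_top (p : ℤ) : fin.{v} p ≤ top := by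
  show (p : WithTop ℤ) ≤ ⊤
  exact le_top

lemma fin_le_fin {p q : ℤ} (h : p ≤ q) : fin.{v} p ≤ fin q := by
  show (p : WithTop ℤ) ≤ (q : WithTop ℤ)
  exact WithTop.coe_le_coe.2 h

noncomputable instance isGrothendieckAbelian_functor [IsGrothendieckAbelian.{v} A] :
    IsGrothendieckAbelian.{v} (Idx.{v}ᵒᵖ ⥤ A) :=
  { ab5OfSize := ⟨fun J _ _ => inferInstance⟩ }

variable (K : SpSeq.FilCx A)

/-- the filtration extended by `⊥` at `⊤` -/
noncomputable def G : Idx.{v} → Subobject K.obj := fun x =>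
  match x.down with
  | none => ⊥
  | some p => K.fil p

lemma G_anti : Antitone (G K) := by
  intro x y h
  obtain ⟨x⟩ := x
  obtain ⟨y⟩ := y
  induction y using WithTop.recTopCoe with
  | top => exact bot_le
  | coe q =>
    induction x using WithTop.recTopCoe with
    | top =>
      have h' : (⊤ : WithTop ℤ) ≤ (q : WithTop ℤ) := h
      exact absurd h' (by simp)
    | coe p => exact K.anti (WithTop.coe_le_coe.1 h)

/-- the system of quotients `K/F^p K`, with `K` itself at `⊤` -/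
noncomputable def Q : Idx.{v}ᵒᵖ ⥤ CochainComplex A ℤ := quotFunctor (G K) (G_anti K)

/-- `K ≅ K/0` -/
noncomputable def cTop : K.obj ⟶ (Q K).obj (op top) := cokernel.π (G K top).arrow

instance isIso_cTop : IsIso (cTop K) :=
  isIso_cokernel_π_of_eq_zero (Subobject.bot_arrow (B := K.obj))

lemma cTop_map (p : ℤ) :
    cTop K ≫ (Q K).map (homOfLE (fin_le_top p)).op = cokernel.π (K.fil p).arrow :=
  π_quotFunctor_map (G K) (G_anti K) (homOfLE (fin_le_top p)).op

variable (𝕁 : CochainComplex (Idx.{v}ᵒᵖ ⥤ A) ℤ)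

/-- the evaluations of `𝕁` -/
noncomputable abbrev Jx (x : Idx.{v}) : CochainComplex A ℤ := evCx 𝕁 (op x)

/-- `J ⟶ J/F^p` -/
noncomputable def πp (p : ℤ) : Jx 𝕁 top ⟶ Jx 𝕁 (fin p) := evMap 𝕁 (homOfLE (fin_le_top p)).op

/-- `J/F^q ⟶ J/F^p` -/
noncomputable def ρ {p q : ℤ} (h : p ≤ q) : Jx 𝕁 (fin q) ⟶ Jx 𝕁 (fin p) :=
  evMap 𝕁 (homOfLE (fin_le_fin h)).op

lemma πp_ρ {p q : ℤ} (h : p ≤ q) : πp 𝕁 q ≫ ρ 𝕁 h = πp 𝕁 p := by
  rw [πp, ρ, ← evMap_comp]
  rfl

/-- the filtered complex attached to `𝕁` -/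
noncomputable def Jfil : SpSeq.FilCx A where
  obj := Jx 𝕁 top
  fil p := kernelSubobject (πp 𝕁 p)
  anti := fun p q h => by
    show kernelSubobject (πp 𝕁 q) ≤ kernelSubobject (πp 𝕁 p)
    rw [← πp_ρ 𝕁 h]
    exact kernelSubobject_comp_le _ _

section Inj

variable (hinj : ∀ n, Injective (𝕁.X n))

include hinj in
lemma exists_section_πp (p n : ℤ) :
    ∃ s : (Jx 𝕁 (fin p)).X n ⟶ (Jx 𝕁 top).X n, s ≫ (πp 𝕁 p).f n = 𝟙 _ := by
  haveI := hinj n
  exact FunCatInj.exists_section (𝕁.X n) (homOfLE (fin_le_top p)).op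

include hinj in
lemma epi_πp (p : ℤ) : Epi (πp 𝕁 p) := by
  haveI : ∀ n, Epi ((πp 𝕁 p).f n) := fun n => by
    obtain ⟨s, hs⟩ := exists_section_πp 𝕁 hinj p n
    exact epi_of_epi_fac hs
  exact HomologicalComplex.epi_of_epi_f _ inferInstance

/-- the short complex `F^p J → J → J/F^p` -/
noncomputable def Sp (p : ℤ) : ShortComplex (CochainComplex A ℤ) :=
  ShortComplex.mk (kernelSubobject (πp 𝕁 p)).arrow (πp 𝕁 p) (kernelSubobject_arrow_comp _)

include hinj in
lemma Sp_shortExact (p : ℤ) : (Sp 𝕁 p).ShortExact := by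
  haveI := epi_πp 𝕁 hinj p
  exact shortExact_kernelSubobject _

/-- degreewise splittings of `Sp` -/
noncomputable def spl (p n : ℤ) :
    ((Sp 𝕁 p).map (HomologicalComplex.eval A (ComplexShape.up ℤ) n)).Splitting :=
  SplitSESKInj.splittingOfSection _ (Sp_shortExact 𝕁 hinj p)
    (fun n => (exists_section_πp 𝕁 hinj p n).choose)
    (fun n => (exists_section_πp 𝕁 hinj p n).choose_spec) n

include hinj in
lemma injective_Jx (x : Idx.{v}) (n : ℤ) : Injective ((Jx 𝕁 x).X n) := by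
  haveI := hinj n
  exact FunCatInj.injective_obj (𝕁.X n) (op x)

lemma isKInjective_Jx (h𝕁 : 𝕁.IsKInjective) (x : Idx.{v}) : (Jx 𝕁 x).IsKInjective :=
  FunCatInj.isKInjective_eval 𝕁 h𝕁 (op x)

include hinj in
lemma injective_step (p n : ℤ) : Injective (((Jfil 𝕁).step p).X n) :=
  SplitSESKInj.injective_X₁ (Sp 𝕁 p) (spl 𝕁 hinj p) n (injective_Jx 𝕁 hinj top n)

include hinj in
lemma isKInjective_step (h𝕁 : 𝕁.IsKInjective) (p : ℤ) : ((Jfil 𝕁).step p).IsKInjective :=
  SplitSESKInj.isKInjective_X₁ (Sp 𝕁 p) (spl 𝕁 hinj p) (isKInjective_Jx 𝕁 h𝕁 top)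
    (isKInjective_Jx 𝕁 h𝕁 (fin p))

include hinj in
lemma isKInjective_quot (h𝕁 : 𝕁.IsKInjective) (p : ℤ) : ((Jfil 𝕁).quot p).IsKInjective :=
  isKInjective_cokernel ((Jfil 𝕁).fil p).arrow (isKInjective_step 𝕁 hinj h𝕁 p)
    (isKInjective_Jx 𝕁 h𝕁 top) (injective_step 𝕁 hinj p)

include hinj in
lemma isKInjective_cokernel_stepLE (h𝕁 : 𝕁.IsKInjective) {p p' : ℤ} (h : p ≤ p') :
    (cokernel ((Jfil 𝕁).stepLE h)).IsKInjective :=
  isKInjective_cokernel ((Jfil 𝕁).stepLE h) (isKInjective_step 𝕁 hinj h𝕁 p')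
    (isKInjective_step 𝕁 hinj h𝕁 p) (injective_step 𝕁 hinj p')

include hinj in
lemma injective_XFil_step (n p : ℤ) : Injective (((Jfil 𝕁).XFil n).step p) :=
  haveI := injective_step 𝕁 hinj p n
  Injective.of_iso (Subobject.underlyingIso (((Jfil 𝕁).fil p).arrow.f n)).symm inferInstance

include hinj in
lemma injective_XFil_quot (n p : ℤ) : Injective (((Jfil 𝕁).XFil n).quot p) := by
  haveI := injective_XFil_step 𝕁 hinj n p
  haveI : Injective ((Jfil 𝕁).XFil n).obj := injective_Jx 𝕁 hinj top n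
  exact injective_cokernel_of_mono _

include hinj in
lemma injective_XFil_cokernel (n : ℤ) {p p' : ℤ} (h : p ≤ p') :
    Injective (cokernel (((Jfil 𝕁).XFil n).stepLE h)) := by
  haveI := injective_XFil_step 𝕁 hinj n p
  haveI := injective_XFil_step 𝕁 hinj n p'
  exact injective_cokernel_of_mono _

end Inj

section Map

variable (φ : toCx (Q K) ⟶ 𝕁)

/-- the underlying map of `K ⟶ J` -/
noncomputable def jhom : K.obj ⟶ Jx 𝕁 top := cTop K ≫ evHom 𝕁 (Q K) φ (op top)

/-- `K/F^p ⟶ J/F^p` -/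
noncomputable def φp (p : ℤ) : K.quot p ⟶ Jx 𝕁 (fin p) := evHom 𝕁 (Q K) φ (op (fin p))

lemma jhom_πp (p : ℤ) :
    jhom K 𝕁 φ ≫ πp 𝕁 p = cokernel.π (K.fil p).arrow ≫ φp K 𝕁 φ p := by
  rw [jhom, Category.assoc, πp, ← evHom_naturality, ← Category.assoc, cTop_map]
  rfl

lemma quasiIso_jhom [QuasiIso φ] : QuasiIso (jhom K 𝕁 φ) := by
  haveI := quasiIso_evHom 𝕁 (Q K) φ (op top)
  rw [jhom]
  infer_instance

lemma quasiIso_φp [QuasiIso φ] (p : ℤ) : QuasiIso (φp K 𝕁 φ p) :=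
  quasiIso_evHom 𝕁 (Q K) φ (op (fin p))

lemma fil_arrow_jhom_πp (p : ℤ) : ((K.fil p).arrow ≫ jhom K 𝕁 φ) ≫ πp 𝕁 p = 0 := by
  rw [Category.assoc, jhom_πp, cokernel.condition_assoc, zero_comp]

/-- the morphism of filtered complexes `K ⟶ J` -/
noncomputable def jFil : K ⟶ Jfil 𝕁 :=
  ⟨jhom K 𝕁 φ, fun p => (le_pullback_iff _ _ _).2
    (kernelSubobject_factors _ _ (fil_arrow_jhom_πp K 𝕁 φ p))⟩

/-- `F^p K ⟶ F^p J` -/
noncomputable def jp (p : ℤ) : K.step p ⟶ (Jfil 𝕁).step p :=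
  factorThruKernelSubobject (πp 𝕁 p) ((K.fil p).arrow ≫ jhom K 𝕁 φ) (fil_arrow_jhom_πp K 𝕁 φ p)

@[reassoc]
lemma jp_arrow (p : ℤ) :
    jp K 𝕁 φ p ≫ ((Jfil 𝕁).fil p).arrow = (K.fil p).arrow ≫ jhom K 𝕁 φ :=
  factorThruKernelSubobject_comp_arrow _ _ _

lemma jp_stepLE {p p' : ℤ} (h : p ≤ p') :
    jp K 𝕁 φ p' ≫ (Jfil 𝕁).stepLE h = K.stepLE h ≫ jp K 𝕁 φ p := by
  have h1 : (Jfil 𝕁).stepLE h ≫ ((Jfil 𝕁).fil p).arrow = ((Jfil 𝕁).fil p').arrow :=
    Subobject.ofLE_arrow _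
  have h2 : K.stepLE h ≫ (K.fil p).arrow = (K.fil p').arrow := Subobject.ofLE_arrow _
  rw [← cancel_mono ((Jfil 𝕁).fil p).arrow, Category.assoc, Category.assoc, jp_arrow, h1, jp_arrow]
  have h3 := congrArg (fun t => t ≫ jhom K 𝕁 φ) h2
  simp only [Category.assoc] at h3
  exact h3.symm

/-- `F^p K/F^{p'} K ⟶ F^p J/F^{p'} J` -/
noncomputable def jg {p p' : ℤ} (h : p ≤ p') :
    cokernel (K.stepLE h) ⟶ cokernel ((Jfil 𝕁).stepLE h) :=
  cokernel.map _ _ (jp K 𝕁 φ p') (jp K 𝕁 φ p) (jp_stepLE K 𝕁 φ h).symm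

lemma π_jg {p p' : ℤ} (h : p ≤ p') :
    cokernel.π (K.stepLE h) ≫ jg K 𝕁 φ h = jp K 𝕁 φ p ≫ cokernel.π ((Jfil 𝕁).stepLE h) :=
  cokernel.π_desc _ _ _

/-- `K/F^p K ⟶ J/F^p J` -/
noncomputable def jq (p : ℤ) : K.quot p ⟶ (Jfil 𝕁).quot p :=
  cokernel.map _ _ (jp K 𝕁 φ p) (jhom K 𝕁 φ) (jp_arrow K 𝕁 φ p).symm

lemma π_jq (p : ℤ) :
    cokernel.π (K.fil p).arrow ≫ jq K 𝕁 φ p =
      jhom K 𝕁 φ ≫ cokernel.π ((Jfil 𝕁).fil p).arrow :=
  cokernel.π_desc _ _ _

variable (hinj : ∀ n, Injective (𝕁.X n)) [QuasiIso φ]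

include hinj in
lemma quasiIso_jp (p : ℤ) : QuasiIso (jp K 𝕁 φ p) := by
  let S₁ : ShortComplex (CochainComplex A ℤ) :=
    ShortComplex.mk (K.fil p).arrow (cokernel.π (K.fil p).arrow) (cokernel.condition _)
  let ψ : S₁ ⟶ Sp 𝕁 p :=
    { τ₁ := jp K 𝕁 φ p
      τ₂ := jhom K 𝕁 φ
      τ₃ := φp K 𝕁 φ p
      comm₁₂ := jp_arrow K 𝕁 φ p
      comm₂₃ := jhom_πp K 𝕁 φ p }
  exact SESQis.quasiIso_τ₁ ψ (shortExact_cokernel _) (Sp_shortExact 𝕁 hinj p)
    (quasiIso_jhom K 𝕁 φ) (quasiIso_φp K 𝕁 φ p)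

include hinj in
lemma quasiIso_jq (p : ℤ) : QuasiIso (jq K 𝕁 φ p) := by
  let S₁ : ShortComplex (CochainComplex A ℤ) :=
    ShortComplex.mk (K.fil p).arrow (cokernel.π (K.fil p).arrow) (cokernel.condition _)
  let S₂ : ShortComplex (CochainComplex A ℤ) :=
    ShortComplex.mk ((Jfil 𝕁).fil p).arrow (cokernel.π ((Jfil 𝕁).fil p).arrow)
      (cokernel.condition _)
  let ψ : S₁ ⟶ S₂ :=
    { τ₁ := jp K 𝕁 φ p
      τ₂ := jhom K 𝕁 φ
      τ₃ := jq K 𝕁 φ p
      comm₁₂ := jp_arrow K 𝕁 φ p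
      comm₂₃ := (π_jq K 𝕁 φ p).symm }
  exact HomologicalComplex.HomologySequence.quasiIso_τ₃ ψ (shortExact_cokernel _)
    (shortExact_cokernel _) (quasiIso_jp K 𝕁 φ hinj p) (quasiIso_jhom K 𝕁 φ)

include hinj in
lemma quasiIso_jg {p p' : ℤ} (h : p ≤ p') : QuasiIso (jg K 𝕁 φ h) := by
  let S₁ : ShortComplex (CochainComplex A ℤ) :=
    ShortComplex.mk (K.stepLE h) (cokernel.π (K.stepLE h)) (cokernel.condition _)
  let S₂ : ShortComplex (CochainComplex A ℤ) :=
    ShortComplex.mk ((Jfil 𝕁).stepLE h) (cokernel.π ((Jfil 𝕁).stepLE h)) (cokernel.condition _)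
  let ψ : S₁ ⟶ S₂ :=
    { τ₁ := jp K 𝕁 φ p'
      τ₂ := jp K 𝕁 φ p
      τ₃ := jg K 𝕁 φ h
      comm₁₂ := jp_stepLE K 𝕁 φ h
      comm₂₃ := (π_jg K 𝕁 φ h).symm }
  exact HomologicalComplex.HomologySequence.quasiIso_τ₃ ψ (shortExact_cokernel _)
    (shortExact_cokernel _) (quasiIso_jp K 𝕁 φ hinj p') (quasiIso_jp K 𝕁 φ hinj p)

end Map

end Main

end Groth.Agent.Lib.Helper32.FilKInj
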