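import Groth.Agent.Lib.Helper32.FilExt
import Groth.Agent.Lib.Helper32.HomotopyExt
import Mathlib.Algebra.Homology.HomologySequenceLemmas
import Mathlib.Algebra.Homology.HomologicalComplexAbelian

set_option autoImplicit false
universe v u
open CategoryTheory CategoryTheory.Limits Opposite

namespace Groth.Agent.Lib.Helper32.FilLevels

variable {A : Type u} [Category.{v} A] [Abelian A]

/-- evaluation at level `p`. -/
noncomputable abbrev ev (p : ℤ) : FilD.FilF A ⥤ A :=
  (FilD.IsFinFil A).ι ⋙ (evaluation ℤᵒᵖ A).obj (op p)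

instance (p : ℤ) : (ev (A := A) p).Additive := inferInstance

/-- the inclusion of level `p + 1` in level `p`. -/
noncomputable def stepNat (p : ℤ) : ev (A := A) (p + 1) ⟶ ev p :=
  Functor.whiskerLeft _ ((evaluation ℤᵒᵖ A).map (FilD.stepHom p))

/-- the projection from level `p` to the `p`-th graded piece. -/
noncomputable def piNat (p : ℤ) : ev (A := A) p ⟶ FilD.grF A p where
  app F := cokernel.π (F.obj.map (FilD.stepHom p))
  naturality F G φ := by
    simp [FilD.gr]

variable (K : CochainComplex (FilD.FilF A) ℤ)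

/-- the complex of level `p`. -/
noncomputable abbrev levelCx (p : ℤ) : CochainComplex A ℤ :=
  ((ev p).mapHomologicalComplex _).obj K

/-- the short exact sequence `0 → F^{p+1}K → F^pK → gr^p K → 0`. -/
noncomputable def sesCx (p : ℤ) : ShortComplex (CochainComplex A ℤ) :=
  ShortComplex.mk ((NatTrans.mapHomologicalComplex (stepNat p) _).app K)
    ((NatTrans.mapHomologicalComplex (piNat p) _).app K) (by
      ext n
      simp only [stepNat, piNat, HomologicalComplex.comp_f, NatTrans.mapHomologicalComplex_app_f,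
        Functor.whiskerLeft_app, evaluation_map_app, HomologicalComplex.zero_f]
      exact cokernel.condition _)

lemma sesCx_shortExact (p : ℤ) : (sesCx K p).ShortExact := by
  apply HomologicalComplex.shortExact_of_degreewise_shortExact
  intro n
  haveI : Mono ((K.X n).obj.map (FilD.stepHom p)) := (K.X n).property.1 _
  exact { exact := ShortComplex.exact_cokernel ((K.X n).obj.map (FilD.stepHom p))
          mono_f := (inferInstance : Mono ((K.X n).obj.map (FilD.stepHom p)))
          epi_g := (inferInstance : Epi (cokernel.π ((K.X n).obj.map (FilD.stepHom p)))) }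

lemma levelCx_exactAt (hK : FilD.IsFilteredAcyclic K) (n p : ℤ) : (levelCx K p).ExactAt n := by
  obtain ⟨b, hb⟩ := (K.X n).property.2.1
  suffices H : ∀ (m : ℕ) (p : ℤ), b ≤ p + m → (levelCx K p).ExactAt n from
    H (b - p).toNat p (by omega)
  intro m
  induction m with
  | zero =>
    intro p hp
    exact HomologicalComplex.ExactAt.of_isZero (hb p (by simpa using hp))
  | succ m ih =>
    intro p hp
    exact (sesCx_shortExact K p).exactAt_X₂ n (ih (p + 1) (by push_cast at hp; omega)) (hK p n)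

/-- levelwise exactness of a filtered acyclic complex. -/
lemma exact_level (hK : FilD.IsFilteredAcyclic K) (i j k : ℤ) (hij : i + 1 = j) (hjk : j + 1 = k)
    (p : ℤ) :
    (ShortComplex.mk ((K.d i j).hom.app (op p)) ((K.d j k).hom.app (op p)) (by
      rw [← NatTrans.comp_app, ← ObjectProperty.FullSubcategory.comp_hom, K.d_comp_d]; rfl)).Exact := by
  have := levelCx_exactAt K hK j p
  rw [HomologicalComplex.exactAt_iff' _ i j k (by simp [← hij]) (by simp [← hjk])] at this
  exact this

lemma d_comp_d_app (i j k : ℤ) (p : ℤ) :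
    (K.d i j).hom.app (op p) ≫ (K.d j k).hom.app (op p) = 0 := by
  rw [← NatTrans.comp_app, ← ObjectProperty.FullSubcategory.comp_hom, K.d_comp_d]; rfl

open FilExt in
/-- the strictness condition `star` of `FilExt.exists_extension` for a filtered acyclic complex. -/
lemma star_of_acyclic (hK : FilD.IsFilteredAcyclic K) (n : ℤ) (p q : ℤ) (h : p ≤ q) (W : A)
    (x : W ⟶ (K.X (n + 1)).obj.obj (op p)) (y : W ⟶ (K.X (n + 2)).obj.obj (op q))
    (hxy : x ≫ (K.d (n + 1) (n + 2)).hom.app (op p) = y ≫ tr (K.X (n + 2)).obj h) :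
    ∃ (W' : A) (π : W' ⟶ W) (_ : Epi π) (x' : W' ⟶ (K.X (n + 1)).obj.obj (op q))
      (w : W' ⟶ (K.X n).obj.obj (op p)),
      π ≫ y = x' ≫ (K.d (n + 1) (n + 2)).hom.app (op q) ∧
        π ≫ x = x' ≫ tr (K.X (n + 1)).obj h + w ≫ (K.d n (n + 1)).hom.app (op p) := by
  have e1 := exact_level K hK (n + 1) (n + 2) (n + 3) (by ring) (by ring) q
  have e2 := exact_level K hK n (n + 1) (n + 2) rfl (by ring) p
  haveI : Mono (tr (K.X (n + 3)).obj h) := (K.X (n + 3)).property.1 _
  have hy : y ≫ (K.d (n + 2) (n + 3)).hom.app (op q) = 0 := by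
    rw [← cancel_mono (tr (K.X (n + 3)).obj h), Category.assoc,
      ← naturality_tr (K.d (n + 2) (n + 3)).hom h, ← Category.assoc, ← hxy, Category.assoc,
      zero_comp, d_comp_d_app, comp_zero]
  obtain ⟨W₁, π₁, hπ₁, x₁, hx₁⟩ := e1.exact_up_to_refinements y hy
  let v := π₁ ≫ x - x₁ ≫ tr (K.X (n + 1)).obj h
  have hv : v ≫ (K.d (n + 1) (n + 2)).hom.app (op p) = 0 := by
    simp only [v, Preadditive.sub_comp, Category.assoc]
    rw [hxy, naturality_tr (K.d (n + 1) (n + 2)).hom h, ← Category.assoc, hx₁, Category.assoc,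
      ← Category.assoc x₁, sub_self]
  obtain ⟨W₂, π₂, hπ₂, w, hw⟩ := e2.exact_up_to_refinements v hv
  refine ⟨W₂, π₂ ≫ π₁, epi_comp _ _, π₂ ≫ x₁, w, ?_, ?_⟩
  · rw [Category.assoc, hx₁, Category.assoc]
  · have : π₂ ≫ π₁ ≫ x = π₂ ≫ v + π₂ ≫ x₁ ≫ tr (K.X (n + 1)).obj h := by
      simp only [v, Preadditive.comp_sub]
      abel
    rw [Category.assoc, this, hw, Category.assoc]
    abel

/-- A morphism from a filtered acyclic complex to a bounded below complex of filtered injective
objects is null-homotopic. -/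
theorem nonempty_homotopy_zero (K I : CochainComplex (FilD.FilF A) ℤ)
    (hK : FilD.IsFilteredAcyclic K) (a : ℤ) [I.IsStrictlyGE a]
    (hI : ∀ n, FilD.IsFilteredInjective (I.X n)) (φ : K ⟶ I) : Nonempty (Homotopy φ 0) := by
  apply HomotopyExt.nonempty_homotopy_zero φ a
  intro n u hu
  obtain ⟨b, hb⟩ := (K.X (n + 2)).property.2.1
  have hψ : (K.d n (n + 1)).hom ≫ u.hom = 0 := by
    rw [← ObjectProperty.FullSubcategory.comp_hom, hu]; rfl
  have hψb : ∀ p : ℤ, b ≤ p → u.hom.app (op p) = 0 := by
    intro p hp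
    have hex := exact_level K hK n (n + 1) (n + 2) rfl (by ring) p
    haveI : Epi ((K.d n (n + 1)).hom.app (op p)) := hex.epi_f ((hb p hp).eq_of_tgt _ _)
    rw [← cancel_epi ((K.d n (n + 1)).hom.app (op p)), comp_zero, ← NatTrans.comp_app, hψ]; rfl
  obtain ⟨h, hh⟩ := FilExt.exists_extension (K.d n (n + 1)).hom (K.d (n + 1) (n + 2)).hom
    (FilExt.injective_obj _ (hI (n + 1))) (star_of_acyclic K hK n) u.hom hψ b hb hψb
  exact ⟨ObjectProperty.homMk h, ObjectProperty.hom_ext _ hh⟩

end Groth.Agent.Lib.Helper32.FilLevels
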