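import Groth.Agent.Lib.Helper32.FilCost
import Groth.Agent.Lib.Helper32.FilCok

/-! Filtered injective resolutions of bounded below complexes of `FilD.FilF A` (helper32). -/

set_option autoImplicit false
universe v u
open CategoryTheory CategoryTheory.Limits Opposite ZeroObject

namespace Groth.Agent.Lib.Helper32.FilRes

variable {A : Type u} [Category.{v} A] [Abelian A] [EnoughInjectives A]

theorem exists_resolution (K : CochainComplex (FilD.FilF A) ℤ) (a : ℤ) [K.IsStrictlyGE a] :
    ∃ (I : CochainComplex (FilD.FilF A) ℤ) (φ : K ⟶ I), I.IsStrictlyGE a ∧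
      (∀ n, FilD.IsFilteredInjective (I.X n)) ∧ FilD.IsFilteredQuasiIso φ ∧
      ∀ n, Mono (φ.f n) ∧ FilD.IsStrict (φ.f n) := by
  obtain ⟨I, φ, hI, hinj, hmono, hq⟩ :=
    GrRes.exists_of_isStrictlyGE (G := fun q : ℤ => FilD.grF A q) (I := FilD.IsFilteredInjective)
      FilCost.exists_grMono
      (fun P X Y ψ φ h hex => FilCok.exists_grCokernel ψ φ h hex)
      ⟨0, isZero_zero _, fun q => ((FilD.grF A q).map_isZero (isZero_zero _)).injective⟩ K a
  exact ⟨I, φ, hI, hinj, hq, fun n => FilCost.mono_of_gr_mono (φ.f n) (hmono n)⟩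

end Groth.Agent.Lib.Helper32.FilRes
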