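import Groth.Agent.Lib.Helper32.FilLevels
import Mathlib.CategoryTheory.Abelian.Refinements

set_option autoImplicit false
universe v u
open CategoryTheory CategoryTheory.Limits Opposite

namespace Groth.Agent.Lib.Helper32.FilStrict

open FilExt FilLevels

section General
variable {A : Type u} [Category.{v} A] [Abelian A]

/-- If `π ≫ m` factors through the subobject `Q` with `π` epi, so does `m`. -/
lemma factors_of_epi_comp {B W W' : A} (Q : Subobject B) (m : W ⟶ B) (π : W' ⟶ W) [Epi π]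
    (h : Q.Factors (π ≫ m)) : Q.Factors m := by
  have h0 : m ≫ cokernel.π Q.arrow = 0 := by
    rw [← cancel_epi π, comp_zero, ← Category.assoc, ← Subobject.factorThru_arrow Q _ h,
      Category.assoc, cokernel.condition, comp_zero]
  have h1 := Abelian.monoLift_comp Q.arrow m h0
  rw [← h1]
  exact Subobject.factors_comp_arrow _

/-- `P ≤ Q` as soon as `P.arrow` factors through `Q` after an epi. -/
lemma le_of_epi_factors {B W' : A} (P Q : Subobject B) (π : W' ⟶ (P : A)) [Epi π]
    (h : Q.Factors (π ≫ P.arrow)) : P ≤ Q := by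
  have h' := factors_of_epi_comp Q P.arrow π h
  exact Subobject.le_of_comm (Q.factorThru P.arrow h') (Subobject.factorThru_arrow _ _ _)

/-- a morphism factoring through `imageSubobject f` lifts along `f` up to refinements. -/
lemma exists_lift_of_factors_image {X B W : A} (f : X ⟶ B) (m : W ⟶ B)
    (h : (imageSubobject f).Factors m) :
    ∃ (W' : A) (π : W' ⟶ W) (_ : Epi π) (x : W' ⟶ X), π ≫ m = x ≫ f := by
  obtain ⟨W', π, hπ, x, hx⟩ := surjective_up_to_refinements_of_epi (factorThruImageSubobject f)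
    ((imageSubobject f).factorThru m h)
  refine ⟨W', π, hπ, x, ?_⟩
  rw [← Subobject.factorThru_arrow _ m h, ← Category.assoc, hx, Category.assoc,
    imageSubobject_arrow_comp]

end General

section FilF
variable {A : Type u} [Category.{v} A] [Abelian A]

variable (S : ShortComplex (FilD.FilF A)) (hS : ∀ p : ℤ, (S.map (FilD.grF A p)).Exact)

lemma app_comp_app (p : ℤ) : S.f.hom.app (op p) ≫ S.g.hom.app (op p) = 0 := by
  rw [← NatTrans.comp_app, ← ObjectProperty.FullSubcategory.comp_hom, S.zero]; rfl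

/-- the projection to the graded piece. -/
noncomputable def grπ (F : FilD.FilF A) (p : ℤ) : F.obj.obj (op p) ⟶ (FilD.grF A p).obj F :=
  cokernel.π (F.obj.map (FilD.stepHom p))

instance (F : FilD.FilF A) (p : ℤ) : Epi (grπ F p) :=
  coequalizer.π_epi

lemma step_grπ (F : FilD.FilF A) (p : ℤ) : F.obj.map (FilD.stepHom p) ≫ grπ F p = 0 :=
  cokernel.condition _

lemma grπ_exact (F : FilD.FilF A) (p : ℤ) :
    (ShortComplex.mk (F.obj.map (FilD.stepHom p)) (grπ F p) (step_grπ F p)).Exact :=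
  ShortComplex.exact_cokernel _

lemma pi_naturality {F G : FilD.FilF A} (φ : F ⟶ G) (p : ℤ) :
    φ.hom.app (op p) ≫ grπ G p = grπ F p ≫ (FilD.grF A p).map φ :=
  (piNat p).naturality φ

lemma step_naturality {F G : FilD.FilF A} (φ : F ⟶ G) (p : ℤ) :
    F.obj.map (FilD.stepHom p) ≫ φ.hom.app (op p) =
      φ.hom.app (op (p + 1)) ≫ G.obj.map (FilD.stepHom p) :=
  φ.hom.naturality _

include hS in
lemma descent (p : ℤ) {W : A} (y : W ⟶ S.X₂.obj.obj (op p))
    (hy : y ≫ S.g.hom.app (op p) ≫ grπ S.X₃ p = 0) :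
    ∃ (W' : A) (π : W' ⟶ W) (_ : Epi π) (x₀ : W' ⟶ S.X₁.obj.obj (op p))
      (y₁ : W' ⟶ S.X₂.obj.obj (op (p + 1))),
      π ≫ y = x₀ ≫ S.f.hom.app (op p) + y₁ ≫ S.X₂.obj.map (FilD.stepHom p) := by
  let ybar : W ⟶ (FilD.grF A p).obj S.X₂ := y ≫ grπ S.X₂ p
  have hybar : ybar ≫ (FilD.grF A p).map S.g = 0 := by
    simp only [ybar, Category.assoc]
    rw [← pi_naturality S.g p]
    exact hy
  obtain ⟨W₁, π₁, hπ₁, (xbar : W₁ ⟶ (FilD.grF A p).obj S.X₁),
    (hxbar : π₁ ≫ ybar = xbar ≫ (FilD.grF A p).map S.f)⟩ :=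
    (hS p).exact_up_to_refinements ybar hybar
  obtain ⟨W₂, π₂, hπ₂, x₀, hx₀⟩ := surjective_up_to_refinements_of_epi
    (grπ S.X₁ p) xbar
  let y'' : W₂ ⟶ S.X₂.obj.obj (op p) := π₂ ≫ π₁ ≫ y - x₀ ≫ S.f.hom.app (op p)
  have hy'' : y'' ≫ grπ S.X₂ p = 0 := by
    have h1 : π₁ ≫ y ≫ grπ S.X₂ p = xbar ≫ (FilD.grF A p).map S.f := hxbar
    simp only [y'', Preadditive.sub_comp, Category.assoc]
    rw [h1, pi_naturality S.f p, ← Category.assoc, hx₀, Category.assoc, sub_self]
  obtain ⟨W₃, π₃, hπ₃, y₁, hy₁⟩ :=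
    (grπ_exact S.X₂ p).exact_up_to_refinements y'' hy''
  refine ⟨W₃, π₃ ≫ π₂ ≫ π₁, epi_comp _ _, π₃ ≫ x₀, y₁, ?_⟩
  have h2 : π₃ ≫ y'' = y₁ ≫ S.X₂.obj.map (FilD.stepHom p) := hy₁
  rw [← h2]
  simp only [y'', Preadditive.comp_sub, Category.assoc]
  abel

/-- exactness at level `p`, in terms of refinements. -/
def LevelExact (p : ℤ) : Prop :=
  ∀ ⦃W : A⦄ (y : W ⟶ S.X₂.obj.obj (op p)), y ≫ S.g.hom.app (op p) = 0 →
    ∃ (W' : A) (π : W' ⟶ W) (_ : Epi π) (x : W' ⟶ S.X₁.obj.obj (op p)),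
      π ≫ y = x ≫ S.f.hom.app (op p)

lemma levelExact_iff (p : ℤ) : (S.map (ev p)).Exact ↔ LevelExact S p :=
  ShortComplex.exact_iff_exact_up_to_refinements _

include hS in
lemma levelExact (p : ℤ) : LevelExact S p := by
  obtain ⟨b, hb⟩ := S.X₂.property.2.1
  suffices H : ∀ (m : ℕ) (p : ℤ), b ≤ p + m → LevelExact S p from
    H (b - p).toNat p (by omega)
  intro m
  induction m with
  | zero =>
    intro p hp
    rw [← levelExact_iff]
    exact ShortComplex.exact_of_isZero_X₂ _ (hb p (by simpa using hp))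
  | succ m ih =>
    intro p hp W y hy0
    obtain ⟨W', π, hπ, x₀, y₁, h1⟩ := descent S hS p y (by
      rw [← Category.assoc, hy0, zero_comp])
    haveI : Mono (S.X₃.obj.map (FilD.stepHom p)) := S.X₃.property.1 _
    have hy₁ : y₁ ≫ S.g.hom.app (op (p + 1)) = 0 := by
      rw [← cancel_mono (S.X₃.obj.map (FilD.stepHom p)), Category.assoc, ← step_naturality S.g p,
        zero_comp, ← Category.assoc]
      have : y₁ ≫ S.X₂.obj.map (FilD.stepHom p) = π ≫ y - x₀ ≫ S.f.hom.app (op p) := by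
        rw [h1]; abel
      rw [this, Preadditive.sub_comp, Category.assoc, hy0, comp_zero, Category.assoc,
        app_comp_app, comp_zero, sub_self]
    obtain ⟨W₄, π₄, hπ₄, x₁, hx₁⟩ := ih (p + 1) (by push_cast at hp; omega) y₁ hy₁
    refine ⟨W₄, π₄ ≫ π, epi_comp _ _, π₄ ≫ x₀ + x₁ ≫ S.X₁.obj.map (FilD.stepHom p), ?_⟩
    rw [Category.assoc, h1, Preadditive.comp_add, Preadditive.add_comp, Category.assoc,
      Category.assoc, step_naturality S.f p, ← Category.assoc x₁, ← hx₁, Category.assoc]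

include hS in
lemma levels_exact (p : ℤ) : (S.map (ev p)).Exact :=
  (levelExact_iff S p).2 (levelExact S hS p)

omit S in
/-- a criterion for strictness, in terms of refinements. -/
lemma isStrict_of_lift {F G : FilD.FilF A} (φ : F ⟶ G)
    (H : ∀ (p q : ℤ) (h : p ≤ q) (W : A) (x : W ⟶ F.obj.obj (op p)) (y : W ⟶ G.obj.obj (op q)),
      x ≫ φ.hom.app (op p) = y ≫ tr G.obj h →
      ∃ (W' : A) (π : W' ⟶ W) (_ : Epi π) (x' : W' ⟶ F.obj.obj (op q)),
        π ≫ y = x' ≫ φ.hom.app (op q)) : FilD.IsStrict φ := by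
  intro p q h
  haveI : Mono (G.obj.map (homOfLE h).op) := G.property.1 _
  apply le_antisymm
  · apply le_inf
    · have : φ.hom.app (op q) ≫ G.obj.map (homOfLE h).op =
          F.obj.map (homOfLE h).op ≫ φ.hom.app (op p) := (φ.hom.naturality _).symm
      exact imageSubobject_le _ (F.obj.map (homOfLE h).op ≫
        factorThruImageSubobject (φ.hom.app (op p))) (by
          rw [Category.assoc, imageSubobject_arrow_comp, this])
    · exact imageSubobject_le _ (φ.hom.app (op q) ≫
        (Subobject.underlyingIso (G.obj.map (homOfLE h).op)).inv) (by simp)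
  · let P := imageSubobject (φ.hom.app (op p)) ⊓ Subobject.mk (G.obj.map (homOfLE h).op)
    have f1 : (imageSubobject (φ.hom.app (op p))).Factors P.arrow :=
      Subobject.factors_of_le _ inf_le_left P.factors_self
    have f2 : (Subobject.mk (G.obj.map (homOfLE h).op)).Factors P.arrow :=
      Subobject.factors_of_le _ inf_le_right P.factors_self
    obtain ⟨W₁, π₁, hπ₁, x, hx⟩ := exists_lift_of_factors_image _ _ f1
    let y₀ : (P : A) ⟶ G.obj.obj (op q) :=
      (Subobject.mk (G.obj.map (homOfLE h).op)).factorThru P.arrow f2 ≫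
        (Subobject.underlyingIso (G.obj.map (homOfLE h).op)).hom
    have hy₀ : y₀ ≫ tr G.obj h = P.arrow := by
      simp only [y₀, Category.assoc]
      rw [Subobject.underlyingIso_hom_comp_eq_mk, Subobject.factorThru_arrow]
    obtain ⟨W', π, hπ, x', hx'⟩ := H p q h W₁ x (π₁ ≫ y₀) (by
      rw [← hx, Category.assoc, hy₀])
    haveI : Epi (π ≫ π₁) := epi_comp _ _
    apply le_of_epi_factors P _ (π ≫ π₁)
    have : (π ≫ π₁) ≫ P.arrow = x' ≫ φ.hom.app (op q) ≫ G.obj.map (homOfLE h).op := by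
      rw [← hy₀, Category.assoc, ← Category.assoc π₁, ← Category.assoc π, hx', Category.assoc]
    rw [this]
    exact imageSubobject_factors_comp_self _ _

include hS in
lemma isStrict_f : FilD.IsStrict S.f := by
  apply isStrict_of_lift
  intro p q h W x y hxy
  haveI : Mono (tr S.X₃.obj h) := S.X₃.property.1 _
  have hy : y ≫ S.g.hom.app (op q) = 0 := by
    rw [← cancel_mono (tr S.X₃.obj h), Category.assoc, ← naturality_tr S.g.hom h,
      ← Category.assoc, ← hxy, Category.assoc, app_comp_app, comp_zero, zero_comp]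
  exact levelExact S hS q y hy

include hS in
lemma lift_g (k : ℕ) : ∀ (p q : ℤ) (h : p ≤ q), q = p + k → ∀ (W : A)
    (y : W ⟶ S.X₂.obj.obj (op p)) (z : W ⟶ S.X₃.obj.obj (op q)),
    y ≫ S.g.hom.app (op p) = z ≫ tr S.X₃.obj h →
    ∃ (W' : A) (π : W' ⟶ W) (_ : Epi π) (y' : W' ⟶ S.X₂.obj.obj (op q)),
      π ≫ z = y' ≫ S.g.hom.app (op q) := by
  induction k with
  | zero =>
    intro p q h hq W y z hyz
    obtain rfl : q = p := by simpa using hq
    rw [tr_self, Category.comp_id] at hyz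
    exact ⟨W, 𝟙 W, inferInstance, y, by rw [Category.id_comp, hyz]⟩
  | succ k ih =>
    intro p q h hq W y z hyz
    have hq' : p + 1 ≤ q := by push_cast at hq; omega
    have htr : tr S.X₃.obj h = tr S.X₃.obj hq' ≫ S.X₃.obj.map (FilD.stepHom p) :=
      (tr_comp S.X₃.obj (by omega : p ≤ p + 1) hq').symm
    obtain ⟨W', π, hπ, x₀, y₁, h1⟩ := descent S hS p y (by
      rw [← Category.assoc, hyz, htr, Category.assoc, Category.assoc, step_grπ, comp_zero,
        comp_zero])
    haveI : Mono (S.X₃.obj.map (FilD.stepHom p)) := S.X₃.property.1 _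
    have hy₁ : y₁ ≫ S.g.hom.app (op (p + 1)) = (π ≫ z) ≫ tr S.X₃.obj hq' := by
      rw [← cancel_mono (S.X₃.obj.map (FilD.stepHom p)), Category.assoc, ← step_naturality S.g p,
        ← Category.assoc]
      have : y₁ ≫ S.X₂.obj.map (FilD.stepHom p) = π ≫ y - x₀ ≫ S.f.hom.app (op p) := by
        rw [h1]; abel
      rw [this, Preadditive.sub_comp, Category.assoc, hyz, Category.assoc x₀, app_comp_app,
        comp_zero, sub_zero, htr]
      simp only [Category.assoc]
    obtain ⟨W'', π', hπ', y', hy'⟩ := ih (p + 1) q hq' (by push_cast at hq; omega) W' y₁ (π ≫ z) hy₁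
    exact ⟨W'', π' ≫ π, epi_comp _ _, y', by rw [Category.assoc, hy']⟩

include hS in
lemma isStrict_g : FilD.IsStrict S.g := by
  apply isStrict_of_lift
  intro p q h W y z hyz
  exact lift_g S hS (q - p).toNat p q h (by omega) W y z hyz

end FilF

end Groth.Agent.Lib.Helper32.FilStrict
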