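import Groth.Agent.Lib.Helper32.FilCok

/-! Canonical truncation `τ_{≥ a}` of complexes of `FilD.FilF A` whose graded pieces are acyclic in
degrees `< a` (helper32). -/

set_option autoImplicit false
universe v u
open CategoryTheory CategoryTheory.Limits Opposite ZeroObject

namespace Groth.Agent.Lib.Helper32.FilTruncGE

open FilExt FilLevels FilStrict FilCok

variable {A : Type u} [Category.{v} A] [Abelian A]

section DescFunctor

variable {X Y T : ℤᵒᵖ ⥤ A} (φ : X ⟶ Y) (χ : Y ⟶ T) (hχ : φ ≫ χ = 0)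

/-- the components of `cokDesc`. -/
noncomputable def cokDescApp (q : ℤᵒᵖ) : (cok φ).obj q ⟶ T.obj q :=
  cokernel.desc (φ.app q) (χ.app q) (by rw [← NatTrans.comp_app, hχ]; rfl)

lemma cokπ_descApp (q : ℤᵒᵖ) : cokπ φ q ≫ cokDescApp φ χ hχ q = χ.app q :=
  cokernel.π_desc _ _ _

/-- the universal property of the levelwise cokernel. -/
noncomputable def cokDesc : cok φ ⟶ T where
  app := cokDescApp φ χ hχ
  naturality q r f := by
    rw [← cancel_epi (cokπ φ q), ← Category.assoc, cokπ_map, Category.assoc, cokπ_descApp,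
      ← Category.assoc, cokπ_descApp, χ.naturality]

end DescFunctor

section Desc

variable {P X Y : FilD.FilF A} (ψ : P ⟶ X) (φ : X ⟶ Y) (h : ψ ≫ φ = 0)
  (hex : GrRes.GExact (fun q : ℤ => FilD.grF A q) ψ φ)

omit h hex in
lemma hom_comp_hom {T : FilD.FilF A} (χ : Y ⟶ T) (hχ : φ ≫ χ = 0) : φ.hom ≫ χ.hom = 0 := by
  rw [← ObjectProperty.FullSubcategory.comp_hom, hχ]; rfl

/-- the universal property of `cokF`. -/
noncomputable def cokFdesc {T : FilD.FilF A} (χ : Y ⟶ T) (hχ : φ ≫ χ = 0) : cokF ψ φ h hex ⟶ T :=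
  ObjectProperty.homMk (cokDesc φ.hom χ.hom (hom_comp_hom φ χ hχ))

lemma cokFπ_desc {T : FilD.FilF A} (χ : Y ⟶ T) (hχ : φ ≫ χ = 0) :
    cokFπ ψ φ h hex ≫ cokFdesc ψ φ h hex χ hχ = χ := by
  apply ObjectProperty.hom_ext
  ext q
  exact cokπ_descApp φ.hom χ.hom (hom_comp_hom φ χ hχ) q

lemma epi_gr_cokFπ (q : ℤ) : Epi ((FilD.grF A q).map (cokFπ ψ φ h hex)) := by
  haveI : Epi ((cokFπ ψ φ h hex).hom.app (op q)) :=
    (inferInstance : Epi (cokπ φ.hom (op q)))
  haveI : Epi (grπ Y q ≫ (FilD.grF A q).map (cokFπ ψ φ h hex)) := by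
    rw [← pi_naturality]
    exact epi_comp _ _
  exact epi_of_epi (grπ Y q) _

lemma cokF_hom_ext {T : FilD.FilF A} (f g : cokF ψ φ h hex ⟶ T)
    (hfg : cokFπ ψ φ h hex ≫ f = cokFπ ψ φ h hex ≫ g) : f = g := by
  apply ObjectProperty.hom_ext
  ext q
  haveI : Epi ((cokFπ ψ φ h hex).hom.app q) := (inferInstance : Epi (cokπ φ.hom q))
  rw [← cancel_epi ((cokFπ ψ φ h hex).hom.app q)]
  exact congrArg (fun k => k.hom.app q) hfg

end Desc

section Trunc

variable (K : CochainComplex (FilD.FilF A) ℤ)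
  (hex : GrRes.GExact (fun q : ℤ => FilD.grF A q) (K.d (Int.negSucc 1) (Int.negSucc 0))
    (K.d (Int.negSucc 0) (Int.ofNat 0)))

/-- the cokernel of `K⁻¹ ⟶ K⁰`. -/
noncomputable def B : FilD.FilF A := cokF _ _ (K.d_comp_d _ _ _) hex

/-- the projection `K⁰ ⟶ B`. -/
noncomputable def πB : K.X (Int.ofNat 0) ⟶ B K hex := cokFπ _ _ (K.d_comp_d _ _ _) hex

/-- the induced map `B ⟶ K¹`. -/
noncomputable def descB : B K hex ⟶ K.X (Int.ofNat 1) :=
  cokFdesc _ _ (K.d_comp_d _ _ _) hex (K.d (Int.ofNat 0) (Int.ofNat 1)) (K.d_comp_d _ _ _)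

lemma πB_descB : πB K hex ≫ descB K hex = K.d (Int.ofNat 0) (Int.ofNat 1) :=
  cokFπ_desc _ _ _ hex _ _

lemma d_πB : K.d (Int.negSucc 0) (Int.ofNat 0) ≫ πB K hex = 0 := comp_cokFπ _ _ _ hex

lemma descB_d : descB K hex ≫ K.d (Int.ofNat 1) (Int.ofNat 2) = 0 := by
  apply cokF_hom_ext
  refine Eq.trans ?_ comp_zero.symm
  exact ((Category.assoc _ _ _).symm.trans
    (congrArg (fun k => k ≫ K.d (Int.ofNat 1) (Int.ofNat 2)) (πB_descB K hex))).trans
    (K.d_comp_d _ _ _)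

/-- the terms of the truncation. -/
noncomputable def X' : ℤ → FilD.FilF A
  | Int.ofNat 0 => B K hex
  | Int.ofNat (k + 1) => K.X (Int.ofNat (k + 1))
  | Int.negSucc _ => 0

/-- the differentials of the truncation. -/
noncomputable def d' : (m : ℤ) → (X' K hex m ⟶ X' K hex (m + 1))
  | Int.ofNat 0 => descB K hex
  | Int.ofNat (k + 1) => K.d (Int.ofNat (k + 1)) (Int.ofNat (k + 2))
  | Int.negSucc 0 => 0
  | Int.negSucc (_ + 1) => 0

lemma d'_comp_d' (m : ℤ) : d' K hex m ≫ d' K hex (m + 1) = 0 := by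
  match m with
  | Int.ofNat 0 => exact descB_d K hex
  | Int.ofNat (k + 1) => exact K.d_comp_d _ _ _
  | Int.negSucc 0 => exact zero_comp
  | Int.negSucc (j + 1) => exact zero_comp

/-- the truncation. -/
noncomputable def L : CochainComplex (FilD.FilF A) ℤ :=
  CochainComplex.of (X' K hex) (d' K hex) (d'_comp_d' K hex)

/-- the components of the projection to the truncation. -/
noncomputable def f' : (m : ℤ) → (K.X m ⟶ X' K hex m)
  | Int.ofNat 0 => πB K hex
  | Int.ofNat (k + 1) => 𝟙 _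
  | Int.negSucc _ => 0

lemma f'_comm (m : ℤ) : f' K hex m ≫ d' K hex m = K.d m (m + 1) ≫ f' K hex (m + 1) := by
  match m with
  | Int.ofNat 0 => exact (πB_descB K hex).trans (Category.comp_id _).symm
  | Int.ofNat (k + 1) => exact (Category.id_comp _).trans (Category.comp_id _).symm
  | Int.negSucc 0 => exact zero_comp.trans (d_πB K hex).symm
  | Int.negSucc (j + 1) => exact zero_comp.trans comp_zero.symm

/-- the projection to the truncation. -/
noncomputable def φ : K ⟶ L K hex where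
  f := f' K hex
  comm' i j hij := by
    obtain rfl : i + 1 = j := hij
    dsimp [L]
    rw [CochainComplex.of_d]
    exact f'_comm K hex i

lemma isStrictlyGE_L : (L K hex).IsStrictlyGE 0 := by
  rw [CochainComplex.isStrictlyGE_iff]
  intro i hi
  match i with
  | Int.ofNat k => exact absurd hi (by simp)
  | Int.negSucc _ => exact isZero_zero _

lemma L_d (m : ℤ) : (L K hex).d m (m + 1) = d' K hex m :=
  CochainComplex.of_d (X' K hex) (d' K hex) m

lemma surj_zero (p : ℤ) {W : A} (y : W ⟶ (FilD.grF A p).obj (B K hex))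
    (hy : y ≫ (FilD.grF A p).map (descB K hex) = 0) :
    ∃ (W' : A) (π : W' ⟶ W) (_ : Epi π) (x : W' ⟶ (FilD.grF A p).obj (K.X (Int.ofNat 0))),
      x ≫ (FilD.grF A p).map (K.d (Int.ofNat 0) (Int.ofNat 1)) = 0 ∧
        π ≫ y = x ≫ (FilD.grF A p).map (πB K hex) := by
  haveI : Epi ((FilD.grF A p).map (πB K hex)) := epi_gr_cokFπ _ _ (K.d_comp_d _ _ _) hex p
  obtain ⟨W', π, hπ, x, hx⟩ := surjective_up_to_refinements_of_epi
    ((FilD.grF A p).map (πB K hex)) y
  refine ⟨W', π, hπ, x, ?_, hx⟩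
  rw [← πB_descB K hex, Functor.map_comp, ← Category.assoc, ← hx, Category.assoc, hy, comp_zero]

lemma inj_one (p : ℤ) {W : A} (x : W ⟶ (FilD.grF A p).obj (K.X (Int.ofNat 1)))
    (t : W ⟶ (FilD.grF A p).obj (B K hex)) (h : x = t ≫ (FilD.grF A p).map (descB K hex)) :
    ∃ (W' : A) (π : W' ⟶ W) (_ : Epi π) (t' : W' ⟶ (FilD.grF A p).obj (K.X (Int.ofNat 0))),
      π ≫ x = t' ≫ (FilD.grF A p).map (K.d (Int.ofNat 0) (Int.ofNat 1)) := by
  haveI : Epi ((FilD.grF A p).map (πB K hex)) := epi_gr_cokFπ _ _ (K.d_comp_d _ _ _) hex p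
  obtain ⟨W', π, hπ, t', ht'⟩ := surjective_up_to_refinements_of_epi
    ((FilD.grF A p).map (πB K hex)) t
  refine ⟨W', π, hπ, t', ?_⟩
  rw [h, ← Category.assoc, ht', Category.assoc, ← Functor.map_comp, πB_descB]

lemma quasiIsoAt_φ_zero (p : ℤ) : QuasiIsoAt ((FilD.grCx p).map (φ K hex)) (Int.ofNat 0) := by
  refine quasiIsoAt_of_refinements _ (Int.negSucc 0) (Int.ofNat 0) (Int.ofNat 1) (by rfl) (by rfl)
    ?_ ?_
  · intro W x t h
    have ht : t = 0 := ((FilD.grF A p).map_isZero (isZero_zero _)).eq_of_tgt _ _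
    have h0 : x ≫ (FilD.grF A p).map (πB K hex) = 0 := by
      refine h.trans ?_
      rw [ht]
      exact zero_comp
    obtain ⟨W', π, hπ, x', hx'⟩ := gExact_cokFπ _ _ (K.d_comp_d _ _ _) hex p x h0
    exact ⟨Int.negSucc 0, W', π, hπ, x', hx'⟩
  · intro W y hy
    have hy' : y ≫ (FilD.grF A p).map (d' K hex (Int.ofNat 0)) = 0 := by
      refine Eq.trans ?_ hy
      congr 1
      exact congrArg (FilD.grF A p).map (L_d K hex (Int.ofNat 0)).symm
    obtain ⟨W', π, hπ, x, hx0, hx⟩ := surj_zero K hex p y hy'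
    refine ⟨W', π, hπ, x, hx0, 0, ?_⟩
    rw [zero_comp, add_zero]
    exact hx

lemma quasiIsoAt_φ_one (p : ℤ) : QuasiIsoAt ((FilD.grCx p).map (φ K hex)) (Int.ofNat 1) := by
  refine quasiIsoAt_of_refinements _ (Int.ofNat 0) (Int.ofNat 1) (Int.ofNat 2) (by rfl) (by rfl)
    ?_ ?_
  · intro W x t h
    have h' : x = t ≫ (FilD.grF A p).map (d' K hex (Int.ofNat 0)) := by
      have e1 : x ≫ ((FilD.grCx p).map (φ K hex)).f (Int.ofNat 1) = x := by
        change x ≫ (FilD.grF A p).map (𝟙 _) = x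
        rw [CategoryTheory.Functor.map_id]
        exact Category.comp_id x
      rw [← e1, h]
      congr 1
      exact congrArg (FilD.grF A p).map (L_d K hex (Int.ofNat 0))
    obtain ⟨W', π, hπ, t', ht'⟩ := inj_one K hex p x t h'
    exact ⟨Int.ofNat 0, W', π, hπ, t', ht'⟩
  · intro W y hy
    refine ⟨W, 𝟙 W, inferInstance, y, ?_, 0, ?_⟩
    · refine Eq.trans ?_ hy
      congr 1
      exact congrArg (FilD.grF A p).map (L_d K hex (Int.ofNat 1)).symm
    · rw [zero_comp, add_zero, Category.id_comp]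
      change y = y ≫ (FilD.grF A p).map (𝟙 _)
      rw [CategoryTheory.Functor.map_id]
      exact (Category.comp_id y).symm

lemma quasiIsoAt_φ_succ_succ (p : ℤ) (k : ℕ) :
    QuasiIsoAt ((FilD.grCx p).map (φ K hex)) (Int.ofNat (k + 2)) := by
  refine quasiIsoAt_of_refinements _ (Int.ofNat (k + 1)) (Int.ofNat (k + 2)) (Int.ofNat (k + 3))
    (by rfl) (by rfl) ?_ ?_
  · intro W x t h
    refine ⟨Int.ofNat (k + 1), W, 𝟙 W, inferInstance, t, ?_⟩
    have e1 : x ≫ ((FilD.grCx p).map (φ K hex)).f (Int.ofNat (k + 2)) = x := by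
      change x ≫ (FilD.grF A p).map (𝟙 _) = x
      rw [CategoryTheory.Functor.map_id]
      exact Category.comp_id x
    rw [Category.id_comp, ← e1, h]
    congr 1
    exact congrArg (FilD.grF A p).map (L_d K hex (Int.ofNat (k + 1)))
  · intro W y hy
    refine ⟨W, 𝟙 W, inferInstance, y, ?_, 0, ?_⟩
    · refine Eq.trans ?_ hy
      congr 1
      exact congrArg (FilD.grF A p).map (L_d K hex (Int.ofNat (k + 2))).symm
    · rw [zero_comp, add_zero, Category.id_comp]
      change y = y ≫ (FilD.grF A p).map (𝟙 _)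
      rw [CategoryTheory.Functor.map_id]
      exact (Category.comp_id y).symm

lemma quasiIso_φ (hK : ∀ (p n : ℤ), n < 0 → ((FilD.grCx p).obj K).ExactAt n) (p : ℤ) :
    QuasiIso ((FilD.grCx p).map (φ K hex)) := by
  rw [quasiIso_iff]
  intro n
  match n with
  | Int.ofNat 0 => exact quasiIsoAt_φ_zero K hex p
  | Int.ofNat 1 => exact quasiIsoAt_φ_one K hex p
  | Int.ofNat (k + 2) => exact quasiIsoAt_φ_succ_succ K hex p k
  | Int.negSucc j =>
    rw [quasiIsoAt_iff_exactAt _ _ (hK p _ (by lia))]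
    exact HomologicalComplex.ExactAt.of_isZero ((FilD.grF A p).map_isZero (isZero_zero _))

end Trunc

section Shift

variable {𝓒 : Type*} [Category 𝓒] [Preadditive 𝓒] (G : 𝓒 ⥤ A) [G.Additive]

lemma quasiIso_map_shift {X Y : CochainComplex 𝓒 ℤ} (ψ : X ⟶ Y) (n : ℤ)
    [hψ : QuasiIso ((G.mapHomologicalComplex (ComplexShape.up ℤ)).map ψ)] :
    QuasiIso ((G.mapHomologicalComplex (ComplexShape.up ℤ)).map (ψ⟦n⟧')) := by
  have e := (G.mapHomologicalComplex (ComplexShape.up ℤ)).commShiftIso n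
  have h4 : QuasiIso (((G.mapHomologicalComplex (ComplexShape.up ℤ)).map ψ)⟦n⟧') := inferInstance
  have hn' : (G.mapHomologicalComplex (ComplexShape.up ℤ)).map (ψ⟦n⟧') ≫ e.hom.app _ =
      e.hom.app _ ≫ ((G.mapHomologicalComplex (ComplexShape.up ℤ)).map ψ)⟦n⟧' := e.hom.naturality ψ
  have h3 : (G.mapHomologicalComplex (ComplexShape.up ℤ)).map (ψ⟦n⟧') =
      e.hom.app _ ≫ ((G.mapHomologicalComplex (ComplexShape.up ℤ)).map ψ)⟦n⟧' ≫ e.inv.app _ := by
    rw [← Category.assoc, ← hn', Category.assoc, Iso.hom_inv_id_app]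
    exact (Category.comp_id _).symm
  rw [h3]
  infer_instance

lemma exactAt_map_shift_iff (K : CochainComplex 𝓒 ℤ) (a n m : ℤ) (h : a + n = m) :
    ((G.mapHomologicalComplex (ComplexShape.up ℤ)).obj (K⟦a⟧)).ExactAt n ↔
      ((G.mapHomologicalComplex (ComplexShape.up ℤ)).obj K).ExactAt m := by
  rw [HomologicalComplex.exactAt_iff_isZero_homology, HomologicalComplex.exactAt_iff_isZero_homology]
  let e1 : ((G.mapHomologicalComplex (ComplexShape.up ℤ)).obj (K⟦a⟧)) ≅
      ((G.mapHomologicalComplex (ComplexShape.up ℤ)).obj K)⟦a⟧ :=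
    ((G.mapHomologicalComplex (ComplexShape.up ℤ)).commShiftIso a).app K
  let e2 : ((G.mapHomologicalComplex (ComplexShape.up ℤ)).obj (K⟦a⟧)).homology n ≅
      (((G.mapHomologicalComplex (ComplexShape.up ℤ)).obj K)⟦a⟧).homology n :=
    (HomologicalComplex.homologyFunctor A (ComplexShape.up ℤ) n).mapIso e1
  let e3 : (((G.mapHomologicalComplex (ComplexShape.up ℤ)).obj K)⟦a⟧).homology n ≅
      ((G.mapHomologicalComplex (ComplexShape.up ℤ)).obj K).homology m :=
    ((HomologicalComplex.homologyFunctor A (ComplexShape.up ℤ) 0).shiftIso a n m h).app _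
  exact (e2 ≪≫ e3).isZero_iff

end Shift

section Main

theorem exists_truncGE_zero (K : CochainComplex (FilD.FilF A) ℤ)
    (hK : ∀ (p n : ℤ), n < 0 → ((FilD.grCx p).obj K).ExactAt n) :
    ∃ (L : CochainComplex (FilD.FilF A) ℤ) (φ : K ⟶ L), L.IsStrictlyGE 0 ∧
      FilD.IsFilteredQuasiIso φ := by
  have hex : GrRes.GExact (fun q : ℤ => FilD.grF A q) (K.d (Int.negSucc 1) (Int.negSucc 0))
      (K.d (Int.negSucc 0) (Int.ofNat 0)) := by
    intro q W z hz
    have h1 := hK q (Int.negSucc 0) (by lia)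
    rw [HomologicalComplex.exactAt_iff' _ (Int.negSucc 1) (Int.negSucc 0) (Int.ofNat 0)
      (by simp) (by simp)] at h1
    exact h1.exact_up_to_refinements z hz
  exact ⟨L K hex, φ K hex, isStrictlyGE_L K hex, quasiIso_φ K hex hK⟩

theorem exists_truncGE (K : CochainComplex (FilD.FilF A) ℤ) (a : ℤ)
    (hK : ∀ (p n : ℤ), n < a → IsZero (((FilD.grCx p).obj K).homology n)) :
    ∃ (L : CochainComplex (FilD.FilF A) ℤ) (φ : K ⟶ L), L.IsStrictlyGE a ∧
      FilD.IsFilteredQuasiIso φ := by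
  have hK' : ∀ (p n : ℤ), n < 0 → ((FilD.grCx p).obj (K⟦a⟧)).ExactAt n := by
    intro p n hn
    rw [exactAt_map_shift_iff (FilD.grF A p) K a n (a + n) rfl,
      HomologicalComplex.exactAt_iff_isZero_homology]
    exact hK p (a + n) (by lia)
  obtain ⟨L0, φ0, hL0, hφ0⟩ := exists_truncGE_zero (K⟦a⟧) hK'
  refine ⟨L0⟦-a⟧, ((shiftEquiv (CochainComplex (FilD.FilF A) ℤ) a).unitIso.app K).hom ≫ φ0⟦-a⟧',
    L0.isStrictlyGE_shift 0 (-a) a (by lia), fun p => ?_⟩
  rw [Functor.map_comp]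
  have h2 : QuasiIso ((FilD.grCx p).map
      ((shiftEquiv (CochainComplex (FilD.FilF A) ℤ) a).unitIso.app K).hom) := inferInstance
  haveI := hφ0 p
  have h1 : QuasiIso ((FilD.grCx p).map (φ0⟦-a⟧')) := quasiIso_map_shift (FilD.grF A p) φ0 (-a)
  exact @quasiIso_comp _ _ _ _ _ _ _ _ _ _ _ _ _ h2 h1

end Main


end Groth.Agent.Lib.Helper32.FilTruncGE
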