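import Groth.Agent.Lib.Helper32.FilTruncGE

/-! Levelwise kernels in `FilD.FilF A` and the canonical truncation `τ_{≤ b}` (helper32). -/

set_option autoImplicit false
universe v u
open CategoryTheory CategoryTheory.Limits Opposite ZeroObject

namespace Groth.Agent.Lib.Helper32.FilTruncLE

open FilExt FilLevels FilStrict

variable {A : Type u} [Category.{v} A] [Abelian A]

section Functor

variable {X Y : ℤᵒᵖ ⥤ A} (φ : X ⟶ Y)

/-- the levelwise kernel. -/
noncomputable def ker : ℤᵒᵖ ⥤ A where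
  obj q := kernel (φ.app q)
  map {q r} f := kernel.map (φ.app q) (φ.app r) (X.map f) (Y.map f) (φ.naturality f).symm
  map_id q := by ext; simp
  map_comp f g := by ext; simp

/-- the inclusion of the levelwise kernel. -/
noncomputable def kerι (q : ℤᵒᵖ) : (ker φ).obj q ⟶ X.obj q := kernel.ι (φ.app q)

instance (q : ℤᵒᵖ) : Mono (kerι φ q) := equalizer.ι_mono

lemma kerι_app (q : ℤᵒᵖ) : kerι φ q ≫ φ.app q = 0 := kernel.condition _

lemma ker_map_ι {q r : ℤᵒᵖ} (f : q ⟶ r) : (ker φ).map f ≫ kerι φ r = kerι φ q ≫ X.map f :=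
  kernel.lift_ι _ _ _

/-- lifting to the levelwise kernel. -/
noncomputable def kerLift (q : ℤᵒᵖ) {W : A} (x : W ⟶ X.obj q) (hx : x ≫ φ.app q = 0) :
    W ⟶ (ker φ).obj q := kernel.lift (φ.app q) x hx

lemma kerLift_ι (q : ℤᵒᵖ) {W : A} (x : W ⟶ X.obj q) (hx : x ≫ φ.app q = 0) :
    kerLift φ q x hx ≫ kerι φ q = x := kernel.lift_ι _ _ _

/-- the inclusion of the levelwise kernel, as a natural transformation. -/
noncomputable def kerιNat : ker φ ⟶ X where
  app q := kerι φ q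
  naturality _ _ f := ker_map_ι φ f

/-- lifting a natural transformation to the levelwise kernel. -/
noncomputable def kerLiftNat {T : ℤᵒᵖ ⥤ A} (χ : T ⟶ X) (hχ : χ ≫ φ = 0) : T ⟶ ker φ where
  app q := kerLift φ q (χ.app q) (by rw [← NatTrans.comp_app, hχ]; rfl)
  naturality q r f := by
    rw [← cancel_mono (kerι φ r), Category.assoc, Category.assoc, kerLift_ι, ker_map_ι,
      ← Category.assoc, kerLift_ι]
    exact χ.naturality f

end Functor

section FilF

variable {X Y : FilD.FilF A} (φ : X ⟶ Y)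

lemma isFinFil_ker : FilD.IsFinFil A (ker φ.hom) := by
  have hKmono : ∀ ⦃q r : ℤᵒᵖ⦄ (f : q ⟶ r), Mono ((ker φ.hom).map f) := fun q r f => by
    haveI : Mono (X.obj.map f) := X.property.1 f
    haveI : Mono ((ker φ.hom).map f ≫ kerι φ.hom r) := by
      rw [ker_map_ι]
      infer_instance
    exact mono_of_mono _ (kerι φ.hom r)
  obtain ⟨bX, hbX⟩ := X.property.2.1
  obtain ⟨aX, haX⟩ := X.property.2.2
  obtain ⟨aY, haY⟩ := Y.property.2.2
  refine ⟨hKmono, ⟨bX, fun q hq => IsZero.of_mono (kerι φ.hom (op q)) (hbX q hq)⟩,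
    ⟨min aX aY, fun q r f hq => ?_⟩⟩
  haveI : IsIso (X.obj.map f) := haX f (hq.trans (min_le_left _ _))
  haveI : IsIso (Y.obj.map f) := haY f (hq.trans (min_le_right _ _))
  exact (kernel.mapIso (φ.hom.app q) (φ.hom.app r) (asIso (X.obj.map f)) (asIso (Y.obj.map f))
    (φ.hom.naturality f).symm).isIso_hom

/-- the kernel of `φ` in `FilF A`. -/
noncomputable def kerF : FilD.FilF A := ⟨ker φ.hom, isFinFil_ker φ⟩

/-- the inclusion of the kernel. -/
noncomputable def kerFι : kerF φ ⟶ X := ObjectProperty.homMk (kerιNat φ.hom)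

lemma kerFι_comp : kerFι φ ≫ φ = 0 := by
  apply ObjectProperty.hom_ext
  ext q
  exact kerι_app φ.hom q

instance (q : ℤᵒᵖ) : Mono ((kerFι φ).hom.app q) := (inferInstance : Mono (kerι φ.hom q))

omit φ in
lemma hom_comp_hom' {T : FilD.FilF A} (φ : X ⟶ Y) (χ : T ⟶ X) (hχ : χ ≫ φ = 0) :
    χ.hom ≫ φ.hom = 0 := by
  rw [← ObjectProperty.FullSubcategory.comp_hom, hχ]; rfl

/-- the universal property of `kerF`. -/
noncomputable def kerFlift {T : FilD.FilF A} (χ : T ⟶ X) (hχ : χ ≫ φ = 0) : T ⟶ kerF φ :=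
  ObjectProperty.homMk (kerLiftNat φ.hom χ.hom (hom_comp_hom' φ χ hχ))

lemma kerFlift_ι {T : FilD.FilF A} (χ : T ⟶ X) (hχ : χ ≫ φ = 0) :
    kerFlift φ χ hχ ≫ kerFι φ = χ := by
  apply ObjectProperty.hom_ext
  ext q
  exact kerLift_ι φ.hom q _ _

lemma kerFι_app_comp (q : ℤᵒᵖ) : (kerFι φ).hom.app q ≫ φ.hom.app q = 0 := kerι_app φ.hom q

/-- lifting to a level of `kerF`. -/
noncomputable def kerFliftApp (q : ℤᵒᵖ) {W : A} (x : W ⟶ X.obj.obj q) (hx : x ≫ φ.hom.app q = 0) :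
    W ⟶ (kerF φ).obj.obj q := kerLift φ.hom q x hx

lemma kerFliftApp_ι (q : ℤᵒᵖ) {W : A} (x : W ⟶ X.obj.obj q) (hx : x ≫ φ.hom.app q = 0) :
    kerFliftApp φ q x hx ≫ (kerFι φ).hom.app q = x := kerLift_ι φ.hom q x hx

lemma mono_gr_kerFι (p : ℤ) : Mono ((FilD.grF A p).map (kerFι φ)) := by
  haveI : Mono (Y.obj.map (FilD.stepHom p)) := Y.property.1 _
  apply Preadditive.mono_of_cancel_zero
  intro W xbar hxbar
  obtain ⟨W1, π1, hπ1, x, hx⟩ :=
    surjective_up_to_refinements_of_epi (grπ (kerF φ) p) xbar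
  have h1 : (x ≫ (kerFι φ).hom.app (op p)) ≫ grπ X p = 0 := by
    rw [Category.assoc, pi_naturality (kerFι φ) p, ← Category.assoc, ← hx, Category.assoc, hxbar,
      comp_zero]
  obtain ⟨W2, π2, hπ2, (y1 : W2 ⟶ X.obj.obj (op (p + 1))),
    (hy1 : π2 ≫ x ≫ (kerFι φ).hom.app (op p) = y1 ≫ X.obj.map (FilD.stepHom p))⟩ :=
    (grπ_exact X p).exact_up_to_refinements _ h1
  have h2 : y1 ≫ φ.hom.app (op (p + 1)) = 0 := by
    rw [← cancel_mono (Y.obj.map (FilD.stepHom p)), Category.assoc, ← step_naturality φ p,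
      ← Category.assoc, ← hy1, Category.assoc, Category.assoc, kerFι_app_comp, comp_zero,
      comp_zero, zero_comp]
  have h3 : kerFliftApp φ (op (p + 1)) y1 h2 ≫ (kerF φ).obj.map (FilD.stepHom p) = π2 ≫ x := by
    rw [← cancel_mono ((kerFι φ).hom.app (op p)), Category.assoc, step_naturality (kerFι φ) p,
      ← Category.assoc, kerFliftApp_ι, Category.assoc, hy1]
  rw [← cancel_epi π1, ← cancel_epi π2, comp_zero, comp_zero, hx, ← Category.assoc, ← h3,
    Category.assoc, step_grπ, comp_zero]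

end FilF

section Surj

variable (S : ShortComplex (FilD.FilF A)) (hS : ∀ p : ℤ, (S.map (FilD.grF A p)).Exact)

include hS in
/-- `gr^p (ker f) ⟶ ker (gr^p f)` is an epimorphism when the sequence is `gr`-exact. -/
lemma surj_gr_ker (p : ℤ) {W : A} (ybar : W ⟶ (FilD.grF A p).obj S.X₁)
    (hybar : ybar ≫ (FilD.grF A p).map S.f = 0) :
    ∃ (W' : A) (π : W' ⟶ W) (_ : Epi π) (x : W' ⟶ (FilD.grF A p).obj (kerF S.f)),
      π ≫ ybar = x ≫ (FilD.grF A p).map (kerFι S.f) := by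
  haveI : Mono (S.X₃.obj.map (FilD.stepHom p)) := S.X₃.property.1 _
  obtain ⟨W1, π1, hπ1, y, hy⟩ := surjective_up_to_refinements_of_epi (grπ S.X₁ p) ybar
  have h1 : (y ≫ S.f.hom.app (op p)) ≫ grπ S.X₂ p = 0 := by
    rw [Category.assoc, pi_naturality S.f p, ← Category.assoc, ← hy, Category.assoc, hybar,
      comp_zero]
  obtain ⟨W2, π2, hπ2, (y1 : W2 ⟶ S.X₂.obj.obj (op (p + 1))),
    (hy1 : π2 ≫ y ≫ S.f.hom.app (op p) = y1 ≫ S.X₂.obj.map (FilD.stepHom p))⟩ :=
    (grπ_exact S.X₂ p).exact_up_to_refinements _ h1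
  have h2 : y1 ≫ S.g.hom.app (op (p + 1)) = 0 := by
    rw [← cancel_mono (S.X₃.obj.map (FilD.stepHom p)), Category.assoc, ← step_naturality S.g p,
      ← Category.assoc, ← hy1, Category.assoc, Category.assoc, app_comp_app, comp_zero, comp_zero,
      zero_comp]
  obtain ⟨W3, π3, hπ3, y0, hy0⟩ := levelExact S hS (p + 1) y1 h2
  let z : W3 ⟶ S.X₁.obj.obj (op p) := π3 ≫ π2 ≫ y - y0 ≫ S.X₁.obj.map (FilD.stepHom p)
  have hz : z ≫ S.f.hom.app (op p) = 0 := by
    simp only [z, Preadditive.sub_comp, Category.assoc]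
    rw [hy1, step_naturality S.f p, ← Category.assoc y0, ← hy0, Category.assoc, sub_self]
  refine ⟨W3, π3 ≫ π2 ≫ π1, epi_comp' hπ3 (epi_comp' hπ2 hπ1),
    kerFliftApp S.f (op p) z hz ≫ grπ (kerF S.f) p, ?_⟩
  have e1 : (kerFliftApp S.f (op p) z hz ≫ grπ (kerF S.f) p) ≫ (FilD.grF A p).map (kerFι S.f) =
      z ≫ grπ S.X₁ p := by
    rw [Category.assoc, ← pi_naturality (kerFι S.f) p, ← Category.assoc, kerFliftApp_ι]
  rw [e1]
  simp only [z, Preadditive.sub_comp, Category.assoc]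
  rw [step_grπ, comp_zero, sub_zero, hy]

end Surj

section HomExt

variable {X Y : FilD.FilF A} (φ : X ⟶ Y)

lemma kerF_hom_ext {T : FilD.FilF A} (f g : T ⟶ kerF φ) (hfg : f ≫ kerFι φ = g ≫ kerFι φ) :
    f = g := by
  apply ObjectProperty.hom_ext
  ext q
  rw [← cancel_mono ((kerFι φ).hom.app q)]
  exact congrArg (fun k => k.hom.app q) hfg

end HomExt

section Trunc

variable (K : CochainComplex (FilD.FilF A) ℤ)

/-- the kernel of `K⁰ ⟶ K¹`. -/
noncomputable def Z : FilD.FilF A := kerF (K.d (Int.ofNat 0) (Int.ofNat 1))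

/-- the inclusion `Z ⟶ K⁰`. -/
noncomputable def ιZ : Z K ⟶ K.X (Int.ofNat 0) := kerFι _

/-- the induced map `K⁻¹ ⟶ Z`. -/
noncomputable def liftZ : K.X (Int.negSucc 0) ⟶ Z K :=
  kerFlift _ (K.d (Int.negSucc 0) (Int.ofNat 0)) (K.d_comp_d _ _ _)

lemma liftZ_ιZ : liftZ K ≫ ιZ K = K.d (Int.negSucc 0) (Int.ofNat 0) := kerFlift_ι _ _ _

lemma ιZ_d : ιZ K ≫ K.d (Int.ofNat 0) (Int.ofNat 1) = 0 := kerFι_comp _

lemma d_liftZ : K.d (Int.negSucc 1) (Int.negSucc 0) ≫ liftZ K = 0 := by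
  apply kerF_hom_ext
  refine Eq.trans ?_ zero_comp.symm
  exact ((Category.assoc _ _ _).trans
    (congrArg (fun k => K.d (Int.negSucc 1) (Int.negSucc 0) ≫ k) (liftZ_ιZ K))).trans
    (K.d_comp_d _ _ _)

/-- the terms of the truncation. -/
noncomputable def X' : ℤ → FilD.FilF A
  | Int.ofNat 0 => Z K
  | Int.ofNat (_ + 1) => 0
  | Int.negSucc j => K.X (Int.negSucc j)

/-- the differentials of the truncation. -/
noncomputable def d' : (m : ℤ) → (X' K m ⟶ X' K (m + 1))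
  | Int.ofNat 0 => 0
  | Int.ofNat (_ + 1) => 0
  | Int.negSucc 0 => liftZ K
  | Int.negSucc (j + 1) => K.d (Int.negSucc (j + 1)) (Int.negSucc j)

lemma d'_comp_d' (m : ℤ) : d' K m ≫ d' K (m + 1) = 0 := by
  match m with
  | Int.ofNat 0 => exact zero_comp
  | Int.ofNat (k + 1) => exact zero_comp
  | Int.negSucc 0 => exact comp_zero
  | Int.negSucc 1 => exact d_liftZ K
  | Int.negSucc (j + 2) => exact K.d_comp_d _ _ _

/-- the truncation. -/
noncomputable def M : CochainComplex (FilD.FilF A) ℤ :=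
  CochainComplex.of (X' K) (d' K) (d'_comp_d' K)

/-- the components of the inclusion of the truncation. -/
noncomputable def f' : (m : ℤ) → (X' K m ⟶ K.X m)
  | Int.ofNat 0 => ιZ K
  | Int.ofNat (_ + 1) => 0
  | Int.negSucc _ => 𝟙 _

lemma f'_comm (m : ℤ) : f' K m ≫ K.d m (m + 1) = d' K m ≫ f' K (m + 1) := by
  match m with
  | Int.ofNat 0 => exact (ιZ_d K).trans zero_comp.symm
  | Int.ofNat (k + 1) => exact zero_comp.trans zero_comp.symm
  | Int.negSucc 0 => exact (Category.id_comp _).trans (liftZ_ιZ K).symm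
  | Int.negSucc (j + 1) => exact (Category.id_comp _).trans (Category.comp_id _).symm

/-- the inclusion of the truncation. -/
noncomputable def φ : M K ⟶ K where
  f := f' K
  comm' i j hij := by
    obtain rfl : i + 1 = j := hij
    dsimp [M]
    rw [CochainComplex.of_d]
    exact f'_comm K i

lemma isStrictlyLE_M : (M K).IsStrictlyLE 0 := by
  rw [CochainComplex.isStrictlyLE_iff]
  intro i hi
  match i with
  | Int.ofNat 0 => exact absurd hi (by simp)
  | Int.ofNat (k + 1) => exact isZero_zero _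
  | Int.negSucc _ => exact absurd hi (by simp)

lemma M_d (m : ℤ) : (M K).d m (m + 1) = d' K m :=
  CochainComplex.of_d (X' K) (d' K) m

lemma mono_gr_ιZ (p : ℤ) : Mono ((FilD.grF A p).map (ιZ K)) := mono_gr_kerFι _ p

lemma gr_liftZ_eq (p : ℤ) {W : A} (x : W ⟶ (FilD.grF A p).obj (Z K))
    (t : W ⟶ (FilD.grF A p).obj (K.X (Int.negSucc 0)))
    (h : x ≫ (FilD.grF A p).map (ιZ K) =
      t ≫ (FilD.grF A p).map (K.d (Int.negSucc 0) (Int.ofNat 0))) :
    x = t ≫ (FilD.grF A p).map (liftZ K) := by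
  haveI := mono_gr_ιZ K p
  rw [← cancel_mono ((FilD.grF A p).map (ιZ K)), h, Category.assoc, ← Functor.map_comp, liftZ_ιZ]

lemma gr_liftZ_zero (p : ℤ) {W : A} (y : W ⟶ (FilD.grF A p).obj (K.X (Int.negSucc 0)))
    (hy : y ≫ (FilD.grF A p).map (K.d (Int.negSucc 0) (Int.ofNat 0)) = 0) :
    y ≫ (FilD.grF A p).map (liftZ K) = 0 := by
  haveI := mono_gr_ιZ K p
  rw [← cancel_mono ((FilD.grF A p).map (ιZ K)), Category.assoc, ← Functor.map_comp, liftZ_ιZ,
    zero_comp]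
  exact hy

lemma quasiIsoAt_φ_zero
    (hS : ∀ p : ℤ, ((ShortComplex.mk (K.d (Int.ofNat 0) (Int.ofNat 1))
      (K.d (Int.ofNat 1) (Int.ofNat 2)) (K.d_comp_d _ _ _)).map (FilD.grF A p)).Exact) (p : ℤ) :
    QuasiIsoAt ((FilD.grCx p).map (φ K)) (Int.ofNat 0) := by
  refine quasiIsoAt_of_refinements _ (Int.negSucc 0) (Int.ofNat 0) (Int.ofNat 1) (by rfl) (by rfl)
    ?_ ?_
  · intro W x t h
    have h' := gr_liftZ_eq K p x t h
    refine ⟨Int.negSucc 0, W, 𝟙 W, inferInstance, t, ?_⟩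
    rw [Category.id_comp]
    refine h'.trans ?_
    congr 1
    exact congrArg (FilD.grF A p).map (M_d K (Int.negSucc 0)).symm
  · intro W y hy
    obtain ⟨W', π, hπ, x, hx⟩ := surj_gr_ker _ hS p y hy
    refine ⟨W', π, hπ, x, ?_, 0, ?_⟩
    · have h0 : ((FilD.grCx p).obj (M K)).d (Int.ofNat 0) (Int.ofNat 1) = 0 := by
        change (FilD.grF A p).map ((M K).d (Int.ofNat 0) (Int.ofNat 1)) = 0
        rw [show (M K).d (Int.ofNat 0) (Int.ofNat 1) = 0 from M_d K (Int.ofNat 0)]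
        exact Functor.map_zero _ _ _
      rw [h0]
      exact comp_zero
    · rw [zero_comp, add_zero]
      exact hx

lemma quasiIsoAt_φ_neg_one (p : ℤ) :
    QuasiIsoAt ((FilD.grCx p).map (φ K)) (Int.negSucc 0) := by
  refine quasiIsoAt_of_refinements _ (Int.negSucc 1) (Int.negSucc 0) (Int.ofNat 0) (by rfl) (by rfl)
    ?_ ?_
  · intro W x t h
    refine ⟨Int.negSucc 1, W, 𝟙 W, inferInstance, t, ?_⟩
    have e1 : x ≫ ((FilD.grCx p).map (φ K)).f (Int.negSucc 0) = x := by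
      change x ≫ (FilD.grF A p).map (𝟙 _) = x
      rw [CategoryTheory.Functor.map_id]
      exact Category.comp_id x
    rw [Category.id_comp, ← e1, h]
    congr 1
    exact congrArg (FilD.grF A p).map (M_d K (Int.negSucc 1)).symm
  · intro W y hy
    refine ⟨W, 𝟙 W, inferInstance, y, ?_, 0, ?_⟩
    · have h1 : y ≫ (FilD.grF A p).map (liftZ K) = 0 := gr_liftZ_zero K p y hy
      refine Eq.trans ?_ h1
      congr 1
      exact congrArg (FilD.grF A p).map (M_d K (Int.negSucc 0))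
    · rw [zero_comp, add_zero, Category.id_comp]
      change y = y ≫ (FilD.grF A p).map (𝟙 _)
      rw [CategoryTheory.Functor.map_id]
      exact (Category.comp_id y).symm

lemma quasiIsoAt_φ_neg (p : ℤ) (j : ℕ) :
    QuasiIsoAt ((FilD.grCx p).map (φ K)) (Int.negSucc (j + 1)) := by
  refine quasiIsoAt_of_refinements _ (Int.negSucc (j + 2)) (Int.negSucc (j + 1)) (Int.negSucc j)
    (by rfl) (by rfl) ?_ ?_
  · intro W x t h
    refine ⟨Int.negSucc (j + 2), W, 𝟙 W, inferInstance, t, ?_⟩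
    have e1 : x ≫ ((FilD.grCx p).map (φ K)).f (Int.negSucc (j + 1)) = x := by
      change x ≫ (FilD.grF A p).map (𝟙 _) = x
      rw [CategoryTheory.Functor.map_id]
      exact Category.comp_id x
    rw [Category.id_comp, ← e1, h]
    congr 1
    exact congrArg (FilD.grF A p).map (M_d K (Int.negSucc (j + 2))).symm
  · intro W y hy
    refine ⟨W, 𝟙 W, inferInstance, y, ?_, 0, ?_⟩
    · refine Eq.trans ?_ hy
      congr 1
      exact congrArg (FilD.grF A p).map (M_d K (Int.negSucc (j + 1)))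
    · rw [zero_comp, add_zero, Category.id_comp]
      change y = y ≫ (FilD.grF A p).map (𝟙 _)
      rw [CategoryTheory.Functor.map_id]
      exact (Category.comp_id y).symm

lemma quasiIso_φ (hK : ∀ (p n : ℤ), 0 < n → ((FilD.grCx p).obj K).ExactAt n) (p : ℤ) :
    QuasiIso ((FilD.grCx p).map (φ K)) := by
  have hS : ∀ p : ℤ, ((ShortComplex.mk (K.d (Int.ofNat 0) (Int.ofNat 1))
      (K.d (Int.ofNat 1) (Int.ofNat 2)) (K.d_comp_d _ _ _)).map (FilD.grF A p)).Exact := by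
    intro p
    have h1 := hK p (Int.ofNat 1) (by simp)
    rw [HomologicalComplex.exactAt_iff' _ (Int.ofNat 0) (Int.ofNat 1) (Int.ofNat 2)
      (by simp) (by simp)] at h1
    exact h1
  rw [quasiIso_iff]
  intro n
  match n with
  | Int.ofNat 0 => exact quasiIsoAt_φ_zero K hS p
  | Int.ofNat (k + 1) =>
    rw [quasiIsoAt_iff_exactAt' _ _ (hK p _ (by simp))]
    exact HomologicalComplex.ExactAt.of_isZero ((FilD.grF A p).map_isZero (isZero_zero _))
  | Int.negSucc 0 => exact quasiIsoAt_φ_neg_one K p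
  | Int.negSucc (j + 1) => exact quasiIsoAt_φ_neg K p j

end Trunc

section Main

theorem exists_truncLE_zero (K : CochainComplex (FilD.FilF A) ℤ)
    (hK : ∀ (p n : ℤ), 0 < n → ((FilD.grCx p).obj K).ExactAt n) :
    ∃ (M : CochainComplex (FilD.FilF A) ℤ) (φ : M ⟶ K), M.IsStrictlyLE 0 ∧
      FilD.IsFilteredQuasiIso φ :=
  ⟨M K, φ K, isStrictlyLE_M K, quasiIso_φ K hK⟩

theorem exists_truncLE (K : CochainComplex (FilD.FilF A) ℤ) (b : ℤ)
    (hK : ∀ (p n : ℤ), b < n → IsZero (((FilD.grCx p).obj K).homology n)) :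
    ∃ (M : CochainComplex (FilD.FilF A) ℤ) (φ : M ⟶ K), M.IsStrictlyLE b ∧
      FilD.IsFilteredQuasiIso φ := by
  have hK' : ∀ (p n : ℤ), 0 < n → ((FilD.grCx p).obj (K⟦b⟧)).ExactAt n := by
    intro p n hn
    rw [FilTruncGE.exactAt_map_shift_iff (FilD.grF A p) K b n (b + n) rfl,
      HomologicalComplex.exactAt_iff_isZero_homology]
    exact hK p (b + n) (by lia)
  obtain ⟨M0, φ0, hM0, hφ0⟩ := exists_truncLE_zero (K⟦b⟧) hK'
  refine ⟨M0⟦-b⟧, φ0⟦-b⟧' ≫ ((shiftEquiv (CochainComplex (FilD.FilF A) ℤ) b).unitIso.app K).inv,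
    M0.isStrictlyLE_shift 0 (-b) b (by lia), fun p => ?_⟩
  rw [Functor.map_comp]
  have h2 : QuasiIso ((FilD.grCx p).map
      ((shiftEquiv (CochainComplex (FilD.FilF A) ℤ) b).unitIso.app K).inv) := inferInstance
  haveI := hφ0 p
  have h1 : QuasiIso ((FilD.grCx p).map (φ0⟦-b⟧')) :=
    FilTruncGE.quasiIso_map_shift (FilD.grF A p) φ0 (-b)
  exact @quasiIso_comp _ _ _ _ _ _ _ _ _ _ _ _ _ h1 h2

end Main

end Groth.Agent.Lib.Helper32.FilTruncLE
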