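import Mathlib
import Groth.Prelude.Def_W4c5qcohlocdualityLoc
import Groth.Agent.Lib.Helper6.Blend

/-!
# Closed objects for localizing classes (helper32)

For an object `M` of an abelian category, the class `B M` of objects `X` all of whose subobjects
`X'` satisfy `Hom(X', M) = 0` and `Ext¹(X', M) = 0` is a Serre class, and it is closed under
coproducts in a Grothendieck abelian category.
-/

set_option autoImplicit false

universe w v u
open CategoryTheory CategoryTheory.Limits CategoryTheory.Abelian ZeroObject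

namespace Groth.Agent.Lib.Helper32.GabLocClosed

variable {C : Type u} [Category.{v} C] [Abelian C] (M : C)

/-- `Hom(X, M) = 0` -/
def HomZero (X : C) : Prop := ∀ f : X ⟶ M, f = 0

/-- every extension of `X` by `M` splits -/
def ExtZero (X : C) : Prop :=
  ∀ ⦃N : C⦄ (i : M ⟶ N) (p : N ⟶ X) (hp : i ≫ p = 0),
    (ShortComplex.mk i p hp).ShortExact → IsSplitMono i

/-- all subobjects `X'` of `X` satisfy `Hom(X', M) = 0` and `Ext¹(X', M) = 0`. -/
def B : ObjectProperty C :=
  fun X => ∀ ⦃X' : C⦄ (j : X' ⟶ X), Mono j → HomZero M X' ∧ ExtZero M X'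

variable {M}

lemma extZero_iff [HasExt.{w} C] (X : C) :
    ExtZero M X ↔ ∀ x : Ext.{w} X M 1, x = 0 := by
  constructor
  · intro h x
    obtain ⟨N, i, p, hp, hS, rfl⟩ := Groth.Agent.Lib.Helper6.Blend.exists_shortExact_extClass_eq x
    have := h i p hp hS
    have h1 : hS.extClass.comp (Ext.mk₀ i) (add_zero 1) = 0 := hS.extClass_comp
    calc hS.extClass = hS.extClass.comp (Ext.mk₀ (𝟙 M)) (add_zero 1) := (Ext.comp_mk₀_id _).symm
      _ = hS.extClass.comp (Ext.mk₀ (i ≫ retraction i)) (add_zero 1) := by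
          rw [IsSplitMono.id]
      _ = (hS.extClass.comp (Ext.mk₀ i) (add_zero 1)).comp (Ext.mk₀ (retraction i)) (add_zero 1) := by
          rw [← Ext.mk₀_comp_mk₀, Ext.comp_assoc_of_third_deg_zero]
      _ = 0 := by rw [h1, Ext.zero_comp]
  · intro h N i p hp hS
    have h0 : hS.extClass = 0 := h _
    obtain ⟨x₂, hx₂⟩ := Ext.covariant_sequence_exact₃ X hS (Ext.mk₀ (𝟙 X)) (zero_add 1)
      (by rw [h0, Ext.comp_zero])
    obtain ⟨s, rfl⟩ := (Ext.mk₀_bijective _ _).2 x₂
    have hs : s ≫ p = 𝟙 X := by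
      apply (Ext.mk₀_bijective _ _).1
      rw [← Ext.mk₀_comp_mk₀]
      exact hx₂
    have := hS.mono_f
    exact ⟨⟨(ShortComplex.Splitting.ofExactOfSection _ hS.exact s hs hS.mono_f).r,
      (ShortComplex.Splitting.ofExactOfSection _ hS.exact s hs hS.mono_f).f_r⟩⟩

lemma homZero_of_isZero {X : C} (hX : IsZero X) : HomZero M X := fun f => hX.eq_of_src f 0

lemma extZero_of_isZero {X : C} (hX : IsZero X) : ExtZero M X := by
  haveI := HasExt.standard C
  rw [extZero_iff]
  intro x
  rw [← Ext.mk₀_id_comp x, hX.eq_of_src (𝟙 X) 0, Ext.mk₀_zero, Ext.zero_comp]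

lemma B_of_mono {X Y : C} (f : X ⟶ Y) [Mono f] (hY : B M Y) : B M X := by
  intro X' j hj
  exact hY (j ≫ f) (mono_comp j f)

lemma B_of_isZero {X : C} (hX : IsZero X) : B M X := by
  intro X' j hj
  have : IsZero X' := by
    rw [IsZero.iff_id_eq_zero]
    rw [← cancel_mono j]
    exact hX.eq_of_tgt _ _
  exact ⟨homZero_of_isZero this, extZero_of_isZero this⟩

lemma B_of_epi {X Y : C} (p : X ⟶ Y) [Epi p] (hX : B M X) : B M Y := by
  haveI := HasExt.standard C
  intro Y' j hj
  let q : pullback p j ⟶ Y' := pullback.snd p j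
  have hq : Epi q := Abelian.epi_pullback_of_epi_f p j
  have hfst : Mono (pullback.fst p j) := pullback.fst_of_mono
  obtain ⟨hH, hE⟩ := hX (pullback.fst p j) hfst
  obtain ⟨hHK, -⟩ := hX (kernel.ι q ≫ pullback.fst p j) (mono_comp _ _)
  refine ⟨?_, ?_⟩
  · intro f
    rw [← cancel_epi q, hH (q ≫ f), comp_zero]
  · rw [extZero_iff] at hE ⊢
    intro x
    have hS : (ShortComplex.mk (kernel.ι q) q (kernel.condition q)).ShortExact :=
      ShortComplex.ShortExact.mk' (ShortComplex.exact_kernel q) inferInstance hq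
    obtain ⟨x₁, hx₁⟩ := Ext.contravariant_sequence_exact₃ hS M x (hE _) (add_zero 1)
    obtain ⟨t, rfl⟩ := (Ext.mk₀_bijective _ _).2 x₁
    rw [← hx₁, hHK t, Ext.mk₀_zero, Ext.comp_zero]

lemma B_of_shortExact {S : ShortComplex C} (hS : S.ShortExact) (h₁ : B M S.X₁) (h₃ : B M S.X₃) :
    B M S.X₂ := by
  haveI := HasExt.standard C
  intro X' j hj
  let g' : X' ⟶ S.X₃ := j ≫ S.g
  have := hS.mono_f
  -- the kernel of `g'` embeds in `S.X₁`
  let κ : kernel g' ⟶ S.X₁ := hS.exact.lift (kernel.ι g' ≫ j) (by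
    rw [Category.assoc]; exact kernel.condition g')
  have hκ : κ ≫ S.f = kernel.ι g' ≫ j := hS.exact.lift_f _ _
  have : Mono κ := by
    have : Mono (κ ≫ S.f) := by rw [hκ]; exact mono_comp _ _
    exact mono_of_mono κ S.f
  obtain ⟨hHK, hEK⟩ := h₁ κ inferInstance
  -- the coimage of `g'` embeds in `S.X₃`
  obtain ⟨hHI, hEI⟩ := h₃ (Abelian.factorThruCoimage g') inferInstance
  have hS' : (ShortComplex.mk (kernel.ι g') (cokernel.π (kernel.ι g'))
      (cokernel.condition _)).ShortExact :=
    ShortComplex.ShortExact.mk' (ShortComplex.exact_cokernel _) inferInstance inferInstance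
  refine ⟨?_, ?_⟩
  · intro f
    have h0 : kernel.ι g' ≫ f = 0 := hHK _
    rw [← cokernel.π_desc (kernel.ι g') f h0, hHI (cokernel.desc (kernel.ι g') f h0), comp_zero]
  · rw [extZero_iff] at hEK hEI ⊢
    intro x
    obtain ⟨x₁, hx₁⟩ := Ext.contravariant_sequence_exact₂ hS' M x (hEK _)
    rw [← hx₁, hEI x₁, Ext.comp_zero]

variable (M)

instance : (B M).IsClosedUnderSubobjects := ⟨fun f _ hY => B_of_mono f hY⟩
instance : (B M).IsClosedUnderQuotients := ⟨fun f _ hX => B_of_epi f hX⟩
instance : (B M).IsClosedUnderExtensions := ⟨fun hS h₁ h₃ => B_of_shortExact hS h₁ h₃⟩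
instance : (B M).ContainsZero := ⟨⟨(0 : C), isZero_zero C, B_of_isZero (isZero_zero C)⟩⟩
instance : (B M).IsSerreClass where

instance : (B M).IsClosedUnderBinaryCoproducts := by
  apply ObjectProperty.IsClosedUnderColimitsOfShape.mk'
  rintro _ ⟨F, hF⟩
  have e : colimit F ≅ (F.obj ⟨.left⟩) ⊞ (F.obj ⟨.right⟩) :=
    (HasColimit.isoOfNatIso (diagramIsoPair F)) ≪≫ (biprod.isoCoprod _ _).symm
  exact (B M).prop_of_iso e.symm (ObjectProperty.prop_biprod _ (hF _) (hF _))

instance : (B M).IsClosedUnderFiniteCoproducts := ObjectProperty.IsClosedUnderFiniteCoproducts.mk'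

section AB5

variable [IsGrothendieckAbelian.{w} C]

attribute [local instance] IsFiltered.isConnected

lemma B_sigma {J : Type w} (f : J → C) (hf : ∀ j, B M (f j)) : B M (∐ f) := by
  classical
  haveI := HasExt.standard C
  intro X' m hm
  let D := CoproductsFromFiniteFiltered.liftToFinsetObj (Discrete.functor f)
  let c := CoproductsFromFiniteFiltered.finiteSubcoproductsCocone f
  have hc : IsColimit c := CoproductsFromFiniteFiltered.isColimitFiniteSubproductsCocone f
  have hD : ∀ S, B M (D.obj S) := fun S => by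
    dsimp [D]
    exact (B M).prop_coproduct (fun x => hf _)
  let P := pullback c.ι ((Functor.const _).map m)
  let π₁ : P ⟶ D := pullback.fst _ _
  let π₂ : P ⟶ (Functor.const _).obj X' := pullback.snd _ _
  have hc' : IsColimit (Cocone.mk X' π₂) := hc.pullbackOfHasExactColimitsOfShape m
  have hm' : Mono ((Functor.const (Finset (Discrete J))).map m) := by
    apply NatTrans.mono_of_mono_app
  have hπ₁ : Mono π₁ := @pullback.fst_of_mono _ _ _ _ _ c.ι ((Functor.const _).map m) _ hm'
  have hmono : ∀ S, Mono (π₁.app S) := fun S => (NatTrans.mono_iff_mono_app π₁).1 hπ₁ S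
  have hP : ∀ S, B M (P.obj S) := fun S => B_of_mono (π₁.app S) (hD S)
  have hPH : ∀ S, HomZero M (P.obj S) := fun S => (hP S (𝟙 _) inferInstance).1
  have hPE : ∀ S, ExtZero M (P.obj S) := fun S => (hP S (𝟙 _) inferInstance).2
  refine ⟨?_, ?_⟩
  · intro g
    apply hc'.hom_ext
    intro S
    rw [comp_zero]
    exact hPH S _
  · intro N i p hp hS
    have := hS.mono_f
    have hex : ∀ S, ∃ s : P.obj S ⟶ N, s ≫ p = π₂.app S := by
      intro S
      have hE := (extZero_iff (P.obj S)).1 (hPE S)
      obtain ⟨x₂, hx₂⟩ := Ext.covariant_sequence_exact₃ (P.obj S) hS (Ext.mk₀ (π₂.app S))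
        (zero_add 1) (hE _)
      obtain ⟨s, rfl⟩ := (Ext.mk₀_bijective _ _).2 x₂
      refine ⟨s, ?_⟩
      apply (Ext.mk₀_bijective _ _).1
      rw [← Ext.mk₀_comp_mk₀]
      exact hx₂
    have huniq : ∀ S (s s' : P.obj S ⟶ N), s ≫ p = s' ≫ p → s = s' := by
      intro S s s' h
      have h0 : (s - s') ≫ p = 0 := by rw [Preadditive.sub_comp, h, sub_self]
      have h1 : hS.exact.lift (s - s') h0 ≫ i = s - s' := hS.exact.lift_f _ _
      rw [hPH S (hS.exact.lift (s - s') h0), zero_comp] at h1
      exact (sub_eq_zero.1 h1.symm)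
    choose σ hσ using hex
    let cN : Cocone P :=
      { pt := N
        ι :=
          { app := σ
            naturality := by
              intro S S' φ
              dsimp
              rw [Category.comp_id]
              apply huniq
              rw [Category.assoc, hσ, hσ]
              have := π₂.naturality φ
              dsimp at this
              rw [Category.comp_id] at this
              exact this } }
    let s : X' ⟶ N := hc'.desc cN
    have hs : s ≫ p = 𝟙 X' := by
      apply hc'.hom_ext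
      intro S
      have h1 : π₂.app S ≫ s = σ S := hc'.fac cN S
      change π₂.app S ≫ s ≫ p = π₂.app S ≫ 𝟙 X'
      rw [reassoc_of% h1, hσ]
      exact (Category.comp_id _).symm
    exact ⟨⟨(ShortComplex.Splitting.ofExactOfSection _ hS.exact s hs hS.mono_f).r,
      (ShortComplex.Splitting.ofExactOfSection _ hS.exact s hs hS.mono_f).f_r⟩⟩

lemma isLocalizing_B : GabLoc.IsLocalizing.{w} (B M) where
  isSerreClass := inferInstance
  isClosedUnderCoproducts J := by
    apply ObjectProperty.IsClosedUnderColimitsOfShape.mk'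
    rintro _ ⟨F, hF⟩
    have e : colimit F ≅ ∐ (fun j => F.obj ⟨j⟩) :=
      HasColimit.isoOfNatIso Discrete.natIsoFunctor
    exact (B M).prop_of_iso e.symm (B_sigma M _ (fun j => hF _))

variable {M}

/-- If `P ≤ B M`-type hypotheses hold (i.e. `P` is closed under subobjects and `M` is closed for `P`),
then `M` is closed for the localizing closure of `P`. -/
lemma isClosedFor_locClosure (P : ObjectProperty C) [P.IsClosedUnderSubobjects]
    (h : GabLoc.IsClosedFor P M) : GabLoc.IsClosedFor (GabLoc.locClosure.{w} P) M := by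
  have hPB : P ≤ B M := by
    intro X hX X' j hj
    have hX' : P X' := P.prop_of_mono j hX
    exact ⟨fun f => h.1 hX' f, fun N i p hp hS => h.2 i p hp hX' hS⟩
  constructor
  · intro Y hY f
    exact (hY (B M) (isLocalizing_B M) hPB (𝟙 Y) inferInstance).1 f
  · intro N Y i p hp hY hS
    exact (hY (B M) (isLocalizing_B M) hPB (𝟙 Y) inferInstance).2 i p hp hS

end AB5

end Groth.Agent.Lib.Helper32.GabLocClosed
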