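import Mathlib
import Groth.Prelude.Def_W4c5qcohlocdualityLoc
import Groth.Agent.Lib.Helper32.GabLocClosed

/-!
# Localizing closure and transfinite filtrations (helper32)
-/

set_option autoImplicit false

universe w v u
open CategoryTheory CategoryTheory.Limits CategoryTheory.Abelian ZeroObject

namespace Groth.Agent.Lib.Helper32.GabLocFilt

variable {C : Type u} [Category.{v} C] [Abelian C]

section LocClosure

variable (P : ObjectProperty C)

lemma le_locClosure : P ≤ GabLoc.locClosure.{w} P := fun X hX Q _ hPQ => hPQ X hX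

lemma isLocalizing_locClosure : GabLoc.IsLocalizing.{w} (GabLoc.locClosure.{w} P) where
  isSerreClass :=
    { exists_zero := ⟨0, isZero_zero C, fun Q hQ _ => by
        have := hQ.isSerreClass
        exact Q.prop_of_isZero (isZero_zero C)⟩
      prop_of_mono := fun f _ hY Q hQ hPQ => by
        have := hQ.isSerreClass
        exact Q.prop_of_mono f (hY Q hQ hPQ)
      prop_of_epi := fun f _ hX Q hQ hPQ => by
        have := hQ.isSerreClass
        exact Q.prop_of_epi f (hX Q hQ hPQ)
      prop_X₂_of_shortExact := fun hS h₁ h₃ Q hQ hPQ => by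
        have := hQ.isSerreClass
        exact Q.prop_X₂_of_shortExact hS (h₁ Q hQ hPQ) (h₃ Q hQ hPQ) }
  isClosedUnderCoproducts J :=
    { colimitsOfShape_le := fun X hX Q hQ hPQ => by
        have := hQ.isClosedUnderCoproducts J
        exact ObjectProperty.IsClosedUnderColimitsOfShape.colimitsOfShape_le Q (Discrete J) X
          (ObjectProperty.colimitsOfShape_monotone (Discrete J) (fun Y hY => hY Q hQ hPQ) X hX) }

variable {P}

/-- A localizing class is closed under small colimits. -/
lemma IsLocalizing.prop_of_isColimit {Q : ObjectProperty C} (hQ : GabLoc.IsLocalizing.{w} Q)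
    [HasCoproducts.{w} C]
    {J : Type w} [Category.{w} J] {F : J ⥤ C} {c : Cocone F} (hc : IsColimit c)
    (hF : ∀ j, Q (F.obj j)) : Q c.pt := by
  have := hQ.isSerreClass
  have := hQ.isClosedUnderCoproducts J
  have h1 : Q (∐ F.obj) := Q.prop_colimit _ (fun ⟨j⟩ => hF j)
  have : HasColimit F := ⟨⟨⟨c, hc⟩⟩⟩
  let e : colimit F ≅ c.pt := IsColimit.coconePointUniqueUpToIso (colimit.isColimit F) hc
  have h2 : Q (colimit F) := Q.prop_of_epi (Sigma.desc (colimit.ι F)) h1
  exact Q.prop_of_iso e h2

lemma subquotCoprod_le_locClosure [HasCoproducts.{w} C] :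
    GabLoc.subquotCoprod.{w} P ≤ GabLoc.locClosure.{w} P := by
  intro A ⟨J, X, hX, B, i, p, hi, hp⟩
  have hQ := isLocalizing_locClosure.{w} P
  have := hQ.isSerreClass
  have := hQ.isClosedUnderCoproducts J
  have h1 : GabLoc.locClosure.{w} P (∐ X) :=
    (GabLoc.locClosure.{w} P).prop_colimit _ (fun ⟨j⟩ => le_locClosure P _ (hX j))
  exact (GabLoc.locClosure.{w} P).prop_of_epi p ((GabLoc.locClosure.{w} P).prop_of_mono i h1)

end LocClosure

section Backward

variable [HasCoproducts.{w} C] (P : ObjectProperty C)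

lemma locClosure_of_transfiniteCompositionOfShape {X : C} {J : Type w} [LinearOrder J]
    [SuccOrder J] [OrderBot J] [WellFoundedLT J]
    (h : (GabLoc.monoModSubquot.{w} P).TransfiniteCompositionOfShape J (0 : (0 : C) ⟶ X)) :
    GabLoc.locClosure.{w} P X := by
  have hQ := isLocalizing_locClosure.{w} P
  have := hQ.isSerreClass
  have key : ∀ j, GabLoc.locClosure.{w} P (h.F.obj j) := by
    intro j
    induction j using SuccOrder.limitRecOn with
    | isMin k hk =>
      obtain rfl := hk.eq_bot
      exact (GabLoc.locClosure.{w} P).prop_of_iso h.isoBot.symm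
        ((GabLoc.locClosure.{w} P).prop_of_isZero (isZero_zero C))
    | succ k hk ih =>
      obtain ⟨hmono, hcok⟩ := h.map_mem k hk
      have hS : (ShortComplex.mk (h.F.map (homOfLE (Order.le_succ k))) (cokernel.π _)
          (cokernel.condition _)).ShortExact :=
        ShortComplex.ShortExact.mk' (ShortComplex.exact_cokernel _) hmono inferInstance
      exact (GabLoc.locClosure.{w} P).prop_X₂_of_shortExact hS ih
        (subquotCoprod_le_locClosure _ hcok)
    | isSuccLimit m hm ih =>
      exact IsLocalizing.prop_of_isColimit hQ (h.F.isColimitOfIsWellOrderContinuous m hm)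
        (fun ⟨k, hk⟩ => ih k hk)
  exact IsLocalizing.prop_of_isColimit hQ h.isColimit key

end Backward

section HomOnly

open Groth.Agent.Lib.Helper32.GabLocClosed

variable (M : C)

/-- all subobjects `X'` of `X` satisfy `Hom(X', M) = 0`. -/
def B₀ : ObjectProperty C :=
  fun X => ∀ ⦃X' : C⦄ (j : X' ⟶ X), Mono j → HomZero M X'

variable {M}

lemma B₀_of_mono {X Y : C} (f : X ⟶ Y) [Mono f] (hY : B₀ M Y) : B₀ M X := by
  intro X' j hj
  exact hY (j ≫ f) (mono_comp j f)

lemma B₀_of_isZero {X : C} (hX : IsZero X) : B₀ M X := by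
  intro X' j hj
  have : IsZero X' := by
    rw [IsZero.iff_id_eq_zero]
    rw [← cancel_mono j]
    exact hX.eq_of_tgt _ _
  exact homZero_of_isZero this

lemma B₀_of_epi {X Y : C} (p : X ⟶ Y) [Epi p] (hX : B₀ M X) : B₀ M Y := by
  intro Y' j hj
  let q : pullback p j ⟶ Y' := pullback.snd p j
  have hq : Epi q := Abelian.epi_pullback_of_epi_f p j
  have hfst : Mono (pullback.fst p j) := pullback.fst_of_mono
  have hH := hX (pullback.fst p j) hfst
  intro f
  rw [← cancel_epi q, hH (q ≫ f), comp_zero]

lemma B₀_of_shortExact {S : ShortComplex C} (hS : S.ShortExact) (h₁ : B₀ M S.X₁)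
    (h₃ : B₀ M S.X₃) : B₀ M S.X₂ := by
  intro X' j hj
  let g' : X' ⟶ S.X₃ := j ≫ S.g
  have := hS.mono_f
  let κ : kernel g' ⟶ S.X₁ := hS.exact.lift (kernel.ι g' ≫ j) (by
    rw [Category.assoc]; exact kernel.condition g')
  have hκ : κ ≫ S.f = kernel.ι g' ≫ j := hS.exact.lift_f _ _
  have : Mono κ := by
    have : Mono (κ ≫ S.f) := by rw [hκ]; exact mono_comp _ _
    exact mono_of_mono κ S.f
  have hHK := h₁ κ inferInstance
  have hHI := h₃ (Abelian.factorThruCoimage g') inferInstance
  intro f
  have h0 : kernel.ι g' ≫ f = 0 := hHK _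
  rw [← cokernel.π_desc (kernel.ι g') f h0, hHI (cokernel.desc (kernel.ι g') f h0), comp_zero]

variable (M)

instance : (B₀ M).IsClosedUnderSubobjects := ⟨fun f _ hY => B₀_of_mono f hY⟩
instance : (B₀ M).IsClosedUnderQuotients := ⟨fun f _ hX => B₀_of_epi f hX⟩
instance : (B₀ M).IsClosedUnderExtensions := ⟨fun hS h₁ h₃ => B₀_of_shortExact hS h₁ h₃⟩
instance : (B₀ M).ContainsZero := ⟨⟨(0 : C), isZero_zero C, B₀_of_isZero (isZero_zero C)⟩⟩
instance : (B₀ M).IsSerreClass where

instance : (B₀ M).IsClosedUnderBinaryCoproducts := by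
  apply ObjectProperty.IsClosedUnderColimitsOfShape.mk'
  rintro _ ⟨F, hF⟩
  have e : colimit F ≅ (F.obj ⟨.left⟩) ⊞ (F.obj ⟨.right⟩) :=
    (HasColimit.isoOfNatIso (diagramIsoPair F)) ≪≫ (biprod.isoCoprod _ _).symm
  exact (B₀ M).prop_of_iso e.symm (ObjectProperty.prop_biprod _ (hF _) (hF _))

instance : (B₀ M).IsClosedUnderFiniteCoproducts := ObjectProperty.IsClosedUnderFiniteCoproducts.mk'

section AB5

variable [IsGrothendieckAbelian.{w} C]

attribute [local instance] IsFiltered.isConnected

lemma B₀_sigma {J : Type w} (f : J → C) (hf : ∀ j, B₀ M (f j)) : B₀ M (∐ f) := by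
  classical
  intro X' m hm
  let D := CoproductsFromFiniteFiltered.liftToFinsetObj (Discrete.functor f)
  let c := CoproductsFromFiniteFiltered.finiteSubcoproductsCocone f
  have hc : IsColimit c := CoproductsFromFiniteFiltered.isColimitFiniteSubproductsCocone f
  have hD : ∀ S, B₀ M (D.obj S) := fun S => by
    dsimp [D]
    exact (B₀ M).prop_coproduct (fun x => hf _)
  let P := pullback c.ι ((Functor.const _).map m)
  let π₁ : P ⟶ D := pullback.fst _ _
  let π₂ : P ⟶ (Functor.const _).obj X' := pullback.snd _ _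
  have hc' : IsColimit (Cocone.mk X' π₂) := hc.pullbackOfHasExactColimitsOfShape m
  have hm' : Mono ((Functor.const (Finset (Discrete J))).map m) := by
    apply NatTrans.mono_of_mono_app
  have hπ₁ : Mono π₁ := @pullback.fst_of_mono _ _ _ _ _ c.ι ((Functor.const _).map m) _ hm'
  have hmono : ∀ S, Mono (π₁.app S) := fun S => (NatTrans.mono_iff_mono_app π₁).1 hπ₁ S
  have hP : ∀ S, B₀ M (P.obj S) := fun S => B₀_of_mono (π₁.app S) (hD S)
  have hPH : ∀ S, HomZero M (P.obj S) := fun S => hP S (𝟙 _) inferInstance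
  intro g
  apply hc'.hom_ext
  intro S
  rw [comp_zero]
  exact hPH S _

lemma isLocalizing_B₀ : GabLoc.IsLocalizing.{w} (B₀ M) where
  isSerreClass := inferInstance
  isClosedUnderCoproducts J := by
    apply ObjectProperty.IsClosedUnderColimitsOfShape.mk'
    rintro _ ⟨F, hF⟩
    have e : colimit F ≅ ∐ (fun j => F.obj ⟨j⟩) :=
      HasColimit.isoOfNatIso Discrete.natIsoFunctor
    exact (B₀ M).prop_of_iso e.symm (B₀_sigma M _ (fun j => hF _))

end AB5

end HomOnly

section Forward

open Groth.Agent.Lib.Helper32.GabLocClosed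

variable [IsGrothendieckAbelian.{w} C] (P : ObjectProperty C)

/-- `Z` has no nonzero subobject which is a subquotient of a coproduct of objects of `P`. -/
def TorsionFree (Z : C) : Prop :=
  ∀ ⦃W : C⦄ (k : W ⟶ Z), Mono k → GabLoc.subquotCoprod.{w} P W → IsZero W

variable {P}

lemma le_B₀_of_torsionFree {Z : C} (hZ : TorsionFree.{w} P Z) : P ≤ B₀ Z := by
  intro X hX X' j hj g
  have hmono : Mono (Sigma.ι (fun _ : PUnit.{w + 1} => X) ⟨⟩) :=
    mono_of_mono_fac (f := Sigma.desc (fun _ => 𝟙 X)) (h := 𝟙 X) (by simp)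
  have hW : GabLoc.subquotCoprod.{w} P (Abelian.image g) :=
    ⟨PUnit.{w + 1}, fun _ => X, fun _ => hX, X', j ≫ Sigma.ι (fun _ : PUnit.{w + 1} => X) ⟨⟩,
      Abelian.factorThruImage g, mono_comp _ _, inferInstance⟩
  have h0 := hZ (Abelian.image.ι g) inferInstance hW
  rw [← Abelian.image.fac g, h0.eq_of_tgt (Abelian.factorThruImage g) 0, zero_comp]

lemma locClosure_le_B₀_of_torsionFree {Z : C} (hZ : TorsionFree.{w} P Z) :
    GabLoc.locClosure.{w} P ≤ B₀ Z :=
  fun X hX => hX (B₀ Z) (isLocalizing_B₀ Z) (le_B₀_of_torsionFree hZ)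

lemma subquotCoprod_of_iso {A A' : C} (e : A ≅ A') (h : GabLoc.subquotCoprod.{w} P A) :
    GabLoc.subquotCoprod.{w} P A' := by
  obtain ⟨J, X, hX, B, i, p, hi, hp⟩ := h
  exact ⟨J, X, hX, B, i, p ≫ e.hom, hi, epi_comp _ _⟩

lemma subquotCoprod_of_isZero {A : C} (hA : IsZero A) : GabLoc.subquotCoprod.{w} P A :=
  ⟨PEmpty.{w + 1}, fun x => x.elim, fun x => x.elim, 0, 0, 0,
    ⟨fun a b _ => (isZero_zero C).eq_of_tgt a b⟩, ⟨fun a b _ => hA.eq_of_src a b⟩⟩

/-- Key lemma: a proper subobject of an object of the localizing closure can be enlarged by a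
subquotient of a coproduct of objects of `P`. -/
lemma exists_larger {X : C} (hX : GabLoc.locClosure.{w} P X) (A : Subobject X) (hA : A ≠ ⊤) :
    ∃ (A' : Subobject X) (h : A < A'),
      GabLoc.monoModSubquot.{w} P (Subobject.ofLE A A' h.le) := by
  have hQ := isLocalizing_locClosure.{w} P
  have := hQ.isSerreClass
  let Y := cokernel A.arrow
  let π : X ⟶ Y := cokernel.π A.arrow
  have hY : GabLoc.locClosure.{w} P Y := (GabLoc.locClosure.{w} P).prop_of_epi π hX
  have hYnz : ¬ IsZero Y := by
    intro h
    have hπ : π = 0 := h.eq_of_tgt _ _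
    have : Epi A.arrow := Abelian.epi_of_cokernel_π_eq_zero _ hπ
    have : IsIso A.arrow := isIso_of_mono_of_epi _
    exact hA ((Subobject.isIso_arrow_iff_eq_top A).1 this)
  have hntf : ¬ TorsionFree.{w} P Y := by
    intro h
    have h1 := locClosure_le_B₀_of_torsionFree h Y hY (𝟙 Y) inferInstance (𝟙 Y)
    exact hYnz ((IsZero.iff_id_eq_zero Y).2 h1)
  have hex : ∃ (W : C) (k : W ⟶ Y), Mono k ∧ GabLoc.subquotCoprod.{w} P W ∧ ¬ IsZero W := by
    by_contra hcon
    apply hntf
    intro W k hk hW
    by_contra hWz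
    exact hcon ⟨W, k, hk, hW, hWz⟩
  obtain ⟨W, k, hk, hW, hWnz⟩ := hex
  let T := pullback π k
  let t₁ : T ⟶ X := pullback.fst π k
  let t₂ : T ⟶ W := pullback.snd π k
  have ht₁ : Mono t₁ := pullback.fst_of_mono
  have ht₂ : Epi t₂ := Abelian.epi_pullback_of_epi_f π k
  let a : (A : C) ⟶ T := pullback.lift A.arrow 0 (by
    rw [zero_comp]; exact cokernel.condition A.arrow)
  have ha₁ : a ≫ t₁ = A.arrow := pullback.lift_fst _ _ _
  have ha₂ : a ≫ t₂ = 0 := pullback.lift_snd _ _ _
  let A' : Subobject X := Subobject.mk t₁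
  have hle : A ≤ A' := Subobject.le_mk_of_comm a ha₁
  let q : (A' : C) ⟶ W := (Subobject.underlyingIso t₁).hom ≫ t₂
  have hq : Epi q := epi_comp _ _
  have hle_a : Subobject.ofLE A A' hle ≫ (Subobject.underlyingIso t₁).hom = a := by
    rw [← cancel_mono t₁, Category.assoc, Subobject.underlyingIso_hom_comp_eq_mk,
      Subobject.ofLE_arrow, ha₁]
  have hzero : Subobject.ofLE A A' hle ≫ q = 0 := by
    rw [← Category.assoc, hle_a, ha₂]
  have hexact : (ShortComplex.mk (Subobject.ofLE A A' hle) q hzero).Exact := by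
    apply ShortComplex.exact_of_f_is_kernel
    refine KernelFork.IsLimit.ofι _ _
      (fun {T'} g hg => Abelian.monoLift A.arrow (g ≫ A'.arrow) ?_) ?_ ?_
    · have h1 : A'.arrow ≫ π = q ≫ k := by
        change A'.arrow ≫ π = ((Subobject.underlyingIso t₁).hom ≫ t₂) ≫ k
        rw [Category.assoc, ← pullback.condition, ← Category.assoc,
          Subobject.underlyingIso_hom_comp_eq_mk]
      change (g ≫ A'.arrow) ≫ π = 0
      rw [Category.assoc, h1, ← Category.assoc]
      change (g ≫ q) ≫ k = 0
      rw [hg, zero_comp]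
    · intro T' g hg
      rw [← cancel_mono A'.arrow, Category.assoc, Subobject.ofLE_arrow, Abelian.monoLift_comp]
    · intro T' g hg b hb
      rw [← cancel_mono A.arrow, Abelian.monoLift_comp, ← hb, Category.assoc,
        Subobject.ofLE_arrow]
  have hcok : IsColimit (CokernelCofork.ofπ q hzero) := hexact.gIsCokernel
  let e : cokernel (Subobject.ofLE A A' hle) ≅ W :=
    IsColimit.coconePointUniqueUpToIso (colimit.isColimit _) hcok
  have hne : A ≠ A' := by
    intro h
    have : IsIso (Subobject.ofLE A A' hle) := by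
      have h2 : A' ≤ A := h.symm.le
      exact ⟨Subobject.ofLE A' A h2, by simp, by simp⟩
    have hz : IsZero (cokernel (Subobject.ofLE A A' hle)) := isZero_cokernel_of_epi _
    exact hWnz (hz.of_iso e.symm)
  exact ⟨A', lt_of_le_of_ne hle hne, inferInstance, subquotCoprod_of_iso e.symm hW⟩

end Forward

section Transfinite

variable [IsGrothendieckAbelian.{w} C] {P : ObjectProperty C} {X : C}
  (hX : GabLoc.locClosure.{w} P X)

open scoped Classical in
/-- a larger subobject, obtained by adding a subquotient of a coproduct of objects of `P` -/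
noncomputable def larger (A : Subobject X) : Subobject X :=
  if hA : A = ⊤ then ⊤ else (exists_larger hX A hA).choose

@[simp]
lemma larger_top : larger hX (⊤ : Subobject X) = ⊤ := dif_pos rfl

lemma lt_larger (A : Subobject X) (hA : A ≠ ⊤) : A < larger hX A := by
  dsimp only [larger]
  rw [dif_neg hA]
  exact (exists_larger hX A hA).choose_spec.choose

lemma le_larger (A : Subobject X) : A ≤ larger hX A := by
  by_cases hA : A = ⊤
  · subst hA
    simp only [larger_top, le_refl]
  · exact (lt_larger hX A hA).le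

lemma monoModSubquot_of_isIso {Y Z : C} (f : Y ⟶ Z) [IsIso f] :
    GabLoc.monoModSubquot.{w} P f :=
  ⟨inferInstance, subquotCoprod_of_isZero (isZero_cokernel_of_epi f)⟩

lemma monoModSubquot_of_arrow_iso {Y Z Y' Z' : C} {f : Y ⟶ Z} {f' : Y' ⟶ Z'}
    (e : Arrow.mk f ≅ Arrow.mk f') (h : GabLoc.monoModSubquot.{w} P f) :
    GabLoc.monoModSubquot.{w} P f' := by
  obtain ⟨hm, hc⟩ := h
  have hf' : f' = e.inv.left ≫ f ≫ e.hom.right := by
    have := e.hom.w
    dsimp at this
    rw [← this, ← Category.assoc, ← Arrow.comp_left, Iso.inv_hom_id]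
    simp
  have : Mono f' := by
    rw [hf']
    infer_instance
  refine ⟨this, subquotCoprod_of_iso ?_ hc⟩
  exact cokernel.mapIso f f' (Arrow.leftFunc.mapIso e) (Arrow.rightFunc.mapIso e) (by
    have := e.hom.w
    dsimp at this ⊢
    exact this.symm)

lemma monoModSubquot_ofLE_larger (A : Subobject X) :
    GabLoc.monoModSubquot.{w} P (Subobject.ofLE _ _ (le_larger hX A)) := by
  by_cases hA : A = ⊤
  · subst hA
    have : IsIso (Subobject.ofLE _ _ (le_larger hX (⊤ : Subobject X))) :=
      ⟨Subobject.ofLE _ _ (by simp), by simp, by simp⟩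
    exact monoModSubquot_of_isIso _
  · refine monoModSubquot_of_arrow_iso ?_ (exists_larger hX A hA).choose_spec.choose_spec
    exact Arrow.isoMk (Iso.refl _)
      (Subobject.isoOfEq _ _ ((by simp [larger, dif_neg hA]))) (by
        dsimp
        rw [← cancel_mono (Subobject.arrow _)]
        simp)

lemma top_mem_range (A₀ : Subobject X) {J : Type w} [LinearOrder J] [OrderBot J] [SuccOrder J]
    [WellFoundedLT J] (hJ : HasCardinalLT (Subobject X) (Cardinal.mk J)) :
    ∃ (j : J), transfiniteIterate (larger hX) j A₀ = ⊤ :=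
  top_mem_range_transfiniteIterate (larger hX) A₀ (lt_larger hX) (by simp)
    (fun h ↦ by simpa [hasCardinalLT_iff_cardinal_mk_lt] using hJ.of_injective _ h)

lemma exists_ordinal (A₀ : Subobject X) :
    ∃ (o : Ordinal.{w}) (j : o.ToType), transfiniteIterate (larger hX) j A₀ = ⊤ := by
  let κ := Order.succ (Cardinal.mk (Shrink.{w} (Subobject X)))
  have : Nonempty κ.ord.ToType := by simp [κ]
  have := WellFoundedLT.toOrderBot κ.ord.ToType
  exact ⟨κ.ord, top_mem_range hX A₀ (lt_of_lt_of_le (Order.lt_succ _) (by simp [κ]))⟩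

section

variable (A₀ : Subobject X) (J : Type w) [LinearOrder J] [OrderBot J] [SuccOrder J]
  [WellFoundedLT J]

/-- the functor `J ⥤ MonoOver X` given by the transfinite iteration -/
@[simps]
noncomputable def functorToMonoOver : J ⥤ MonoOver X where
  obj j := MonoOver.mk (transfiniteIterate (larger hX) j A₀).arrow
  map {j j'} f := MonoOver.homMk (Subobject.ofLE _ _
      (monotone_transfiniteIterate _ _ (le_larger hX) (leOfHom f)))

/-- The functor `J ⥤ C` induced by `functorToMonoOver`. -/
noncomputable abbrev functor : J ⥤ C :=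
  functorToMonoOver hX A₀ J ⋙ MonoOver.forget _ ⋙ Over.forget _

set_option backward.defeqAttrib.useBackward true in
instance : (functor hX A₀ J).IsWellOrderContinuous where
  nonempty_isColimit m hm := ⟨by
    have := hm.nonempty_Iio.to_subtype
    let c := (Set.principalSegIio m).cocone (functorToMonoOver hX A₀ J ⋙ MonoOver.forget _)
    have : Mono c.pt.hom := by dsimp [c]; infer_instance
    apply IsGrothendieckAbelian.isColimitMapCoconeOfSubobjectMkEqISup
      ((Set.principalSegIio m).monotone.functor ⋙ functorToMonoOver hX A₀ J) c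
    dsimp [c]
    simp only [Subobject.mk_arrow]
    exact transfiniteIterate_limit (larger hX) A₀ m hm⟩

set_option backward.isDefEq.respectTransparency.types false in
set_option backward.defeqAttrib.useBackward true in
variable {J} in
/-- the map from the bottom is a transfinite composition -/
noncomputable def transfiniteCompositionOfShapeMapFromBot (j : J) :
    (GabLoc.monoModSubquot.{w} P).TransfiniteCompositionOfShape (Set.Iic j)
    ((functor hX A₀ J).map (homOfLE bot_le : ⊥ ⟶ j)) where
  F := (Set.initialSegIic j).monotone.functor ⋙ functor hX A₀ J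
  isoBot := Iso.refl _
  incl :=
    { app k := (functor hX A₀ J).map (homOfLE k.2)
      naturality k k' h := by simp [MonoOver.forget] }
  isColimit := colimitOfDiagramTerminal isTerminalTop _
  map_mem k hk := by
    dsimp [MonoOver.forget]
    convert!
      monoModSubquot_ofLE_larger hX (transfiniteIterate (larger hX) k.1 A₀) using 2
    all_goals
      rw [Set.Iic.succ_eq_of_not_isMax hk,
        transfiniteIterate_succ _ _ _ (Set.not_isMax_coe _ hk)]

end

set_option backward.defeqAttrib.useBackward true in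
set_option backward.isDefEq.respectTransparency false in
/-- If the iteration starting from `⊥` reaches `⊤`, then `0 ⟶ X` is a transfinite composition. -/
noncomputable def transfiniteCompositionOfShapeOfEqTop
    {J : Type w} [LinearOrder J] [OrderBot J] [SuccOrder J] [WellFoundedLT J] {j : J}
    (hj : transfiniteIterate (larger hX) j (⊥ : Subobject X) = ⊤) :
    (GabLoc.monoModSubquot.{w} P).TransfiniteCompositionOfShape (Set.Iic j)
      (0 : (0 : C) ⟶ X) := by
  let t := transfiniteIterate (larger hX) j (⊥ : Subobject X)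
  have := (Subobject.isIso_arrow_iff_eq_top t).2 hj
  apply (transfiniteCompositionOfShapeMapFromBot hX (⊥ : Subobject X) j).ofArrowIso
  refine Arrow.isoMk ((Subobject.isoOfEq _ _ (transfiniteIterate_bot _ _) ≪≫
    Subobject.botCoeIsoZero)) (asIso t.arrow) ?_
  exact IsZero.eq_of_src
    ((isZero_zero C).of_iso (Subobject.isoOfEq _ _ (transfiniteIterate_bot _ _) ≪≫
      Subobject.botCoeIsoZero)) _ _

include hX in
lemma transfiniteCompositions_of_locClosure :
    MorphismProperty.transfiniteCompositions.{w} (GabLoc.monoModSubquot.{w} P)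
      (0 : (0 : C) ⟶ X) := by
  obtain ⟨o, j, hj⟩ := exists_ordinal hX (⊥ : Subobject X)
  have : Nonempty o.ToType := ⟨j⟩
  have : OrderBot o.ToType := WellFoundedLT.toOrderBot _
  rw [MorphismProperty.transfiniteCompositions_iff]
  exact ⟨_, _, _, _, _, ⟨transfiniteCompositionOfShapeOfEqTop hX hj⟩⟩

end Transfinite

end Groth.Agent.Lib.Helper32.GabLocFilt
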