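import Mathlib
import Groth.Prelude.Def_DRing3
import Groth.Agent.Lib.Helper32.ModCxElem

/-!
# `Γ_I` on complexes of injectives over a Noetherian ring (helper32)

* `baer_torsionSub`: over a Noetherian ring, `Γ_𝔞 E` is injective for injective `E`;
* `exists_smul_sub`: for injective `E`, `g` acts surjectively on `E / Γ_g E`;
* `quasiIso_ιΓ`: for a complex `J` of injectives whose cohomology is `𝔞`-power torsion, the
  inclusion `Γ_𝔞 J ⟶ J` is a quasi-isomorphism.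
-/

set_option autoImplicit false
universe u
open CategoryTheory CategoryTheory.Limits HomologicalComplex

namespace Groth.Agent.Lib.Helper32.GammaNoeth

open Groth.Agent.Lib.Helper32.ModCxElem

variable {A : Type u} [CommRing A]

section Modules

variable {M : Type u} [AddCommGroup M] [Module A M]

lemma mem_torsionSub_span_singleton (f : A) (x : M) :
    x ∈ DRing.torsionSub (Ideal.span {f}) M ↔ ∃ n : ℕ, f ^ n • x = 0 := by
  constructor
  · rintro ⟨n, hn⟩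
    exact ⟨n, hn _ (by rw [Ideal.span_singleton_pow]; exact Ideal.mem_span_singleton_self _)⟩
  · rintro ⟨n, hn⟩
    refine ⟨n, fun a ha => ?_⟩
    rw [Ideal.span_singleton_pow, Ideal.mem_span_singleton'] at ha
    obtain ⟨c, rfl⟩ := ha
    rw [mul_smul, hn, smul_zero]

lemma torsionSub_mono {𝔞 𝔟 : Ideal A} (h : 𝔞 ≤ 𝔟) : DRing.torsionSub 𝔟 M ≤ DRing.torsionSub 𝔞 M := by
  rintro x ⟨n, hn⟩
  exact ⟨n, fun a ha => hn a (Ideal.pow_right_mono h n ha)⟩

lemma mem_torsionSub_sup {𝔞 𝔟 : Ideal A} (x : M) (ha : x ∈ DRing.torsionSub 𝔞 M)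
    (hb : x ∈ DRing.torsionSub 𝔟 M) : x ∈ DRing.torsionSub (𝔞 ⊔ 𝔟) M := by
  obtain ⟨n, hn⟩ := ha
  obtain ⟨m, hm⟩ := hb
  refine ⟨n + m, fun a ha => ?_⟩
  have h1 : a ∈ 𝔞 ^ n ⊔ 𝔟 ^ m := Ideal.sup_pow_add_le_pow_sup_pow ha
  obtain ⟨y, hy, z, hz, rfl⟩ := Submodule.mem_sup.1 h1
  rw [add_smul, hn y hy, hm z hz, add_zero]

/-- the chain of annihilators of powers of `g` stabilises -/
lemma exists_ann_pow_stable [IsNoetherianRing A] (g : A) :
    ∃ N : ℕ, ∀ a : A, a * g ^ (N + 1) = 0 → a * g ^ N = 0 := by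
  let T : ℕ →o Submodule A A :=
    { toFun := fun k => LinearMap.ker (LinearMap.toSpanSingleton A A (g ^ k))
      monotone' := by
        intro k l hkl a ha
        simp only [LinearMap.mem_ker, LinearMap.toSpanSingleton_apply, smul_eq_mul] at ha ⊢
        obtain ⟨d, rfl⟩ := Nat.exists_eq_add_of_le hkl
        rw [pow_add, ← mul_assoc, ha, zero_mul] }
  obtain ⟨N, hN⟩ := (monotone_stabilizes_iff_noetherian (R := A) (M := A)).2 inferInstance T
  refine ⟨N, fun a ha => ?_⟩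
  have h1 : a ∈ T (N + 1) := by
    simp only [T, OrderHom.coe_mk, LinearMap.mem_ker, LinearMap.toSpanSingleton_apply, smul_eq_mul]
    exact ha
  rw [← hN (N + 1) (Nat.le_succ N)] at h1
  simpa [T] using h1

/-- for an injective module `E` over a Noetherian ring, `g` acts surjectively modulo `g`-power torsion -/
lemma exists_smul_sub [IsNoetherianRing A] (hE : Module.Baer A M) (g : A) (x : M) :
    ∃ (y : M) (N : ℕ), g ^ N • (g • y - x) = 0 := by
  obtain ⟨N, hN⟩ := exists_ann_pow_stable g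
  let p : Submodule A A := LinearMap.ker (LinearMap.toSpanSingleton A A (g ^ (N + 1)))
  let ι : (A ⧸ p) →ₗ[A] A := p.liftQ (LinearMap.toSpanSingleton A A (g ^ (N + 1))) le_rfl
  have hι : Function.Injective ι := by
    rw [← LinearMap.ker_eq_bot]
    exact Submodule.ker_liftQ_eq_bot _ _ _ le_rfl
  let φ : (A ⧸ p) →ₗ[A] M := p.liftQ (LinearMap.toSpanSingleton A M (g ^ N • x)) (by
    intro a ha
    simp only [p, LinearMap.mem_ker, LinearMap.toSpanSingleton_apply, smul_eq_mul] at ha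
    simp only [LinearMap.mem_ker, LinearMap.toSpanSingleton_apply]
    rw [← mul_smul, hN a ha, zero_smul])
  obtain ⟨h, hh⟩ := hE.extension_property ι hι φ
  refine ⟨h 1, N, ?_⟩
  have h1 : h (ι (Submodule.Quotient.mk 1)) = φ (Submodule.Quotient.mk 1) := by
    rw [← hh]; rfl
  have h2 : ι (Submodule.Quotient.mk 1) = g ^ (N + 1) := by
    change (LinearMap.toSpanSingleton A A (g ^ (N + 1))) 1 = _
    simp
  have h3 : φ (Submodule.Quotient.mk 1) = g ^ N • x := by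
    change (LinearMap.toSpanSingleton A M (g ^ N • x)) 1 = _
    simp
  rw [h2, h3] at h1
  have h4 : h (g ^ (N + 1)) = g ^ (N + 1) • h 1 := by
    rw [← map_smul, smul_eq_mul, mul_one]
  rw [h4] at h1
  rw [smul_sub, ← mul_smul, ← pow_succ, h1, sub_self]

/-- a linear map from a Noetherian module into `Γ_𝔞 M` has image killed by a single power of `𝔞` -/
lemma exists_pow_kills {X : Type u} [AddCommGroup X] [Module A X] [IsNoetherian A X] (𝔞 : Ideal A)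
    (g : X →ₗ[A] DRing.torsionSub 𝔞 M) :
    ∃ n : ℕ, ∀ (b : X) (a : A), a ∈ 𝔞 ^ n → a • (g b : M) = 0 := by
  let T : ℕ →o Submodule A X :=
    { toFun := fun k => Submodule.comap ((DRing.torsionSub 𝔞 M).subtype ∘ₗ g)
        (Submodule.torsionBySet A M ((𝔞 ^ k : Ideal A) : Set A))
      monotone' := by
        intro k l hkl
        apply Submodule.comap_mono
        apply Submodule.torsionBySet_le_torsionBySet_of_subset
        exact Ideal.pow_le_pow_right hkl }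
  obtain ⟨N, hN⟩ := (monotone_stabilizes_iff_noetherian (R := A) (M := X)).2 inferInstance T
  refine ⟨N, fun b a ha => ?_⟩
  obtain ⟨m, hm⟩ := (g b).2
  have h1 : b ∈ T (max m N) := by
    simp only [T, OrderHom.coe_mk, Submodule.mem_comap, LinearMap.coe_comp, Submodule.coe_subtype,
      Function.comp_apply, Submodule.mem_torsionBySet_iff]
    intro c
    exact hm c.1 (Ideal.pow_le_pow_right (le_max_left m N) c.2)
  rw [← hN (max m N) (le_max_right m N)] at h1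
  simp only [T, OrderHom.coe_mk, Submodule.mem_comap, LinearMap.coe_comp, Submodule.coe_subtype,
    Function.comp_apply, Submodule.mem_torsionBySet_iff] at h1
  exact h1 ⟨a, ha⟩

/-- over a Noetherian ring, the `𝔞`-power torsion of an injective module is injective -/
theorem baer_torsionSub [IsNoetherianRing A] (𝔞 : Ideal A) (hE : Module.Baer A M) :
    Module.Baer A (DRing.torsionSub 𝔞 M) := by
  intro 𝔟 g
  obtain ⟨n, hn⟩ := exists_pow_kills 𝔞 g
  obtain ⟨k, hk⟩ := Ideal.exists_pow_inf_eq_pow_smul 𝔞 (𝔟 : Submodule A A)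
  let m := n + k
  have hkill : ∀ b : 𝔟, (b : A) ∈ 𝔞 ^ m → g b = 0 := by
    intro b hb
    have h1 : (b : A) ∈ 𝔞 ^ m • (⊤ : Submodule A A) ⊓ 𝔟 :=
      ⟨by rw [Ideal.smul_top_eq_map, Algebra.algebraMap_self, Ideal.map_id]; exact hb, b.2⟩
    rw [hk m (Nat.le_add_left k n)] at h1
    have hmk : m - k = n := Nat.add_sub_cancel n k
    rw [hmk] at h1
    have key : ∃ hb' : (b : A) ∈ 𝔟, g ⟨(b : A), hb'⟩ = 0 := by
      refine Submodule.smul_induction_on h1 ?_ ?_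
      · intro r hr y hy
        refine ⟨𝔟.smul_mem r hy.2, ?_⟩
        have : (⟨r • y, 𝔟.smul_mem r hy.2⟩ : 𝔟) = r • (⟨y, hy.2⟩ : 𝔟) := rfl
        rw [this, map_smul]
        apply Subtype.ext
        exact hn _ r hr
      · rintro x y ⟨hx, hx'⟩ ⟨hy, hy'⟩
        refine ⟨𝔟.add_mem hx hy, ?_⟩
        have : (⟨x + y, 𝔟.add_mem hx hy⟩ : 𝔟) = (⟨x, hx⟩ : 𝔟) + ⟨y, hy⟩ := rfl
        rw [this, map_add, hx', hy', add_zero]
    obtain ⟨_, h2⟩ := key
    exact h2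
  let p : Submodule A 𝔟 := Submodule.comap 𝔟.subtype (𝔞 ^ m)
  let f : (𝔟 ⧸ p) →ₗ[A] (A ⧸ 𝔞 ^ m) := Submodule.mapQ p (𝔞 ^ m) 𝔟.subtype le_rfl
  have hf : Function.Injective f := by
    rw [← LinearMap.ker_eq_bot, LinearMap.ker_eq_bot']
    intro x hx
    obtain ⟨b, rfl⟩ := Submodule.Quotient.mk_surjective _ x
    rw [Submodule.Quotient.mk_eq_zero]
    have h1 : (Submodule.Quotient.mk (b : A) : A ⧸ 𝔞 ^ m) = 0 := hx
    rw [Submodule.Quotient.mk_eq_zero] at h1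
    exact h1
  let gbar : (𝔟 ⧸ p) →ₗ[A] M := p.liftQ ((DRing.torsionSub 𝔞 M).subtype ∘ₗ g) (by
    intro b hb
    simp only [LinearMap.mem_ker, LinearMap.coe_comp, Submodule.coe_subtype, Function.comp_apply]
    rw [hkill b hb]
    rfl)
  obtain ⟨h, hh⟩ := hE.extension_property f hf gbar
  let e : M := h (Submodule.Quotient.mk 1)
  have he : ∀ a : A, a • e = h (Submodule.Quotient.mk a) := by
    intro a
    rw [← map_smul, ← Submodule.Quotient.mk_smul, smul_eq_mul, mul_one]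
  have hmem : e ∈ DRing.torsionSub 𝔞 M := by
    refine ⟨m, fun a ha => ?_⟩
    rw [he, (Submodule.Quotient.mk_eq_zero _).2 ha, map_zero]
  refine ⟨LinearMap.toSpanSingleton A _ ⟨e, hmem⟩, fun b hb => ?_⟩
  apply Subtype.ext
  rw [LinearMap.toSpanSingleton_apply]
  change b • e = _
  rw [he]
  have h1 : h (f (Submodule.Quotient.mk ⟨b, hb⟩)) = gbar (Submodule.Quotient.mk ⟨b, hb⟩) := by
    rw [← hh]; rfl
  exact h1

end Modules

section Complexes

/-- `Γ_𝔞 J` -/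
noncomputable abbrev Gam (𝔞 : Ideal A) (J : CochainComplex (ModuleCat.{u} A) ℤ) :
    CochainComplex (ModuleCat.{u} A) ℤ :=
  ((DRing.gammaI 𝔞).mapHomologicalComplex (ComplexShape.up ℤ)).obj J

/-- the inclusion `Γ_𝔞 J ⟶ J` -/
noncomputable def ιΓ (𝔞 : Ideal A) (J : CochainComplex (ModuleCat.{u} A) ℤ) : Gam 𝔞 J ⟶ J :=
  (NatTrans.mapHomologicalComplex (DRing.gammaIι 𝔞) (ComplexShape.up ℤ)).app J ≫
    (Functor.mapHomologicalComplexIdIso (ModuleCat.{u} A) (ComplexShape.up ℤ)).hom.app J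

lemma ιΓ_f_apply (𝔞 : Ideal A) (J : CochainComplex (ModuleCat.{u} A) ℤ) (q : ℤ)
    (x : DRing.torsionSub 𝔞 (J.X q)) : ((ιΓ 𝔞 J).f q) x = x.1 := rfl

lemma ιΓ_f_injective (𝔞 : Ideal A) (J : CochainComplex (ModuleCat.{u} A) ℤ) (q : ℤ) :
    Function.Injective ((ιΓ 𝔞 J).f q) := by
  intro x y h
  exact Subtype.ext (a1 := (x : DRing.torsionSub 𝔞 (J.X q))) (a2 := y) h

lemma ιΓ_f_mem (𝔞 : Ideal A) (J : CochainComplex (ModuleCat.{u} A) ℤ) (q : ℤ)
    (x : (Gam 𝔞 J).X q) : ((ιΓ 𝔞 J).f q) x ∈ DRing.torsionSub 𝔞 (J.X q) :=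
  (x : DRing.torsionSub 𝔞 (J.X q)).2

lemma exists_of_mem (𝔞 : Ideal A) (J : CochainComplex (ModuleCat.{u} A) ℤ) (q : ℤ)
    (y : J.X q) (hy : y ∈ DRing.torsionSub 𝔞 (J.X q)) :
    ∃ x : (Gam 𝔞 J).X q, ((ιΓ 𝔞 J).f q) x = y :=
  ⟨(⟨y, hy⟩ : DRing.torsionSub 𝔞 (J.X q)), rfl⟩

lemma ιΓ_comm_apply (𝔞 : Ideal A) (J : CochainComplex (ModuleCat.{u} A) ℤ) (q q' : ℤ)
    (x : (Gam 𝔞 J).X q) :
    ((ιΓ 𝔞 J).f q') (((Gam 𝔞 J).d q q') x) = (J.d q q') (((ιΓ 𝔞 J).f q) x) := by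
  have h1 := ConcreteCategory.congr_hom ((ιΓ 𝔞 J).comm q q') x
  rw [ConcreteCategory.comp_apply, ConcreteCategory.comp_apply] at h1
  exact h1.symm

lemma d_d_apply (J : CochainComplex (ModuleCat.{u} A) ℤ) (p q r : ℤ) (x : J.X p) :
    (J.d q r) ((J.d p q) x) = 0 := by
  have h1 := ConcreteCategory.congr_hom (J.d_comp_d p q r) x
  rw [ConcreteCategory.comp_apply] at h1
  exact h1

lemma exists_boundary_of_torsion (J : CochainComplex (ModuleCat.{u} A) ℤ) (p q q' : ℤ)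
    (hp : p + 1 = q) (hq : q + 1 = q') (z : J.X q) (hz : (J.d q q') z = 0) (f : A)
    (hH : ∀ y : J.homology q, ∃ n : ℕ, f ^ n • y = 0) :
    ∃ (n : ℕ) (w : J.X p), (J.d p q) w = f ^ n • z := by
  obtain ⟨c, rfl⟩ := exists_cycle' J q q' hq z hz
  obtain ⟨n, hn⟩ := hH ((J.homologyπ q) c)
  have h1 : (J.homologyπ q) (f ^ n • c) = 0 := by
    rw [map_smul]; exact hn
  obtain ⟨w, hw⟩ := exists_boundary' J p q hp _ h1
  exact ⟨n, w, by rw [hw, map_smul]⟩

/-- the case of a principal ideal -/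
theorem quasiIso_ιΓ_singleton [IsNoetherianRing A] (f : A)
    (J : CochainComplex (ModuleCat.{u} A) ℤ) (hJ : ∀ q, Module.Baer A (J.X q))
    (hH : ∀ (q : ℤ) (y : J.homology q), ∃ n : ℕ, f ^ n • y = 0) :
    QuasiIso (ιΓ (Ideal.span {f}) J) := by
  apply quasiIso_of_elementwise
  · intro q z hz w hw
    obtain ⟨n, hn⟩ := (mem_torsionSub_span_singleton f _).1 (ιΓ_f_mem _ J q z)
    have hcyc : (J.d (q - 1) q) (f ^ n • w) = 0 := by
      rw [map_smul, hw, hn]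
    obtain ⟨m, v, hv⟩ := exists_boundary_of_torsion J (q - 1 - 1) (q - 1) q (by omega) (by omega)
      (f ^ n • w) hcyc f (hH (q - 1))
    obtain ⟨v', k, hk⟩ := exists_smul_sub (hJ (q - 1 - 1)) (f ^ (m + n)) v
    have hmem : w - (J.d (q - 1 - 1) (q - 1)) v' ∈
        DRing.torsionSub (Ideal.span {f}) (J.X (q - 1)) := by
      rw [mem_torsionSub_span_singleton]
      refine ⟨(m + n) * k + (m + n), ?_⟩
      have h1 : f ^ (m + n) • (w - (J.d (q - 1 - 1) (q - 1)) v') =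
          - (J.d (q - 1 - 1) (q - 1)) (f ^ (m + n) • v' - v) := by
        rw [map_sub, map_smul, hv, smul_sub, pow_add, mul_smul]
        abel
      rw [pow_add, mul_smul, h1, smul_neg, ← map_smul, pow_mul, hk, map_zero, neg_zero]
    obtain ⟨w'', hw''⟩ := exists_of_mem _ J (q - 1) _ hmem
    refine ⟨w'', ?_⟩
    apply ιΓ_f_injective
    rw [ιΓ_comm_apply, hw'', map_sub, d_d_apply, sub_zero, hw]
  · intro q z hz
    obtain ⟨n, w, hw⟩ := exists_boundary_of_torsion J (q - 1) q (q + 1) (by omega) rfl z hz f (hH q)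
    obtain ⟨w', k, hk⟩ := exists_smul_sub (hJ (q - 1)) (f ^ n) w
    have hmem : z - (J.d (q - 1) q) w' ∈ DRing.torsionSub (Ideal.span {f}) (J.X q) := by
      rw [mem_torsionSub_span_singleton]
      refine ⟨n * k + n, ?_⟩
      have h1 : f ^ n • (z - (J.d (q - 1) q) w') = - (J.d (q - 1) q) (f ^ n • w' - w) := by
        rw [map_sub, map_smul, hw, smul_sub]
        abel
      rw [pow_add, mul_smul, h1, smul_neg, ← map_smul, pow_mul, hk, map_zero, neg_zero]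
    obtain ⟨z', hz'⟩ := exists_of_mem _ J q _ hmem
    refine ⟨z', ?_, w', ?_⟩
    · apply ιΓ_f_injective
      rw [ιΓ_comm_apply, hz', map_sub, d_d_apply, sub_zero, hz, map_zero]
    · rw [hz']
      exact (sub_sub_cancel z _).symm

/-- `Γ_𝔟 (Γ_𝔞 M) ≃ Γ_{𝔞 ⊔ 𝔟} M` -/
def compEquiv (𝔞 𝔟 : Ideal A) (M : Type u) [AddCommGroup M] [Module A M] :
    DRing.torsionSub 𝔟 (DRing.torsionSub 𝔞 M) ≃ₗ[A] DRing.torsionSub (𝔞 ⊔ 𝔟) M where
  toFun x := ⟨x.1.1, mem_torsionSub_sup _ x.1.2 (by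
    obtain ⟨n, hn⟩ := x.2
    exact ⟨n, fun a ha => congrArg Subtype.val (hn a ha)⟩)⟩
  map_add' _ _ := rfl
  map_smul' _ _ := rfl
  invFun y := ⟨⟨y.1, torsionSub_mono le_sup_left y.2⟩, by
    obtain ⟨n, hn⟩ := torsionSub_mono (le_sup_right : 𝔟 ≤ 𝔞 ⊔ 𝔟) y.2
    exact ⟨n, fun a ha => Subtype.ext (hn a ha)⟩⟩
  left_inv _ := rfl
  right_inv _ := rfl

/-- `Γ_𝔟 (Γ_𝔞 J) ≅ Γ_{𝔞 ⊔ 𝔟} J` -/
noncomputable def compIso (𝔞 𝔟 : Ideal A) (J : CochainComplex (ModuleCat.{u} A) ℤ) :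
    Gam 𝔟 (Gam 𝔞 J) ≅ Gam (𝔞 ⊔ 𝔟) J :=
  HomologicalComplex.Hom.isoOfComponents (fun q => (compEquiv 𝔞 𝔟 (J.X q)).toModuleIso) (by
    intro i j _
    rfl)

lemma compIso_hom_ιΓ (𝔞 𝔟 : Ideal A) (J : CochainComplex (ModuleCat.{u} A) ℤ) :
    (compIso 𝔞 𝔟 J).hom ≫ ιΓ (𝔞 ⊔ 𝔟) J = ιΓ 𝔟 (Gam 𝔞 J) ≫ ιΓ 𝔞 J := by
  ext q x
  rfl

/-- Over a Noetherian ring, for a complex `J` of injective modules whose cohomology modules are
`𝔞`-power torsion, the inclusion `Γ_𝔞 J ⟶ J` is a quasi-isomorphism. -/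
theorem quasiIso_ιΓ [IsNoetherianRing A] (𝔞 : Ideal A) :
    ∀ (J : CochainComplex (ModuleCat.{u} A) ℤ), (∀ q, Module.Baer A (J.X q)) →
    (∀ (q : ℤ) (y : J.homology q), ∃ n : ℕ, ∀ a ∈ 𝔞 ^ n, a • y = 0) → QuasiIso (ιΓ 𝔞 J) := by
  have hfg : (𝔞 : Submodule A A).FG := (isNoetherian_def.1 inferInstance) 𝔞
  refine Submodule.fg_induction (R := A) (M := A)
    (motive := fun (𝔞 : Submodule A A) _ => ∀ (J : CochainComplex (ModuleCat.{u} A) ℤ),
      (∀ q, Module.Baer A (J.X q)) →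
      (∀ (q : ℤ) (y : J.homology q), ∃ n : ℕ, ∀ a ∈ (𝔞 : Ideal A) ^ n, a • y = 0) →
      QuasiIso (ιΓ 𝔞 J)) ?_ ?_ 𝔞 hfg
  · intro f J hJ hH
    have := quasiIso_ιΓ_singleton f J hJ (fun q y => by
      obtain ⟨n, hn⟩ := hH q y
      exact ⟨n, hn _ (by
        change f ^ n ∈ (Ideal.span {f}) ^ n
        rw [Ideal.span_singleton_pow]; exact Ideal.mem_span_singleton_self _)⟩)
    exact this
  · intro 𝔞 𝔟 _ _ h𝔞 h𝔟 J hJ hH
    have h1 : QuasiIso (ιΓ 𝔞 J) := h𝔞 J hJ (fun q y => by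
      obtain ⟨n, hn⟩ := hH q y
      exact ⟨n, fun a ha => hn a (Ideal.pow_right_mono le_sup_left n ha)⟩)
    have h2 : QuasiIso (ιΓ 𝔟 (Gam 𝔞 J)) := by
      refine h𝔟 (Gam 𝔞 J) (fun q => baer_torsionSub 𝔞 (hJ q)) (fun q y => ?_)
      obtain ⟨n, hn⟩ := hH q ((homologyMap (ιΓ 𝔞 J) q) y)
      refine ⟨n, fun a ha => ?_⟩
      have hinj : Function.Injective (homologyMap (ιΓ 𝔞 J) q) :=
        ((ConcreteCategory.isIso_iff_bijective _).1 inferInstance).1
      apply hinj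
      rw [map_smul, map_zero]
      exact hn a (Ideal.pow_right_mono le_sup_right n ha)
    have h3 : ιΓ (𝔞 ⊔ 𝔟) J = (compIso 𝔞 𝔟 J).inv ≫ ιΓ 𝔟 (Gam 𝔞 J) ≫ ιΓ 𝔞 J := by
      rw [← compIso_hom_ιΓ, Iso.inv_hom_id_assoc]
    rw [h3]
    infer_instance

end Complexes

end Groth.Agent.Lib.Helper32.GammaNoeth
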