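import Mathlib
import Groth.Agent.Lib.Helper32.GammaNoeth
import Groth.Agent.Lib.Helper32.TriRF
import Groth.Agent.Lib.Helper32.KInjRes
import Groth.Agent.Lib.Helper32.RDPlus

/-!
# `RΓ_I` over a Noetherian ring (helper32)

Consequences of `GammaNoeth.quasiIso_ιΓ` for the total right derived functor `RΓ_I`
(`DRing.RgammaI`, under `DRing.HasRgammaI`).
-/

set_option autoImplicit false
universe u
open CategoryTheory CategoryTheory.Limits HomologicalComplex DerivedCategory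
attribute [local instance] HasDerivedCategory.standard

namespace Groth.Agent.Lib.Helper32.GammaNoethD

open Groth.Agent.Lib.Helper32.GammaNoeth Groth.Agent.Lib.Helper32.KInjDerived
  Groth.Agent.Lib.Helper32

variable {A : Type u} [CommRing A] [IsNoetherianRing A] (𝔞 : Ideal A)

omit [IsNoetherianRing A] in
lemma baer_of_injective (E : ModuleCat.{u} A) [Injective E] : Module.Baer A E :=
  Module.Baer.of_injective (Module.injective_module_of_injective_object A E)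

instance injective_gammaI_obj (E : ModuleCat.{u} A) [Injective E] :
    Injective ((DRing.gammaI 𝔞).obj E) :=
  Module.injective_object_of_injective_module A _
    (inj := Module.Baer.injective (baer_torsionSub 𝔞 (baer_of_injective E)))

omit [IsNoetherianRing A] in
lemma hasKInjRes : HasKInjRes (ModuleCat.{u} A) := by
  intro K
  obtain ⟨I, f, hI, hf, -, -⟩ := KInjRes.exists_kInjective_resolution K
  exact ⟨I, f, hI, hf⟩

/-- `Γ_𝔞` of an acyclic complex of injectives is acyclic -/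
lemma acyclic_Gam (C : CochainComplex (ModuleCat.{u} A) ℤ) (hC : ∀ q, Injective (C.X q))
    (hac : C.Acyclic) : (Gam 𝔞 C).Acyclic := by
  have hq : QuasiIso (ιΓ 𝔞 C) := quasiIso_ιΓ 𝔞 C (fun q => baer_of_injective (C.X q)) (fun q y => by
    have hz : IsZero (C.homology q) := (hac q).isZero_homology
    haveI : Subsingleton (C.homology q) := ModuleCat.subsingleton_of_isZero hz
    exact ⟨0, fun a _ => Subsingleton.elim _ _⟩)
  intro q
  exact (quasiIsoAt_iff_exactAt' (ιΓ 𝔞 C) q (hac q)).1 inferInstance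

/-- `Γ_𝔞` preserves quasi-isomorphisms between complexes of injectives -/
lemma quasiIso_Gam_map {J₁ J₂ : CochainComplex (ModuleCat.{u} A) ℤ} (s : J₁ ⟶ J₂) [QuasiIso s]
    (h₁ : ∀ q, Injective (J₁.X q)) (h₂ : ∀ q, Injective (J₂.X q)) :
    QuasiIso (((DRing.gammaI 𝔞).mapHomologicalComplex (ComplexShape.up ℤ)).map s) := by
  rw [ConeAcyclic.quasiIso_map_iff_acyclic_map_mappingCone]
  apply acyclic_Gam
  · intro q
    have e : (CochainComplex.mappingCone s).X q ≅ J₁.X (q + 1) ⊞ J₂.X q :=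
      HomologicalComplex.homotopyCofiber.XIsoBiprod s q (q + 1) rfl
    haveI := h₁ (q + 1)
    haveI := h₂ q
    exact Injective.of_iso e.symm inferInstance
  · exact (ConeAcyclic.quasiIso_iff_acyclic_mappingCone s).1 inferInstance

variable (RF : DerivedCategory (ModuleCat.{u} A) ⥤ DerivedCategory (ModuleCat.{u} A))
  (α : (DRing.gammaI 𝔞).mapHomotopyCategory (ComplexShape.up ℤ) ⋙ DerivedCategory.Qh ⟶
    DerivedCategory.Qh ⋙ RF)
  [RF.IsRightDerivedFunctor α (HomotopyCategory.quasiIso (ModuleCat.{u} A) (ComplexShape.up ℤ))]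

/-- any complex of injectives computes `RΓ_𝔞` -/
lemma isIso_β_of_injective (J : CochainComplex (ModuleCat.{u} A) ℤ) (hJ : ∀ q, Injective (J.X q)) :
    IsIso (TriRF.β (DRing.gammaI 𝔞) RF α J) := by
  obtain ⟨J', s, hJ', hs, -, hinj⟩ := KInjRes.exists_kInjective_resolution J
  haveI := hJ'
  haveI := hs
  haveI : IsIso (TriRF.β (DRing.gammaI 𝔞) RF α J') := TriRF.isIso_β _ _ _ hasKInjRes J'
  haveI : QuasiIso (((DRing.gammaI 𝔞).mapHomologicalComplex (ComplexShape.up ℤ)).map s) :=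
    quasiIso_Gam_map 𝔞 s hJ hinj
  haveI : IsIso (Q.map (((DRing.gammaI 𝔞).mapHomologicalComplex (ComplexShape.up ℤ)).map s)) := by
    rw [isIso_Q_map_iff_quasiIso]; infer_instance
  haveI : IsIso (Q.map s) := by
    rw [isIso_Q_map_iff_quasiIso]; infer_instance
  have hnat := TriRF.β_naturality (DRing.gammaI 𝔞) RF α s
  have h1 : TriRF.β (DRing.gammaI 𝔞) RF α J =
      (Q.map (((DRing.gammaI 𝔞).mapHomologicalComplex (ComplexShape.up ℤ)).map s) ≫
        TriRF.β (DRing.gammaI 𝔞) RF α J') ≫ inv (RF.map (Q.map s)) := by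
    rw [hnat, Category.assoc, IsIso.hom_inv_id, Category.comp_id]
  rw [h1]
  infer_instance

section Eps

variable [DRing.HasRgammaI 𝔞]

/-- the unit of `RΓ_𝔞` -/
noncomputable abbrev αΓ : DRing.gammaIKh 𝔞 ⟶ DerivedCategory.Qh ⋙ DRing.RgammaI 𝔞 :=
  (DRing.gammaIKh 𝔞).totalRightDerivedUnit DerivedCategory.Qh
    (HomotopyCategory.quasiIso (ModuleCat.{u} A) (ComplexShape.up ℤ))

/-- the comparison map `Q (Γ_𝔞 J) ⟶ RΓ_𝔞 (Q J)` -/
noncomputable abbrev βΓ (J : CochainComplex (ModuleCat.{u} A) ℤ) :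
    Q.obj (Gam 𝔞 J) ⟶ (DRing.RgammaI 𝔞).obj (Q.obj J) :=
  TriRF.β (DRing.gammaI 𝔞) (DRing.RgammaI 𝔞) (αΓ 𝔞) J

omit [IsNoetherianRing A] in
lemma βΓ_eq (J : CochainComplex (ModuleCat.{u} A) ℤ) :
    βΓ 𝔞 J = (αΓ 𝔞).app ((HomotopyCategory.quotient _ _).obj J) := by
  have hβ : βΓ 𝔞 J = 𝟙 (Qh.obj ((HomotopyCategory.quotient _ _).obj (Gam 𝔞 J))) ≫
      Qh.map (𝟙 ((HomotopyCategory.quotient _ _).obj (Gam 𝔞 J))) ≫
      (αΓ 𝔞).app ((HomotopyCategory.quotient _ _).obj J) ≫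
      (DRing.RgammaI 𝔞).map (𝟙 (Qh.obj ((HomotopyCategory.quotient _ _).obj J))) := rfl
  rw [hβ]
  simp only [CategoryTheory.Functor.map_id, Category.id_comp]
  erw [Category.comp_id]

omit [IsNoetherianRing A] in
lemma βΓ_ε (J : CochainComplex (ModuleCat.{u} A) ℤ) :
    βΓ 𝔞 J ≫ (DRing.RgammaIε 𝔞).app (Q.obj J) = Q.map (ιΓ 𝔞 J) := by
  have hfac : (αΓ 𝔞).app ((HomotopyCategory.quotient _ _).obj J) ≫
      (DRing.RgammaIε 𝔞).app (Q.obj J) =
      (DRing.gammaIτ 𝔞 ≫ (Functor.rightUnitor _).inv).app ((HomotopyCategory.quotient _ _).obj J) :=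
    Functor.rightDerived_fac_app _ _ _ _ _ _
  have e1 : (DRing.gammaIτ 𝔞).app ((HomotopyCategory.quotient _ _).obj J) =
      (DRing.gammaIτ0 𝔞).app J := rfl
  have e2 : (DRing.gammaIτ0 𝔞).app J =
      𝟙 (Qh.obj ((HomotopyCategory.quotient _ _).obj (Gam 𝔞 J))) ≫
      Qh.map (𝟙 ((HomotopyCategory.quotient _ _).obj (Gam 𝔞 J))) ≫
      𝟙 (Qh.obj ((HomotopyCategory.quotient _ _).obj (Gam 𝔞 J))) ≫
      Qh.map ((HomotopyCategory.quotient _ _).map
        ((NatTrans.mapHomologicalComplex (DRing.gammaIι 𝔞) (ComplexShape.up ℤ)).app J)) ≫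
      Qh.map ((HomotopyCategory.quotient _ _).map
        ((Functor.mapHomologicalComplexIdIso (ModuleCat.{u} A) (ComplexShape.up ℤ)).hom.app J)) ≫
      𝟙 (Qh.obj ((HomotopyCategory.quotient _ _).obj J)) := rfl
  have e3 : Q.map (ιΓ 𝔞 J) = Qh.map ((HomotopyCategory.quotient _ _).map
        ((NatTrans.mapHomologicalComplex (DRing.gammaIι 𝔞) (ComplexShape.up ℤ)).app J)) ≫
      Qh.map ((HomotopyCategory.quotient _ _).map
        ((Functor.mapHomologicalComplexIdIso (ModuleCat.{u} A) (ComplexShape.up ℤ)).hom.app J)) := by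
    rw [← Qh.map_comp, ← Functor.map_comp]
    rfl
  rw [βΓ_eq]
  refine hfac.trans ?_
  rw [NatTrans.comp_app, e1, e2, e3]
  simp only [CategoryTheory.Functor.map_id, Category.id_comp, Category.comp_id,
    Functor.rightUnitor_inv_app]
  erw [Category.comp_id]

end Eps

omit [IsNoetherianRing A] in
lemma exists_rep (K : DerivedCategory (ModuleCat.{u} A)) :
    ∃ (J : CochainComplex (ModuleCat.{u} A) ℤ), J.IsKInjective ∧ (∀ q, Injective (J.X q)) ∧
      Nonempty (Q.obj J ≅ K) := by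
  obtain ⟨J, f, hJ, hf, -, hinj⟩ := KInjRes.exists_kInjective_resolution (Q.objPreimage K)
  haveI : IsIso (Q.map f) := by rw [isIso_Q_map_iff_quasiIso]; exact hf
  exact ⟨J, hJ, hinj, ⟨(asIso (Q.map f)).symm ≪≫ Q.objObjPreimageIso K⟩⟩

/-- `𝔞`-power torsion modules -/
def IsTors (M : ModuleCat.{u} A) : Prop := ∀ y : M, ∃ n : ℕ, ∀ a ∈ 𝔞 ^ n, a • y = 0

omit [IsNoetherianRing A] in
lemma IsTors.of_iso {M N : ModuleCat.{u} A} (e : M ≅ N) (h : IsTors 𝔞 N) : IsTors 𝔞 M := by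
  intro y
  obtain ⟨n, hn⟩ := h (e.hom y)
  refine ⟨n, fun a ha => ?_⟩
  have hinj : Function.Injective e.hom := (ConcreteCategory.isIso_iff_bijective e.hom).1 inferInstance |>.1
  apply hinj
  rw [map_smul, map_zero]
  exact hn a ha

omit [IsNoetherianRing A] in
/-- the cohomology of `Γ_𝔞 J` is `𝔞`-power torsion -/
lemma isTors_homology_Gam (J : CochainComplex (ModuleCat.{u} A) ℤ) (q : ℤ) :
    IsTors 𝔞 ((Gam 𝔞 J).homology q) := by
  intro y
  obtain ⟨c, rfl⟩ := ModCxElem.homologyπ_surjective (Gam 𝔞 J) q y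
  obtain ⟨n, hn⟩ := ιΓ_f_mem 𝔞 J q (((Gam 𝔞 J).iCycles q) c)
  refine ⟨n, fun a ha => ?_⟩
  have h1 : a • c = 0 := by
    apply ModCxElem.iCycles_injective
    apply ιΓ_f_injective
    rw [map_smul, map_smul, map_zero, map_zero]
    exact hn a ha
  rw [← map_smul, h1, map_zero]

section Main

variable [DRing.HasRgammaI 𝔞]

omit [IsNoetherianRing A] in
lemma isTors_homology_Rgamma (K : DerivedCategory (ModuleCat.{u} A)) (q : ℤ) :
    IsTors 𝔞 ((DerivedCategory.homologyFunctor (ModuleCat.{u} A) q).obj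
      ((DRing.RgammaI 𝔞).obj K)) := by
  obtain ⟨J, hJ, -, ⟨e⟩⟩ := exists_rep K
  haveI := hJ
  haveI : IsIso (βΓ 𝔞 J) := TriRF.isIso_β _ _ _ hasKInjRes J
  refine IsTors.of_iso 𝔞 ((DerivedCategory.homologyFunctor (ModuleCat.{u} A) q).mapIso
    ((DRing.RgammaI 𝔞).mapIso e.symm ≪≫ (asIso (βΓ 𝔞 J)).symm) ≪≫
    (DerivedCategory.homologyFunctorFactors (ModuleCat.{u} A) q).app (Gam 𝔞 J)) ?_
  exact isTors_homology_Gam 𝔞 J q

/-- Over a Noetherian ring, `RΓ_𝔞 K ⟶ K` is an isomorphism if the cohomology of `K` is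
`𝔞`-power torsion. -/
theorem isIso_ε_of_torsion (K : DerivedCategory (ModuleCat.{u} A))
    (hK : ∀ q : ℤ, IsTors 𝔞 ((DerivedCategory.homologyFunctor (ModuleCat.{u} A) q).obj K)) :
    IsIso ((DRing.RgammaIε 𝔞).app K) := by
  obtain ⟨J, hJ, hinj, ⟨e⟩⟩ := exists_rep K
  haveI := hJ
  haveI : IsIso (βΓ 𝔞 J) := TriRF.isIso_β _ _ _ hasKInjRes J
  have hq : QuasiIso (ιΓ 𝔞 J) := quasiIso_ιΓ 𝔞 J (fun q => baer_of_injective (J.X q)) (fun q => by
    have := IsTors.of_iso 𝔞 (((DerivedCategory.homologyFunctorFactors (ModuleCat.{u} A) q).app J).symm ≪≫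
      (DerivedCategory.homologyFunctor (ModuleCat.{u} A) q).mapIso e) (hK q)
    exact this)
  haveI : IsIso (Q.map (ιΓ 𝔞 J)) := by rw [isIso_Q_map_iff_quasiIso]; exact hq
  haveI : IsIso ((DRing.RgammaIε 𝔞).app (Q.obj J)) := by
    have h1 : (DRing.RgammaIε 𝔞).app (Q.obj J) = inv (βΓ 𝔞 J) ≫ Q.map (ιΓ 𝔞 J) := by
      rw [← βΓ_ε, IsIso.inv_hom_id_assoc]
    rw [h1]
    infer_instance
  have hnat := (DRing.RgammaIε 𝔞).naturality e.hom
  dsimp only [Functor.id_map] at hnat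
  have h2 : (DRing.RgammaIε 𝔞).app K =
      (DRing.RgammaI 𝔞).map e.inv ≫ (DRing.RgammaIε 𝔞).app (Q.obj J) ≫ e.hom := by
    rw [← hnat, ← Functor.map_comp_assoc, Iso.inv_hom_id, CategoryTheory.Functor.map_id, Category.id_comp]
  rw [h2]
  infer_instance

end Main

end Groth.Agent.Lib.Helper32.GammaNoethD
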