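import Mathlib
import Groth.Agent.Lib.Helper32.GammaNoethD

/-!
# `RΓ_I` is right adjoint to the inclusion of complexes with torsion cohomology (helper32)
-/

set_option autoImplicit false
universe v u
open CategoryTheory CategoryTheory.Limits HomologicalComplex DerivedCategory

namespace Groth.Agent.Lib.Helper32.GammaAdj

section Abstract

variable {C : Type u} [Category.{v} C] (T : C ⥤ C) (ε : T ⟶ 𝟭 C) (P : ObjectProperty C)
  (h : ∀ K, P (T.obj K)) (hP : ∀ L, P L → IsIso (ε.app L)) (hT : ∀ K, Mono (T.map (ε.app K)))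

include hP hT in
lemma bijective_comp_ε (L : P.FullSubcategory) (K : C) :
    Function.Bijective (fun ψ : L ⟶ (P.lift T h).obj K => ψ.hom ≫ ε.app K) := by
  haveI := hP L.obj L.property
  haveI := hT K
  constructor
  · intro ψ ψ' hψ
    dsimp only at hψ
    have h1 : T.map ψ.hom = T.map ψ'.hom := by
      rw [← cancel_mono (T.map (ε.app K)), ← T.map_comp, ← T.map_comp, hψ]
    have h2 := ε.naturality ψ.hom
    have h3 := ε.naturality ψ'.hom
    dsimp only [Functor.id_map] at h2 h3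
    apply ObjectProperty.hom_ext
    rw [← cancel_epi (ε.app L.obj), ← h2, ← h3, h1]
  · intro (φ : L.obj ⟶ K)
    refine ⟨ObjectProperty.homMk (inv (ε.app L.obj) ≫ T.map φ), ?_⟩
    have h2 := ε.naturality φ
    dsimp only [Functor.id_map, Functor.id_obj] at h2
    change (inv (ε.app L.obj) ≫ T.map φ) ≫ ε.app K = φ
    rw [Category.assoc, h2, IsIso.inv_hom_id_assoc]

include hP hT in
/-- a copointed endofunctor `(T, ε)` with values in `P`, with `ε` invertible on `P` and `T ε`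
monic, is right adjoint to the inclusion of `P` -/
theorem nonempty_adjunction : Nonempty (P.ι ⊣ P.lift T h) := by
  refine ⟨Adjunction.mkOfHomEquiv
    { homEquiv := fun L K => (Equiv.ofBijective _ (bijective_comp_ε T ε P h hP hT L K)).symm
      homEquiv_naturality_left_symm := ?_
      homEquiv_naturality_right := ?_ }⟩
  · intro L' L K f g
    rw [Equiv.symm_symm, Equiv.symm_symm, Equiv.ofBijective_apply, Equiv.ofBijective_apply]
    simp
  · intro L K K' f g
    apply (Equiv.ofBijective _ (bijective_comp_ε T ε P h hP hT L K')).injective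
    rw [Equiv.apply_symm_apply, Equiv.ofBijective_apply]
    have h1 : ((Equiv.ofBijective _ (bijective_comp_ε T ε P h hP hT L K)).symm f).hom ≫ ε.app K = f :=
      (Equiv.ofBijective _ (bijective_comp_ε T ε P h hP hT L K)).apply_symm_apply f
    have h2 := ε.naturality g
    dsimp only [Functor.id_map] at h2
    change f ≫ g = (((Equiv.ofBijective _ (bijective_comp_ε T ε P h hP hT L K)).symm f).hom ≫
      T.map g) ≫ ε.app K'
    rw [Category.assoc, h2, reassoc_of% h1]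

end Abstract

section Gamma

attribute [local instance] HasDerivedCategory.standard

open Groth.Agent.Lib.Helper32.GammaNoeth Groth.Agent.Lib.Helper32.GammaNoethD
  Groth.Agent.Lib.Helper32.KInjDerived

universe w

variable {A : Type w} [CommRing A] (𝔞 : Ideal A)

lemma Gam_map_ιΓ (J : CochainComplex (ModuleCat.{w} A) ℤ) :
    ((DRing.gammaI 𝔞).mapHomologicalComplex (ComplexShape.up ℤ)).map (ιΓ 𝔞 J) =
      ιΓ 𝔞 (Gam 𝔞 J) := by
  ext q x
  rfl

/-- `Γ_𝔞 (Γ_𝔞 J) ⟶ Γ_𝔞 J` is an isomorphism -/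
lemma isIso_Gam_map_ιΓ (J : CochainComplex (ModuleCat.{w} A) ℤ) :
    IsIso (((DRing.gammaI 𝔞).mapHomologicalComplex (ComplexShape.up ℤ)).map (ιΓ 𝔞 J)) := by
  rw [Gam_map_ιΓ]
  haveI : ∀ q, IsIso ((ιΓ 𝔞 (Gam 𝔞 J)).f q) := by
    intro q
    rw [ConcreteCategory.isIso_iff_bijective]
    refine ⟨ιΓ_f_injective 𝔞 (Gam 𝔞 J) q, fun y => ?_⟩
    obtain ⟨n, hn⟩ := ιΓ_f_mem 𝔞 J q y
    refine exists_of_mem 𝔞 (Gam 𝔞 J) q y ⟨n, fun a ha => ?_⟩
    apply ιΓ_f_injective
    rw [map_smul, map_zero]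
    exact hn a ha
  exact HomologicalComplex.Hom.isIso_of_components _

variable [IsNoetherianRing A] [DRing.HasRgammaI 𝔞]

/-- `RΓ_𝔞` applied to `RΓ_𝔞 K ⟶ K` is an isomorphism -/
theorem isIso_map_ε (K : DerivedCategory (ModuleCat.{w} A)) :
    IsIso ((DRing.RgammaI 𝔞).map ((DRing.RgammaIε 𝔞).app K)) := by
  obtain ⟨J, hJ, hinj, ⟨e⟩⟩ := exists_rep K
  haveI := hJ
  haveI : IsIso (βΓ 𝔞 J) := TriRF.isIso_β _ _ _ hasKInjRes J
  haveI : IsIso (βΓ 𝔞 (Gam 𝔞 J)) :=
    isIso_β_of_injective 𝔞 _ _ (Gam 𝔞 J) (fun q => by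
      haveI := hinj q
      exact injective_gammaI_obj 𝔞 (J.X q))
  haveI := isIso_Gam_map_ιΓ 𝔞 J
  -- `RΓ (Q ι)` is an isomorphism
  haveI : IsIso ((DRing.RgammaI 𝔞).map (Q.map (ιΓ 𝔞 J))) := by
    have hnat := TriRF.β_naturality (DRing.gammaI 𝔞) (DRing.RgammaI 𝔞) (αΓ 𝔞) (ιΓ 𝔞 J)
    have h1 : (DRing.RgammaI 𝔞).map (Q.map (ιΓ 𝔞 J)) = inv (βΓ 𝔞 (Gam 𝔞 J)) ≫
        Q.map (((DRing.gammaI 𝔞).mapHomologicalComplex (ComplexShape.up ℤ)).map (ιΓ 𝔞 J)) ≫
        βΓ 𝔞 J := by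
      rw [hnat, IsIso.inv_hom_id_assoc]
    rw [h1]
    infer_instance
  haveI : IsIso ((DRing.RgammaI 𝔞).map ((DRing.RgammaIε 𝔞).app (Q.obj J))) := by
    have h1 : (DRing.RgammaIε 𝔞).app (Q.obj J) = inv (βΓ 𝔞 J) ≫ Q.map (ιΓ 𝔞 J) := by
      rw [← βΓ_ε, IsIso.inv_hom_id_assoc]
    rw [h1, Functor.map_comp]
    infer_instance
  have hnat := (DRing.RgammaIε 𝔞).naturality e.hom
  dsimp only [Functor.id_map] at hnat
  have h2 : (DRing.RgammaIε 𝔞).app K =
      (DRing.RgammaI 𝔞).map e.inv ≫ (DRing.RgammaIε 𝔞).app (Q.obj J) ≫ e.hom := by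
    rw [← hnat, ← Functor.map_comp_assoc, Iso.inv_hom_id, CategoryTheory.Functor.map_id,
      Category.id_comp]
  rw [h2, Functor.map_comp, Functor.map_comp]
  infer_instance

/-- `RΓ_𝔞` is right adjoint to the inclusion of the objects with `𝔞`-power torsion cohomology -/
theorem nonempty_adjunction_Rgamma :
    ∃ h : ∀ K : DerivedCategory (ModuleCat.{w} A),
      (fun L : DerivedCategory (ModuleCat.{w} A) => ∀ i : ℤ,
        IsTors 𝔞 ((DerivedCategory.homologyFunctor (ModuleCat.{w} A) i).obj L))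
        ((DRing.RgammaI 𝔞).obj K),
      Nonempty (ObjectProperty.ι (fun L : DerivedCategory (ModuleCat.{w} A) => ∀ i : ℤ,
        IsTors 𝔞 ((DerivedCategory.homologyFunctor (ModuleCat.{w} A) i).obj L)) ⊣
        ObjectProperty.lift (fun L : DerivedCategory (ModuleCat.{w} A) => ∀ i : ℤ,
        IsTors 𝔞 ((DerivedCategory.homologyFunctor (ModuleCat.{w} A) i).obj L))
          (DRing.RgammaI 𝔞) h) := by
  refine ⟨fun K i => isTors_homology_Rgamma 𝔞 K i, ?_⟩
  exact nonempty_adjunction (DRing.RgammaI 𝔞) (DRing.RgammaIε 𝔞) _ _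
    (fun L hL => isIso_ε_of_torsion 𝔞 L hL)
    (fun K => by haveI := isIso_map_ε 𝔞 K; infer_instance)

end Gamma

end Groth.Agent.Lib.Helper32.GammaAdj
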