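import Mathlib
import Groth.Prelude.Def_DualLC
import Groth.Prelude.Def_DRing3
import Groth.Agent.Lib.Helper83.SingleHom

/-!
# `H⁰(Γ_I L) ≃ colim_n Hom_{D(A)}(A/Iⁿ, L)` for a K-injective complex `L` (helper32)
-/

set_option autoImplicit false
universe u
open CategoryTheory CategoryTheory.Limits DerivedCategory HomologicalComplex
attribute [local instance] HasDerivedCategory.standard

namespace Groth.Agent.Lib.Helper32.GammaColim

open Groth.Agent.Lib.Helper83.SingleHom

variable {A : Type u} [CommRing A] (I : Ideal A)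

/-- `A/Iⁿ` as a module -/
abbrev S (n : ℕ) : ModuleCat.{u} A := ModuleCat.of A (A ⧸ I ^ n)

variable (L : CochainComplex (ModuleCat.{u} A) ℤ)

/-- `Γ_I L` -/
noncomputable abbrev GamL : CochainComplex (ModuleCat.{u} A) ℤ :=
  ((DRing.gammaI I).mapHomologicalComplex (ComplexShape.up ℤ)).obj L

/-- cycles of degree `0` killed by `Iⁿ` -/
def Zn (n : ℕ) : Submodule A (L.X 0) where
  carrier := {z | (L.d 0 1) z = 0 ∧ ∀ a ∈ I ^ n, a • z = 0}
  zero_mem' := ⟨map_zero _, fun a _ => smul_zero a⟩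
  add_mem' := by
    rintro z z' ⟨h1, h2⟩ ⟨h1', h2'⟩
    refine ⟨by rw [map_add, h1, h1', add_zero], fun a ha => ?_⟩
    rw [smul_add, h2 a ha, h2' a ha, add_zero]
  smul_mem' := by
    rintro c z ⟨h1, h2⟩
    refine ⟨by rw [map_smul, h1, smul_zero], fun a ha => ?_⟩
    rw [smul_comm, h2 a ha, smul_zero]

/-- the linear map `A/Iⁿ → M` attached to an element killed by `Iⁿ` -/
noncomputable def lin {M : ModuleCat.{u} A} (n : ℕ) (x : M) (hx : ∀ a ∈ I ^ n, a • x = 0) :
    S I n ⟶ M :=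
  ModuleCat.ofHom (Submodule.liftQ (I ^ n) (LinearMap.toSpanSingleton A M x) (by
    intro a ha
    simp only [LinearMap.mem_ker, LinearMap.toSpanSingleton_apply]
    exact hx a ha))

lemma lin_apply {M : ModuleCat.{u} A} (n : ℕ) (x : M) (hx : ∀ a ∈ I ^ n, a • x = 0) (a : A) :
    (lin I n x hx) (Submodule.Quotient.mk a) = a • x := rfl

/-- the generator of `A/Iⁿ` -/
def one (n : ℕ) : A ⧸ I ^ n := Submodule.Quotient.mk (1 : A)

lemma mk_eq_smul_one (n : ℕ) (a : A) :
    (Submodule.Quotient.mk a : A ⧸ I ^ n) = a • one I n := by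
  rw [one, ← Submodule.Quotient.mk_smul, smul_eq_mul, mul_one]

lemma lin_one {M : ModuleCat.{u} A} (n : ℕ) (x : M) (hx : ∀ a ∈ I ^ n, a • x = 0) :
    (lin I n x hx) (one I n) = x := by
  have := lin_apply I n x hx 1
  rw [one_smul] at this
  exact this

lemma hom_ext_S {M : ModuleCat.{u} A} (n : ℕ) (f g : S I n ⟶ M)
    (h : f (one I n) = g (one I n)) : f = g := by
  apply ModuleCat.hom_ext
  apply LinearMap.ext
  intro x
  obtain ⟨a, rfl⟩ := Submodule.Quotient.mk_surjective _ x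
  rw [mk_eq_smul_one, map_smul, map_smul]
  congr 1

lemma smul_one_eq_zero (n : ℕ) (a : A) (ha : a ∈ I ^ n) : a • one I n = 0 := by
  rw [← mk_eq_smul_one]
  exact (Submodule.Quotient.mk_eq_zero _).2 ha

lemma smul_apply_one_eq_zero {M : ModuleCat.{u} A} (n : ℕ) (f : S I n ⟶ M) (a : A) (ha : a ∈ I ^ n) :
    a • f (one I n) = 0 := by
  change a • f.hom _ = 0
  rw [← map_smul, smul_one_eq_zero I n a ha, map_zero]

/-- the chain map `A/Iⁿ[0] ⟶ L` attached to a cycle killed by `Iⁿ` -/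
noncomputable def fz (n : ℕ) (z : Zn I L n) : sg (S I n) ⟶ L :=
  HomologicalComplex.mkHomFromSingle (lin I n z.1 z.2.2) (by
    intro k hk
    obtain rfl : (0 : ℤ) + 1 = k := hk
    apply hom_ext_S
    change (L.d 0 (0 + 1)) ((lin I n z.1 z.2.2) (one I n)) = 0
    rw [lin_one]
    exact z.2.1)

/-- evaluation of a chain map from `A/Iⁿ[0]` at the generator -/
noncomputable def ev1 (n : ℕ) (f : sg (S I n) ⟶ L) : L.X 0 :=
  (f.f 0) ((singleObjXSelf (ComplexShape.up ℤ) 0 (S I n)).inv (one I n))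

lemma ev1_fz (n : ℕ) (z : Zn I L n) : ev1 I L n (fz I L n z) = z.1 := by
  dsimp only [ev1, fz]
  rw [HomologicalComplex.mkHomFromSingle_f]
  have h5 : (singleObjXSelf (ComplexShape.up ℤ) 0 (S I n)).hom
      ((singleObjXSelf (ComplexShape.up ℤ) 0 (S I n)).inv (one I n)) = one I n :=
    ConcreteCategory.congr_hom (singleObjXSelf (ComplexShape.up ℤ) 0 (S I n)).inv_hom_id (one I n)
  change (lin I n z.1 z.2.2) ((singleObjXSelf (ComplexShape.up ℤ) 0 (S I n)).hom
      ((singleObjXSelf (ComplexShape.up ℤ) 0 (S I n)).inv (one I n))) = z.1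
  rw [h5, lin_one]

lemma hom_ext_ev1 (n : ℕ) (f g : sg (S I n) ⟶ L) (h : ev1 I L n f = ev1 I L n g) : f = g := by
  apply HomologicalComplex.from_single_hom_ext
  rw [← cancel_epi (singleObjXSelf (ComplexShape.up ℤ) 0 (S I n)).inv]
  apply hom_ext_S
  exact h

lemma ev1_mem (n : ℕ) (f : sg (S I n) ⟶ L) : ev1 I L n f ∈ Zn I L n := by
  constructor
  · have h1 : f.f 0 ≫ L.d 0 1 = 0 := by
      rw [f.comm 0 1]
      have : (sg (S I n)).d 0 1 = 0 := rfl
      rw [this, zero_comp]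
    exact ConcreteCategory.congr_hom h1 _
  · intro a ha
    exact smul_apply_one_eq_zero I n ((singleObjXSelf (ComplexShape.up ℤ) 0 (S I n)).inv ≫ f.f 0) a ha

lemma fz_ev1 (n : ℕ) (f : sg (S I n) ⟶ L) : fz I L n ⟨ev1 I L n f, ev1_mem I L n f⟩ = f := by
  apply hom_ext_ev1
  rw [ev1_fz]

lemma ev1_add (n : ℕ) (f g : sg (S I n) ⟶ L) : ev1 I L n (f + g) = ev1 I L n f + ev1 I L n g := rfl

lemma ev1_smul (n : ℕ) (a : A) (f : sg (S I n) ⟶ L) : ev1 I L n (a • f) = a • ev1 I L n f := rfl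

lemma fz_add (n : ℕ) (z z' : Zn I L n) : fz I L n (z + z') = fz I L n z + fz I L n z' := by
  apply hom_ext_ev1
  rw [ev1_add, ev1_fz, ev1_fz, ev1_fz]
  rfl

lemma fz_smul (n : ℕ) (a : A) (z : Zn I L n) : fz I L n (a • z) = a • fz I L n z := by
  apply hom_ext_ev1
  rw [ev1_smul, ev1_fz, ev1_fz]
  rfl

/-- the linear map from cycles killed by `Iⁿ` to morphisms `A/Iⁿ ⟶ L` in the derived category -/
noncomputable def qmap (n : ℕ) :
    Zn I L n →ₗ[A] ((DerivedCategory.singleFunctor (ModuleCat.{u} A) 0).obj (S I n) ⟶ Q.obj L) where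
  toFun z := qm (fz I L n z)
  map_add' z z' := by
    rw [fz_add]
    exact Q.map_add
  map_smul' a z := by
    rw [fz_smul]
    exact Q.map_smul _ _

lemma qmap_apply (n : ℕ) (z : Zn I L n) : qmap I L n z = qm (fz I L n z) := rfl

lemma qmap_surjective [L.IsKInjective] (n : ℕ) : Function.Surjective (qmap I L n) := by
  intro φ
  obtain ⟨f, rfl⟩ := exists_qm_eq φ
  exact ⟨⟨ev1 I L n f, ev1_mem I L n f⟩, by rw [qmap_apply, fz_ev1]⟩

lemma qmap_eq_zero_of (n : ℕ) (z : Zn I L n) (h : L.X (-1)) (hh : ∀ a ∈ I ^ n, a • h = 0)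
    (hd : (L.d (-1) 0) h = z.1) : qmap I L n z = 0 := by
  rw [qmap_apply]
  refine qm_eq_zero (fz I L n z) (lin I n h hh) ?_
  rw [← cancel_mono (L.iCycles 0), Category.assoc, toCycles_i, zOf_iCycles]
  apply hom_ext_S
  change (L.d (-1) 0) ((lin I n h hh) (one I n)) = ev1 I L n (fz I L n z)
  rw [lin_one, ev1_fz, hd]

lemma exists_of_qmap_eq_zero [L.IsKInjective] (n : ℕ) (z : Zn I L n) (hz : qmap I L n z = 0) :
    ∃ h : L.X (-1), (∀ a ∈ I ^ n, a • h = 0) ∧ (L.d (-1) 0) h = z.1 := by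
  rw [qmap_apply] at hz
  have h1 : (HomotopyCategory.quotient _ (ComplexShape.up ℤ)).map (fz I L n z) =
      (HomotopyCategory.quotient _ (ComplexShape.up ℤ)).map 0 := by
    apply (CochainComplex.IsKInjective.Qh_map_bijective _ L).injective
    rw [Functor.map_zero, Functor.map_zero]
    exact hz
  have ho : Homotopy (fz I L n z) 0 := HomotopyCategory.homotopyOfEq _ _ h1
  have hcomm := ho.comm 0
  rw [dNext_eq ho.hom (show (ComplexShape.up ℤ).Rel 0 1 by simp),
    prevD_eq ho.hom (show (ComplexShape.up ℤ).Rel (-1) 0 by simp),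
    HomologicalComplex.zero_f, add_zero] at hcomm
  have hd : (sg (S I n)).d 0 1 = 0 := rfl
  rw [hd, zero_comp, zero_add] at hcomm
  refine ⟨((singleObjXSelf (ComplexShape.up ℤ) 0 (S I n)).inv ≫ ho.hom 0 (-1)) (one I n),
    fun a ha => smul_apply_one_eq_zero I n _ a ha, ?_⟩
  have h3 := ConcreteCategory.congr_hom hcomm
    ((singleObjXSelf (ComplexShape.up ℤ) 0 (S I n)).inv (one I n))
  have h4 := ev1_fz I L n z
  rw [← h4]
  exact h3.symm

/-- the cycle of `Γ_I L` attached to a cycle killed by `Iⁿ` -/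
noncomputable def tors (n : ℕ) : ModuleCat.of A (Zn I L n) ⟶ (GamL I L).X 0 :=
  ModuleCat.ofHom (LinearMap.codRestrict (DRing.torsionSub I (L.X 0)) (Zn I L n).subtype
    (fun z => ⟨n, z.2.2⟩))

lemma tors_d (n : ℕ) : tors I L n ≫ (GamL I L).d 0 1 = 0 := by
  apply ModuleCat.hom_ext
  apply LinearMap.ext
  intro z
  apply Subtype.ext
  exact z.2.1

/-- the cycle of `Γ_I L` attached to a cycle killed by `Iⁿ` -/
noncomputable def cyc (n : ℕ) : ModuleCat.of A (Zn I L n) ⟶ (GamL I L).cycles 0 :=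
  (GamL I L).liftCycles (tors I L n) 1 (by simp) (tors_d I L n)

/-- the class in `H⁰(Γ_I L)` of a cycle killed by `Iⁿ` -/
noncomputable def cls (n : ℕ) : ModuleCat.of A (Zn I L n) ⟶ (GamL I L).homology 0 :=
  cyc I L n ≫ (GamL I L).homologyπ 0

lemma cyc_i (n : ℕ) : cyc I L n ≫ (GamL I L).iCycles 0 = tors I L n := by
  simp [cyc]

lemma exact_homologyπ (K : CochainComplex (ModuleCat.{u} A) ℤ) (c : K.cycles 0)
    (hc : (K.homologyπ 0) c = 0) : ∃ x : K.X (-1), (K.toCycles (-1) 0) x = c := by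
  have hex : (ShortComplex.mk (K.toCycles (-1) 0) (K.homologyπ 0)
      (K.toCycles_comp_homologyπ (-1) 0)).Exact :=
    ShortComplex.exact_of_g_is_cokernel _ (K.homologyIsCokernel (-1) 0 (by simp))
  rw [ShortComplex.moduleCat_exact_iff] at hex
  exact hex c hc

lemma cls_eq_zero_of (n : ℕ) (z : Zn I L n) (h : L.X (-1)) (m : ℕ) (hh : ∀ a ∈ I ^ m, a • h = 0)
    (hd : (L.d (-1) 0) h = z.1) : (cls I L n) z = 0 := by
  let x : (GamL I L).X (-1) := (⟨h, m, hh⟩ : DRing.torsionSub I (L.X (-1)))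
  have h1 : (cyc I L n) z = ((GamL I L).toCycles (-1) 0) x := by
    have hmono : Function.Injective ((GamL I L).iCycles 0) :=
      (ModuleCat.mono_iff_injective _).1 inferInstance
    apply hmono
    have e1 := ConcreteCategory.congr_hom (cyc_i I L n) z
    have e2 := ConcreteCategory.congr_hom ((GamL I L).toCycles_i (-1) 0) x
    rw [ConcreteCategory.comp_apply] at e1 e2
    rw [e1, e2]
    apply Subtype.ext
    exact hd.symm
  change ((GamL I L).homologyπ 0) ((cyc I L n) z) = 0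
  rw [h1]
  exact ConcreteCategory.congr_hom ((GamL I L).toCycles_comp_homologyπ (-1) 0) x

lemma exists_of_cls_eq_zero (n : ℕ) (z : Zn I L n) (hz : (cls I L n) z = 0) :
    ∃ (h : L.X (-1)) (m : ℕ), (∀ a ∈ I ^ m, a • h = 0) ∧ (L.d (-1) 0) h = z.1 := by
  obtain ⟨x, hx⟩ := exact_homologyπ (GamL I L) ((cyc I L n) z) hz
  obtain ⟨m, hm⟩ := (x : DRing.torsionSub I (L.X (-1))).2
  refine ⟨(x : DRing.torsionSub I (L.X (-1))).1, m, hm, ?_⟩
  have e1 := ConcreteCategory.congr_hom (cyc_i I L n) z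
  have e2 := ConcreteCategory.congr_hom ((GamL I L).toCycles_i (-1) 0) x
  rw [ConcreteCategory.comp_apply] at e1 e2
  rw [hx, e1] at e2
  exact (congrArg Subtype.val e2).symm

lemma ker_qmap_le [L.IsKInjective] (n : ℕ) :
    LinearMap.ker (qmap I L n) ≤ LinearMap.ker (cls I L n).hom := by
  intro z hz
  obtain ⟨h, hh, hd⟩ := exists_of_qmap_eq_zero I L n z hz
  exact cls_eq_zero_of I L n z h n hh hd

/-- the map `Hom_{D(A)}(A/Iⁿ, L) → H⁰(Γ_I L)` -/
noncomputable def Ψ [L.IsKInjective] (n : ℕ) :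
    ((DerivedCategory.singleFunctor (ModuleCat.{u} A) 0).obj (S I n) ⟶ Q.obj L) →ₗ[A]
      (GamL I L).homology 0 :=
  ((LinearMap.ker (qmap I L n)).liftQ (cls I L n).hom (ker_qmap_le I L n)).comp
    (LinearMap.quotKerEquivOfSurjective (qmap I L n) (qmap_surjective I L n)).symm.toLinearMap

lemma Ψ_qmap [L.IsKInjective] (n : ℕ) (z : Zn I L n) : Ψ I L n (qmap I L n z) = (cls I L n) z := by
  dsimp only [Ψ]
  rw [LinearMap.comp_apply, LinearEquiv.coe_coe, LinearMap.quotKerEquivOfSurjective_symm_apply]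
  rfl

/-- the inclusion of cycles killed by `Iⁿ` into cycles killed by `Iᵐ`, `n ≤ m` -/
def incl {n m : ℕ} (h : n ≤ m) (z : Zn I L n) : Zn I L m :=
  ⟨z.1, z.2.1, fun a ha => z.2.2 a (Ideal.pow_le_pow_right h ha)⟩

lemma cls_incl {n m : ℕ} (h : n ≤ m) (z : Zn I L n) : (cls I L m) (incl I L h z) = (cls I L n) z := by
  have h1 : (cyc I L m) (incl I L h z) = (cyc I L n) z := by
    have hmono : Function.Injective ((GamL I L).iCycles 0) :=
      (ModuleCat.mono_iff_injective _).1 inferInstance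
    apply hmono
    have e1 := ConcreteCategory.congr_hom (cyc_i I L n) z
    have e2 := ConcreteCategory.congr_hom (cyc_i I L m) (incl I L h z)
    rw [ConcreteCategory.comp_apply] at e1 e2
    rw [e1, e2]
    rfl
  change ((GamL I L).homologyπ 0) ((cyc I L m) (incl I L h z)) = _
  rw [h1]
  rfl

/-- the transition map `A/Iᵐ → A/Iⁿ`, `n ≤ m` -/
noncomputable def tr {n m : ℕ} (h : n ≤ m) : S I m ⟶ S I n :=
  ModuleCat.ofHom (Submodule.mapQ (I ^ m) (I ^ n) LinearMap.id (Ideal.pow_le_pow_right h))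

lemma tr_one {n m : ℕ} (h : n ≤ m) : (tr I h) (one I m) = one I n := rfl

lemma qmap_incl {n m : ℕ} (h : n ≤ m) (z : Zn I L n) :
    (DerivedCategory.singleFunctor (ModuleCat.{u} A) 0).map (tr I h) ≫ qmap I L n z =
      qmap I L m (incl I L h z) := by
  rw [qmap_apply, qmap_apply, qm_precomp]
  congr 1
  apply hom_ext_ev1
  rw [ev1_fz]
  dsimp only [ev1]
  rw [HomologicalComplex.comp_f, HomologicalComplex.single_map_f_self]
  simp only [Category.assoc]
  have h5 : (singleObjXSelf (ComplexShape.up ℤ) 0 (S I m)).hom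
      ((singleObjXSelf (ComplexShape.up ℤ) 0 (S I m)).inv (one I m)) = one I m :=
    ConcreteCategory.congr_hom (singleObjXSelf (ComplexShape.up ℤ) 0 (S I m)).inv_hom_id (one I m)
  change ((fz I L n z).f 0) ((singleObjXSelf (ComplexShape.up ℤ) 0 (S I n)).inv ((tr I h)
    ((singleObjXSelf (ComplexShape.up ℤ) 0 (S I m)).hom
      ((singleObjXSelf (ComplexShape.up ℤ) 0 (S I m)).inv (one I m))))) = _
  rw [h5, tr_one]
  exact ev1_fz I L n z

/-- the diagram `n ↦ A/Iⁿ` in `D(A)ᵒᵖ` -/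
noncomputable abbrev Dg : ℕᵒᵖᵒᵖ ⥤ (Dual.D A)ᵒᵖ :=
  (localCohomology.ringModIdeals (localCohomology.idealPowersDiagram I) ⋙
    DerivedCategory.singleFunctor (ModuleCat.{u} A) 0).op

/-- the diagram `n ↦ Hom(A/Iⁿ, X)` -/
noncomputable abbrev Fd (X : Dual.D A) : ℕᵒᵖᵒᵖ ⥤ ModuleCat.{u + 1} A :=
  Dg I ⋙ (linearYoneda A (Dual.D A)).obj X

lemma Fd_map_apply (X : Dual.D A) {j j' : ℕᵒᵖᵒᵖ} (f : j ⟶ j')
    (φ : (DerivedCategory.singleFunctor (ModuleCat.{u} A) 0).obj (S I j.unop.unop) ⟶ X) :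
    ((Fd I X).map f).hom φ =
      (DerivedCategory.singleFunctor (ModuleCat.{u} A) 0).map (tr I (leOfHom f.unop.unop)) ≫ φ := rfl

/-- the cocone with point `H⁰(Γ_I L)` -/
noncomputable def cocone [L.IsKInjective] : Cocone (Fd I (Q.obj L)) where
  pt := ModuleCat.of A (ULift.{u + 1} ((GamL I L).homology 0))
  ι :=
    { app := fun j => ModuleCat.ofHom
        ((ULift.moduleEquiv (R := A)).symm.toLinearMap ∘ₗ Ψ I L j.unop.unop)
      naturality := by
        intro j j' f
        apply ModuleCat.hom_ext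
        apply LinearMap.ext
        intro φ
        obtain ⟨z, rfl⟩ := qmap_surjective I L j.unop.unop φ
        change ULift.up (Ψ I L j'.unop.unop (((Fd I (Q.obj L)).map f).hom _)) =
          ULift.up (Ψ I L j.unop.unop _)
        rw [Fd_map_apply, qmap_incl, Ψ_qmap, Ψ_qmap, cls_incl] }

lemma cocone_ι_qmap [L.IsKInjective] (j : ℕᵒᵖᵒᵖ) (z : Zn I L j.unop.unop) :
    ((cocone I L).ι.app j).hom (qmap I L j.unop.unop z) =
      ULift.up ((cls I L j.unop.unop) z) := by
  change ULift.up (Ψ I L j.unop.unop _) = _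
  rw [Ψ_qmap]

lemma exists_cls_eq (y : (GamL I L).homology 0) :
    ∃ (n : ℕ) (z : Zn I L n), (cls I L n) z = y := by
  obtain ⟨c, rfl⟩ := (ModuleCat.epi_iff_surjective ((GamL I L).homologyπ 0)).1 inferInstance y
  let w : DRing.torsionSub I (L.X 0) := ((GamL I L).iCycles 0) c
  obtain ⟨n, hn⟩ := w.2
  have hd : (L.d 0 1) w.1 = 0 := by
    have h1 := ConcreteCategory.congr_hom ((GamL I L).iCycles_d 0 1) c
    rw [ConcreteCategory.comp_apply] at h1
    exact congrArg Subtype.val h1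
  refine ⟨n, ⟨w.1, hd, hn⟩, ?_⟩
  have h1 : (cyc I L n) ⟨w.1, hd, hn⟩ = c := by
    have hmono : Function.Injective ((GamL I L).iCycles 0) :=
      (ModuleCat.mono_iff_injective _).1 inferInstance
    apply hmono
    have e1 := ConcreteCategory.congr_hom (cyc_i I L n) ⟨w.1, hd, hn⟩
    rw [ConcreteCategory.comp_apply] at e1
    rw [e1]
    rfl
  change ((GamL I L).homologyπ 0) ((cyc I L n) _) = _
  rw [h1]

instance preservesColimitsOfShape_forget :
    PreservesColimitsOfShape ℕᵒᵖᵒᵖ (forget (ModuleCat.{u + 1} A)) := by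
  haveI : PreservesFilteredColimitsOfSize.{0, 0} (forget AddCommGrpCat.{u + 1}) :=
    preservesSmallestFilteredColimits_of_preservesFilteredColimits _
  haveI : PreservesColimitsOfShape ℕᵒᵖᵒᵖ (forget AddCommGrpCat.{u + 1}) := inferInstance
  exact (inferInstance : PreservesColimitsOfShape ℕᵒᵖᵒᵖ
    (forget₂ (ModuleCat.{u + 1} A) AddCommGrpCat.{u + 1} ⋙ forget AddCommGrpCat.{u + 1}))

theorem desc_bijective [L.IsKInjective] :
    Function.Bijective (colimit.desc (Fd I (Q.obj L)) (cocone I L)).hom := by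
  constructor
  · rw [injective_iff_map_eq_zero]
    intro x hx
    obtain ⟨j, φ, rfl⟩ := Concrete.colimit_exists_rep (Fd I (Q.obj L)) x
    obtain ⟨z, rfl⟩ := qmap_surjective I L j.unop.unop φ
    have h1 : (colimit.desc (Fd I (Q.obj L)) (cocone I L)).hom
        ((colimit.ι (Fd I (Q.obj L)) j) (qmap I L j.unop.unop z)) =
        ((cocone I L).ι.app j).hom (qmap I L j.unop.unop z) :=
      ConcreteCategory.congr_hom (colimit.ι_desc (cocone I L) j) _
    rw [h1, cocone_ι_qmap] at hx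
    have h2 : (cls I L j.unop.unop) z = 0 := congrArg ULift.down hx
    obtain ⟨h, m, hh, hd⟩ := exists_of_cls_eq_zero I L _ z h2
    let N := max j.unop.unop m
    let j' : ℕᵒᵖᵒᵖ := Opposite.op (Opposite.op N)
    let f : j ⟶ j' := (homOfLE (le_max_left j.unop.unop m)).op.op
    have h3 := ConcreteCategory.congr_hom (colimit.w (Fd I (Q.obj L)) f) (qmap I L j.unop.unop z)
    rw [ConcreteCategory.comp_apply] at h3
    rw [← h3]
    have h4 : ((Fd I (Q.obj L)).map f).hom (qmap I L j.unop.unop z) = 0 := by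
      rw [Fd_map_apply, qmap_incl]
      exact qmap_eq_zero_of I L N _ h
        (fun a ha => hh a (Ideal.pow_le_pow_right (le_max_right _ _) ha)) hd
    change (colimit.ι (Fd I (Q.obj L)) j').hom (((Fd I (Q.obj L)).map f).hom _) = 0
    rw [h4, map_zero]
  · intro y
    obtain ⟨n, z, hz⟩ := exists_cls_eq I L y.down
    refine ⟨(colimit.ι (Fd I (Q.obj L)) (Opposite.op (Opposite.op n))) (qmap I L n z), ?_⟩
    have h1 : (colimit.desc (Fd I (Q.obj L)) (cocone I L)).hom
        ((colimit.ι (Fd I (Q.obj L)) (Opposite.op (Opposite.op n))) (qmap I L n z)) =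
        ((cocone I L).ι.app (Opposite.op (Opposite.op n))).hom (qmap I L n z) :=
      ConcreteCategory.congr_hom (colimit.ι_desc (cocone I L) (Opposite.op (Opposite.op n))) _
    rw [h1]
    have := cocone_ι_qmap I L (Opposite.op (Opposite.op n)) z
    rw [this]
    change ULift.up _ = y
    rw [hz]
    rfl

/-- `H⁰(Γ_I L) ≃ colim_n Hom_{D(A)}(A/Iⁿ, L)` for a K-injective complex `L`. -/
theorem main [L.IsKInjective] :
    Nonempty ((GamL I L).homology 0 ≃ₗ[A] (colimit (Fd I (Q.obj L)) : ModuleCat.{u + 1} A)) :=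
  ⟨((LinearEquiv.ofBijective (colimit.desc (Fd I (Q.obj L)) (cocone I L)).hom
    (desc_bijective I L)).trans (ULift.moduleEquiv (R := A))).symm⟩

end Groth.Agent.Lib.Helper32.GammaColim
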