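import Mathlib
import Groth.Agent.Lib.Helper32.TriRF
import Groth.Agent.Lib.Helper32.RDPlus
import Groth.Agent.Lib.Helper32.RightRes
import Groth.Agent.S0996

/-!
# Leray's acyclicity lemma for the unbounded total right derived functor (helper32)

* `isIso_β_of_acyclic`: for a bounded below complex `K` of right `F`-acyclic objects the canonical map
  `Q(F K) ⟶ RF(Q K)` is an isomorphism (`RF` the total right derived functor on the unbounded `D(A)`).
* `nonempty_obj_shift_iso`: `RF(E⟦k⟧) ≅ (RF E)⟦k⟧` objectwise.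
* `isIso_homologyMap_of_isIso_f`: a morphism of cochain complexes which is an isomorphism in degrees
  `i-1, i, i+1` induces an isomorphism on `H^i`.
-/

set_option autoImplicit false
universe w w' v v' u u'
open CategoryTheory CategoryTheory.Limits DerivedCategory

namespace Groth.Agent.Lib.Helper32.LerayUnb

open Groth.Agent.Lib.Helper32 Groth.Agent.Lib.Helper32.KInjDerived Groth.Agent.Lib.Helper32.RDerCrit
  Groth.Agent.Lib.Helper32.TriRF CochainComplex ZeroObject

section Hom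

variable {A : Type u} [Category.{v} A] [Abelian A]

lemma isIso_homologyMap_of_isIso_f {K L : CochainComplex A ℤ} (ψ : K ⟶ L) (i : ℤ)
    (h₁ : IsIso (ψ.f (i - 1))) (h₂ : IsIso (ψ.f i)) (h₃ : IsIso (ψ.f (i + 1))) :
    IsIso (HomologicalComplex.homologyMap ψ i) := by
  have hq : QuasiIsoAt ψ i := by
    rw [quasiIsoAt_iff' ψ (i - 1) i (i + 1) (by simp) (by simp)]
    haveI : IsIso ((HomologicalComplex.shortComplexFunctor' A (ComplexShape.up ℤ) (i - 1) i (i + 1)).map ψ) := by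
      haveI : IsIso ((HomologicalComplex.shortComplexFunctor' A (ComplexShape.up ℤ) (i - 1) i (i + 1)).map ψ).τ₁ := h₁
      haveI : IsIso ((HomologicalComplex.shortComplexFunctor' A (ComplexShape.up ℤ) (i - 1) i (i + 1)).map ψ).τ₂ := h₂
      haveI : IsIso ((HomologicalComplex.shortComplexFunctor' A (ComplexShape.up ℤ) (i - 1) i (i + 1)).map ψ).τ₃ := h₃
      exact ShortComplex.isIso_of_isIso _
    infer_instance
  exact (quasiIsoAt_iff_isIso_homologyMap ψ i).1 hq

end Hom

variable {A : Type u} [Category.{v} A] [Abelian A] [HasDerivedCategory.{w} A] [EnoughInjectives A]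
    {B : Type u'} [Category.{v'} B] [Abelian B] [HasDerivedCategory.{w'} B]
    (F : A ⥤ B) [F.Additive]
    (RF : DerivedCategory A ⥤ DerivedCategory B)
    (α : F.mapHomotopyCategory (ComplexShape.up ℤ) ⋙ DerivedCategory.Qh ⟶ DerivedCategory.Qh ⋙ RF)
    [RF.IsRightDerivedFunctor α (HomotopyCategory.quasiIso A (ComplexShape.up ℤ))]

/-- `F` preserves the quasi-isomorphism from a bounded below complex of `F`-acyclics to a bounded
below complex of injectives. -/
lemma quasiIso_map_of_acyclic [PreservesFiniteLimits F] {K L : CochainComplex A ℤ} (a : ℤ)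
    [K.IsStrictlyGE a] [L.IsStrictlyGE a] (j : K ⟶ L) (hj : QuasiIso j)
    (hL : ∀ n, Injective (L.X n))
    (hK : ∀ (m : ℤ) (i : ℕ), 0 < i → IsZero ((F.rightDerived i).obj (K.X m))) :
    QuasiIso ((F.mapHomologicalComplex (ComplexShape.up ℤ)).map j) := by
  rw [ConeAcyclic.quasiIso_map_iff_acyclic_map_mappingCone]
  have : (mappingCone j).IsStrictlyGE (a - 1) := isStrictlyGE_mappingCone j a a (a - 1)
  have h2 : ∀ S : ShortComplex A, S.ShortExact → Groth.Agent.S0996.acyc F S.X₁ →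
      Groth.Agent.S0996.acyc F S.X₂ →
      Groth.Agent.S0996.acyc F S.X₃ ∧ (S.map F).ShortExact := fun S hS h1 h2 =>
    (Groth.Agent.S6619.result F S hS).2.1 h1 h2
  refine Adapted.acyclic_map F (Groth.Agent.S0996.acyc F) h2 _ (a - 1) ?_ ?_
    (Groth.Agent.S0996.acyc_of_isZero F)
  · rw [← ConeAcyclic.quasiIso_iff_acyclic_mappingCone]
    exact hj
  · intro k
    have hid := mappingCone.id_X j k (k + 1) rfl
    refine Groth.Agent.S0996.acyc_of_decomp F _ _ _ _ hid (hK (k + 1)) ?_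
    have : Injective (L.X k) := hL k
    exact Groth.Agent.S0996.acyc_of_injective F _

/-- **Leray's acyclicity lemma** for the unbounded total derived functor. -/
theorem isIso_β_of_acyclic [PreservesFiniteLimits F] (hA : HasKInjRes A)
    (K : CochainComplex A ℤ) (a : ℤ) [K.IsStrictlyGE a]
    (hK : ∀ (m : ℤ) (i : ℕ), 0 < i → IsZero ((F.rightDerived i).obj (K.X m))) :
    IsIso (β F RF α K) := by
  have h1 : ∀ X : A, ∃ (Y : A) (ι : X ⟶ Y), (fun Y => Injective Y) Y ∧ Mono ι :=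
    fun X => ⟨Injective.under X, Injective.ι X, inferInstance, inferInstance⟩
  obtain ⟨L, j, hL, hIL, -, hj⟩ := RightRes.exists_of_isStrictlyGE (I := fun Y : A => Injective Y) h1
    ⟨0, isZero_zero A, (isZero_zero A).injective⟩ K a
  haveI : L.IsStrictlyGE a := hL
  haveI : ∀ n, Injective (L.X n) := hIL
  haveI : L.IsKInjective := CochainComplex.isKInjective_of_injective L a
  have hq := quasiIso_map_of_acyclic F a j hj hIL hK
  have nat := β_naturality F RF α j
  haveI := isIso_β F RF α hA L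
  haveI : IsIso (Q.map j) := (isIso_Q_map_iff_quasiIso _ j).2 hj
  haveI : IsIso (Q.map ((F.mapHomologicalComplex (ComplexShape.up ℤ)).map j)) :=
    (isIso_Q_map_iff_quasiIso _ _).2 hq
  have h3 : IsIso (β F RF α K ≫ RF.map (Q.map j)) := by
    rw [← nat]; infer_instance
  exact IsIso.of_isIso_comp_right _ (RF.map (Q.map j))

include F α in
/-- `RF` commutes with shifts objectwise. -/
theorem nonempty_obj_shift_iso (hA : HasKInjRes A) (E : DerivedCategory A) (k : ℤ) :
    Nonempty (RF.obj (E⟦k⟧) ≅ (RF.obj E)⟦k⟧) := by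
  obtain ⟨I, hI, ⟨e⟩⟩ := exists_kInj_rep hA E
  haveI := hI
  haveI := isIso_β F RF α hA I
  haveI := isIso_β F RF α hA (I⟦k⟧)
  let e1 : RF.obj (E⟦k⟧) ≅ RF.obj ((Q.obj I)⟦k⟧) := RF.mapIso ((CategoryTheory.shiftFunctor _ k).mapIso e.symm)
  let e2 : (Q.obj I)⟦k⟧ ≅ Q.obj (I⟦k⟧) := ((Q.commShiftIso k).app I).symm
  let e3 : RF.obj (Q.obj (I⟦k⟧)) ≅
      Q.obj ((F.mapHomologicalComplex (ComplexShape.up ℤ)).obj (I⟦k⟧)) :=
    (asIso (β F RF α (I⟦k⟧))).symm
  let e4 : (F.mapHomologicalComplex (ComplexShape.up ℤ)).obj (I⟦k⟧) ≅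
      ((F.mapHomologicalComplex (ComplexShape.up ℤ)).obj I)⟦k⟧ :=
    ((F.mapHomologicalComplex (ComplexShape.up ℤ)).commShiftIso k).app I
  let e5 : Q.obj (((F.mapHomologicalComplex (ComplexShape.up ℤ)).obj I)⟦k⟧) ≅
      (Q.obj ((F.mapHomologicalComplex (ComplexShape.up ℤ)).obj I))⟦k⟧ := (Q.commShiftIso k).app _
  let e6 : (Q.obj ((F.mapHomologicalComplex (ComplexShape.up ℤ)).obj I))⟦k⟧ ≅ (RF.obj (Q.obj I))⟦k⟧ :=
    (CategoryTheory.shiftFunctor _ k).mapIso (asIso (β F RF α I))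
  let e7 : (RF.obj (Q.obj I))⟦k⟧ ≅ (RF.obj E)⟦k⟧ := (CategoryTheory.shiftFunctor _ k).mapIso (RF.mapIso e)
  exact ⟨e1 ≪≫ RF.mapIso e2 ≪≫ e3 ≪≫ Q.mapIso e4 ≪≫ e5 ≪≫ e6 ≪≫ e7⟩

end Groth.Agent.Lib.Helper32.LerayUnb
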