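import Mathlib.Algebra.Homology.Embedding.ExtendHomology
import Mathlib.Algebra.Homology.Additive
import Mathlib.CategoryTheory.Abelian.RightDerived
import Mathlib.Algebra.Homology.QuasiIso

/-! Bridging `Functor.rightDerived` (ℕ-indexed injective resolutions) with ℤ-indexed complexes (helper32):
* `ExtendMap.extendMapIso`: `F (K.extend e) ≅ (F K).extend e`, natural; `quasiIso_map_extendMap_iff`;
* `RDZero.quasiIso_map_ι_iff`: `F(ι)` is a quasi-iso iff `toRightDerivedZero` is iso and `RⁱF X = 0`, `i>0`. -/

set_option autoImplicit false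
universe v v' u u'
open CategoryTheory CategoryTheory.Limits

namespace Groth.Agent.Lib.Helper32.ExtendMap

variable {ι ι' : Type*} {c : ComplexShape ι} {c' : ComplexShape ι'}
variable {A : Type u} [Category.{v} A] [Abelian A]
    {B : Type u'} [Category.{v'} B] [Abelian B] (F : A ⥤ B) [F.Additive]

open HomologicalComplex

/-- `F (extend.X K i) ≅ extend.X (F K) i` -/
noncomputable def XMapIso (K : HomologicalComplex A c) :
    ∀ (i : Option ι), F.obj (extend.X K i) ≅ extend.X ((F.mapHomologicalComplex c).obj K) i
  | some _ => Iso.refl _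
  | none => IsZero.iso (F.map_isZero (extend.isZero_X K rfl)) (extend.isZero_X _ rfl)

lemma XMapIso_hom_d (K : HomologicalComplex A c) (i j : Option ι) :
    (XMapIso F K i).hom ≫ extend.d ((F.mapHomologicalComplex c).obj K) i j =
      F.map (extend.d K i j) ≫ (XMapIso F K j).hom :=
  match i, j with
  | none, _ => by
      simp only [extend.d_none_eq_zero, comp_zero, F.map_zero, zero_comp]
  | some i, some j => by
      exact (Category.id_comp _).trans (Category.comp_id _).symm
  | some _, none => by
      simp only [extend.d_none_eq_zero', comp_zero, F.map_zero, zero_comp]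

lemma map_mapX_XMapIso {K L : HomologicalComplex A c} (φ : K ⟶ L) (i : Option ι) :
    F.map (extend.mapX φ i) ≫ (XMapIso F L i).hom =
      (XMapIso F K i).hom ≫ extend.mapX ((F.mapHomologicalComplex c).map φ) i :=
  match i with
  | none => (extend.isZero_X _ rfl).eq_of_tgt _ _
  | some i => by
      exact (Category.comp_id _).trans (Category.id_comp _).symm

variable (e : c.Embedding c')

/-- `F (K.extend e) ≅ (F K).extend e` -/
noncomputable def extendMapIso (K : HomologicalComplex A c) :
    (F.mapHomologicalComplex c').obj (K.extend e) ≅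
      ((F.mapHomologicalComplex c).obj K).extend e :=
  Hom.isoOfComponents (fun i' => XMapIso F K (e.r i')) (fun i' j' _ => by
    exact XMapIso_hom_d F K (e.r i') (e.r j'))

lemma extendMapIso_naturality {K L : HomologicalComplex A c} (φ : K ⟶ L) :
    (F.mapHomologicalComplex c').map (extendMap φ e) ≫ (extendMapIso F e L).hom =
      (extendMapIso F e K).hom ≫ extendMap ((F.mapHomologicalComplex c).map φ) e := by
  ext i'
  exact map_mapX_XMapIso F φ (e.r i')

lemma quasiIso_map_extendMap_iff {K L : HomologicalComplex A c} (φ : K ⟶ L) :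
    QuasiIso ((F.mapHomologicalComplex c').map (extendMap φ e)) ↔
      QuasiIso ((F.mapHomologicalComplex c).map φ) := by
  rw [← quasiIso_extendMap_iff ((F.mapHomologicalComplex c).map φ) e]
  have h := extendMapIso_naturality F e φ
  constructor
  · intro hq
    have : QuasiIso ((F.mapHomologicalComplex c').map (extendMap φ e) ≫ (extendMapIso F e L).hom) :=
      inferInstance
    rw [h] at this
    exact quasiIso_of_comp_left (extendMapIso F e K).hom _
  · intro hq
    have : QuasiIso ((extendMapIso F e K).hom ≫ extendMap ((F.mapHomologicalComplex c).map φ) e) :=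
      inferInstance
    rw [← h] at this
    exact quasiIso_of_comp_right _ (extendMapIso F e L).hom

end Groth.Agent.Lib.Helper32.ExtendMap

namespace Groth.Agent.Lib.Helper32.RDZero

variable {A : Type u} [Category.{v} A] [Abelian A] [EnoughInjectives A]
    {B : Type u'} [Category.{v'} B] [Abelian B] (F : A ⥤ B) [F.Additive]

set_option backward.isDefEq.respectTransparency false in
set_option backward.defeqAttrib.useBackward true in
lemma quasiIso_map_ι_iff {X : A} (R : InjectiveResolution X) :
    QuasiIso ((F.mapHomologicalComplex (ComplexShape.up ℕ)).map R.ι) ↔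
      IsIso (F.toRightDerivedZero.app X) ∧ ∀ i : ℕ, 0 < i → IsZero ((F.rightDerived i).obj X) := by
  let K' : CochainComplex B ℕ := (F.mapHomologicalComplex (ComplexShape.up ℕ)).obj ((CochainComplex.single₀ A).obj X)
  let FR : CochainComplex B ℕ := (F.mapHomologicalComplex (ComplexShape.up ℕ)).obj R.cocomplex
  let φ : K' ⟶ FR := (F.mapHomologicalComplex (ComplexShape.up ℕ)).map R.ι
  -- positive degrees
  have hpos (n : ℕ) : QuasiIsoAt φ (n + 1) ↔ IsZero ((F.rightDerived (n + 1)).obj X) := by
    have hK' : K'.ExactAt (n + 1) :=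
      HomologicalComplex.ExactAt.of_isZero (F.map_isZero
        (HomologicalComplex.isZero_single_obj_X (ComplexShape.up ℕ) 0 X (n + 1) (by lia)))
    rw [quasiIsoAt_iff_exactAt φ (n + 1) hK', HomologicalComplex.exactAt_iff_isZero_homology]
    exact (R.isoRightDerivedObj F (n + 1)).isZero_iff.symm
  -- degree zero
  have hzero : QuasiIsoAt φ 0 ↔ IsIso (F.toRightDerivedZero.app X) := by
    rw [quasiIsoAt_iff_isIso_homologyMap, R.toRightDerivedZero_eq F]
    have hd : K'.d 0 1 = 0 := by
      change F.map (((CochainComplex.single₀ A).obj X).d 0 1) = 0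
      rw [HomologicalComplex.single_obj_d, F.map_zero]
    haveI : IsIso (K'.iCycles 0) := K'.isIso_iCycles 0 1 (by simp) hd
    have h1 : HomologicalComplex.cyclesMap φ 0 = K'.iCycles 0 ≫ R.toRightDerivedZero' F := by
      rw [← cancel_mono (FR.iCycles 0), HomologicalComplex.cyclesMap_i, Category.assoc,
        InjectiveResolution.toRightDerivedZero'_comp_iCycles]
      rfl
    have h2 := CochainComplex.isoHomologyπ₀_inv_naturality φ
    constructor
    · intro h
      have h3 : IsIso (HomologicalComplex.cyclesMap φ 0) := by
        have : HomologicalComplex.cyclesMap φ 0 =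
            (CochainComplex.isoHomologyπ₀ K').hom ≫ HomologicalComplex.homologyMap φ 0 ≫ (CochainComplex.isoHomologyπ₀ FR).inv := by
          rw [h2, Iso.hom_inv_id_assoc]
        rw [this]
        infer_instance
      rw [h1] at h3
      haveI : IsIso (R.toRightDerivedZero' F) := IsIso.of_isIso_comp_left (K'.iCycles 0) _
      infer_instance
    · intro h
      haveI : IsIso (R.toRightDerivedZero' F) := by
        have h4 := IsIso.of_isIso_comp_right (R.toRightDerivedZero' F)
          ((CochainComplex.isoHomologyπ₀ FR).hom ≫ (R.isoRightDerivedObj F 0).inv)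
        exact h4
      have h3 : IsIso (HomologicalComplex.cyclesMap φ 0) := by rw [h1]; infer_instance
      have : HomologicalComplex.homologyMap φ 0 =
          (CochainComplex.isoHomologyπ₀ K').inv ≫ HomologicalComplex.cyclesMap φ 0 ≫ (CochainComplex.isoHomologyπ₀ FR).hom := by
        rw [← reassoc_of% h2, Iso.inv_hom_id, Category.comp_id]
      rw [this]
      infer_instance
  rw [quasiIso_iff]
  constructor
  · intro h
    refine ⟨hzero.1 (h 0), fun i hi => ?_⟩
    obtain ⟨n, rfl⟩ : ∃ n, i = n + 1 := ⟨i - 1, by lia⟩
    exact (hpos n).1 (h (n + 1))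
  · rintro ⟨h0, hp⟩ i
    rcases Nat.eq_zero_or_pos i with rfl | hi
    · exact hzero.2 h0
    · obtain ⟨n, rfl⟩ : ∃ n, i = n + 1 := ⟨i - 1, by lia⟩
      exact (hpos n).2 (hp _ hi)

end Groth.Agent.Lib.Helper32.RDZero
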