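import Mathlib.Algebra.Homology.DerivedCategory.RightDerivedFunctorPlus
import Mathlib.Algebra.Homology.DerivedCategory.HomologySequence

/-! `RDPlusModel.exists_model` (helper32): every object `E` of `D⁺(A)` has a bounded below model `I`
with injective terms such that `E ≅ Q I` and `(R⁺F E) ≅ Q (F I)` in the unbounded derived categories. -/

set_option autoImplicit false
universe w w' v v' u u'
open CategoryTheory CategoryTheory.Limits

namespace Groth.Agent.Lib.Helper32.RDPlusModel

variable {A : Type u} [Category.{v} A] [Abelian A] [HasDerivedCategory.{w} A] [EnoughInjectives A]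
    {B : Type u'} [Category.{v'} B] [Abelian B] [HasDerivedCategory.{w'} B]
    (F : A ⥤ B) [F.Additive]

theorem exists_model (E : DerivedCategory.Plus A) :
    ∃ (I : CochainComplex A ℤ) (n : ℤ), I.IsStrictlyGE n ∧ (∀ k, Injective (I.X k)) ∧
      Nonempty (E.obj ≅ DerivedCategory.Q.obj I) ∧
      Nonempty ((F.rightDerivedFunctorPlus.obj E).obj ≅
        DerivedCategory.Q.obj ((F.mapHomologicalComplex (ComplexShape.up ℤ)).obj I)) := by
  obtain ⟨n, hn⟩ := E.property
  haveI : E.IsGE n := (E.isGE_ι_obj_iff n).1 hn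
  obtain ⟨L, hL, ⟨e⟩⟩ := DerivedCategory.Plus.exists_injective_nonempty_iso E n
  let I := (InjectiveObject.ι A).mapCochainComplexPlus.obj L
  let η := F.rightDerivedFunctorPlusUnit
  have h3 : IsIso (η.app ((HomotopyCategory.Plus.quotient A).obj I)) := inferInstance
  let E1 := DerivedCategory.Plus.ι.mapIso (F.rightDerivedFunctorPlus.mapIso e.symm)
  let E2 := DerivedCategory.Plus.ι.mapIso
    (asIso (η.app ((HomotopyCategory.Plus.quotient A).obj I))).symm
  let E3 : DerivedCategory.Plus.ι.obj (DerivedCategory.Plus.Qh.obj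
      (F.mapHomotopyCategoryPlus.obj ((HomotopyCategory.Plus.quotient A).obj I))) ≅
      DerivedCategory.Q.obj ((F.mapHomologicalComplex (ComplexShape.up ℤ)).obj I.obj) :=
    DerivedCategory.Qh.mapIso ((F.mapHomotopyCategoryFactors (ComplexShape.up ℤ)).app I.obj) ≪≫
      (DerivedCategory.quotientCompQhIso B).app _
  refine ⟨I.obj, n, ?_, ?_, ⟨?_⟩, ⟨E1 ≪≫ E2 ≪≫ E3⟩⟩
  · exact inferInstanceAs (CochainComplex.IsStrictlyGE
      (((InjectiveObject.ι A).mapHomologicalComplex (.up ℤ)).obj L.obj) n)
  · intro k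
    exact (L.obj.X k).property
  · exact DerivedCategory.Plus.ι.mapIso e.symm ≪≫ (DerivedCategory.quotientCompQhIso A).app I.obj

end Groth.Agent.Lib.Helper32.RDPlusModel
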