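import Mathlib
import Groth.Agent.Lib.Helper32.TriRF
import Groth.Agent.Lib.Helper32.WayOut
import Groth.Agent.Lib.Helper32.WayOut2
import Groth.Agent.Lib.Helper32.RDBridge

/-!
# Cohomological amplitude of total right derived functors on bounded objects (helper32)

* `isZero_homology_single`: `Hⁱ(RF(M[-q])) = 0` as soon as `R^{i-q}F(M) = 0`;
* `isZero_homology_of_bounded`: if `E ∈ D^{[a,b]}(A)` and `RᵖF(Hʲ(E)) = 0` for all `p ≥ N` and all `j`,
  then `Hⁱ(RF E) = 0` for `i > b + N - 1`.
-/

set_option autoImplicit false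
universe w w' v v' u u'
open CategoryTheory CategoryTheory.Limits CategoryTheory.Pretriangulated DerivedCategory ZeroObject

namespace Groth.Agent.Lib.Helper32.RFBounded

open Groth.Agent.Lib.Helper32.KInjDerived Groth.Agent.Lib.Helper32.RDerCrit
  Groth.Agent.Lib.Helper32.TriRF

variable {A : Type u} [Category.{v} A] [Abelian A] [HasDerivedCategory.{w} A]
  [HasInjectiveResolutions A]
  {B : Type u'} [Category.{v'} B] [Abelian B] [HasDerivedCategory.{w'} B]
  (F : A ⥤ B) [F.Additive]

section Model

variable (M : A) (q : ℤ)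

/-- a K-injective model of `M[-q]` -/
noncomputable abbrev L : CochainComplex A ℤ := (injectiveResolution M).cochainComplex⟦-q⟧

instance : (L M q).IsKInjective := by
  infer_instance

/-- `M[-q] ≅ Q(L)` -/
noncomputable def singleIso : (singleFunctor A q).obj M ≅ Q.obj (L M q) := by
  haveI : QuasiIso ((injectiveResolution M).ι'⟦-q⟧') := inferInstance
  haveI : IsIso (Q.map ((injectiveResolution M).ι'⟦-q⟧')) := by
    rw [isIso_Q_map_iff_quasiIso]
    infer_instance
  have e1 : (CochainComplex.singleFunctor A q).obj M ≅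
      ((CochainComplex.singleFunctor A 0).obj M)⟦-q⟧ :=
    (((CochainComplex.singleFunctors A).shiftIso (-q) q 0 (by lia)).app M).symm
  have e2 : Q.obj (((CochainComplex.singleFunctor A 0).obj M)⟦-q⟧) ≅ Q.obj (L M q) :=
    asIso (Q.map ((injectiveResolution M).ι'⟦-q⟧'))
  exact (singleFunctorIsoCompQ A q).app M ≪≫ Q.mapIso e1 ≪≫ e2

/-- the homology of `F(L)` -/
noncomputable def homologyIso (i j : ℤ) (hj : -q + i = j) :
    ((F.mapHomologicalComplex (ComplexShape.up ℤ)).obj (L M q)).homology i ≅
      (((F.mapHomologicalComplex (ComplexShape.up ℕ)).obj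
        (injectiveResolution M).cocomplex).extend ComplexShape.embeddingUpNat).homology j :=
  (HomologicalComplex.homologyFunctor B (ComplexShape.up ℤ) i).mapIso
      ((F.mapCochainComplexShiftIso (-q)).app (injectiveResolution M).cochainComplex) ≪≫
    (CochainComplex.ShiftSequence.shiftIso B (-q) i j hj).app _ ≪≫
    (HomologicalComplex.homologyFunctor B (ComplexShape.up ℤ) j).mapIso
      (ExtendMap.extendMapIso F ComplexShape.embeddingUpNat (injectiveResolution M).cocomplex)

lemma isZero_homology_L (i : ℤ)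
    (h : ∀ p : ℕ, (p : ℤ) = i - q → IsZero ((F.rightDerived p).obj M)) :
    IsZero (((F.mapHomologicalComplex (ComplexShape.up ℤ)).obj (L M q)).homology i) := by
  refine IsZero.of_iso ?_ (homologyIso F M q i (-q + i) rfl)
  by_cases hp : 0 ≤ -q + i
  · obtain ⟨p, hp'⟩ := Int.eq_ofNat_of_zero_le hp
    have e1 := HomologicalComplex.extendHomologyIso
      ((F.mapHomologicalComplex (ComplexShape.up ℕ)).obj (injectiveResolution M).cocomplex)
      ComplexShape.embeddingUpNat (j := p) (j' := -q + i) (by simp [hp'])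
    refine IsZero.of_iso ?_ e1
    exact IsZero.of_iso (h p (by lia)) ((injectiveResolution M).isoRightDerivedObj F p).symm
  · rw [← HomologicalComplex.exactAt_iff_isZero_homology]
    apply HomologicalComplex.exactAt_of_isSupported _ ComplexShape.embeddingUpNat
    intro k hk
    simp at hk
    lia

end Model

variable (RF : DerivedCategory A ⥤ DerivedCategory B)
  (α : F.mapHomotopyCategory (ComplexShape.up ℤ) ⋙ DerivedCategory.Qh ⟶ DerivedCategory.Qh ⋙ RF)
  [RF.IsRightDerivedFunctor α (HomotopyCategory.quasiIso A (ComplexShape.up ℤ))]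

include α in
/-- `Hⁱ(RF(M[-q])) = 0` if `R^{i-q}F(M) = 0` -/
lemma isZero_homology_single (hA : HasKInjRes A) (M : A) (q i : ℤ)
    (h : ∀ p : ℕ, (p : ℤ) = i - q → IsZero ((F.rightDerived p).obj M)) :
    IsZero ((homologyFunctor B i).obj (RF.obj ((singleFunctor A q).obj M))) := by
  haveI := isIso_β F RF α hA (L M q)
  have e : (homologyFunctor B i).obj (RF.obj ((singleFunctor A q).obj M)) ≅
      ((F.mapHomologicalComplex (ComplexShape.up ℤ)).obj (L M q)).homology i :=
    (homologyFunctor B i).mapIso (RF.mapIso (singleIso M q) ≪≫ (asIso (β F RF α (L M q))).symm) ≪≫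
      (homologyFunctorFactors B i).app _
  exact IsZero.of_iso (isZero_homology_L F M q i h) e

include α in
lemma isZero_homology_of_isZero (hA : HasKInjRes A) (Z : DerivedCategory A) (hZ : IsZero Z) (i : ℤ) :
    IsZero ((homologyFunctor B i).obj (RF.obj Z)) := by
  have h0 : IsZero (0 : CochainComplex A ℤ) := isZero_zero _
  haveI : (0 : CochainComplex A ℤ).IsKInjective :=
    ⟨fun f _ => ⟨Homotopy.ofEq (h0.eq_of_tgt _ _)⟩⟩
  haveI := isIso_β F RF α hA (0 : CochainComplex A ℤ)
  have e : RF.obj Z ≅ Q.obj ((F.mapHomologicalComplex (ComplexShape.up ℤ)).obj 0) :=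
    RF.mapIso (hZ.iso (Q.map_isZero h0)) ≪≫ (asIso (β F RF α (0 : CochainComplex A ℤ))).symm
  have h1 : IsZero (Q.obj ((F.mapHomologicalComplex (ComplexShape.up ℤ)).obj (0 : CochainComplex A ℤ))) :=
    Q.map_isZero ((F.mapHomologicalComplex (ComplexShape.up ℤ)).map_isZero h0)
  exact (homologyFunctor B i).map_isZero (h1.of_iso e)

include α in
/-- upper bound for the cohomological amplitude of `RF E`, `E` bounded -/
theorem isZero_homology_of_bounded (hA : HasKInjRes A) (N : ℕ) (E : DerivedCategory A) (a b : ℤ)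
    (hGE : E.IsGE a) (hLE : E.IsLE b)
    (hF : ∀ (j : ℤ) (p : ℕ), N ≤ p → IsZero ((F.rightDerived p).obj ((homologyFunctor A j).obj E)))
    (i : ℤ) (hi : b + N - 1 < i) :
    IsZero ((homologyFunctor B i).obj (RF.obj E)) := by
  by_cases hab : b < a
  · exact isZero_homology_of_isZero F RF α hA E (TStructure.t.isZero E b a hab) i
  obtain ⟨k, hk⟩ : ∃ k : ℕ, b = a + k - 1 := ⟨(b + 1 - a).toNat, by lia⟩
  subst hk
  refine WayOut2.prop_of_bounded (fun Z => IsZero ((homologyFunctor B i).obj (RF.obj Z)))
    (fun e h => IsZero.of_iso h ((homologyFunctor B i).mapIso (RF.mapIso e.symm)))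
    (fun Z hZ => isZero_homology_of_isZero F RF α hA Z hZ i)
    (fun Δ hΔ h₁ h₃ => isZero_homology_obj₂ F RF α hA Δ hΔ i h₁ h₃) k a E hGE hLE ?_
  rintro q M ⟨e⟩
  by_cases hq : q ≤ a + k - 1
  · apply isZero_homology_single F RF α hA
    intro p hp
    exact IsZero.of_iso (hF q p (by lia)) ((F.rightDerived p).mapIso e)
  · haveI := hLE
    have hM : IsZero M := (DerivedCategory.isZero_of_isLE E (a + k - 1) q (by lia)).of_iso e
    exact isZero_homology_of_isZero F RF α hA _ ((singleFunctor A q).map_isZero hM) i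

end Groth.Agent.Lib.Helper32.RFBounded
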