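import Groth.Agent.Lib.Helper32.RightRes
import Mathlib.CategoryTheory.Preadditive.Injective.Basic

/-!
# Right resolutions of bounded below complexes with cohomology in a subcategory (helper32)

Let `J` be a class of objects of an abelian category `A`, stable under cokernels and finite direct sums,
such that every object of `J` embeds into an injective object of `A` lying in `J`.
For a cochain complex `K` with `K.X i = 0` for `i < 0` whose cohomology objects are in `J`, we construct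
inductively a complex `M` of injective objects lying in `J` and a quasi-isomorphism `K ⟶ M`
(Hartshorne, Residues and Duality, I.4.8).
-/

set_option autoImplicit false
universe v u
open CategoryTheory CategoryTheory.Limits

namespace Groth.Agent.Lib.Helper32

/-- A criterion for a morphism of short complexes to be a quasi-isomorphism. -/
theorem shortComplex_quasiIso_of_refinements' {C : Type u} [Category.{v} C] [Abelian C]
    {S₁ S₂ : ShortComplex C} (φ : S₁ ⟶ S₂)
    (h₁ : ∀ ⦃A : C⦄ (x₂ : A ⟶ S₁.X₂) (_ : x₂ ≫ S₁.g = 0) (y₁ : A ⟶ S₂.X₁),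
      x₂ ≫ φ.τ₂ = y₁ ≫ S₂.f →
      ∃ (A' : C) (π : A' ⟶ A) (_ : Epi π) (x₁ : A' ⟶ S₁.X₁), π ≫ x₂ = x₁ ≫ S₁.f)
    (h₂ : ∀ ⦃A : C⦄ (y₂ : A ⟶ S₂.X₂), y₂ ≫ S₂.g = 0 →
      ∃ (A' : C) (π : A' ⟶ A) (_ : Epi π) (x₂ : A' ⟶ S₁.X₂) (_ : x₂ ≫ S₁.g = 0)
        (y₁ : A' ⟶ S₂.X₁), π ≫ y₂ = x₂ ≫ φ.τ₂ + y₁ ≫ S₂.f) :
    ShortComplex.QuasiIso φ := by
  rw [ShortComplex.quasiIso_iff]
  have : Mono (ShortComplex.homologyMap φ) := by
    rw [ShortComplex.mono_homologyMap_iff_up_to_refinements]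
    intro A x₂ hx₂ y₁ h
    exact h₁ x₂ hx₂ y₁ h
  have : Epi (ShortComplex.homologyMap φ) := by
    rw [ShortComplex.epi_homologyMap_iff_up_to_refinements]
    intro A y₂ hy₂
    exact h₂ y₂ hy₂
  exact isIso_of_mono_of_epi _

/-- A criterion for a morphism of cochain complexes to be a quasi-isomorphism in a given degree. -/
theorem quasiIsoAt_of_refinements' {C : Type u} [Category.{v} C] [Abelian C]
    {K M : CochainComplex C ℤ} (α : K ⟶ M) (i j k : ℤ) (hi : i + 1 = j) (hk : j + 1 = k)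
    (h₁ : ∀ ⦃W : C⦄ (x : W ⟶ K.X j) (_ : x ≫ K.d j k = 0) (t : W ⟶ M.X i),
      x ≫ α.f j = t ≫ M.d i j →
      ∃ (i' : ℤ) (W' : C) (π : W' ⟶ W) (_ : Epi π) (x' : W' ⟶ K.X i'), π ≫ x = x' ≫ K.d i' j)
    (h₂ : ∀ ⦃W : C⦄ (y : W ⟶ M.X j), y ≫ M.d j k = 0 →
      ∃ (W' : C) (π : W' ⟶ W) (_ : Epi π) (x : W' ⟶ K.X j) (_ : x ≫ K.d j k = 0)
        (t : W' ⟶ M.X i), π ≫ y = x ≫ α.f j + t ≫ M.d i j) :
    QuasiIsoAt α j := by
  rw [quasiIsoAt_iff' α i j k (by simp; lia) (by simp; lia)]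
  apply shortComplex_quasiIso_of_refinements'
  · intro W x hx t h
    obtain ⟨i', W', π, hπ, x', hx'⟩ := h₁ x hx t h
    by_cases hi' : i' = i
    · subst hi'
      exact ⟨W', π, hπ, x', hx'⟩
    · refine ⟨W', π, hπ, 0, hx'.trans ?_⟩
      rw [K.shape i' j (by simp; lia), comp_zero, zero_comp]
      rfl
  · intro W y hy
    exact h₂ y hy

namespace RightResSub

variable {A : Type u} [Category.{v} A] [Abelian A] (J : A → Prop)
  (K : CochainComplex A ℤ)

/-- The data at stage `k` of the inductive construction. -/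
structure Stage (k : ℕ) where
  /-- the previous degree -/
  p : ℤ
  hp : p + 1 = Int.ofNat k
  /-- the previous term -/
  Tprev : A
  /-- the current term -/
  T : A
  /-- the differential -/
  dprev : Tprev ⟶ T
  /-- the previous comparison map -/
  αprev : K.X p ⟶ Tprev
  /-- the comparison map -/
  α : K.X (Int.ofNat k) ⟶ T
  comm : αprev ≫ dprev = K.d p (Int.ofNat k) ≫ α
  hTprev : J Tprev
  hT : J T
  inj : Injective T
  inv : ∀ ⦃W : A⦄ (x : W ⟶ K.X (Int.ofNat k))
    (_ : x ≫ K.d (Int.ofNat k) (Int.ofNat (k + 1)) = 0) (t : W ⟶ Tprev), x ≫ α = t ≫ dprev →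
    ∃ (i : ℤ) (W' : A) (π : W' ⟶ W) (_ : Epi π) (x' : W' ⟶ K.X i), π ≫ x = x' ≫ K.d i (Int.ofNat k)

variable {J K}

namespace Stage

variable {k : ℕ} (st : Stage J K k)

lemma prev_eq : (ComplexShape.up ℤ).prev (Int.ofNat k) = st.p := by
  have := st.hp
  simp only [CochainComplex.prev]
  lia

/-- the cokernel of `dprev` -/
noncomputable abbrev C : A := cokernel st.dprev

/-- the projection `T ⟶ C` -/
noncomputable abbrev πC : st.T ⟶ st.C := cokernel.π st.dprev

lemma toCycles_comp :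
    K.toCycles st.p (Int.ofNat k) ≫ K.iCycles (Int.ofNat k) ≫ st.α ≫ st.πC = 0 := by
  rw [K.toCycles_i_assoc, ← reassoc_of% st.comm, cokernel.condition, comp_zero]

/-- the map `Hᵏ(K) ⟶ C` -/
noncomputable def ψ : K.homology (Int.ofNat k) ⟶ st.C :=
  (K.homologyIsCokernel st.p (Int.ofNat k) st.prev_eq).desc
    (CokernelCofork.ofπ (K.iCycles (Int.ofNat k) ≫ st.α ≫ st.πC) st.toCycles_comp)

lemma homologyπ_ψ :
    K.homologyπ (Int.ofNat k) ≫ st.ψ = K.iCycles (Int.ofNat k) ≫ st.α ≫ st.πC :=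
  (K.homologyIsCokernel st.p (Int.ofNat k) st.prev_eq).fac
    (CokernelCofork.ofπ (K.iCycles (Int.ofNat k) ≫ st.α ≫ st.πC) st.toCycles_comp)
    WalkingParallelPair.one

/-- the cokernel of `ψ` -/
noncomputable abbrev D : A := cokernel st.ψ

/-- the projection `T ⟶ D` -/
noncomputable def πD : st.T ⟶ st.D := st.πC ≫ cokernel.π st.ψ

lemma dprev_πD : st.dprev ≫ st.πD = 0 := by
  rw [πD, cokernel.condition_assoc, zero_comp]

lemma cyc_πD : K.iCycles (Int.ofNat k) ≫ st.α ≫ st.πD = 0 :=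
  calc K.iCycles (Int.ofNat k) ≫ st.α ≫ st.πD
      = (K.iCycles (Int.ofNat k) ≫ st.α ≫ st.πC) ≫ cokernel.π st.ψ := by
        simp only [πD, Category.assoc]
    _ = (K.homologyπ (Int.ofNat k) ≫ st.ψ) ≫ cokernel.π st.ψ := by rw [st.homologyπ_ψ]
    _ = 0 := by rw [Category.assoc, cokernel.condition, comp_zero]

lemma exact_πD {W : A} (y : W ⟶ st.T) (hy : y ≫ st.πD = 0) :
    ∃ (W' : A) (π : W' ⟶ W) (_ : Epi π) (x : W' ⟶ K.X (Int.ofNat k))
      (_ : x ≫ K.d (Int.ofNat k) (Int.ofNat (k + 1)) = 0) (t : W' ⟶ st.Tprev),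
      π ≫ y = x ≫ st.α + t ≫ st.dprev := by
  have hS₁ : (ShortComplex.mk st.ψ (cokernel.π st.ψ) (cokernel.condition _)).Exact :=
    ShortComplex.exact_of_g_is_cokernel _ (cokernelIsCokernel st.ψ)
  have hS₂ : (ShortComplex.mk st.dprev st.πC (cokernel.condition _)).Exact :=
    ShortComplex.exact_of_g_is_cokernel _ (cokernelIsCokernel st.dprev)
  obtain ⟨W₁, π₁, hπ₁, (h : W₁ ⟶ K.homology (Int.ofNat k)),
      (hh : π₁ ≫ y ≫ st.πC = h ≫ st.ψ)⟩ := hS₁.exact_up_to_refinements (y ≫ st.πC) (by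
    change (y ≫ st.πC) ≫ cokernel.π st.ψ = 0
    rw [Category.assoc]
    exact hy)
  obtain ⟨W₂, π₂, hπ₂, z, hz⟩ :=
    surjective_up_to_refinements_of_epi (K.homologyπ (Int.ofNat k)) h
  obtain ⟨W₃, π₃, hπ₃, (t : W₃ ⟶ st.Tprev),
      (ht : π₃ ≫ (π₂ ≫ π₁ ≫ y - z ≫ K.iCycles (Int.ofNat k) ≫ st.α) = t ≫ st.dprev)⟩ :=
    hS₂.exact_up_to_refinements
    (π₂ ≫ π₁ ≫ y - z ≫ K.iCycles (Int.ofNat k) ≫ st.α) (by
      change (π₂ ≫ π₁ ≫ y - z ≫ K.iCycles (Int.ofNat k) ≫ st.α) ≫ st.πC = 0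
      rw [Preadditive.sub_comp, Category.assoc, Category.assoc, hh, reassoc_of% hz,
        st.homologyπ_ψ, Category.assoc, Category.assoc, sub_self])
  refine ⟨W₃, π₃ ≫ π₂ ≫ π₁, epi_comp' hπ₃ (epi_comp' hπ₂ hπ₁), π₃ ≫ z ≫ K.iCycles (Int.ofNat k), ?_,
    t, ?_⟩
  · rw [Category.assoc, Category.assoc, K.iCycles_d, comp_zero, comp_zero]
  · rw [Preadditive.comp_sub] at ht
    rw [← ht]
    simp only [Category.assoc]
    abel

/-- the cokernel of the inclusion of cycles -/
noncomputable abbrev Q : A := cokernel (K.iCycles (Int.ofNat k))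

/-- the induced map `Kᵏ / Zᵏ ⟶ Kᵏ⁺¹` -/
noncomputable def dQ : Q (K := K) (k := k) ⟶ K.X (Int.ofNat (k + 1)) :=
  cokernel.desc _ (K.d (Int.ofNat k) (Int.ofNat (k + 1))) (K.iCycles_d _ _)

lemma π_dQ : cokernel.π (K.iCycles (Int.ofNat k)) ≫ dQ (K := K) (k := k) =
    K.d (Int.ofNat k) (Int.ofNat (k + 1)) := cokernel.π_desc _ _ _

instance mono_dQ : Mono (dQ (K := K) (k := k)) := by
  apply Preadditive.mono_of_cancel_zero
  intro W w hw
  obtain ⟨W', π, hπ, w', hw'⟩ :=
    surjective_up_to_refinements_of_epi (cokernel.π (K.iCycles (Int.ofNat k))) w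
  have h1 : w' ≫ K.d (Int.ofNat k) (Int.ofNat (k + 1)) = 0 := by
    rw [← π_dQ, ← reassoc_of% hw', hw, comp_zero]
  have h2 : w' = K.liftCycles w' (Int.ofNat (k + 1)) (by simp) h1 ≫ K.iCycles (Int.ofNat k) :=
    (K.liftCycles_i _ _ _ _).symm
  rw [← cancel_epi π, comp_zero, hw', h2, Category.assoc, cokernel.condition, comp_zero]

end Stage

variable (J K) in
/-- the hypotheses on the class `J` and the complex `K` -/
structure Hyp : Prop where
  emb : ∀ X : A, J X → ∃ (Y : A) (i : X ⟶ Y), Mono i ∧ J Y ∧ Injective Y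
  cok : ∀ {X Y : A} (f : X ⟶ Y), J X → J Y → J (cokernel f)
  bi : ∀ X Y : A, J X → J Y → J (X ⊞ Y)
  hom : ∀ i : ℤ, J (K.homology i)

section General

variable (H : Hyp J K) (j : ℤ)

/-- an injective hull of `Hʲ(K)` in `J` -/
noncomputable def I2 : A := (H.emb (K.homology j) (H.hom j)).choose

/-- the embedding `Hʲ(K) ⟶ I2` -/
noncomputable def e2 : K.homology j ⟶ I2 H j := (H.emb (K.homology j) (H.hom j)).choose_spec.choose

instance : Mono (e2 H j) := (H.emb (K.homology j) (H.hom j)).choose_spec.choose_spec.1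

lemma hI2 : J (I2 H j) := (H.emb (K.homology j) (H.hom j)).choose_spec.choose_spec.2.1

instance : Injective (I2 H j) := (H.emb (K.homology j) (H.hom j)).choose_spec.choose_spec.2.2

/-- an extension of `Zʲ ⟶ Hʲ ⟶ I2` to `Kʲ` -/
noncomputable def gg : K.X j ⟶ I2 H j :=
  Injective.factorThru (K.homologyπ j ≫ e2 H j) (K.iCycles j)

lemma i_gg : K.iCycles j ≫ gg H j = K.homologyπ j ≫ e2 H j :=
  Injective.comp_factorThru _ _

lemma d_gg (i : ℤ) : K.d i j ≫ gg H j = 0 := by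
  rw [← K.toCycles_i i j, Category.assoc, i_gg, K.toCycles_comp_homologyπ_assoc, zero_comp]

lemma boundary_of_gg {W : A} (p : ℤ) (hp : p + 1 = j) (x : W ⟶ K.X j) (k' : ℤ) (hk' : j + 1 = k')
    (hx : x ≫ K.d j k' = 0) (h : x ≫ gg H j = 0) :
    ∃ (W' : A) (π : W' ⟶ W) (_ : Epi π) (x' : W' ⟶ K.X p), π ≫ x = x' ≫ K.d p j := by
  have hz : x = K.liftCycles x k' (by simp [← hk']) hx ≫ K.iCycles j :=
    (K.liftCycles_i _ _ _ _).symm
  rw [hz, Category.assoc, i_gg, ← Category.assoc] at h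
  replace h := zero_of_comp_mono _ h
  have hS : (ShortComplex.mk (K.toCycles p j) (K.homologyπ j)
      (K.toCycles_comp_homologyπ _ _)).Exact :=
    ShortComplex.exact_of_g_is_cokernel _ (K.homologyIsCokernel p j (by simp [← hp]))
  obtain ⟨W', π, hπ, (x' : W' ⟶ K.X p),
    (hx' : π ≫ K.liftCycles x k' (by simp [← hk']) hx = x' ≫ K.toCycles p j)⟩ :=
      hS.exact_up_to_refinements _ h
  refine ⟨W', π, hπ, x', ?_⟩
  rw [hz, reassoc_of% hx', K.toCycles_i]

end General

namespace Stage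

variable {k : ℕ} (st : Stage J K k) (H : Hyp J K)

include H in
lemma hD : J st.D := H.cok st.ψ (H.hom _) (H.cok st.dprev st.hTprev st.hT)

/-- an injective hull of `D` in `J` -/
noncomputable def I' : A := (H.emb st.D (st.hD H)).choose

/-- the embedding `D ⟶ I'` -/
noncomputable def e' : st.D ⟶ st.I' H := (H.emb st.D (st.hD H)).choose_spec.choose

instance : Mono (st.e' H) := (H.emb st.D (st.hD H)).choose_spec.choose_spec.1

lemma hI' : J (st.I' H) := (H.emb st.D (st.hD H)).choose_spec.choose_spec.2.1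

instance : Injective (st.I' H) := (H.emb st.D (st.hD H)).choose_spec.choose_spec.2.2

/-- the map `Kᵏ / Zᵏ ⟶ I'` -/
noncomputable def u : Q (K := K) (k := k) ⟶ st.I' H :=
  cokernel.desc _ (st.α ≫ st.πD ≫ st.e' H) (by
    have h := st.cyc_πD
    calc K.iCycles (Int.ofNat k) ≫ st.α ≫ st.πD ≫ st.e' H
        = (K.iCycles (Int.ofNat k) ≫ st.α ≫ st.πD) ≫ st.e' H := by simp only [Category.assoc]
      _ = 0 := by rw [h, zero_comp])

/-- the first component of the next comparison map -/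
noncomputable def g₁ : K.X (Int.ofNat (k + 1)) ⟶ st.I' H :=
  Injective.factorThru (st.u H) dQ

lemma d_g₁ : K.d (Int.ofNat k) (Int.ofNat (k + 1)) ≫ st.g₁ H = st.α ≫ st.πD ≫ st.e' H := by
  rw [← π_dQ, Category.assoc, g₁, Injective.comp_factorThru, u, cokernel.π_desc]

/-- The next stage. -/
noncomputable def next : Stage J K (k + 1) where
  p := Int.ofNat k
  hp := rfl
  Tprev := st.T
  T := st.I' H ⊞ I2 H (Int.ofNat (k + 1))
  dprev := st.πD ≫ st.e' H ≫ biprod.inl
  αprev := st.α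
  α := biprod.lift (st.g₁ H) (gg H (Int.ofNat (k + 1)))
  comm := by
    apply biprod.hom_ext
    · simp only [Category.assoc, biprod.inl_fst, biprod.lift_fst, Category.comp_id, st.d_g₁ H]
    · simp only [Category.assoc, biprod.inl_snd, biprod.lift_snd, comp_zero, d_gg H]
  hTprev := st.hT
  hT := H.bi _ _ (st.hI' H) (hI2 H _)
  inj := inferInstance
  inv := by
    intro W x hx t h
    have h2 : x ≫ gg H (Int.ofNat (k + 1)) = 0 := by
      have := h =≫ biprod.snd
      simpa using this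
    obtain ⟨W', π, hπ, x', hx'⟩ := boundary_of_gg H (Int.ofNat (k + 1)) (Int.ofNat k) rfl x
      (Int.ofNat (k + 1 + 1)) rfl hx h2
    exact ⟨Int.ofNat k, W', π, hπ, x', hx'⟩

lemma next_dd : st.dprev ≫ (st.next H).dprev = 0 := by
  change st.dprev ≫ st.πD ≫ _ = 0
  rw [reassoc_of% st.dprev_πD, zero_comp]

lemma next_surj {W : A} (y : W ⟶ st.T) (hy : y ≫ (st.next H).dprev = 0) :
    ∃ (W' : A) (π : W' ⟶ W) (_ : Epi π) (x : W' ⟶ K.X (Int.ofNat k))
      (_ : x ≫ K.d (Int.ofNat k) (Int.ofNat (k + 1)) = 0) (t : W' ⟶ st.Tprev),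
      π ≫ y = x ≫ st.α + t ≫ st.dprev := by
  change y ≫ st.πD ≫ st.e' H ≫ biprod.inl = 0 at hy
  rw [← Category.assoc, ← Category.assoc] at hy
  replace hy := zero_of_comp_mono _ hy
  replace hy := zero_of_comp_mono _ hy
  exact st.exact_πD y hy

end Stage

section Construction

variable (H : Hyp J K) (Z : {Z : A // IsZero Z ∧ J Z}) [K.IsStrictlyGE 0]

/-- The initial stage. -/
noncomputable def init : Stage J K 0 where
  p := Int.negSucc 0
  hp := rfl
  Tprev := Z.1
  T := I2 H (Int.ofNat 0)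
  dprev := 0
  αprev := 0
  α := gg H (Int.ofNat 0)
  comm := (zero_comp).trans ((K.isZero_of_isStrictlyGE 0 (Int.negSucc 0) (by lia)).eq_of_src _ _)
  hTprev := Z.2.2
  hT := hI2 H _
  inj := inferInstance
  inv := by
    intro W x hx t h
    rw [comp_zero] at h
    obtain ⟨W', π, hπ, x', hx'⟩ := boundary_of_gg H (Int.ofNat 0) (Int.negSucc 0) rfl x
      (Int.ofNat (0 + 1)) rfl hx h
    exact ⟨Int.negSucc 0, W', π, hπ, x', hx'⟩

/-- The sequence of stages. -/
noncomputable def seq : (k : ℕ) → Stage J K k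
  | 0 => init H Z
  | k + 1 => (seq k).next H

/-- The terms of the resolution. -/
noncomputable def X' : ℤ → A
  | Int.ofNat k => (seq H Z k).T
  | Int.negSucc _ => Z.1

/-- The differentials of the resolution. -/
noncomputable def d' : (m : ℤ) → (X' H Z m ⟶ X' H Z (m + 1))
  | Int.ofNat k => (seq H Z (k + 1)).dprev
  | Int.negSucc 0 => 0
  | Int.negSucc (_ + 1) => 0

lemma d'_comp_d' (m : ℤ) : d' H Z m ≫ d' H Z (m + 1) = 0 := by
  match m with
  | Int.ofNat k => exact (seq H Z (k + 1)).next_dd H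
  | Int.negSucc 0 => exact zero_comp
  | Int.negSucc (j + 1) => exact zero_comp

/-- The resolution. -/
noncomputable def M : CochainComplex A ℤ :=
  CochainComplex.of (X' H Z) (d' H Z) (d'_comp_d' H Z)

/-- The components of the comparison map. -/
noncomputable def f' : (m : ℤ) → (K.X m ⟶ X' H Z m)
  | Int.ofNat k => (seq H Z k).α
  | Int.negSucc _ => 0

lemma f'_comm (m : ℤ) :
    f' H Z m ≫ d' H Z m = K.d m (m + 1) ≫ f' H Z (m + 1) := by
  match m with
  | Int.ofNat k => exact (seq H Z (k + 1)).comm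
  | Int.negSucc 0 =>
    exact (zero_comp).trans ((K.isZero_of_isStrictlyGE 0 (Int.negSucc 0) (by lia)).eq_of_src _ _)
  | Int.negSucc (j + 1) =>
    exact (zero_comp).trans
      ((K.isZero_of_isStrictlyGE 0 (Int.negSucc (j + 1)) (by lia)).eq_of_src _ _)

/-- The comparison map. -/
noncomputable def α : K ⟶ M H Z where
  f := f' H Z
  comm' i j hij := by
    obtain rfl : i + 1 = j := hij
    dsimp [M]
    rw [CochainComplex.of_d]
    exact f'_comm H Z i

lemma isStrictlyGE_M : (M H Z).IsStrictlyGE 0 := by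
  rw [CochainComplex.isStrictlyGE_iff]
  intro i hi
  match i with
  | Int.ofNat k => exact absurd hi (by simp)
  | Int.negSucc _ => exact Z.2.1

lemma prop_M (n : ℤ) : J ((M H Z).X n) := by
  match n with
  | Int.ofNat k => exact (seq H Z k).hT
  | Int.negSucc _ => exact Z.2.2

lemma injective_M (n : ℤ) : Injective ((M H Z).X n) := by
  match n with
  | Int.ofNat k => exact (seq H Z k).inj
  | Int.negSucc _ => exact Z.2.1.injective

lemma M_d (m : ℤ) : (M H Z).d m (m + 1) = d' H Z m :=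
  CochainComplex.of_d (X' H Z) (d' H Z) m

lemma quasiIsoAt_α_ofNat (k : ℕ) : QuasiIsoAt (α H Z) (Int.ofNat k) := by
  match k with
  | 0 =>
    refine quasiIsoAt_of_refinements' (α H Z) (Int.negSucc 0) (Int.ofNat 0) (Int.ofNat 1)
      (by rfl) (by rfl) ?_ ?_
    · intro W x hx t h
      refine (seq H Z 0).inv x hx t ?_
      refine h.trans ?_
      congr 1
      exact M_d H Z (Int.negSucc 0)
    · intro W y hy
      have hy' : y ≫ (seq H Z 1).dprev = 0 := by
        refine Eq.trans ?_ hy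
        congr 1
        exact (M_d H Z (Int.ofNat 0)).symm
      obtain ⟨W', π, hπ, x, hx, t, h⟩ := (seq H Z 0).next_surj H y hy'
      refine ⟨W', π, hπ, x, hx, t, h.trans ?_⟩
      congr 2
      exact (M_d H Z (Int.negSucc 0)).symm
  | k + 1 =>
    refine quasiIsoAt_of_refinements' (α H Z) (Int.ofNat k) (Int.ofNat (k + 1))
      (Int.ofNat (k + 2)) (by rfl) (by rfl) ?_ ?_
    · intro W x hx t h
      refine (seq H Z (k + 1)).inv x hx t ?_
      refine h.trans ?_
      congr 1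
      exact M_d H Z (Int.ofNat k)
    · intro W y hy
      have hy' : y ≫ (seq H Z (k + 2)).dprev = 0 := by
        refine Eq.trans ?_ hy
        congr 1
        exact (M_d H Z (Int.ofNat (k + 1))).symm
      obtain ⟨W', π, hπ, x, hx, t, h⟩ := (seq H Z (k + 1)).next_surj H y hy'
      refine ⟨W', π, hπ, x, hx, t, h.trans ?_⟩
      congr 2
      exact (M_d H Z (Int.ofNat k)).symm

lemma quasiIso_α : QuasiIso (α H Z) := by
  rw [quasiIso_iff]
  intro n
  match n with
  | Int.ofNat k => exact quasiIsoAt_α_ofNat H Z k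
  | Int.negSucc j =>
    have := isStrictlyGE_M H Z
    rw [quasiIsoAt_iff_exactAt _ _ (K.exactAt_of_isGE 0 _ (by lia))]
    exact (M H Z).exactAt_of_isGE 0 _ (by lia)

end Construction

/-- Right resolutions by injectives in `J` for complexes vanishing in negative degrees with
cohomology in `J`. -/
theorem exists_zero (H : Hyp J K) (hJ0 : ∃ Z : A, IsZero Z ∧ J Z) [K.IsStrictlyGE 0] :
    ∃ (L : CochainComplex A ℤ) (α : K ⟶ L), L.IsStrictlyGE 0 ∧ (∀ n, J (L.X n)) ∧
      (∀ n, Injective (L.X n)) ∧ QuasiIso α := by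
  obtain ⟨Z, hZ, hJZ⟩ := hJ0
  exact ⟨M H ⟨Z, hZ, hJZ⟩, α H ⟨Z, hZ, hJZ⟩, isStrictlyGE_M H _, prop_M H _,
    injective_M H _, quasiIso_α H _⟩

/-- Right resolutions by injectives in `J` for bounded below complexes with cohomology in `J`. -/
theorem exists_of_isStrictlyGE (a : ℤ) [K.IsStrictlyGE a]
    (hiso : ∀ {X Y : A} (_ : X ≅ Y), J X → J Y)
    (emb : ∀ X : A, J X → ∃ (Y : A) (i : X ⟶ Y), Mono i ∧ J Y ∧ Injective Y)
    (cok : ∀ {X Y : A} (f : X ⟶ Y), J X → J Y → J (cokernel f))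
    (bi : ∀ X Y : A, J X → J Y → J (X ⊞ Y))
    (hom : ∀ i : ℤ, J (K.homology i))
    (hJ0 : ∃ Z : A, IsZero Z ∧ J Z) :
    ∃ (L : CochainComplex A ℤ) (α : K ⟶ L), L.IsStrictlyGE a ∧ (∀ n, J (L.X n)) ∧
      (∀ n, Injective (L.X n)) ∧ QuasiIso α := by
  have : (K⟦a⟧).IsStrictlyGE 0 := K.isStrictlyGE_shift a a 0 (by lia)
  have H : Hyp J (K⟦a⟧) :=
    { emb := emb
      cok := cok
      bi := bi
      hom := fun i => hiso ((CochainComplex.ShiftSequence.shiftIso A a i (a + i) rfl).app K).symm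
        (hom (a + i)) }
  obtain ⟨M, α', hM, hJM, hinj, hqis⟩ := exists_zero H hJ0
  refine ⟨M⟦-a⟧, ((shiftEquiv (CochainComplex A ℤ) a).unitIso.app K).hom ≫ α'⟦-a⟧',
    M.isStrictlyGE_shift 0 (-a) a (by lia), fun n => hJM (n + -a), fun n => hinj (n + -a), ?_⟩
  have h1 : QuasiIso (α'⟦-a⟧') := (CochainComplex.quasiIso_shift_iff α' (-a)).2 hqis
  have h2 : QuasiIso ((shiftEquiv (CochainComplex A ℤ) a).unitIso.app K).hom := inferInstance
  exact @quasiIso_comp _ _ _ _ _ _ _ _ _ _ _ _ _ h2 h1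

section Lift

variable {A' : Type*} [Category A'] [Abelian A'] (ι : A' ⥤ A) [ι.Additive] [ι.Full] [ι.Faithful]

/-- a complex with terms in the essential image of a fully faithful additive functor lifts -/
lemma exists_lift (M : CochainComplex A ℤ) (hM : ∀ n, ι.essImage (M.X n)) :
    ∃ (I : CochainComplex A' ℤ),
      Nonempty ((ι.mapHomologicalComplex (ComplexShape.up ℤ)).obj I ≅ M) := by
  let X' : ℤ → A' := fun n => (hM n).witness
  let e : ∀ n, ι.obj (X' n) ≅ M.X n := fun n => (hM n).getIso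
  let d' : ∀ i j, X' i ⟶ X' j := fun i j => ι.preimage ((e i).hom ≫ M.d i j ≫ (e j).inv)
  have hd' : ∀ i j, ι.map (d' i j) = (e i).hom ≫ M.d i j ≫ (e j).inv := fun i j =>
    ι.map_preimage _
  let I : CochainComplex A' ℤ :=
    { X := X'
      d := d'
      shape := fun i j hij => ι.map_injective (by
        rw [hd', M.shape i j hij, zero_comp, comp_zero, ι.map_zero])
      d_comp_d' := fun i j k _ _ => ι.map_injective (by
        rw [ι.map_comp, hd', hd', ι.map_zero]
        simp) }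
  refine ⟨I, ⟨HomologicalComplex.Hom.isoOfComponents e ?_⟩⟩
  intro i j _
  change (e i).hom ≫ M.d i j = ι.map (d' i j) ≫ (e j).hom
  rw [hd']
  simp

end Lift

end RightResSub

end Groth.Agent.Lib.Helper32
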