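import Mathlib
import Groth.Agent.Lib.Helper32.DProdExact
import Groth.Agent.Lib.Helper32.KInjDerived
import Groth.Agent.Lib.Helper32.KInjRes

/-!
# Total right derived functors commute with derived limits (helper32)
-/

set_option autoImplicit false

universe w₁ w₂ v₁ v₂ u₁ u₂
open CategoryTheory CategoryTheory.Limits CategoryTheory.Pretriangulated

namespace Groth.Agent.Lib.Helper32.RlimDerived

open Groth.Agent.Lib.Helper32.KInjTower Groth.Agent.Lib.Helper32.DProd
open Groth.Agent.Lib.Helper32.DProdExact Groth.Agent.Lib.Helper32.KInjDerived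

section Fan

variable {C : Type*} [Category C] {ι : Type*}

/-- transport a limit fan along isomorphisms of the point and of the factors -/
def isLimitFanOfIsos {X Y : ι → C} (c : Fan X) (hc : IsLimit c) (e : ∀ i, X i ≅ Y i) {P : C}
    (eP : P ≅ c.pt) (π : ∀ i, P ⟶ Y i) (hπ : ∀ i, π i = eP.hom ≫ c.proj i ≫ (e i).hom) :
    IsLimit (Fan.mk P π) :=
  Fan.IsLimit.mk _ (fun s => Fan.IsLimit.lift hc (fun i => s.proj i ≫ (e i).inv) ≫ eP.inv)
    (fun s j => by
      change (Fan.IsLimit.lift hc (fun i => s.proj i ≫ (e i).inv) ≫ eP.inv) ≫ π j = s.proj j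
      rw [hπ, Category.assoc, Iso.inv_hom_id_assoc, Fan.IsLimit.fac_assoc, Category.assoc,
        Iso.inv_hom_id, Category.comp_id])
    (fun s m hm => by
      rw [← cancel_mono eP.hom, Category.assoc, Iso.inv_hom_id, Category.comp_id]
      apply Fan.IsLimit.hom_ext hc
      intro i
      rw [Fan.IsLimit.fac, ← cancel_mono (e i).hom, Category.assoc, Category.assoc,
        Category.assoc, Iso.inv_hom_id, Category.comp_id]
      have := hm i
      change m ≫ π i = s.proj i at this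
      rw [hπ] at this
      exact this)

end Fan

section MapProd

variable {A : Type u₁} [Category.{v₁} A] [Abelian A] {B : Type u₂} [Category.{v₂} B] [Abelian B]
  [HasLimitsOfShape (Discrete ℕ) A] [HasLimitsOfShape (Discrete ℕ) B]
  (F : A ⥤ B) [F.Additive] [PreservesLimitsOfShape (Discrete ℕ) F]

/-- the comparison `F (∏ X) ⟶ ∏ F X` for complexes -/
noncomputable def mapProdComparison (X : ℕ → CochainComplex A ℤ) :
    (F.mapHomologicalComplex (ComplexShape.up ℤ)).obj (prodCx X) ⟶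
      prodCx (fun n => (F.mapHomologicalComplex (ComplexShape.up ℤ)).obj (X n)) :=
  prodLift (fun n => (F.mapHomologicalComplex (ComplexShape.up ℤ)).map (prodπ X n))

@[reassoc (attr := simp)]
lemma mapProdComparison_π (X : ℕ → CochainComplex A ℤ) (n : ℕ) :
    mapProdComparison F X ≫ prodπ _ n =
      (F.mapHomologicalComplex (ComplexShape.up ℤ)).map (prodπ X n) :=
  prodLift_π _ _

instance (X : ℕ → CochainComplex A ℤ) : IsIso (mapProdComparison F X) := by
  have : ∀ j, IsIso ((mapProdComparison F X).f j) := by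
    intro j
    have h : (mapProdComparison F X).f j = piComparison F (fun n => (X n).X j) := by
      apply Pi.hom_ext
      intro n
      refine Eq.trans ?_ (piComparison_comp_π F (fun n => (X n).X j) n).symm
      exact congrArg (fun t => t.f j) (mapProdComparison_π F X n)
    have h2 : IsIso (piComparison F (fun n => (X n).X j)) := inferInstance
    rw [h]
    exact h2
  exact HomologicalComplex.Hom.isIso_of_components _

end MapProd

section Main

variable {A : Type u₁} [Category.{v₁} A] [Abelian A] [IsGrothendieckAbelian.{v₁} A]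
  [HasDerivedCategory.{w₁} A]
  {B : Type u₂} [Category.{v₂} B] [Abelian B] [HasDerivedCategory.{w₂} B]
  [HasLimitsOfShape (Discrete ℕ) B] [HasExactLimitsOfShape (Discrete ℕ) B]
  (F : A ⥤ B) [F.Additive] [PreservesLimitsOfShape (Discrete ℕ) F]

local notation "quoA" => HomotopyCategory.quotient A (ComplexShape.up ℤ)
local notation "quoB" => HomotopyCategory.quotient B (ComplexShape.up ℤ)
local notation "QhA" => (DerivedCategory.Qh : HomotopyCategory A (ComplexShape.up ℤ) ⥤ DerivedCategory A)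
local notation "QhB" => (DerivedCategory.Qh : HomotopyCategory B (ComplexShape.up ℤ) ⥤ DerivedCategory B)
local notation "Φ" => F.mapHomotopyCategory (ComplexShape.up ℤ) ⋙ QhB

omit [IsGrothendieckAbelian.{v₁} A] [HasDerivedCategory.{w₁} A] in
/-- `Φ (∏ X)` is the product of the `Φ (X n)` in `D(B)`. -/
noncomputable def isLimitFanΦ [HasLimitsOfShape (Discrete ℕ) A] (X : ℕ → CochainComplex A ℤ) :
    IsLimit (Fan.mk ((Φ).obj ((quoA).obj (prodCx X)))
      (fun n => (Φ).map ((quoA).map (prodπ X n)))) :=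
  isLimitFanOfIsos (fanQ (fun n => (F.mapHomologicalComplex (ComplexShape.up ℤ)).obj (X n)))
    (isLimitFanQ _)
    (fun n => ((DerivedCategory.quotientCompQhIso B).app
      ((F.mapHomologicalComplex (ComplexShape.up ℤ)).obj (X n))).symm)
    ((DerivedCategory.quotientCompQhIso B).app
      ((F.mapHomologicalComplex (ComplexShape.up ℤ)).obj (prodCx X)) ≪≫
      (DerivedCategory.Q).mapIso (asIso (mapProdComparison F X))) _ (fun n => by
    have h1 := (DerivedCategory.quotientCompQhIso B).hom.naturality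
      ((F.mapHomologicalComplex (ComplexShape.up ℤ)).map (prodπ X n))
    dsimp at h1
    dsimp [fanQ]
    rw [Category.assoc, ← Functor.map_comp_assoc, mapProdComparison_π, ← reassoc_of% h1,
      Iso.hom_inv_id_app]
    exact (Category.comp_id _).symm)

open Groth.Agent.Lib.Helper32.KInjRes in
/-- The total right derived functor of `F` sends a derived limit to a derived limit. -/
theorem isRlim_rightDerived
    (RF : DerivedCategory A ⥤ DerivedCategory B) (α : Φ ⟶ QhA ⋙ RF)
    [RF.IsRightDerivedFunctor α (HomotopyCategory.quasiIso A (ComplexShape.up ℤ))]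
    (K : ℕ → DerivedCategory A) (t : ∀ n, K (n + 1) ⟶ K n) (L : DerivedCategory A) [HasProduct K]
    [HasProduct fun n => RF.obj (K n)]
    (hL : ∃ (a : L ⟶ ∏ᶜ K) (c : ∏ᶜ K ⟶ L⟦(1 : ℤ)⟧),
      Triangle.mk a (Pi.lift fun n => Pi.π K n - Pi.π K (n + 1) ≫ t n) c ∈ distTriang _) :
    ∃ (a : RF.obj L ⟶ ∏ᶜ fun n => RF.obj (K n))
      (c : (∏ᶜ fun n => RF.obj (K n)) ⟶ (RF.obj L)⟦(1 : ℤ)⟧),
      Triangle.mk a (Pi.lift fun n => Pi.π (fun n => RF.obj (K n)) n -
        Pi.π (fun n => RF.obj (K n)) (n + 1) ≫ RF.map (t n)) c ∈ distTriang _ := by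
  classical
  have hA : HasKInjRes A := by
    intro M
    obtain ⟨I, f, hI, hf, -, -⟩ := exists_kInjective_resolution M
    exact ⟨I, f, hI, hf⟩
  -- Step 1: K-injective representatives
  have h1 : ∀ n, ∃ (I : CochainComplex A ℤ), I.IsKInjective ∧
      Nonempty ((QhA).obj ((quoA).obj I) ≅ K n) := by
    intro n
    obtain ⟨I, f, hI, hf⟩ := hA (DerivedCategory.Q.objPreimage (K n))
    have : IsIso (DerivedCategory.Q.map f) := by
      rw [DerivedCategory.isIso_Q_map_iff_quasiIso]
      exact hf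
    exact ⟨I, hI, ⟨(DerivedCategory.quotientCompQhIso A).app I ≪≫
      (asIso (DerivedCategory.Q.map f)).symm ≪≫ DerivedCategory.Q.objObjPreimageIso (K n)⟩⟩
  choose I hI ι' using h1
  let ι : ∀ n, (QhA).obj ((quoA).obj (I n)) ≅ K n := fun n => (ι' n).some
  have h2 : ∀ n, ∃ p : I (n + 1) ⟶ I n,
      (QhA).map ((quoA).map p) = (ι (n + 1)).hom ≫ t n ≫ (ι n).inv := by
    intro n
    obtain ⟨g, hg⟩ := (CochainComplex.IsKInjective.Qh_map_bijective ((quoA).obj (I (n + 1)))
      (I n)).surjective ((ι (n + 1)).hom ≫ t n ≫ (ι n).inv)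
    obtain ⟨p, rfl⟩ := (quoA).map_surjective g
    exact ⟨p, hg⟩
  choose p hp using h2
  let φ : prodCx I ⟶ prodCx I := towerD I p
  have hφ : ∀ n, φ ≫ prodπ I n = prodπ I n - prodπ I (n + 1) ≫ p n := towerD_π I p
  haveI : (prodCx I).IsKInjective := isKInjective_prodCx I
  -- Step 2: the product of the `K n`
  have hsK : IsLimit (Fan.mk ((QhA).obj ((quoA).obj (prodCx I)))
      (fun n => (QhA).map ((quoA).map (prodπ I n)) ≫ (ι n).hom)) :=
    isLimitFanOfIsos (fanQh I) (isLimitFanQh I) ι (Iso.refl _) _ (fun n => by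
      dsimp [fanQh]
      rw [Category.id_comp])
  let eK : ∏ᶜ K ≅ (QhA).obj ((quoA).obj (prodCx I)) :=
    IsLimit.conePointUniqueUpToIso (limit.isLimit _) hsK
  have heK : ∀ n, eK.hom ≫ (QhA).map ((quoA).map (prodπ I n)) ≫ (ι n).hom = Pi.π K n := fun n =>
    IsLimit.conePointUniqueUpToIso_hom_comp (limit.isLimit _) hsK ⟨n⟩
  let δ : ∏ᶜ K ⟶ ∏ᶜ K := Pi.lift fun n => Pi.π K n - Pi.π K (n + 1) ≫ t n
  have hδ : δ ≫ eK.hom = eK.hom ≫ (QhA).map ((quoA).map φ) := by
    apply Fan.IsLimit.hom_ext hsK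
    intro n
    change (δ ≫ eK.hom) ≫ (QhA).map ((quoA).map (prodπ I n)) ≫ (ι n).hom =
      (eK.hom ≫ (QhA).map ((quoA).map φ)) ≫ (QhA).map ((quoA).map (prodπ I n)) ≫ (ι n).hom
    rw [Category.assoc, heK, Category.assoc, ← Functor.map_comp_assoc, ← Functor.map_comp, hφ,
      Functor.map_sub, Functor.map_sub, Preadditive.sub_comp, Preadditive.comp_sub, heK,
      Functor.map_comp, Functor.map_comp, hp, Category.assoc, Category.assoc, Category.assoc,
      Iso.inv_hom_id, Category.comp_id, ← Category.assoc, ← Category.assoc]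
    have := heK (n + 1)
    rw [← Category.assoc] at this
    rw [this]
    exact Pi.lift_π _ _
  -- Step 3: a distinguished triangle of K-injectives in the homotopy category
  obtain ⟨J', hJ', u, w, hT⟩ :=
    (HomotopyCategory.subcategoryAcyclic A).rightOrthogonal.distinguished_cocone_triangle₁
      ((quoA).map φ) (CochainComplex.IsKInjective.rightOrthogonal (prodCx I))
      (CochainComplex.IsKInjective.rightOrthogonal (prodCx I))
  obtain ⟨J, rfl⟩ := HomotopyCategory.quotient_obj_surjective J'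
  haveI hJ : CochainComplex.IsKInjective J :=
    (CochainComplex.isKInjective_iff_rightOrthogonal J).2 hJ'
  -- Step 4: `L ≅ Qh J`
  obtain ⟨a, c, hTL⟩ := hL
  have hT2 : (QhA).mapTriangle.obj (Triangle.mk u ((quoA).map φ) w) ∈ distTriang _ :=
    (QhA).map_distinguished _ hT
  have hr1 := rot_of_distTriang _ hTL
  have hr2 := rot_of_distTriang _ hT2
  obtain ⟨e', -, -⟩ := exists_iso_of_arrow_iso _ _ hr1 hr2 (Arrow.isoMk eK eK hδ.symm)
  let eL : L ≅ (QhA).obj ((quoA).obj J) :=
    (shiftFunctor (DerivedCategory A) (1 : ℤ)).preimageIso (Triangle.π₃.mapIso e')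
  -- Step 5: the image triangle in `D(B)`
  have hTB : (Φ).mapTriangle.obj (Triangle.mk u ((quoA).map φ) w) ∈ distTriang _ :=
    (Φ).map_distinguished _ hT
  -- Step 6: the isomorphisms
  have hαJ : IsIso (α.app ((quoA).obj J)) :=
    isIso_app_of_isTerminal (hasTerminalArrows_Qh hA)
      (HomotopyCategory.quasiIso A (ComplexShape.up ℤ)) RF α _ (isTerminalMkId J)
  have hαI : ∀ n, IsIso (α.app ((quoA).obj (I n))) := fun n =>
    isIso_app_of_isTerminal (hasTerminalArrows_Qh hA)
      (HomotopyCategory.quasiIso A (ComplexShape.up ℤ)) RF α _ (isTerminalMkId (I n))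
  let e₁ : RF.obj L ≅ (Φ).obj ((quoA).obj J) :=
    RF.mapIso eL ≪≫ (asIso (α.app ((quoA).obj J))).symm
  let β : ∀ n, RF.obj (K n) ≅ (Φ).obj ((quoA).obj (I n)) := fun n =>
    RF.mapIso (ι n).symm ≪≫ (asIso (α.app ((quoA).obj (I n)))).symm
  have hβ : ∀ n, (β n).inv = α.app ((quoA).obj (I n)) ≫ RF.map (ι n).hom := fun n => by
    simp [β]
  have hpβ : ∀ n, (Φ).map ((quoA).map (p n)) ≫ (β n).inv = (β (n + 1)).inv ≫ RF.map (t n) := by
    intro n
    have nat := α.naturality ((quoA).map (p n))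
    rw [hβ, hβ, ← Category.assoc, nat, Category.assoc, Category.assoc]
    congr 1
    change RF.map ((QhA).map ((quoA).map (p n))) ≫ RF.map (ι n).hom = _
    rw [hp, ← RF.map_comp, ← RF.map_comp, Category.assoc, Category.assoc,
      Iso.inv_hom_id, Category.comp_id]
  have hsB : IsLimit (Fan.mk ((Φ).obj ((quoA).obj (prodCx I)))
      (fun n => (Φ).map ((quoA).map (prodπ I n)) ≫ (β n).inv)) :=
    isLimitFanOfIsos _ (isLimitFanΦ F I) (fun n => (β n).symm) (Iso.refl _) _ (fun n => by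
      dsimp
      rw [Category.id_comp])
  let e₂ : (∏ᶜ fun n => RF.obj (K n)) ≅ (Φ).obj ((quoA).obj (prodCx I)) :=
    IsLimit.conePointUniqueUpToIso (limit.isLimit _) hsB
  have he₂ : ∀ n, e₂.hom ≫ (Φ).map ((quoA).map (prodπ I n)) ≫ (β n).inv =
      Pi.π (fun n => RF.obj (K n)) n := fun n =>
    IsLimit.conePointUniqueUpToIso_hom_comp (limit.isLimit _) hsB ⟨n⟩
  let δ' : (∏ᶜ fun n => RF.obj (K n)) ⟶ ∏ᶜ fun n => RF.obj (K n) :=
    Pi.lift fun n => Pi.π (fun n => RF.obj (K n)) n -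
      Pi.π (fun n => RF.obj (K n)) (n + 1) ≫ RF.map (t n)
  have hδ' : δ' ≫ e₂.hom = e₂.hom ≫ (Φ).map ((quoA).map φ) := by
    apply Fan.IsLimit.hom_ext hsB
    intro n
    change (δ' ≫ e₂.hom) ≫ (Φ).map ((quoA).map (prodπ I n)) ≫ (β n).inv =
      (e₂.hom ≫ (Φ).map ((quoA).map φ)) ≫ (Φ).map ((quoA).map (prodπ I n)) ≫ (β n).inv
    rw [Category.assoc, he₂, Category.assoc, ← Functor.map_comp_assoc, ← Functor.map_comp, hφ,
      Functor.map_sub, Functor.map_sub, Preadditive.sub_comp, Preadditive.comp_sub, he₂,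
      Functor.map_comp, Functor.map_comp, Category.assoc, hpβ, ← Category.assoc,
      ← Category.assoc]
    have := he₂ (n + 1)
    rw [← Category.assoc] at this
    rw [this]
    exact Pi.lift_π _ _
  -- Step 7: conclusion
  refine ⟨e₁.hom ≫ (Φ).map u ≫ e₂.inv,
    e₂.hom ≫ ((Φ).mapTriangle.obj (Triangle.mk u ((quoA).map φ) w)).mor₃ ≫ e₁.inv⟦(1 : ℤ)⟧', ?_⟩
  refine isomorphic_distinguished _ hTB _ (Triangle.isoMk _ _ e₁ e₂ e₂ ?_ ?_ ?_)
  · change (e₁.hom ≫ (Φ).map u ≫ e₂.inv) ≫ e₂.hom = e₁.hom ≫ (Φ).map u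
    rw [Category.assoc, Category.assoc, Iso.inv_hom_id, Category.comp_id]
  · exact hδ'
  · change (e₂.hom ≫ ((Φ).mapTriangle.obj (Triangle.mk u ((quoA).map φ) w)).mor₃ ≫
        e₁.inv⟦(1 : ℤ)⟧') ≫ e₁.hom⟦(1 : ℤ)⟧' =
      e₂.hom ≫ ((Φ).mapTriangle.obj (Triangle.mk u ((quoA).map φ) w)).mor₃
    have h : e₁.inv⟦(1 : ℤ)⟧' ≫ e₁.hom⟦(1 : ℤ)⟧' = 𝟙 _ := by
      rw [← Functor.map_comp, e₁.inv_hom_id, CategoryTheory.Functor.map_id]
    exact (Category.assoc _ _ _).trans (congrArg (e₂.hom ≫ ·)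
      ((Category.assoc _ _ _).trans ((congrArg (_ ≫ ·) h).trans (Category.comp_id _))))

end Main

end Groth.Agent.Lib.Helper32.RlimDerived
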