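import Mathlib
import Groth.Prelude.Def_DCoh2
import Groth.Prelude.Def_ClSub2
import Groth.Agent.S0795
import Groth.Agent.Lib.Helper32.WayOut3
import Groth.Agent.Lib.Helper32.QCohTri
import Groth.Agent.Lib.Helper32.RpushQCohPlus
import Groth.Agent.Lib.Helper45.Dev.GraphTrick
import Groth.Agent.Lib.Helper16.CohThick.Basic

/-!
# `Rf_*` and coherent cohomology with proper support (helper32)

* `isGE_Rpush`: `Rf_*` preserves `D^{≥ n}` (any morphism `f`).
* `fiveClosed_isCoh`: coherent modules on a locally Noetherian scheme are closed under the middle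
  term of five-term exact sequences.
* `isCoh_HD_Rpush_single`: `H^i(Rf_*(M[-q]))` is coherent for `M` coherent with support proper over
  the locally Noetherian base.
* `isCohD_Rpush_of_isGE`: `Rf_*` preserves bounded below complexes with coherent cohomology with proper
  supports.
-/

set_option autoImplicit false
universe u
open CategoryTheory CategoryTheory.Limits CategoryTheory.Pretriangulated DerivedCategory
  AlgebraicGeometry

attribute [local instance] HasDerivedCategory.standard

namespace Groth.Agent.Lib.Helper32.RpushCoh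

open Groth.Agent.Lib.Helper32.KInjDerived Groth.Agent.Lib.Helper32.RDerCrit
  Groth.Agent.Lib.Helper32.TriRF Groth.Agent.Lib.Helper32.RFBounded
  Groth.Agent.Lib.Helper32.OpenSupp Groth.Agent.Lib.Helper32.OpenKInj
  Groth.Agent.Lib.Helper32.QCohTri Groth.Agent.Lib.Helper32.WayOut3
  Groth.Agent.Lib.Helper32.MVTriangle Groth.Agent.Lib.Helper32.RpushQCohPlus

variable {X S : Scheme.{u}} (f : X ⟶ S) [DCoh.HasRpush f]

/-- `Rf_*` preserves `D^{≥ n}`. -/
theorem isGE_Rpush (F : DCoh.D X) (n : ℤ) (hF : F.IsGE n) : ((DCoh.Rpush f).obj F).IsGE n := by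
  haveI := hF
  obtain ⟨K, hK, ⟨e⟩⟩ := DerivedCategory.exists_iso_Q_obj_of_isGE F n
  obtain ⟨L, i, hi, hL, hLn⟩ :=
    CochainComplex.Plus.modelCategoryQuillen.exists_quasiIso_injective K n
  have hKI : L.IsKInjective := CochainComplex.isKInjective_of_injective L n
  obtain ⟨e1⟩ := nonempty_rd_iso (Scheme.Modules.pushforward f) (hasKInjRes X) L hKI
  have eF : F ≅ DerivedCategory.Q.obj L := e ≪≫ asIso (DerivedCategory.Q.map i)
  have h1 : CochainComplex.IsStrictlyGE (((Scheme.Modules.pushforward f).mapHomologicalComplex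
      (ComplexShape.up ℤ)).obj L) n := inferInstance
  have h2 : (DerivedCategory.Q.obj (((Scheme.Modules.pushforward f).mapHomologicalComplex
      (ComplexShape.up ℤ)).obj L)).IsGE n := by
    rw [DerivedCategory.isGE_Q_obj_iff]
    infer_instance
  exact DerivedCategory.TStructure.t.isGE_of_iso
    (e1 ≪≫ (DCoh.Rpush f).mapIso eF.symm) n

/-- coherent modules are closed under the middle term of five-term exact sequences -/
theorem fiveClosed_isCoh (S : Scheme.{u}) [IsLocallyNoetherian S] :
    FiveClosed (fun M : S.Modules => Coh.IsCoh M) := by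
  intro X₁ X₂ M X₄ X₅ a b d c w₁ w₂ w₃ e₁ e₂ e₃ h₁ h₂ h₄ h₅
  exact prop_of_five_term (fun N : S.Modules => Coh.IsCoh N)
    (fun f hX hY => Groth.Agent.Lib.Helper45.GraphTrick.isCoh_kernel f hX hY.1)
    (fun f hX hY => Groth.Agent.Lib.Helper45.GraphTrick.isCoh_cokernel f hX.1 hY)
    (fun T hT h1 h3 => Groth.Agent.Lib.Helper16.CohThick.isCoh_of_extension T hT h1 h3)
    a b d c w₁ w₂ w₃ e₁ e₂ e₃ h₁ h₂ h₄ h₅

variable [LocallyOfFiniteType f] [IsLocallyNoetherian S]

/-- `H^i(Rf_*(M[-q]))` is coherent for `M` coherent with proper support. -/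
theorem isCoh_HD_Rpush_single (M : X.Modules) (hM : Coh.IsCoh M)
    (hs : ClSub.IsProperOver f (CohB1.support M)) (q i : ℤ) :
    Coh.IsCoh (DCoh.HD ((DCoh.Rpush f).obj ((singleFunctor X.Modules q).obj M)) i) := by
  haveI : HasInjectiveResolutions X.Modules := inferInstance
  by_cases hi : q ≤ i
  · obtain ⟨p, hp⟩ : ∃ p : ℕ, (p : ℤ) = i - q := ⟨(i - q).toNat, by omega⟩
    obtain ⟨e⟩ := nonempty_homology_single_iso (Scheme.Modules.pushforward f) (DCoh.Rpush f)
      ((DCoh.pushKh f).totalRightDerivedUnit DerivedCategory.Qh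
        (HomotopyCategory.quasiIso X.Modules (ComplexShape.up ℤ))) (hasKInjRes X) M q i p hp
    exact Groth.Agent.Lib.Helper16.CohThick.isCoh_of_iso e.symm
      (Groth.Agent.S0795.result f M hM hs p)
  · have h1 := isGE_Rpush f ((singleFunctor X.Modules q).obj M) q inferInstance
    exact Groth.Agent.Lib.Helper16.CohThick.isCoh_of_isZero
      (DerivedCategory.isZero_of_isGE _ q i (by omega))

/-- `Rf_*` preserves bounded below complexes with coherent cohomology with proper supports. -/
theorem isCohD_Rpush_of_isGE (E : DCoh.D X) (a : ℤ) (hGE : E.IsGE a) (hE : DCoh.IsCohD E)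
    (hsupp : ∀ i : ℤ, ClSub.IsProperOver f (CohB1.support (DCoh.HD E i))) :
    DCoh.IsCohD ((DCoh.Rpush f).obj E) := by
  refine prop_homology_of_wayOut (DCoh.Rpush f) (P := fun M : S.Modules => Coh.IsCoh M)
    (fun e h => Groth.Agent.Lib.Helper16.CohThick.isCoh_of_iso e h)
    (fun Z hZ => Groth.Agent.Lib.Helper16.CohThick.isCoh_of_isZero hZ)
    (fiveClosed_isCoh S)
    (fun Z hZ => isZero_rd_obj (hasKInjRes X) (Scheme.Modules.pushforward f) Z hZ)
    (fun Δ hΔ => exists_distinguished (Scheme.Modules.pushforward f) (DCoh.Rpush f)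
      ((DCoh.pushKh f).totalRightDerivedUnit DerivedCategory.Qh
        (HomotopyCategory.quasiIso X.Modules (ComplexShape.up ℤ))) (hasKInjRes X) Δ hΔ)
    (fun Z n hZ => isGE_Rpush f Z n hZ) E a hGE ?_
  intro q i
  exact isCoh_HD_Rpush_single f _ (hE q) (hsupp q) q i

end Groth.Agent.Lib.Helper32.RpushCoh
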