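import Mathlib
import Groth.Prelude.Def_DCoh2
import Groth.Prelude.Def_CohCx
import Groth.Agent.Lib.Helper83.SectQis
import Groth.Agent.Lib.Helper83.ModCoh

set_option autoImplicit false
universe u
open CategoryTheory CategoryTheory.Limits AlgebraicGeometry TopologicalSpace Opposite
attribute [local instance] HasDerivedCategory.standard

namespace Groth.Agent.Lib.Helper32.SectDetect

open AlgebraicGeometry.Scheme.Modules

variable {Y : Scheme.{u}}

/-- the underlying abelian sheaf, as a functor on `Y.Modules` -/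
noncomputable abbrev T (Y : Scheme.{u}) : Y.Modules ⥤ Sheaf (Opens.grothendieckTopology Y) AddCommGrpCat.{u} :=
  SheafOfModules.toSheaf.{u} Y.ringCatSheaf

instance : (T Y).Additive where
  map_add := rfl

instance : PreservesFiniteLimits (T Y) :=
  inferInstanceAs (PreservesFiniteLimits (SheafOfModules.toSheaf.{u} Y.ringCatSheaf))

instance : PreservesFiniteColimits (T Y) :=
  inferInstanceAs (PreservesFiniteColimits (SheafOfModules.toSheaf.{u} Y.ringCatSheaf))

instance : (T Y).ReflectsIsomorphisms :=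
  inferInstanceAs (SheafOfModules.toSheaf.{u} Y.ringCatSheaf).ReflectsIsomorphisms

/-- sections of `M|_U` over `U` are the sections of `M` over `U`, naturally -/
noncomputable def restrictGammaIso (U : Y.Opens) :
    restrictFunctor U.ι ⋙ DCoh.gammaAb (U : Scheme.{u}) ≅
      T Y ⋙ sheafToPresheaf _ _ ⋙ (evaluation _ _).obj (op U) :=
  NatIso.ofComponents (fun M =>
    ((toPresheaf Y).obj M).mapIso (eqToIso (by simp : U.ι ''ᵁ ⊤ = U)).op.symm ≪≫ Iso.refl _ ) (by
    intro M N f
    have h := ((toPresheaf Y).map f).naturality (eqToIso (by simp : U.ι ''ᵁ ⊤ = U)).op.symm.hom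
    simp only [Iso.trans_hom, Functor.mapIso_hom, Iso.refl_hom]
    erw [Category.comp_id, Category.comp_id]
    exact h.symm)

/-- every open is covered by affine opens (in the shape used by helper83's `SectQis`) -/
lemma affine_cover (U : Y.Opens) : ∃ (ι : Type u) (V : ι → Y.Opens) (f : ∀ i, V i ⟶ U),
    Sieve.ofArrows V f ∈ Opens.grothendieckTopology Y U ∧ ∀ i, V i ∈ {W : Y.Opens | IsAffineOpen W} := by
  refine ⟨{W : Y.Opens // IsAffineOpen W ∧ W ≤ U}, fun W => W.1, fun W => homOfLE W.2.2, ?_,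
    fun W => W.2.1⟩
  intro x hx
  obtain ⟨_, ⟨W, hW, rfl⟩, hxW, hWU⟩ := Y.isBasis_affineOpens.exists_subset_of_mem_open hx U.2
  exact ⟨W, homOfLE hWU, ⟨W, 𝟙 _, homOfLE hWU, Presieve.ofArrows.mk
    (⟨W, hW, hWU⟩ : {W : Y.Opens // IsAffineOpen W ∧ W ≤ U}), Subsingleton.elim _ _⟩, hxW⟩

/-- a morphism of complexes of `O_Y`-modules which is a quasi-isomorphism on sections over every
affine open is a quasi-isomorphism -/
theorem quasiIso_of_sections {I₁ I₂ : CochainComplex Y.Modules ℤ} (ψ : I₁ ⟶ I₂)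
    (h : ∀ U : Y.Opens, IsAffineOpen U →
      QuasiIso (((DCoh.gammaAb (U : Scheme.{u})).mapHomologicalComplex (ComplexShape.up ℤ)).map
        (((restrictFunctor U.ι).mapHomologicalComplex (ComplexShape.up ℤ)).map ψ))) :
    QuasiIso ψ := by
  have hT1 : (T Y).PreservesHomology := inferInstance
  rw [quasiIso_iff]
  intro m
  rw [← HomologicalComplex.quasiIsoAt_map_iff_of_preservesHomology ψ (T Y) m]
  refine Groth.Agent.Lib.Helper83.SectQis.quasiIsoAt_of_sections (Opens.grothendieckTopology Y) _ m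
    {W : Y.Opens | IsAffineOpen W} affine_cover ?_
  intro (U : Y.Opens) hU
  have h1 := h U hU
  rw [quasiIso_iff] at h1
  have h2 := h1 m
  have e : Arrow.mk (((restrictFunctor U.ι ⋙ DCoh.gammaAb (U : Scheme.{u})).mapHomologicalComplex
      (ComplexShape.up ℤ)).map ψ) ≅
      Arrow.mk (((T Y ⋙ sheafToPresheaf _ _ ⋙
        (evaluation _ _).obj (op U)).mapHomologicalComplex (ComplexShape.up ℤ)).map ψ) :=
    Arrow.isoOfNatIso (NatIso.mapHomologicalComplex (restrictGammaIso U) (ComplexShape.up ℤ))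
      (Arrow.mk ψ)
  rw [quasiIsoAt_iff] at h2 ⊢
  exact (ShortComplex.quasiIso_iff_of_arrow_mk_iso _ _
    ((HomologicalComplex.shortComplexFunctor _ (ComplexShape.up ℤ) m).mapArrow.mapIso e)).mp h2

end Groth.Agent.Lib.Helper32.SectDetect
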