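import Mathlib.CategoryTheory.Triangulated.Pretriangulated

/-!
# Complements of split monomorphisms in pretriangulated categories (helper32)
-/

set_option autoImplicit false
universe v u
open CategoryTheory CategoryTheory.Limits

namespace Groth.Agent.Lib.Helper32

open CategoryTheory.Pretriangulated in
/-- In a pretriangulated category, a split monomorphism `c` with a given retraction `r` has a
complement compatible with `r`. -/
theorem exists_complement_of_retraction {D : Type u} [Category.{v} D] [Preadditive D]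
    [HasZeroObject D] [HasShift D ℤ] [∀ n : ℤ, (shiftFunctor D n).Additive] [Pretriangulated D]
    {A X : D} (c : A ⟶ X) (r : X ⟶ A) (h : c ≫ r = 𝟙 A) :
    ∃ (Z : D) (q : X ⟶ Z) (j : Z ⟶ X),
      c ≫ q = 0 ∧ j ≫ r = 0 ∧ j ≫ q = 𝟙 Z ∧ r ≫ c + q ≫ j = 𝟙 X := by
  obtain ⟨Z, q, h3, hT⟩ := distinguished_cocone_triangle c
  have hmono : Mono c := mono_of_mono_fac h
  have hz : h3 = 0 := Triangle.mor₃_eq_zero_of_mono₁ _ hT hmono
  obtain ⟨e, he1, he2⟩ : ∃ e : X ≅ A ⊞ Z, c ≫ e.hom = biprod.inl ∧ q = e.hom ≫ biprod.snd :=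
    exists_iso_binaryBiproduct_of_distTriang _ hT hz
  have hcq : c ≫ q = 0 := comp_distTriang_mor_zero₁₂ _ hT
  obtain ⟨j', hj'⟩ : ∃ j' : Z ⟶ X, j' = biprod.inr ≫ e.inv := ⟨_, rfl⟩
  have hj'q : j' ≫ q = 𝟙 Z := by
    simp [hj', he2]
  have hc : c = biprod.inl ≫ e.inv := by
    rw [← he1, Category.assoc, e.hom_inv_id, Category.comp_id]
  have htot' : (e.hom ≫ biprod.fst) ≫ c + q ≫ j' = 𝟙 X := by
    rw [hc, he2, hj']
    simp only [Category.assoc]
    rw [← Preadditive.comp_add, ← Category.assoc biprod.fst, ← Category.assoc biprod.snd,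
      ← Preadditive.add_comp, biprod.total, Category.id_comp, e.hom_inv_id]
  refine ⟨Z, q, j' - j' ≫ r ≫ c, hcq, ?_, ?_, ?_⟩
  · simp only [Preadditive.sub_comp, Category.assoc, h, Category.comp_id, sub_self]
  · simp only [Preadditive.sub_comp, Category.assoc, hcq, comp_zero, sub_zero, hj'q]
  · have h1 : q ≫ j' = 𝟙 X - (e.hom ≫ biprod.fst) ≫ c := by
      rw [← htot']; abel
    rw [Preadditive.comp_sub, ← Category.assoc q, h1]
    simp only [Preadditive.sub_comp, Category.id_comp, Category.assoc]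
    rw [reassoc_of% h]
    abel

end Groth.Agent.Lib.Helper32
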