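import Mathlib
import Groth.Agent.Lib.Helper32.DCoprod

/-!
# Mapping telescopes of a `ℤ`-indexed system of complexes (helper32)

For a system `τ k : J (k + 1) ⟶ J k` of cochain complexes and an upper set `P ⊆ ℤ`, the telescope
`Tel P` is the mapping cone of `1 - shift : ⨁_{k ∈ P} J (k + 1) ⟶ ⨁_{k ∈ P} J k`.
* `incl`: for `P ⊆ P'`, the (degreewise split) monomorphism `Tel P ⟶ Tel P'`.
* for `P = {k | i ≤ k}`: the quasi-isomorphism `r i : Tel ⟶ J i`.
-/

set_option autoImplicit false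
universe v u
open CategoryTheory CategoryTheory.Limits CochainComplex HomComplex

namespace Groth.Agent.Lib.Helper32.Telescope

open Groth.Agent.Lib.Helper32.DCoprod

variable {A : Type u} [Category.{v} A] [Abelian A] [∀ (I : Type), HasColimitsOfShape (Discrete I) A]
variable (J : ℤ → CochainComplex A ℤ) (τ : ∀ k, J (k + 1) ⟶ J k)

section General

variable (P : ℤ → Prop)

/-- the sum of the `J k`, `k ∈ P` -/
noncomputable def S : CochainComplex A ℤ := sigmaCx (fun k : {k : ℤ // P k} => J k.1)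

/-- the sum of the `J (k + 1)`, `k ∈ P` -/
noncomputable def S' : CochainComplex A ℤ := sigmaCx (fun k : {k : ℤ // P k} => J (k.1 + 1))

/-- inclusion of a summand -/
noncomputable def ι (k : ℤ) (hk : P k) : J k ⟶ S J P :=
  sigmaι (fun k : {k : ℤ // P k} => J k.1) ⟨k, hk⟩

/-- inclusion of a summand -/
noncomputable def ι' (k : ℤ) (hk : P k) : J (k + 1) ⟶ S' J P :=
  sigmaι (fun k : {k : ℤ // P k} => J (k.1 + 1)) ⟨k, hk⟩

variable {J P}

lemma S_hom_ext {W : CochainComplex A ℤ} (a b : S J P ⟶ W)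
    (h : ∀ k hk, ι J P k hk ≫ a = ι J P k hk ≫ b) : a = b :=
  sigma_hom_ext a b (fun k => h k.1 k.2)

lemma S'_hom_ext {W : CochainComplex A ℤ} (a b : S' J P ⟶ W)
    (h : ∀ k hk, ι' J P k hk ≫ a = ι' J P k hk ≫ b) : a = b :=
  sigma_hom_ext a b (fun k => h k.1 k.2)

/-- descent -/
noncomputable def Sdesc {W : CochainComplex A ℤ} (g : ∀ k, P k → (J k ⟶ W)) : S J P ⟶ W :=
  sigmaDesc (fun k : {k : ℤ // P k} => g k.1 k.2)

/-- descent -/
noncomputable def S'desc {W : CochainComplex A ℤ} (g : ∀ k, P k → (J (k + 1) ⟶ W)) : S' J P ⟶ W :=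
  sigmaDesc (fun k : {k : ℤ // P k} => g k.1 k.2)

@[reassoc (attr := simp)]
lemma ι_Sdesc {W : CochainComplex A ℤ} (g : ∀ k, P k → (J k ⟶ W)) (k : ℤ) (hk : P k) :
    ι J P k hk ≫ Sdesc g = g k hk :=
  ι_sigmaDesc _ _

@[reassoc (attr := simp)]
lemma ι'_S'desc {W : CochainComplex A ℤ} (g : ∀ k, P k → (J (k + 1) ⟶ W)) (k : ℤ) (hk : P k) :
    ι' J P k hk ≫ S'desc g = g k hk :=
  ι_sigmaDesc _ _

variable (J P) (hP : ∀ k, P k → P (k + 1))

/-- `1 - shift` -/
noncomputable def D : S' J P ⟶ S J P :=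
  S'desc (fun k hk => ι J P (k + 1) (hP k hk) - τ k ≫ ι J P k hk)

@[reassoc (attr := simp)]
lemma ι'_D (k : ℤ) (hk : P k) :
    ι' J P k hk ≫ D J τ P hP = ι J P (k + 1) (hP k hk) - τ k ≫ ι J P k hk :=
  ι'_S'desc _ _ _

/-- the telescope -/
noncomputable abbrev Tel : CochainComplex A ℤ := mappingCone (D J τ P hP)

end General

section Incl

variable {P P' P'' : ℤ → Prop} (h : ∀ k, P k → P' k) (h' : ∀ k, P' k → P'' k)
  (hP : ∀ k, P k → P (k + 1)) (hP' : ∀ k, P' k → P' (k + 1)) (hP'' : ∀ k, P'' k → P'' (k + 1))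

/-- inclusion of a subsum -/
noncomputable def inclS : S J P ⟶ S J P' := Sdesc (fun k hk => ι J P' k (h k hk))

/-- inclusion of a subsum -/
noncomputable def inclS' : S' J P ⟶ S' J P' := S'desc (fun k hk => ι' J P' k (h k hk))

@[reassoc (attr := simp)]
lemma ι_inclS (k : ℤ) (hk : P k) : ι J P k hk ≫ inclS J h = ι J P' k (h k hk) := ι_Sdesc _ _ _

@[reassoc (attr := simp)]
lemma ι'_inclS' (k : ℤ) (hk : P k) : ι' J P k hk ≫ inclS' J h = ι' J P' k (h k hk) :=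
  ι'_S'desc _ _ _

open Classical in
/-- the retraction of `inclS` -/
noncomputable def retrS : S J P' ⟶ S J P :=
  Sdesc (fun k _ => if hk : P k then ι J P k hk else 0)

open Classical in
/-- the retraction of `inclS'` -/
noncomputable def retrS' : S' J P' ⟶ S' J P :=
  S'desc (fun k _ => if hk : P k then ι' J P k hk else 0)

lemma inclS_retrS : inclS J h ≫ retrS J (P := P) (P' := P') = 𝟙 _ := by
  apply S_hom_ext
  intro k hk
  rw [ι_inclS_assoc, retrS, ι_Sdesc, dif_pos hk, Category.comp_id]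

lemma inclS'_retrS' : inclS' J h ≫ retrS' J (P := P) (P' := P') = 𝟙 _ := by
  apply S'_hom_ext
  intro k hk
  rw [ι'_inclS'_assoc, retrS', ι'_S'desc, dif_pos hk, Category.comp_id]

lemma incl_comm : D J τ P hP ≫ inclS J h = inclS' J h ≫ D J τ P' hP' := by
  apply S'_hom_ext
  intro k hk
  simp

/-- the inclusion of telescopes -/
noncomputable def incl : Tel J τ P hP ⟶ Tel J τ P' hP' :=
  mappingCone.map _ _ (inclS' J h) (inclS J h) (incl_comm J τ h hP hP')

lemma incl_comp :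
    incl J τ h hP hP' ≫ incl J τ h' hP' hP'' = incl J τ (fun k hk => h' k (h k hk)) hP hP'' := by
  rw [incl, incl, ← mappingCone.map_comp]
  congr 1
  · apply S'_hom_ext
    intro k hk
    simp
  · apply S_hom_ext
    intro k hk
    simp

lemma map_f_fst {K₁ L₁ K₂ L₂ : CochainComplex A ℤ} (φ₁ : K₁ ⟶ L₁) (φ₂ : K₂ ⟶ L₂)
    (a : K₁ ⟶ K₂) (b : L₁ ⟶ L₂) (comm : φ₁ ≫ b = a ≫ φ₂) (n m : ℤ) (hnm : n + 1 = m) :
    (mappingCone.map φ₁ φ₂ a b comm).f n ≫ (mappingCone.fst φ₂).1.v n m hnm =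
      (mappingCone.fst φ₁).1.v n m hnm ≫ a.f m := by
  subst hnm
  simp [mappingCone.map, mappingCone.ext_from_iff _ (n + 1) n rfl]

lemma map_f_snd {K₁ L₁ K₂ L₂ : CochainComplex A ℤ} (φ₁ : K₁ ⟶ L₁) (φ₂ : K₂ ⟶ L₂)
    (a : K₁ ⟶ K₂) (b : L₁ ⟶ L₂) (comm : φ₁ ≫ b = a ≫ φ₂) (n : ℤ) :
    (mappingCone.map φ₁ φ₂ a b comm).f n ≫ (mappingCone.snd φ₂).v n n (add_zero n) =
      (mappingCone.snd φ₁).v n n (add_zero n) ≫ b.f n := by
  simp [mappingCone.map, mappingCone.ext_from_iff _ (n + 1) n rfl]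

lemma mono_mappingCone_map {K₁ L₁ K₂ L₂ : CochainComplex A ℤ} (φ₁ : K₁ ⟶ L₁) (φ₂ : K₂ ⟶ L₂)
    (a : K₁ ⟶ K₂) (b : L₁ ⟶ L₂) (comm : φ₁ ≫ b = a ≫ φ₂)
    [∀ n, Mono (a.f n)] [∀ n, Mono (b.f n)] : Mono (mappingCone.map φ₁ φ₂ a b comm) := by
  haveI : ∀ n, Mono ((mappingCone.map φ₁ φ₂ a b comm).f n) := by
    intro n
    constructor
    intro W x y hxy
    apply mappingCone.ext_to _ n (n + 1) rfl
    · rw [← cancel_mono (a.f (n + 1)), Category.assoc, Category.assoc, ← map_f_fst φ₁ φ₂ a b comm,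
        reassoc_of% hxy]
    · rw [← cancel_mono (b.f n), Category.assoc, Category.assoc, ← map_f_snd φ₁ φ₂ a b comm,
        reassoc_of% hxy]
  exact HomologicalComplex.mono_of_mono_f _ inferInstance

instance mono_incl : Mono (incl J τ h hP hP') := by
  haveI : ∀ n, Mono ((inclS J h).f n) := fun n =>
    mono_of_mono_fac (congrArg (fun t => t.f n) (inclS_retrS J h))
  haveI : ∀ n, Mono ((inclS' J h).f n) := fun n =>
    mono_of_mono_fac (congrArg (fun t => t.f n) (inclS'_retrS' J h))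
  exact mono_mappingCone_map _ _ _ _ _

end Incl

section Ici

variable (i : ℤ)

/-- the upper set `{k | i ≤ k}` -/
abbrev Pi : ℤ → Prop := fun k => i ≤ k

lemma hPi : ∀ k, Pi i k → Pi i (k + 1) := fun k hk => le_trans hk (by lia)

/-- the composite `J k ⟶ J i` for `i ≤ k` -/
noncomputable def c (k : ℤ) : J k ⟶ J i :=
  Int.inductionOn' (motive := fun k => J k ⟶ J i) k i (𝟙 _) (fun k _ f => τ k ≫ f)
    (fun _ _ _ => 0)

lemma c_self : c J τ i i = 𝟙 _ := Int.inductionOn'_self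

lemma c_succ (k : ℤ) (hk : i ≤ k) : c J τ i (k + 1) = τ k ≫ c J τ i k :=
  Int.inductionOn'_add_one hk

/-- `⨁_{k ≥ i} J k ⟶ J i` -/
noncomputable def rS : S J (Pi i) ⟶ J i := Sdesc (fun k _ => c J τ i k)

@[reassoc (attr := simp)]
lemma ι_rS (k : ℤ) (hk : i ≤ k) : ι J (Pi i) k hk ≫ rS J τ i = c J τ i k := ι_Sdesc _ _ _

@[reassoc (attr := simp)]
lemma D_rS : D J τ (Pi i) (hPi i) ≫ rS J τ i = 0 := by
  apply S'_hom_ext
  intro k hk
  rw [ι'_D_assoc, Preadditive.sub_comp, ι_rS, Category.assoc, ι_rS, c_succ J τ i k hk, sub_self,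
    comp_zero]

/-- components of the retraction of `D` -/
noncomputable def ρc (k : ℤ) : J k ⟶ S' J (Pi i) :=
  Int.inductionOn' (motive := fun k => J k ⟶ S' J (Pi i)) k i 0
    (fun k hk r => ι' J (Pi i) k hk + τ k ≫ r) (fun _ _ _ => 0)

lemma ρc_self : ρc J τ i i = 0 := Int.inductionOn'_self

lemma ρc_succ (k : ℤ) (hk : i ≤ k) :
    ρc J τ i (k + 1) = ι' J (Pi i) k hk + τ k ≫ ρc J τ i k :=
  Int.inductionOn'_add_one hk

/-- the retraction of `D` -/
noncomputable def ρ : S J (Pi i) ⟶ S' J (Pi i) := Sdesc (fun k _ => ρc J τ i k)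

@[reassoc (attr := simp)]
lemma ι_ρ (k : ℤ) (hk : i ≤ k) : ι J (Pi i) k hk ≫ ρ J τ i = ρc J τ i k := ι_Sdesc _ _ _

lemma D_ρ : D J τ (Pi i) (hPi i) ≫ ρ J τ i = 𝟙 _ := by
  apply S'_hom_ext
  intro k hk
  rw [ι'_D_assoc, Preadditive.sub_comp, ι_ρ, Category.assoc, ι_ρ, ρc_succ J τ i k hk,
    add_sub_cancel_right, Category.comp_id]

lemma ρc_D_add (k : ℤ) (hk : i ≤ k) :
    ρc J τ i k ≫ D J τ (Pi i) (hPi i) + c J τ i k ≫ ι J (Pi i) i le_rfl = ι J (Pi i) k hk := by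
  induction k, hk using Int.leInduction with
  | base => rw [ρc_self, c_self, zero_comp, zero_add, Category.id_comp]
  | succ k hk ih =>
    rw [ρc_succ J τ i k hk, c_succ J τ i k hk, Preadditive.add_comp, ι'_D, Category.assoc,
      Category.assoc, add_assoc, ← Preadditive.comp_add, ih]
    abel

lemma ρ_D_add : ρ J τ i ≫ D J τ (Pi i) (hPi i) + rS J τ i ≫ ι J (Pi i) i le_rfl = 𝟙 _ := by
  apply S_hom_ext
  intro k hk
  rw [Preadditive.comp_add, ι_ρ_assoc, ι_rS_assoc, ρc_D_add J τ i k hk, Category.comp_id]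

lemma ι_rS_self : ι J (Pi i) i le_rfl ≫ rS J τ i = 𝟙 _ := by
  rw [ι_rS, c_self]

/-- the short complex `S' ⟶ S ⟶ J i` -/
noncomputable def Sh : ShortComplex (CochainComplex A ℤ) :=
  ShortComplex.mk (D J τ (Pi i) (hPi i)) (rS J τ i) (D_rS J τ i)

/-- it is split -/
noncomputable def splitting : (Sh J τ i).Splitting where
  r := ρ J τ i
  s := ι J (Pi i) i le_rfl
  f_r := D_ρ J τ i
  s_g := ι_rS_self J τ i
  id := ρ_D_add J τ i

lemma shortExact_Sh : (Sh J τ i).ShortExact := (splitting J τ i).shortExact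

/-- the quasi-isomorphism `Tel (Pi i) ⟶ J i` -/
noncomputable def r : Tel J τ (Pi i) (hPi i) ⟶ J i :=
  mappingCone.descShortComplex (Sh J τ i)

instance quasiIso_r : QuasiIso (r J τ i) :=
  mappingCone.quasiIso_descShortComplex (shortExact_Sh J τ i)

/-- the section of `r` -/
noncomputable def u : J i ⟶ Tel J τ (Pi i) (hPi i) :=
  ι J (Pi i) i le_rfl ≫ mappingCone.inr _

@[reassoc (attr := simp)]
lemma inr_r : mappingCone.inr (D J τ (Pi i) (hPi i)) ≫ r J τ i = rS J τ i :=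
  mappingCone.inr_descShortComplex (Sh J τ i)

@[reassoc (attr := simp)]
lemma u_r : u J τ i ≫ r J τ i = 𝟙 _ := by
  rw [u, Category.assoc, inr_r, ι_rS_self]

lemma c_comp (k : ℤ) (hk : i + 1 ≤ k) : c J τ i k = c J τ (i + 1) k ≫ τ i := by
  induction k, hk using Int.leInduction with
  | base => rw [c_succ J τ i i le_rfl, c_self, c_self, Category.comp_id, Category.id_comp]
  | succ k hk ih =>
    rw [c_succ J τ i k (le_trans (by lia) hk), c_succ J τ (i + 1) k hk, ih, Category.assoc]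

lemma hPi_succ : ∀ k, Pi (i + 1) k → Pi i k := fun _ hk => le_trans (by lia) hk

/-- the morphism of short complexes `Sh (i + 1) ⟶ Sh i` -/
noncomputable def ShMap : Sh J τ (i + 1) ⟶ Sh J τ i where
  τ₁ := inclS' J (hPi_succ i)
  τ₂ := inclS J (hPi_succ i)
  τ₃ := τ i
  comm₁₂ := (incl_comm J τ (hPi_succ i) (hPi (i + 1)) (hPi i)).symm
  comm₂₃ := by
    apply S_hom_ext
    intro k hk
    change ι J (Pi (i + 1)) k hk ≫ inclS J (hPi_succ i) ≫ rS J τ i =
      ι J (Pi (i + 1)) k hk ≫ rS J τ (i + 1) ≫ τ i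
    rw [ι_inclS_assoc, ι_rS, ι_rS_assoc, c_comp J τ i k hk]

lemma incl_r : incl J τ (hPi_succ i) (hPi (i + 1)) (hPi i) ≫ r J τ i = r J τ (i + 1) ≫ τ i :=
  mappingCone.map_descShortComplex _ _ (ShMap J τ i)

end Ici

section Desc

/-- the full index set -/
abbrev PT : ℤ → Prop := fun _ => True

lemma hPT : ∀ k, PT k → PT (k + 1) := fun _ _ => trivial

lemma hPiT (i : ℤ) : ∀ k, Pi i k → PT k := fun _ _ => trivial

variable {W : CochainComplex A ℤ} (α : ∀ k, J k ⟶ W)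
  (hα : ∀ k, Nonempty (Homotopy (α (k + 1)) (τ k ≫ α k)))

include hα in
lemma exists_g : ∃ g : Tel J τ PT hPT ⟶ W,
    mappingCone.inr (D J τ PT hPT) ≫ g = Sdesc (fun k _ => α k) := by
  obtain ⟨H⟩ := homotopy_zero_of_sigmaι_comp (X := fun k : {k : ℤ // PT k} => J (k.1 + 1))
    (D J τ PT hPT ≫ Sdesc (fun k _ => α k)) (by
      rintro ⟨k, hk⟩
      have e1 : sigmaι (fun k : {k : ℤ // PT k} => J (k.1 + 1)) ⟨k, hk⟩ ≫
          D J τ PT hPT ≫ Sdesc (fun k _ => α k) = α (k + 1) - τ k ≫ α k := by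
        change ι' J PT k hk ≫ D J τ PT hPT ≫ Sdesc (fun k _ => α k) = _
        rw [ι'_D_assoc, Preadditive.sub_comp, ι_Sdesc, Category.assoc, ι_Sdesc]
      rw [e1]
      refine ⟨HomotopyCategory.homotopyOfEq _ _ ?_⟩
      rw [Functor.map_sub, HomotopyCategory.eq_of_homotopy _ _ (hα k).some, sub_self,
        Functor.map_zero])
  have H' : Homotopy (D J τ PT hPT ≫ Sdesc (fun k _ => α k) : S' J PT ⟶ W) 0 := H
  obtain ⟨z, hz⟩ := Cochain.equivHomotopy _ _ H'
  have hz' : δ (-1) 0 z = Cochain.ofHom (D J τ PT hPT ≫ Sdesc (fun k _ => α k)) := by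
    rw [hz, Cochain.ofHom_zero, add_zero]
  exact ⟨mappingCone.desc (D J τ PT hPT) z _ hz', mappingCone.inr_desc _ _ _ _⟩

variable (i : ℤ)

lemma u_incl_comp {g : Tel J τ PT hPT ⟶ W}
    (hg : mappingCone.inr (D J τ PT hPT) ≫ g = Sdesc (fun k _ => α k)) :
    u J τ i ≫ incl J τ (hPiT i) (hPi i) hPT ≫ g = α i := by
  have h1 : mappingCone.inr (D J τ (Pi i) (hPi i)) ≫ incl J τ (hPiT i) (hPi i) hPT =
      inclS J (hPiT i) ≫ mappingCone.inr (D J τ PT hPT) := by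
    simp [incl, mappingCone.map]
  rw [u, Category.assoc, reassoc_of% h1, hg, ι_inclS_assoc, ι_Sdesc]

end Desc

section Fil

instance mono_inr {K L : CochainComplex A ℤ} (φ : K ⟶ L) : Mono (mappingCone.inr φ) := by
  haveI : ∀ n, Mono ((mappingCone.inr φ).f n) := fun n =>
    mono_of_mono_fac (mappingCone.inr_f_snd_v φ n)
  exact HomologicalComplex.mono_of_mono_f _ inferInstance

variable {W : CochainComplex A ℤ} (g : Tel J τ PT hPT ⟶ W)

/-- the ambient complex, homotopy equivalent to `W` -/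
noncomputable abbrev amb (W : CochainComplex A ℤ) : CochainComplex A ℤ :=
  W ⊞ mappingCone (𝟙 (Tel J τ PT hPT))

/-- the monomorphism `Tel (Pi i) ⟶ amb` -/
noncomputable def m (i : ℤ) : Tel J τ (Pi i) (hPi i) ⟶ amb J τ W :=
  biprod.lift (incl J τ (hPiT i) (hPi i) hPT ≫ g)
    (incl J τ (hPiT i) (hPi i) hPT ≫ mappingCone.inr (𝟙 _))

@[reassoc (attr := simp)]
lemma m_fst (i : ℤ) : m J τ g i ≫ biprod.fst = incl J τ (hPiT i) (hPi i) hPT ≫ g :=
  biprod.lift_fst _ _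

@[reassoc (attr := simp)]
lemma m_snd (i : ℤ) : m J τ g i ≫ biprod.snd =
    incl J τ (hPiT i) (hPi i) hPT ≫ mappingCone.inr (𝟙 _) :=
  biprod.lift_snd _ _

instance mono_m (i : ℤ) : Mono (m J τ g i) :=
  mono_of_mono_fac (m_snd J τ g i)

lemma incl_m {i j : ℤ} (hij : i ≤ j) :
    incl J τ (P := Pi j) (P' := Pi i) (fun _ hk => le_trans hij hk) (hPi j) (hPi i) ≫ m J τ g i =
      m J τ g j := by
  apply biprod.hom_ext
  · rw [Category.assoc, m_fst, m_fst, ← Category.assoc, incl_comp]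
  · rw [Category.assoc, m_snd, m_snd, ← Category.assoc, incl_comp]

end Fil

end Groth.Agent.Lib.Helper32.Telescope
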