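import Mathlib.CategoryTheory.Triangulated.LocalizingSubcategory
import Mathlib.CategoryTheory.Localization.DerivabilityStructure.Constructor
import Mathlib.CategoryTheory.Localization.DerivabilityStructure.Derives

/-!
# Right derivability structures from triangulated subcategories with right resolutions (helper32)

Let `C` be a triangulated category, `A B : ObjectProperty C` triangulated subcategories (`B` closed under
isomorphisms) such that every object `X` of `C` admits a morphism `X ⟶ Y` in `B.trW` with `A Y`.
Then `A.triangulatedLocalizerMorphism B` (the inclusion of `A`, with the classes `(B ∩ A).trW` and `B.trW`)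
is a localized equivalence and a right derivability structure.
-/

set_option autoImplicit false
open CategoryTheory CategoryTheory.Limits CategoryTheory.Pretriangulated

namespace Groth.Agent.Lib.Helper32.TriDeriv

variable {C : Type*} [Category C] [HasZeroObject C] [HasShift C ℤ] [Preadditive C]
  [∀ n : ℤ, (shiftFunctor C n).Additive] [Pretriangulated C] [IsTriangulated C]
  (A B : ObjectProperty C) [A.IsTriangulated] [B.IsTriangulated] [B.IsClosedUnderIsomorphisms]
  (hres : ∀ X : C, ∃ (Y : C) (w : X ⟶ Y), A Y ∧ B.trW w)

include hres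

lemma isVerdierRightLocalizing : A.IsVerdierRightLocalizing B := by
  rw [ObjectProperty.isVerdierRightLocalizing_iff]
  intro X Y s hX hs
  obtain ⟨Z, b, hZ, hb⟩ := hres Y
  obtain ⟨U, hU, e, f, hT⟩ := A.distinguished_cocone_triangle (s ≫ b) hX hZ
  refine ⟨Z, s ≫ b, b, hZ, ?_, rfl⟩
  have h : B.trW (s ≫ b) := MorphismProperty.comp_mem _ _ _ hs hb
  exact ⟨U, e, f, hT, hU, (B.trW_iff_of_distinguished _ hT).1 h⟩

lemma hasRightResolutions : (A.triangulatedLocalizerMorphism B).HasRightResolutions := fun X => by
  obtain ⟨Y, w, hY, hw⟩ := hres X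
  exact ⟨{ X₁ := ⟨Y, hY⟩, w := w, hw := hw }⟩

lemma isLocalizedEquivalence : (A.triangulatedLocalizerMorphism B).IsLocalizedEquivalence := by
  haveI := isVerdierRightLocalizing A B hres
  haveI := hasRightResolutions A B hres
  haveI : ((A.triangulatedLocalizerMorphism B).functor ⋙ B.trW.Q).EssSurj :=
    (A.triangulatedLocalizerMorphism B).essSurj_of_hasRightResolutions B.trW.Q
  haveI : ((A.triangulatedLocalizerMorphism B).functor ⋙ B.trW.Q).IsLocalization
      (B.inverseImage A.ι).trW :=
    (A.triangulatedLocalizerMorphism B).isLocalization_of_isLocalizedFullyFaithful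
      (L₂ := B.trW.Q) (L₁ := (A.triangulatedLocalizerMorphism B).functor ⋙ B.trW.Q) (F := 𝟭 _)
      (Functor.rightUnitor _).symm
  exact LocalizerMorphism.IsLocalizedEquivalence.of_isLocalization_of_isLocalization
    (A.triangulatedLocalizerMorphism B) B.trW.Q

lemma isConnected_rightResolution (X : C) :
    IsConnected ((A.triangulatedLocalizerMorphism B).RightResolution X) := by
  haveI : Nonempty ((A.triangulatedLocalizerMorphism B).RightResolution X) :=
    hasRightResolutions A B hres X
  have : IsPreconnected ((A.triangulatedLocalizerMorphism B).RightResolution X) :=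
    zigzag_isPreconnected (fun R R' => by
      obtain ⟨ψ, hψ⟩ := (MorphismProperty.RightFraction.mk R.w R.hw R'.w).exists_leftFraction
      dsimp at hψ
      obtain ⟨Z, r, hZ, hr⟩ := hres ψ.Y'
      let R'' : (A.triangulatedLocalizerMorphism B).RightResolution X :=
        { X₁ := ⟨Z, hZ⟩
          w := R'.w ≫ ψ.s ≫ r
          hw := MorphismProperty.comp_mem _ _ _ R'.hw (MorphismProperty.comp_mem _ _ _ ψ.hs hr) }
      have h1 : Zigzag R R'' := Zigzag.of_hom
        { f := A.homMk (ψ.f ≫ r)
          comm := by
            change R.w ≫ ψ.f ≫ r = R'.w ≫ ψ.s ≫ r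
            rw [← reassoc_of% hψ] }
      have h2 : Zigzag R'' R' := Zigzag.of_inv
        { f := A.homMk (ψ.s ≫ r)
          comm := rfl }
      exact h1.trans h2)
  constructor

lemma hasRightResolutions_arrow :
    (A.triangulatedLocalizerMorphism B).arrow.HasRightResolutions := fun f => by
  obtain ⟨C₁, wX, hC₁, hwX⟩ := hres f.left
  obtain ⟨ψ, hψ⟩ := (MorphismProperty.RightFraction.mk wX hwX f.hom).exists_leftFraction
  dsimp at hψ
  obtain ⟨C₂, r, hC₂, hr⟩ := hres ψ.Y'
  exact ⟨{ X₁ := Arrow.mk (A.homMk (ψ.f ≫ r) :
              (⟨C₁, hC₁⟩ : A.FullSubcategory) ⟶ ⟨C₂, hC₂⟩)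
           w := Arrow.homMk wX (ψ.s ≫ r) (by
              change wX ≫ ψ.f ≫ r = f.hom ≫ ψ.s ≫ r
              rw [reassoc_of% hψ])
           hw := ⟨hwX, MorphismProperty.comp_mem _ _ _ ψ.hs hr⟩ }⟩

theorem isRightDerivabilityStructure :
    (A.triangulatedLocalizerMorphism B).IsRightDerivabilityStructure := by
  haveI := isLocalizedEquivalence A B hres
  haveI := isConnected_rightResolution A B hres
  haveI := hasRightResolutions_arrow A B hres
  exact LocalizerMorphism.IsRightDerivabilityStructure.mk' _

end Groth.Agent.Lib.Helper32.TriDeriv
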