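import Mathlib.CategoryTheory.Localization.Triangulated
import Mathlib.CategoryTheory.Localization.CalculusOfFractions
import Mathlib.CategoryTheory.Triangulated.Subcategory

/-!
# Kernel of a triangulated localization functor (helper32)
-/

set_option autoImplicit false
universe v u v' u'
open CategoryTheory CategoryTheory.Limits

namespace Groth.Agent.Lib.Helper32

open CategoryTheory.Pretriangulated CategoryTheory.Category ZeroObject in
set_option backward.defeqAttrib.useBackward true in
set_option backward.isDefEq.respectTransparency false in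
/-- For a localization functor `Q` w.r.t. a multiplicative system `S` compatible with the triangulation,
the cone of `f` is killed by `Q` iff `Q.map f` is an isomorphism. -/
theorem isZero_obj₃_iff_isIso_map_mor₁ {D : Type u} [Category.{v} D] [Preadditive D] [HasZeroObject D]
    [HasShift D ℤ] [∀ n : ℤ, (shiftFunctor D n).Additive] [Pretriangulated D]
    (S : MorphismProperty D) [S.HasLeftCalculusOfFractions] [S.IsCompatibleWithTriangulation]
    {E : Type u'} [Category.{v'} E] (Q : D ⥤ E) [Q.IsLocalization S]
    (T : Triangle D) (hT : T ∈ distinguishedTriangles) :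
    IsZero (Q.obj T.obj₃) ↔ IsIso (Q.map T.mor₁) := by
  let _ : HasShift E ℤ := HasShift.localized Q S ℤ
  let _ : Q.CommShift ℤ := Functor.CommShift.localized Q S ℤ
  let _ : Preadditive E := Localization.preadditive Q S
  have : Q.Additive := Localization.functor_additive Q S
  have : HasZeroObject E := Q.hasZeroObject_of_additive
  have : ∀ (n : ℤ), (shiftFunctor E n).Additive := fun n => by
    rw [Localization.functor_additive_iff Q S]
    exact Functor.additive_of_iso (Q.commShiftIso n)
  let _ : Pretriangulated E := Triangulated.Localization.pretriangulated Q S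
  have : Q.IsTriangulated := Triangulated.Localization.isTriangulated_functor Q S
  exact Triangle.isZero₃_iff_isIso₁ _ (Q.map_distinguished T hT)

open CategoryTheory.Pretriangulated CategoryTheory.Category ZeroObject in
set_option backward.defeqAttrib.useBackward true in
set_option backward.isDefEq.respectTransparency false in
theorem isZero_obj_iff_map_id_eq_map_zero {D : Type u} [Category.{v} D] [Preadditive D]
    (S : MorphismProperty D) [S.HasLeftCalculusOfFractions]
    {E : Type u'} [Category.{v'} E] (Q : D ⥤ E) [Q.IsLocalization S] (Z : D) :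
    IsZero (Q.obj Z) ↔ Q.map (𝟙 Z) = Q.map (0 : Z ⟶ Z) := by
  let _ : Preadditive E := Localization.preadditive Q S
  have : Q.Additive := Localization.functor_additive Q S
  constructor
  · intro h
    exact h.eq_of_src _ _
  · intro h
    rw [IsZero.iff_id_eq_zero, ← Q.map_id, h, Q.map_zero]

open CategoryTheory.Pretriangulated CategoryTheory.Category ZeroObject in
set_option backward.defeqAttrib.useBackward true in
set_option backward.isDefEq.respectTransparency false in
/-- `Q(Z) = 0` iff some zero map out of `Z` lies in `S` (left calculus of fractions). -/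
theorem isZero_obj_iff_exists_zero_from {D : Type u} [Category.{v} D] [Preadditive D]
    (S : MorphismProperty D) [S.HasLeftCalculusOfFractions]
    {E : Type u'} [Category.{v'} E] (Q : D ⥤ E) [Q.IsLocalization S] (Z : D) :
    IsZero (Q.obj Z) ↔ ∃ Z' : D, S (0 : Z ⟶ Z') := by
  rw [isZero_obj_iff_map_id_eq_map_zero S Q Z, MorphismProperty.map_eq_iff_postcomp Q S]
  constructor
  · rintro ⟨Z', s, hs, h⟩
    rw [id_comp, zero_comp] at h
    exact ⟨Z', h ▸ hs⟩
  · rintro ⟨Z', hs⟩
    exact ⟨Z', 0, hs, by simp⟩

open CategoryTheory.Pretriangulated CategoryTheory.Category ZeroObject in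
set_option backward.defeqAttrib.useBackward true in
set_option backward.isDefEq.respectTransparency false in
/-- `Q(Z) = 0` iff some zero map into `Z` lies in `S` (both calculi of fractions). -/
theorem isZero_obj_iff_exists_zero_to {D : Type u} [Category.{v} D] [Preadditive D]
    (S : MorphismProperty D) [S.HasLeftCalculusOfFractions] [S.HasRightCalculusOfFractions]
    {E : Type u'} [Category.{v'} E] (Q : D ⥤ E) [Q.IsLocalization S] (Z : D) :
    IsZero (Q.obj Z) ↔ ∃ Z' : D, S (0 : Z' ⟶ Z) := by
  rw [isZero_obj_iff_map_id_eq_map_zero S Q Z, MorphismProperty.map_eq_iff_precomp Q S]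
  constructor
  · rintro ⟨Z', s, hs, h⟩
    rw [comp_id, comp_zero] at h
    exact ⟨Z', h ▸ hs⟩
  · rintro ⟨Z', hs⟩
    exact ⟨Z', 0, hs, by simp⟩

/-- If a functor kills `X ⊞ Y` then it kills both summands. -/
theorem isZero_obj_of_isZero_obj_biprod {D : Type u} [Category.{v} D] [Preadditive D]
    {E : Type u'} [Category.{v'} E] (G : D ⥤ E) (X Y : D) [HasBinaryBiproduct X Y]
    (h : IsZero (G.obj (X ⊞ Y))) : IsZero (G.obj X) ∧ IsZero (G.obj Y) := by
  constructor
  · refine ⟨fun A => ⟨⟨⟨G.map biprod.inl ≫ h.to_ A⟩, fun u => ?_⟩⟩,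
      fun A => ⟨⟨⟨h.from_ A ≫ G.map biprod.fst⟩, fun u => ?_⟩⟩⟩
    · have : u = G.map (biprod.inl ≫ (biprod.fst : X ⊞ Y ⟶ X)) ≫ u := by simp
      rw [this, G.map_comp, Category.assoc]
      congr 1
      exact h.eq_of_src _ _
    · have : u = u ≫ G.map (biprod.inl ≫ (biprod.fst : X ⊞ Y ⟶ X)) := by simp
      rw [this, G.map_comp, ← Category.assoc]
      congr 1
      exact h.eq_of_tgt _ _
  · refine ⟨fun A => ⟨⟨⟨G.map biprod.inr ≫ h.to_ A⟩, fun u => ?_⟩⟩,
      fun A => ⟨⟨⟨h.from_ A ≫ G.map biprod.snd⟩, fun u => ?_⟩⟩⟩
    · have : u = G.map (biprod.inr ≫ (biprod.snd : X ⊞ Y ⟶ Y)) ≫ u := by simp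
      rw [this, G.map_comp, Category.assoc]
      congr 1
      exact h.eq_of_src _ _
    · have : u = u ≫ G.map (biprod.inr ≫ (biprod.snd : X ⊞ Y ⟶ Y)) := by simp
      rw [this, G.map_comp, ← Category.assoc]
      congr 1
      exact h.eq_of_tgt _ _

open CategoryTheory.Pretriangulated CategoryTheory.Category ZeroObject in
set_option backward.defeqAttrib.useBackward true in
set_option backward.isDefEq.respectTransparency false in
/-- The triangle `W -0-> Z -inl-> Z ⊞ W⟦1⟧ -snd-> W⟦1⟧` is distinguished. -/
theorem zero_inl_snd_distinguished {D : Type u} [Category.{v} D] [Preadditive D] [HasZeroObject D]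
    [HasShift D ℤ] [∀ n : ℤ, (shiftFunctor D n).Additive] [Pretriangulated D] (W Z : D) :
    Triangle.mk (0 : W ⟶ Z) (biprod.inl : Z ⟶ Z ⊞ (shiftFunctor D (1 : ℤ)).obj W) biprod.snd ∈
      distinguishedTriangles := by
  have h := inv_rot_of_distTriang _ (binaryBiproductTriangle_distinguished Z ((shiftFunctor D (1 : ℤ)).obj W))
  refine isomorphic_distinguished _ h _ ?_
  refine Triangle.isoMk _ _ ((shiftFunctorCompIsoId D (1 : ℤ) (-1) (by simp)).app W).symm
    (Iso.refl _) (Iso.refl _) ?_ ?_ ?_
  · simp
  · simp
  · dsimp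
    simp only [id_comp]
    rw [shift_shiftFunctorCompIsoId_inv_app]

end Groth.Agent.Lib.Helper32
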