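import Mathlib.CategoryTheory.Triangulated.Pretriangulated

/-!
# A retract of a distinguished triangle is distinguished (helper32)
-/

set_option autoImplicit false
universe v u
open CategoryTheory CategoryTheory.Limits

namespace Groth.Agent.Lib.Helper32

open CategoryTheory.Pretriangulated CategoryTheory.Category in
set_option backward.defeqAttrib.useBackward true in
set_option backward.isDefEq.respectTransparency false in
/-- In a pretriangulated category, a retract of a distinguished triangle is distinguished. -/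
theorem distinguished_of_retract {D : Type u} [Category.{v} D] [Preadditive D] [HasZeroObject D]
    [HasShift D ℤ] [∀ n : ℤ, (shiftFunctor D n).Additive] [Pretriangulated D]
    (T S : Triangle D) (hS : S ∈ distinguishedTriangles) (i : T ⟶ S) (p : S ⟶ T)
    (hip : i ≫ p = 𝟙 T) : T ∈ distinguishedTriangles := by
  have hip₁ : i.hom₁ ≫ p.hom₁ = 𝟙 _ := by rw [← comp_hom₁, hip, id_hom₁]
  have hip₂ : i.hom₂ ≫ p.hom₂ = 𝟙 _ := by rw [← comp_hom₂, hip, id_hom₂]
  have hip₃ : i.hom₃ ≫ p.hom₃ = 𝟙 _ := by rw [← comp_hom₃, hip, id_hom₃]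
  obtain ⟨Q, g₀, h₀, hT₀⟩ := distinguished_cocone_triangle T.mor₁
  obtain ⟨c, hc₂, hc₃⟩ := complete_distinguished_triangle_morphism S _ hS hT₀ p.hom₁ p.hom₂ p.comm₁
  dsimp at c hc₂ hc₃
  have zero₁₂ : T.mor₁ ≫ T.mor₂ = 0 := by
    rw [← comp_id T.mor₂, ← hip₃, i.comm₂_assoc, i.comm₁_assoc,
      comp_distTriang_mor_zero₁₂_assoc _ hS, zero_comp, comp_zero]
  let a : T.obj₃ ⟶ Q := i.hom₃ ≫ c
  have ha₂ : T.mor₂ ≫ a = g₀ := by
    dsimp [a]
    rw [i.comm₂_assoc, hc₂, reassoc_of% hip₂]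
  have ha₃ : a ≫ h₀ = T.mor₃ := by
    dsimp [a]
    rw [assoc, ← hc₃, ← i.comm₃_assoc, ← Functor.map_comp, hip₁, CategoryTheory.Functor.map_id,
      comp_id]
  suffices IsIso a by
    refine isomorphic_distinguished _ hT₀ _ ?_
    exact Triangle.isoMk _ _ (Iso.refl _) (Iso.refl _) (asIso a) (by simp) (by simp [ha₂])
      (by simp [ha₃])
  refine isIso_of_yoneda_map_bijective _ (fun W => ⟨?_, ?_⟩)
  · suffices Mono a by
      intro a₁ a₂ ha
      simpa only [← cancel_mono a] using ha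
    rw [Preadditive.mono_iff_cancel_zero]
    intro W φ hφ
    have h1 : φ ≫ T.mor₃ = 0 := by rw [← ha₃, reassoc_of% hφ, zero_comp]
    have h2 : (φ ≫ i.hom₃) ≫ S.mor₃ = 0 := by
      rw [assoc, ← i.comm₃, reassoc_of% h1, zero_comp]
    obtain ⟨ψ', hψ'⟩ := Triangle.coyoneda_exact₃ S hS _ h2
    have h3 : φ = (ψ' ≫ p.hom₂) ≫ T.mor₂ := by
      rw [assoc, ← p.comm₂, ← reassoc_of% hψ', hip₃, comp_id]
    have h4 : (ψ' ≫ p.hom₂) ≫ (Triangle.mk T.mor₁ g₀ h₀).mor₂ = 0 := by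
      dsimp
      rw [← ha₂, ← assoc, ← h3, hφ]
    obtain ⟨χ, hχ⟩ := Triangle.coyoneda_exact₂ _ hT₀ _ h4
    dsimp at hχ
    rw [h3, hχ, assoc, zero₁₂, comp_zero]
  · intro q
    dsimp at q ⊢
    have h1 : (q ≫ h₀ ≫ i.hom₁⟦(1 : ℤ)⟧') ≫ S.mor₁⟦(1 : ℤ)⟧' = 0 := by
      have h31 := comp_distTriang_mor_zero₃₁ _ hT₀
      dsimp at h31
      rw [assoc, assoc, ← Functor.map_comp, ← i.comm₁, Functor.map_comp,
        reassoc_of% h31, zero_comp, comp_zero]
    obtain ⟨z', hz'⟩ := Triangle.coyoneda_exact₁ S hS _ h1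
    have h2 : (z' ≫ p.hom₃) ≫ T.mor₃ = q ≫ h₀ := by
      rw [assoc, ← p.comm₃, ← reassoc_of% hz', ← Functor.map_comp, hip₁,
        CategoryTheory.Functor.map_id, comp_id]
    have h3 : (q - (z' ≫ p.hom₃) ≫ a) ≫ (Triangle.mk T.mor₁ g₀ h₀).mor₃ = 0 := by
      dsimp
      rw [Preadditive.sub_comp, assoc, ha₃, h2, sub_self]
    obtain ⟨y, hy⟩ := Triangle.coyoneda_exact₃ _ hT₀ _ h3
    dsimp at hy
    refine ⟨z' ≫ p.hom₃ + y ≫ T.mor₂, ?_⟩
    rw [Preadditive.add_comp, assoc y, ha₂, ← hy, add_sub_cancel]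

end Groth.Agent.Lib.Helper32
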